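import Cfsg.Agent.H52.Order
import Cfsg.Agent.H52.Seven

/-!
The Poincaré polynomial of the Weyl group of type F4 and the order formula.
-/

set_option autoImplicit false

namespace H52

open Cfsg.Lie

/-- The polynomial of orbit 0. -/
def f4Orb0Poly : List ℤ :=
  orbPoly (m := 24) (l := 4) (fun r => (Fin.ofNat 4 (H53.f4Orb0Par.get r.val).1, Fin.ofNat 24 (H53.f4Orb0Par.get r.val).2)) (0 : Fin 24)

set_option backward.isDefEq.respectTransparency false in
theorem f4Orb0_depth : DepthCheck H53.f4Weyl
    (fun r c => (H53.f4Orb0V.get r.val).getD c.val 0)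
    (fun r => (Fin.ofNat 4 (H53.f4Orb0Par.get r.val).1, Fin.ofNat 24 (H53.f4Orb0Par.get r.val).2)) (0 : Fin 24) := by
  unfold DepthCheck
  decide +kernel

/-- The polynomial of orbit 1. -/
def f4Orb1Poly : List ℤ :=
  orbPoly (m := 6) (l := 4) (fun r => (Fin.ofNat 4 (H53.f4Orb1Par.get r.val).1, Fin.ofNat 6 (H53.f4Orb1Par.get r.val).2)) (0 : Fin 6)

set_option backward.isDefEq.respectTransparency false in
theorem f4Orb1_depth : DepthCheck H53.f4Weyl
    (fun r c => (H53.f4Orb1V.get r.val).getD c.val 0)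
    (fun r => (Fin.ofNat 4 (H53.f4Orb1Par.get r.val).1, Fin.ofNat 6 (H53.f4Orb1Par.get r.val).2)) (0 : Fin 6) := by
  unfold DepthCheck
  decide +kernel

/-- The polynomial of orbit 2. -/
def f4Orb2Poly : List ℤ :=
  orbPoly (m := 4) (l := 4) (fun r => (Fin.ofNat 4 (H53.f4Orb2Par.get r.val).1, Fin.ofNat 4 (H53.f4Orb2Par.get r.val).2)) (0 : Fin 4)

set_option backward.isDefEq.respectTransparency false in
theorem f4Orb2_depth : DepthCheck H53.f4Weyl
    (fun r c => (H53.f4Orb2V.get r.val).getD c.val 0)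
    (fun r => (Fin.ofNat 4 (H53.f4Orb2Par.get r.val).1, Fin.ofNat 4 (H53.f4Orb2Par.get r.val).2)) (0 : Fin 4) := by
  unfold DepthCheck
  decide +kernel

/-- The polynomial of orbit 3. -/
def f4Orb3Poly : List ℤ :=
  orbPoly (m := 2) (l := 4) (fun r => (Fin.ofNat 4 (H53.f4Orb3Par.get r.val).1, Fin.ofNat 2 (H53.f4Orb3Par.get r.val).2)) (0 : Fin 2)

set_option backward.isDefEq.respectTransparency false in
theorem f4Orb3_depth : DepthCheck H53.f4Weyl
    (fun r c => (H53.f4Orb3V.get r.val).getD c.val 0)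
    (fun r => (Fin.ofNat 4 (H53.f4Orb3Par.get r.val).1, Fin.ofNat 2 (H53.f4Orb3Par.get r.val).2)) (0 : Fin 2) := by
  unfold DepthCheck
  decide +kernel

theorem f4_hasPoly : HasPoly H53.f4Weyl_valid (fun _ : Fin 4 => (true : Bool) = true)
    [f4Orb0Poly, f4Orb1Poly, f4Orb2Poly, f4Orb3Poly] := by
  have hb : HasPoly H53.f4Weyl_valid (fun i : Fin 4 => [false, false, false, false].getD i.val false = true) [] := by
    rw [show (fun i : Fin 4 => [false, false, false, false].getD i.val false = true) = (fun _ : Fin 4 => (false : Bool) = true)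
      from funext fun i => by fin_cases i <;> rfl]
    exact hasPoly_bot _
  have h3 := hasPoly_step _ H53.f4Orb3_check f4Orb3_depth hb
  have h2 := hasPoly_step _ H53.f4Orb2_check f4Orb2_depth h3
  have h1 := hasPoly_step _ H53.f4Orb1_check f4Orb1_depth h2
  have h0 := hasPoly_step _ H53.f4Orb0_check f4Orb0_depth h1
  rw [show (fun i : Fin 4 => [true, true, true, true].getD i.val false = true) = (fun _ : Fin 4 => (true : Bool) = true)
    from funext fun i => by fin_cases i <;> rfl] at h0
  exact h0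

set_option backward.isDefEq.respectTransparency false in
theorem f4_identity : pEq (pProd (List.replicate 4 [-1, 1] ++ [f4Orb0Poly, f4Orb1Poly, f4Orb2Poly, f4Orb3Poly]))
    (pProd (([2, 6, 8, 12] : List ℕ).map pSubOne)) = true := by
  decide +kernel

/-- The order formula of type F4. -/
theorem f4_card {F : Type*} [Field F] [Fintype F] {d : Fin chevF4.rank → ℕ}
    (hd : HasDivisors chevF4 d) :
    (∏ i, (Fintype.card F - 1).gcd (d i)) * Nat.card ↥(chevF4.group F) =
      Fintype.card F ^ (chevF4.nroots / 2) *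
        (([2, 6, 8, 12] : List ℕ).map fun e => Fintype.card F ^ e - 1).prod := by
  obtain ⟨T, hC⟩ := checked_of_mem (D := chevF4) (by simp)
  let K : BNData chevF4 T := ⟨hC, H54.chainOK_of_mem _ (by simp), H53.weylForF4⟩
  exact K.card_formula f4_hasPoly hd _ f4_identity

end H52
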