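import Cfsg.Agent.H52.Order
import Cfsg.Agent.H52.Seven

/-!
The Poincaré polynomial of the Weyl group of type E7 and the order formula.
-/

set_option autoImplicit false

namespace H52

open Cfsg.Lie

/-- The polynomial of orbit 0. -/
def e7Orb0Poly : List ℤ :=
  orbPoly (m := 56) (l := 7) (fun r => (Fin.ofNat 7 (H53.e7Orb0Par.get r.val).1, Fin.ofNat 56 (H53.e7Orb0Par.get r.val).2)) (0 : Fin 56)

set_option backward.isDefEq.respectTransparency false in
theorem e7Orb0_depth : DepthCheck H53.e7Weyl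
    (fun r c => (H53.e7Orb0V.get r.val).getD c.val 0)
    (fun r => (Fin.ofNat 7 (H53.e7Orb0Par.get r.val).1, Fin.ofNat 56 (H53.e7Orb0Par.get r.val).2)) (0 : Fin 56) := by
  unfold DepthCheck
  decide +kernel

/-- The polynomial of orbit 1. -/
def e7Orb1Poly : List ℤ :=
  orbPoly (m := 27) (l := 7) (fun r => (Fin.ofNat 7 (H53.e7Orb1Par.get r.val).1, Fin.ofNat 27 (H53.e7Orb1Par.get r.val).2)) (0 : Fin 27)

set_option backward.isDefEq.respectTransparency false in
theorem e7Orb1_depth : DepthCheck H53.e7Weyl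
    (fun r c => (H53.e7Orb1V.get r.val).getD c.val 0)
    (fun r => (Fin.ofNat 7 (H53.e7Orb1Par.get r.val).1, Fin.ofNat 27 (H53.e7Orb1Par.get r.val).2)) (0 : Fin 27) := by
  unfold DepthCheck
  decide +kernel

/-- The polynomial of orbit 2. -/
def e7Orb2Poly : List ℤ :=
  orbPoly (m := 10) (l := 7) (fun r => (Fin.ofNat 7 (H53.e7Orb2Par.get r.val).1, Fin.ofNat 10 (H53.e7Orb2Par.get r.val).2)) (0 : Fin 10)

set_option backward.isDefEq.respectTransparency false in
theorem e7Orb2_depth : DepthCheck H53.e7Weyl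
    (fun r c => (H53.e7Orb2V.get r.val).getD c.val 0)
    (fun r => (Fin.ofNat 7 (H53.e7Orb2Par.get r.val).1, Fin.ofNat 10 (H53.e7Orb2Par.get r.val).2)) (0 : Fin 10) := by
  unfold DepthCheck
  decide +kernel

/-- The polynomial of orbit 3. -/
def e7Orb3Poly : List ℤ :=
  orbPoly (m := 8) (l := 7) (fun r => (Fin.ofNat 7 (H53.e7Orb3Par.get r.val).1, Fin.ofNat 8 (H53.e7Orb3Par.get r.val).2)) (0 : Fin 8)

set_option backward.isDefEq.respectTransparency false in
theorem e7Orb3_depth : DepthCheck H53.e7Weyl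
    (fun r c => (H53.e7Orb3V.get r.val).getD c.val 0)
    (fun r => (Fin.ofNat 7 (H53.e7Orb3Par.get r.val).1, Fin.ofNat 8 (H53.e7Orb3Par.get r.val).2)) (0 : Fin 8) := by
  unfold DepthCheck
  decide +kernel

/-- The polynomial of orbit 4. -/
def e7Orb4Poly : List ℤ :=
  orbPoly (m := 4) (l := 7) (fun r => (Fin.ofNat 7 (H53.e7Orb4Par.get r.val).1, Fin.ofNat 4 (H53.e7Orb4Par.get r.val).2)) (0 : Fin 4)

set_option backward.isDefEq.respectTransparency false in
theorem e7Orb4_depth : DepthCheck H53.e7Weyl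
    (fun r c => (H53.e7Orb4V.get r.val).getD c.val 0)
    (fun r => (Fin.ofNat 7 (H53.e7Orb4Par.get r.val).1, Fin.ofNat 4 (H53.e7Orb4Par.get r.val).2)) (0 : Fin 4) := by
  unfold DepthCheck
  decide +kernel

/-- The polynomial of orbit 5. -/
def e7Orb5Poly : List ℤ :=
  orbPoly (m := 3) (l := 7) (fun r => (Fin.ofNat 7 (H53.e7Orb5Par.get r.val).1, Fin.ofNat 3 (H53.e7Orb5Par.get r.val).2)) (0 : Fin 3)

set_option backward.isDefEq.respectTransparency false in
theorem e7Orb5_depth : DepthCheck H53.e7Weyl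
    (fun r c => (H53.e7Orb5V.get r.val).getD c.val 0)
    (fun r => (Fin.ofNat 7 (H53.e7Orb5Par.get r.val).1, Fin.ofNat 3 (H53.e7Orb5Par.get r.val).2)) (0 : Fin 3) := by
  unfold DepthCheck
  decide +kernel

/-- The polynomial of orbit 6. -/
def e7Orb6Poly : List ℤ :=
  orbPoly (m := 2) (l := 7) (fun r => (Fin.ofNat 7 (H53.e7Orb6Par.get r.val).1, Fin.ofNat 2 (H53.e7Orb6Par.get r.val).2)) (0 : Fin 2)

set_option backward.isDefEq.respectTransparency false in
theorem e7Orb6_depth : DepthCheck H53.e7Weyl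
    (fun r c => (H53.e7Orb6V.get r.val).getD c.val 0)
    (fun r => (Fin.ofNat 7 (H53.e7Orb6Par.get r.val).1, Fin.ofNat 2 (H53.e7Orb6Par.get r.val).2)) (0 : Fin 2) := by
  unfold DepthCheck
  decide +kernel

theorem e7_hasPoly : HasPoly H53.e7Weyl_valid (fun _ : Fin 7 => (true : Bool) = true)
    [e7Orb0Poly, e7Orb1Poly, e7Orb2Poly, e7Orb3Poly, e7Orb4Poly, e7Orb5Poly, e7Orb6Poly] := by
  have hb : HasPoly H53.e7Weyl_valid (fun i : Fin 7 => [false, false, false, false, false, false, false].getD i.val false = true) [] := by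
    rw [show (fun i : Fin 7 => [false, false, false, false, false, false, false].getD i.val false = true) = (fun _ : Fin 7 => (false : Bool) = true)
      from funext fun i => by fin_cases i <;> rfl]
    exact hasPoly_bot _
  have h6 := hasPoly_step _ H53.e7Orb6_check e7Orb6_depth hb
  have h5 := hasPoly_step _ H53.e7Orb5_check e7Orb5_depth h6
  have h4 := hasPoly_step _ H53.e7Orb4_check e7Orb4_depth h5
  have h3 := hasPoly_step _ H53.e7Orb3_check e7Orb3_depth h4
  have h2 := hasPoly_step _ H53.e7Orb2_check e7Orb2_depth h3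
  have h1 := hasPoly_step _ H53.e7Orb1_check e7Orb1_depth h2
  have h0 := hasPoly_step _ H53.e7Orb0_check e7Orb0_depth h1
  rw [show (fun i : Fin 7 => [true, true, true, true, true, true, true].getD i.val false = true) = (fun _ : Fin 7 => (true : Bool) = true)
    from funext fun i => by fin_cases i <;> rfl] at h0
  exact h0

set_option backward.isDefEq.respectTransparency false in
theorem e7_identity : pEq (pProd (List.replicate 7 [-1, 1] ++ [e7Orb0Poly, e7Orb1Poly, e7Orb2Poly, e7Orb3Poly, e7Orb4Poly, e7Orb5Poly, e7Orb6Poly]))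
    (pProd (([2, 6, 8, 10, 12, 14, 18] : List ℕ).map pSubOne)) = true := by
  decide +kernel

/-- The order formula of type E7. -/
theorem e7_card {F : Type*} [Field F] [Fintype F] {d : Fin chevE7.rank → ℕ}
    (hd : HasDivisors chevE7 d) :
    (∏ i, (Fintype.card F - 1).gcd (d i)) * Nat.card ↥(chevE7.group F) =
      Fintype.card F ^ (chevE7.nroots / 2) *
        (([2, 6, 8, 10, 12, 14, 18] : List ℕ).map fun e => Fintype.card F ^ e - 1).prod := by
  obtain ⟨T, hC⟩ := checked_of_mem (D := chevE7) (by simp)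
  let K : BNData chevE7 T := ⟨hC, H54.chainOK_of_mem _ (by simp), H53.weylForE7⟩
  exact K.card_formula e7_hasPoly hd _ e7_identity

end H52
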