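import Cfsg.Agent.H52.TwistE6
import Cfsg.Agent.H52.TwistOrder
import Cfsg.Agent.H52.OrderF4

/-!
The order of `²E₆(q)`.
-/

set_option autoImplicit false

namespace H52

open Cfsg.Lie

/-- The weighted polynomial of orbit 0. -/
def e6tOrb0Poly : List ℤ :=
  wOrbPoly (m := 24) H53.f4Weyl (Twist.fibre e6Fold) (fun r => (Fin.ofNat 4 (H53.f4Orb0Par.get r.val).1, Fin.ofNat 24 (H53.f4Orb0Par.get r.val).2)) (0 : Fin 24)

set_option backward.isDefEq.respectTransparency false in
theorem e6tOrb0_wdepth : WDepthCheck (m := 24) H53.f4Weyl (Twist.fibre e6Fold)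
    (fun r => (Fin.ofNat 4 (H53.f4Orb0Par.get r.val).1, Fin.ofNat 24 (H53.f4Orb0Par.get r.val).2)) (0 : Fin 24) := by
  unfold WDepthCheck
  decide +kernel

/-- The weighted polynomial of orbit 1. -/
def e6tOrb1Poly : List ℤ :=
  wOrbPoly (m := 6) H53.f4Weyl (Twist.fibre e6Fold) (fun r => (Fin.ofNat 4 (H53.f4Orb1Par.get r.val).1, Fin.ofNat 6 (H53.f4Orb1Par.get r.val).2)) (0 : Fin 6)

set_option backward.isDefEq.respectTransparency false in
theorem e6tOrb1_wdepth : WDepthCheck (m := 6) H53.f4Weyl (Twist.fibre e6Fold)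
    (fun r => (Fin.ofNat 4 (H53.f4Orb1Par.get r.val).1, Fin.ofNat 6 (H53.f4Orb1Par.get r.val).2)) (0 : Fin 6) := by
  unfold WDepthCheck
  decide +kernel

/-- The weighted polynomial of orbit 2. -/
def e6tOrb2Poly : List ℤ :=
  wOrbPoly (m := 4) H53.f4Weyl (Twist.fibre e6Fold) (fun r => (Fin.ofNat 4 (H53.f4Orb2Par.get r.val).1, Fin.ofNat 4 (H53.f4Orb2Par.get r.val).2)) (0 : Fin 4)

set_option backward.isDefEq.respectTransparency false in
theorem e6tOrb2_wdepth : WDepthCheck (m := 4) H53.f4Weyl (Twist.fibre e6Fold)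
    (fun r => (Fin.ofNat 4 (H53.f4Orb2Par.get r.val).1, Fin.ofNat 4 (H53.f4Orb2Par.get r.val).2)) (0 : Fin 4) := by
  unfold WDepthCheck
  decide +kernel

/-- The weighted polynomial of orbit 3. -/
def e6tOrb3Poly : List ℤ :=
  wOrbPoly (m := 2) H53.f4Weyl (Twist.fibre e6Fold) (fun r => (Fin.ofNat 4 (H53.f4Orb3Par.get r.val).1, Fin.ofNat 2 (H53.f4Orb3Par.get r.val).2)) (0 : Fin 2)

set_option backward.isDefEq.respectTransparency false in
theorem e6tOrb3_wdepth : WDepthCheck (m := 2) H53.f4Weyl (Twist.fibre e6Fold)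
    (fun r => (Fin.ofNat 4 (H53.f4Orb3Par.get r.val).1, Fin.ofNat 2 (H53.f4Orb3Par.get r.val).2)) (0 : Fin 2) := by
  unfold WDepthCheck
  decide +kernel

set_option backward.isDefEq.respectTransparency false in
theorem e6t_fibre_act : ∀ a r, Twist.fibre e6Fold (H53.f4Weyl.act a r) = Twist.fibre e6Fold r := by
  decide +kernel

theorem e6t_hasWPoly : HasWPoly H53.f4Weyl_valid (Twist.fibre e6Fold)
    (fun _ : Fin 4 => (true : Bool) = true) [e6tOrb0Poly, e6tOrb1Poly, e6tOrb2Poly, e6tOrb3Poly] := by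
  have hb : HasWPoly H53.f4Weyl_valid (Twist.fibre e6Fold)
      (fun i : Fin 4 => [false, false, false, false].getD i.val false = true) [] := by
    rw [show (fun i : Fin 4 => [false, false, false, false].getD i.val false = true) = (fun _ : Fin 4 => (false : Bool) = true)
      from funext fun i => by fin_cases i <;> rfl]
    exact hasWPoly_bot _ _
  have h3 := hasWPoly_step _ _ e6t_fibre_act H53.f4Orb3_check f4Orb3_depth e6tOrb3_wdepth hb
  have h2 := hasWPoly_step _ _ e6t_fibre_act H53.f4Orb2_check f4Orb2_depth e6tOrb2_wdepth h3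
  have h1 := hasWPoly_step _ _ e6t_fibre_act H53.f4Orb1_check f4Orb1_depth e6tOrb1_wdepth h2
  have h0 := hasWPoly_step _ _ e6t_fibre_act H53.f4Orb0_check f4Orb0_depth e6tOrb0_wdepth h1
  rw [show (fun i : Fin 4 => [true, true, true, true].getD i.val false = true) = (fun _ : Fin 4 => (true : Bool) = true)
    from funext fun i => by fin_cases i <;> rfl] at h0
  exact h0

set_option backward.isDefEq.respectTransparency false in
theorem e6t_identity : pEq (pProd [[-1, 1], [-1, 1], [-1, 1], [-1, 1], [1, 1], [1, 1], e6tOrb0Poly, e6tOrb1Poly, e6tOrb2Poly, e6tOrb3Poly])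
    (pProd [pSubOne 2, pAdd [1] (pMon 5), pSubOne 6, pSubOne 8, pAdd [1] (pMon 9), pSubOne 12])
      = true := by
  decide +kernel

/-- `|²E₆(q)|`. -/
theorem e6t_card {K : Type*} [Field K] [Fintype K] {q : ℕ} (hq : IsPrimePow q)
    (hK : Fintype.card K = q ^ 2) :
    Nat.gcd 3 (q + 1) * Nat.card ↥(twistedE6 K q) =
      q ^ 36 * (q ^ 2 - 1) * (q ^ 5 + 1) * (q ^ 6 - 1) * (q ^ 8 - 1) * (q ^ 9 + 1) *
        (q ^ 12 - 1) := by
  obtain ⟨T, X, hf⟩ := exists_twistE6 hq hK
  rw [← twistE6_grp X hf hK]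
  have h := X.card_grp_eq (fun J => e6_card_E X hf hK J) e6t_hasWPoly
  have ht := congrArg (fun k : ℕ => (k : ℤ)) (e6_card_torus X hf hK)
  have e := pEval_pEq (q : ℤ) _ _ e6t_identity
  simp only [pProd, pEval_pMul, pSubOne, pEval_pAdd, pEval_pMon, pEval, Int.cast_neg,
    Int.cast_one, Int.cast_id, mul_zero, add_zero, mul_one] at e h
  have hq1 := hq.one_lt
  refine Int.natCast_inj.1 ?_
  have hp : ∀ k : ℕ, 1 ≤ q ^ k := fun k => Nat.one_le_pow _ _ (by omega)
  push_cast [Nat.cast_sub (hp 2), Nat.cast_sub (hp 6), Nat.cast_sub (hp 8), Nat.cast_sub (hp 12),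
    Nat.cast_sub (le_of_lt hq1)] at ht ⊢
  rw [h, show chevE6.nroots / 2 = 36 from rfl]
  generalize pEval (q : ℤ) e6tOrb0Poly = a at *
  generalize pEval (q : ℤ) e6tOrb1Poly = b at *
  generalize pEval (q : ℤ) e6tOrb2Poly = c at *
  generalize pEval (q : ℤ) e6tOrb3Poly = d at *
  linear_combination (q : ℤ) ^ 36 * e + (q : ℤ) ^ 36 * (a * (b * (c * d))) * ht

end H52
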