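import Cfsg.Agent.H52.ChevBN
import Cfsg.Agent.H52.Parabolic
import Cfsg.Agent.H56.BNParabolic

/-!
The normaliser of the unipotent radical of a standard parabolic subgroup.
-/

set_option autoImplicit false

namespace H52

open Cfsg.Lie

variable {D : ChevalleyDatum} {T : Tables} {F : Type*} [Field F]

namespace BNData

variable (K : BNData D T) (hS : ∀ r < D.nroots, ∀ j < D.rank, (crt D r j = 0 ↔ T.co r j = 0))
include K hS

theorem normalizer_unipotentRadical (J : Set ℕ) :
    Subgroup.normalizer (D.unipotentRadical F J : Set (GL D.Idx F)) ⊓ D.group F =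
      D.parabolicSubgroup F J := by
  have hC := K.chk
  have hpG : D.parabolicSubgroup F J ≤ D.group F := by
    refine sup_le hC.borel_le_group ((Subgroup.closure_le _).2 ?_)
    rintro g ⟨j, -, hj, hg⟩
    have : g = nElt D (D.simple j) 1 := Units.ext (by rw [hg, hC.coe_nElt])
    subst this
    exact hC.monomial_le_group (Subgroup.mem_sup_right
      (Subgroup.subset_closure ⟨_, hC.simple_lt hj, hC.coe_nElt _ _⟩))
  refine le_antisymm ?_ (le_inf (hC.levi_decomposition hS J).1 hpG)
  set M := (Subgroup.normalizer (D.unipotentRadical F J : Set (GL D.Idx F))).subgroupOf (D.group F)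
    with hM
  have hBM : (K.pair F).B ≤ M := by
    rw [K.pair_B]
    intro g hg
    exact (hC.levi_decomposition hS J).1 ((le_sup_left : _ ≤ D.parabolicSubgroup F J) hg)
  have hgen : ∀ s ∈ (K.pair F).S, s ∈ M → (s : GL D.Idx F) ∈ D.parabolicSubgroup F J := by
    intro s hs hsM
    rw [K.pair_S] at hs
    obtain ⟨i, hi, hsi⟩ := hs
    by_cases hiJ : i ∈ J
    · exact Subgroup.mem_sup_right (Subgroup.subset_closure ⟨i, hiJ, hi, hsi⟩)
    exfalso
    have hp := hC.simple_lt hi
    have hmem : rt D (D.simple i) (1 : F) ∈ D.unipotentRadical F J := by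
      refine Subgroup.subset_closure ⟨_, 1, (hC.isPosRoot_iff _).2 ⟨hC.simple_pos hi, hp⟩, ?_,
        hC.coe_rt _ _⟩
      intro h
      have h0 := ((hC.inRootSub_iff hS J _).1 h).2 i hi hiJ
      rw [hC.co_simple hi hi, if_pos rfl] at h0
      exact one_ne_zero h0
    have hse : (s : GL D.Idx F) = nElt D (D.simple i) 1 := Units.ext (by rw [hsi, hC.coe_nElt])
    have h1 := (Subgroup.mem_normalizer_iff.1 hsM _).1 hmem
    rw [Subgroup.coe_subtype, hse, hC.sig_conj_rt hi hp, hC.reflect_simple hi] at h1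
    have hle : D.unipotentRadical F J ≤ D.borelSubgroup F := by
      refine (Subgroup.closure_le _).2 ?_
      rintro g ⟨r, t, hr, -, hg⟩
      exact Subgroup.mem_sup_left (Subgroup.subset_closure ⟨r, t, hr, hg⟩)
    have hlt : D.neg (D.simple i) < D.nroots / 2 := by
      rw [hC.neg_eq hp]
      have := hC.simple_pos hi
      have := hC.nroots_eq
      omega
    have h2 := Subgroup.mem_inf.2 ⟨hle h1, hC.rt_mem_neg (F := F) hlt _⟩
    rw [hC.borel_inf_neg, Subgroup.mem_bot, ← hC.rt_zero (D.neg (D.simple i))] at h2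
    have h3 := hC.rt_injective (hC.neg_lt hp) h2
    have h4 := congrArg ((T.eps i (D.simple i) : F) * ·) h3
    simp only [mul_zero, mul_one, Checked.eps_cast_mul_self] at h4
    exact one_ne_zero h4
  intro g hg
  obtain ⟨hgN, hgG⟩ := Subgroup.mem_inf.1 hg
  have hgM : (⟨g, hgG⟩ : ↥(D.group F)) ∈ M := hgN
  rw [H56.eq_parabolic_of_le (K.pair F) hBM] at hgM
  have hle : (K.pair F).parabolic {s ∈ (K.pair F).S | s ∈ M} ≤
      (D.parabolicSubgroup F J).subgroupOf (D.group F) := by
    refine sup_le ?_ ((Subgroup.closure_le _).2 fun s hs => hgen s hs.1 hs.2)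
    rw [K.pair_B]
    exact fun x hx => (le_sup_left : _ ≤ D.parabolicSubgroup F J) hx
  exact hle hgM

end BNData

end H52
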