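import Mathlib

/-!
Sections and fusion in an abelian subgroup: if conjugation between elements of an abelian subgroup
`T` is induced by elements of `N`, commuting elements of prime orders `ℓ₁, ℓ₂` of a quotient of a
subgroup, both prime to the index of `T`, are moved by their normaliser as elements of `N` move `T`.
-/

set_option autoImplicit false
set_option linter.unusedSectionVars false

namespace H52.SecFus

/-- Conjugation between elements of `T` is induced by elements of `N`. -/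
def Fusion {G : Type*} [Group G] (T N : Subgroup G) : Prop :=
  ∀ g : G, ∃ n ∈ N, ∀ x ∈ T, g * x * g⁻¹ ∈ T → n * x * n⁻¹ = g * x * g⁻¹

variable {H Q : Type*} [Group H] [Group Q]

theorem sylow_covers (φ : H →* Q) {ℓ : ℕ} [Fact ℓ.Prime] {L : Subgroup H} [Finite ↥L] (P : Sylow ℓ ↥L)
    {x : Q} (hx : x ^ ℓ = 1) {y : H} (hy : y ∈ L) (hyx : φ y = x) (hL : ∀ z ∈ L, φ z ∈ Subgroup.zpowers x) :
    ∃ z : ↥L, z ∈ (P : Subgroup ↥L) ∧ φ (z : H) = x := by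
  classical
  set C := Subgroup.zpowers x with hC
  let ψ : ↥L →* ↥C := (φ.comp L.subtype).codRestrict C fun z => hL z z.2
  have hψ : Function.Surjective ψ := by
    rintro ⟨c, hc⟩
    obtain ⟨i, rfl⟩ := Subgroup.mem_zpowers_iff.1 hc
    refine ⟨⟨y, hy⟩ ^ i, Subtype.ext ?_⟩
    rw [map_zpow, SubgroupClass.coe_zpow]
    show (φ y) ^ i = x ^ i
    rw [hyx]
  have : Finite ↥C := Finite.of_surjective ψ hψ
  set P' : Sylow ℓ ↥C := P.mapSurjective hψ with hP'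
  have hc : IsPGroup ℓ ↥(⊤ : Subgroup ↥C) := by
    intro c
    refine ⟨1, ?_⟩
    obtain ⟨⟨d, hd⟩, hd'⟩ := c
    obtain ⟨i, rfl⟩ := Subgroup.mem_zpowers_iff.1 hd
    refine Subtype.ext (Subtype.ext ?_)
    show (x ^ i) ^ (ℓ ^ 1) = 1
    rw [pow_one, ← zpow_natCast, ← zpow_mul, mul_comm, zpow_mul, zpow_natCast, hx, one_zpow]
  have htop : (P' : Subgroup ↥C) = ⊤ := (P'.3 hc le_top).symm
  have h1 : (⟨x, Subgroup.mem_zpowers x⟩ : ↥C) ∈ (P' : Subgroup ↥C) := by rw [htop]; trivial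
  rw [hP', Sylow.coe_mapSurjective] at h1
  obtain ⟨z, hz, hzx⟩ := h1
  exact ⟨z, hz, congrArg Subtype.val hzx⟩

theorem frattini_elt {ℓ : ℕ} [Fact ℓ.Prime] {L : Subgroup H} [Finite ↥L] (P : Sylow ℓ ↥L) (a : H)
    (ha : ∀ z ∈ L, a * z * a⁻¹ ∈ L) :
    ∃ l ∈ L, ∀ z ∈ (P : Subgroup ↥L).map L.subtype, (l * a) * z * (l * a)⁻¹ ∈ (P : Subgroup ↥L).map L.subtype := by
  let cj : ↥L →* ↥L := ((MulAut.conj a).toMonoidHom.comp L.subtype).codRestrict L fun z => ha z z.2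
  have hcj : Function.Injective cj := fun u v e =>
    Subtype.ext ((MulAut.conj a).injective (congrArg Subtype.val e))
  have hP' : Nat.card ↥((P : Subgroup ↥L).map cj) = ℓ ^ (Nat.card ↥L).factorization ℓ := by
    rw [Subgroup.card_map_of_injective hcj, P.card_eq_multiplicity]
  obtain ⟨l, hl⟩ := MulAction.exists_smul_eq ↥L (Sylow.ofCard ((P : Subgroup ↥L).map cj) hP') P
  refine ⟨l, l.2, ?_⟩
  rintro _ ⟨z, hz, rfl⟩
  have h : MulAut.conj l (cj z) ∈ (P : Subgroup ↥L) := by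
    rw [← hl]
    exact ⟨cj z, ⟨z, hz, rfl⟩, rfl⟩
  refine ⟨_, h, ?_⟩
  show (l : H) * (a * (z : H) * a⁻¹) * (l : H)⁻¹ = _
  simp [mul_assoc]

theorem conj_pow_act {a x : Q} {k : ℕ} (h : a * x * a⁻¹ = x ^ k) :
    ∀ e : ℕ, a ^ e * x * (a ^ e)⁻¹ = x ^ k ^ e := by
  intro e
  induction e with
  | zero => simp
  | succ e ih =>
    rw [pow_succ' a, mul_inv_rev, show a * a ^ e * x * ((a ^ e)⁻¹ * a⁻¹) =
      a * (a ^ e * x * (a ^ e)⁻¹) * a⁻¹ by group, ih, ← conj_pow, h, ← pow_mul, pow_succ']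

theorem iterate_fusion {G : Type*} [Group G] {T : Subgroup G} {n b : G}
    (hn : ∀ x ∈ T, b * x * b⁻¹ ∈ T → n * x * n⁻¹ = b * x * b⁻¹) {X : Subgroup G} (hX : X ≤ T)
    (hb : ∀ x ∈ X, b * x * b⁻¹ ∈ X) :
    ∀ (e : ℕ), ∀ x ∈ X, b ^ e * x * (b ^ e)⁻¹ = n ^ e * x * (n ^ e)⁻¹ ∧ b ^ e * x * (b ^ e)⁻¹ ∈ X := by
  intro e
  induction e with
  | zero => intro x hx; simpa using hx
  | succ e ih =>
    intro x hx
    obtain ⟨h1, h2⟩ := ih x hx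
    have h3 := hb _ h2
    have e2 := hn _ (hX h2) (hX h3)
    have e3 : b ^ (e + 1) * x * (b ^ (e + 1))⁻¹ = b * (b ^ e * x * (b ^ e)⁻¹) * b⁻¹ := by
      rw [pow_succ']; group
    rw [e3]
    refine ⟨?_, h3⟩
    rw [← e2, h1, pow_succ']
    group

/-- A torus with fusion controls the normalisers of commuting elements of prime order of sections. -/
theorem lift {G : Type*} [Group G] [Finite G] {T N : Subgroup G}
    (hcomm : ∀ s ∈ T, ∀ t ∈ T, s * t = t * s) (hfus : Fusion T N) {E : ℕ}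
    (hexp : ∀ n ∈ N, ∀ t ∈ T, n ^ E * t * (n ^ E)⁻¹ = t)
    (K : Subgroup G) {Q : Type*} [Group Q] (φ : ↥K →* Q) (hφ : Function.Surjective φ)
    {ℓ₁ ℓ₂ : ℕ} [Fact ℓ₁.Prime] [Fact ℓ₂.Prime] (hne : ℓ₁ ≠ ℓ₂)
    (h1 : ¬ ℓ₁ ∣ T.index) (h2 : ¬ ℓ₂ ∣ T.index) (hE : ¬ ℓ₂ ∣ E)
    {x₁ x₂ g : Q} (hx1 : x₁ ^ ℓ₁ = 1) (hx2 : x₂ ^ ℓ₂ = 1) (hc : Commute x₁ x₂)
    {k₁ k₂ : ℕ} (hg1 : g * x₁ * g⁻¹ = x₁ ^ k₁) (hg2 : g * x₂ * g⁻¹ = x₂ ^ k₂) :
    ∃ n ∈ N, ∀ e : ℕ,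
      ((∀ t ∈ T, n ^ e * t * (n ^ e)⁻¹ = t) → x₁ ^ k₁ ^ e = x₁ ∧ x₂ ^ k₂ ^ e = x₂) ∧
      ((∀ t ∈ T, n ^ e * t * (n ^ e)⁻¹ = t⁻¹) → x₁ ^ k₁ ^ e = x₁⁻¹ ∧ x₂ ^ k₂ ^ e = x₂⁻¹) := by
  classical
  obtain ⟨g0, hg0⟩ := hφ g
  set L1 := (Subgroup.zpowers x₁).comap φ with hL1
  have hgp : ∀ {x : Q} {k : ℕ}, g * x * g⁻¹ = x ^ k → ∀ z : Q, z ∈ Subgroup.zpowers x →
      g * z * g⁻¹ ∈ Subgroup.zpowers x := by
    intro x k h z hz
    obtain ⟨i, rfl⟩ := Subgroup.mem_zpowers_iff.1 hz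
    rw [← conj_zpow, h]
    exact zpow_mem (pow_mem (Subgroup.mem_zpowers x) k) i
  have hn1 : ∀ z ∈ L1, g0 * z * g0⁻¹ ∈ L1 := fun z hz => by
    rw [hL1, Subgroup.mem_comap] at hz ⊢
    rw [map_mul, map_mul, map_inv, hg0]
    exact hgp hg1 _ hz
  obtain ⟨P1⟩ := (inferInstance : Nonempty (Sylow ℓ₁ ↥L1))
  set X1 := (P1 : Subgroup ↥L1).map L1.subtype with hX1
  obtain ⟨y1, hy1⟩ := hφ x₁
  obtain ⟨z1, hz1, hz1x⟩ := sylow_covers φ P1 hx1 (show y1 ∈ L1 from by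
    rw [hL1, Subgroup.mem_comap, hy1]; exact Subgroup.mem_zpowers _) hy1 (fun z hz => hz)
  obtain ⟨l1, hl1, ha1⟩ := frattini_elt P1 g0 hn1
  -- a lift of `x₂` normalising `X1`
  set N1 : Subgroup ↥K :=
    { carrier := {u | ∀ z ∈ X1, u * z * u⁻¹ ∈ X1}
      mul_mem' := fun {u v} hu hv z hz => by
        have := hu _ (hv z hz)
        simpa [mul_assoc] using this
      one_mem' := fun z hz => by simpa using hz
      inv_mem' := fun {u} hu => by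
        intro z hz
        have hinj : Function.Injective (fun w : ↥X1 => (⟨u * w * u⁻¹, hu _ w.2⟩ : ↥X1)) := fun a b e => by
          have := congrArg Subtype.val e
          simpa using this
        obtain ⟨w, hw⟩ := (Finite.injective_iff_surjective.1 hinj) ⟨z, hz⟩
        have e : u * (w : ↥K) * u⁻¹ = z := congrArg Subtype.val hw
        rw [← e]
        simp [mul_assoc] } with hN1
  obtain ⟨y2, hy2⟩ := hφ x₂
  have hy2n : ∀ z ∈ L1, y2 * z * y2⁻¹ ∈ L1 := fun z hz => by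
    rw [hL1, Subgroup.mem_comap]
    obtain ⟨i, hi⟩ := Subgroup.mem_zpowers_iff.1 (show φ z ∈ Subgroup.zpowers x₁ from hz)
    rw [map_mul, map_mul, map_inv, hy2, ← hi, (hc.zpow_left i).symm.eq, mul_inv_cancel_right]
    exact zpow_mem (Subgroup.mem_zpowers _) i
  obtain ⟨l2, hl2, ha2⟩ := frattini_elt P1 y2 hy2n
  have hcop : Nat.Coprime ℓ₁ ℓ₂ := (Nat.coprime_primes Fact.out Fact.out).2 hne
  obtain ⟨c, hc0, hc1⟩ := Nat.chineseRemainder hcop 0 1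
  have hy : φ ((l2 * y2) ^ c) = x₂ := by
    obtain ⟨i, hi⟩ := Subgroup.mem_zpowers_iff.1 (show φ l2 ∈ Subgroup.zpowers x₁ from hl2)
    rw [map_pow, map_mul, hy2, ← hi, (hc.zpow_left i).mul_pow]
    obtain ⟨j, rfl⟩ := Nat.modEq_zero_iff_dvd.1 hc0
    rw [← zpow_natCast (x₁ ^ i), ← zpow_mul, mul_comm i, zpow_mul, zpow_natCast, pow_mul, hx1, one_pow,
      one_zpow, one_mul]
    have : x₂ ^ ((ℓ₁ * j) % ℓ₂) = x₂ ^ (ℓ₁ * j) := by
      conv_rhs => rw [← Nat.mod_add_div (ℓ₁ * j) ℓ₂, pow_add, pow_mul, hx2, one_pow, mul_one]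
    rw [← this, show (ℓ₁ * j) % ℓ₂ = 1 % ℓ₂ from hc1,
      Nat.mod_eq_of_lt (Fact.out : ℓ₂.Prime).one_lt, pow_one]
  set L2 := (Subgroup.zpowers x₂).comap φ ⊓ N1 with hL2
  have hyL2 : (l2 * y2) ^ c ∈ L2 := Subgroup.mem_inf.2
    ⟨by rw [Subgroup.mem_comap, hy]; exact Subgroup.mem_zpowers _, pow_mem (show l2 * y2 ∈ N1 from ha2) c⟩
  set a1 := l1 * g0 with ha1def
  have ha1N : a1 ∈ N1 := ha1
  have ha1c : ∀ {x : Q} {k : ℕ}, Commute x₁ x → g * x * g⁻¹ = x ^ k → φ a1 * x * (φ a1)⁻¹ = x ^ k := by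
    intro x k hcx h
    obtain ⟨i, hi⟩ := Subgroup.mem_zpowers_iff.1 (show φ l1 ∈ Subgroup.zpowers x₁ from hl1)
    rw [ha1def, map_mul, hg0, mul_inv_rev, show φ l1 * g * x * (g⁻¹ * (φ l1)⁻¹) =
      φ l1 * (g * x * g⁻¹) * (φ l1)⁻¹ by group, h, ← hi, ((hcx.zpow_left i).pow_right k).eq,
      mul_inv_cancel_right]
  have hn2 : ∀ z ∈ L2, a1 * z * a1⁻¹ ∈ L2 := fun z hz => by
    obtain ⟨hz1, hz2⟩ := Subgroup.mem_inf.1 hz
    refine Subgroup.mem_inf.2 ⟨?_, mul_mem (mul_mem ha1N hz2) (inv_mem ha1N)⟩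
    rw [Subgroup.mem_comap]
    obtain ⟨i, hi⟩ := Subgroup.mem_zpowers_iff.1 (show φ z ∈ Subgroup.zpowers x₂ from hz1)
    rw [map_mul, map_mul, map_inv, ← hi, ← conj_zpow, ha1c hc hg2]
    exact zpow_mem (pow_mem (Subgroup.mem_zpowers _) _) i
  obtain ⟨P2⟩ := (inferInstance : Nonempty (Sylow ℓ₂ ↥L2))
  set X2 := (P2 : Subgroup ↥L2).map L2.subtype with hX2
  obtain ⟨z2, hz2, hz2x⟩ := sylow_covers φ P2 hx2 hyL2 hy (fun z hz => (Subgroup.mem_inf.1 hz).1)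
  obtain ⟨l3, hl3, ha3⟩ := frattini_elt P2 a1 hn2
  set a := l3 * a1 with hadef
  have haX1 : ∀ z ∈ X1, a * z * a⁻¹ ∈ X1 := mul_mem (Subgroup.mem_inf.1 hl3).2 ha1N
  have hac : ∀ {x : Q} {k : ℕ}, Commute x₁ x → Commute x₂ x → g * x * g⁻¹ = x ^ k →
      φ a * x * (φ a)⁻¹ = x ^ k := by
    intro x k hcx hcx' h
    obtain ⟨i, hi⟩ := Subgroup.mem_zpowers_iff.1
      (show φ l3 ∈ Subgroup.zpowers x₂ from (Subgroup.mem_inf.1 hl3).1)
    rw [hadef, map_mul, mul_inv_rev, show φ l3 * φ a1 * x * ((φ a1)⁻¹ * (φ l3)⁻¹) =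
      φ l3 * (φ a1 * x * (φ a1)⁻¹) * (φ l3)⁻¹ by group, ha1c hcx h, ← hi,
      ((hcx'.zpow_left i).pow_right k).eq, mul_inv_cancel_right]
  have hN2 : ∀ z ∈ X2, z ∈ N1 := by
    rintro _ ⟨z, _, rfl⟩
    exact (Subgroup.mem_inf.1 z.2).2
  -- move to the torus
  set Y1 : Subgroup G := X1.map K.subtype with hY1
  set Y2 : Subgroup G := X2.map K.subtype with hY2
  have hY1p : IsPGroup ℓ₁ Y1 := ((P1.2.map _).map _)
  have hY2p : IsPGroup ℓ₂ Y2 := ((P2.2.map _).map _)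
  obtain ⟨c1, hc1'⟩ := hY1p.nonempty_fixed_point_of_prime_not_dvd_card (G ⧸ T) h1
  obtain ⟨w, rfl⟩ := QuotientGroup.mk_surjective c1
  have hwT : ∀ z ∈ Y1, w⁻¹ * z * w ∈ T := fun z hz => by
    have h : ((z * w : G) : G ⧸ T) = (w : G ⧸ T) := hc1' ⟨z, hz⟩
    have := QuotientGroup.eq.1 h.symm
    rwa [← mul_assoc] at this
  set Z1 := Y1.map (MulAut.conj w⁻¹).toMonoidHom with hZ1
  set Z2 := Y2.map (MulAut.conj w⁻¹).toMonoidHom with hZ2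
  have hZ1T : Z1 ≤ T := by
    rintro _ ⟨z, hz, rfl⟩
    simpa using hwT z hz
  have hconjmem : ∀ (u : ↥K) (X : Subgroup ↥K), (∀ z ∈ X, u * z * u⁻¹ ∈ X) →
      ∀ z ∈ (X.map K.subtype).map (MulAut.conj w⁻¹).toMonoidHom,
        (w⁻¹ * (u : G) * w) * z * (w⁻¹ * (u : G) * w)⁻¹ ∈ (X.map K.subtype).map (MulAut.conj w⁻¹).toMonoidHom := by
    rintro u X hu _ ⟨_, ⟨z, hz, rfl⟩, rfl⟩
    refine ⟨_, ⟨_, hu z hz, rfl⟩, ?_⟩
    simp [mul_assoc]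
  set C := Subgroup.centralizer (Z1 : Set G) with hC
  have hTC : T ≤ C := fun t ht => Subgroup.mem_centralizer_iff.2 fun z hz => (hcomm z (hZ1T hz) t ht)
  have hZ2C : Z2 ≤ C := by
    rintro _ ⟨_, ⟨u, hu, rfl⟩, rfl⟩
    set v : G := (MulAut.conj w⁻¹).toMonoidHom (K.subtype u) with hv
    have hvv : v = w⁻¹ * (u : G) * w := by simp [hv]
    refine Subgroup.mem_centralizer_iff.2 fun z hz => ?_
    obtain ⟨n, hn, hnv⟩ := hfus v
    have hvX : ∀ z ∈ Z1, v * z * v⁻¹ ∈ Z1 := fun z hz => by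
      rw [hvv]; exact hconjmem u X1 (hN2 u hu) z hz
    obtain ⟨hE', -⟩ := iterate_fusion hnv hZ1T hvX E z hz
    rw [hexp n hn z (hZ1T hz)] at hE'
    obtain ⟨j, hj⟩ := hY2p ⟨(u : G), ⟨u, hu, rfl⟩⟩
    have hord : v ^ ℓ₂ ^ j = 1 := by
      rw [hvv, show w⁻¹ * (u : G) * w = MulAut.conj w⁻¹ (u : G) by simp, ← map_pow]
      rw [show (u : G) ^ ℓ₂ ^ j = 1 from congrArg Subtype.val hj, map_one]
    have hcop2 : Nat.Coprime E (ℓ₂ ^ j) :=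
      Nat.Coprime.pow_right j (((Fact.out : ℓ₂.Prime).coprime_iff_not_dvd.2 hE).symm)
    obtain ⟨r, hr⟩ := exists_pow_eq_self_of_coprime (x := v) (hcop2.coprime_dvd_right (orderOf_dvd_of_pow_eq_one hord))
    have hcv : Commute (v ^ E) z := mul_inv_eq_iff_eq_mul.1 hE'
    rw [← hr]
    exact ((hcv.pow_left r).eq).symm
  have h2' : ¬ ℓ₂ ∣ Nat.card (↥C ⧸ T.subgroupOf C) := fun h =>
    h2 (h.trans (Subgroup.relIndex_dvd_index_of_le hTC))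
  have hZ2p : IsPGroup ℓ₂ ↥(Z2.subgroupOf C) :=
    (hY2p.map _).of_equiv (Subgroup.subgroupOfEquivOfLe hZ2C).symm
  obtain ⟨c2, hc2'⟩ := hZ2p.nonempty_fixed_point_of_prime_not_dvd_card (↥C ⧸ T.subgroupOf C) h2'
  obtain ⟨w2, rfl⟩ := QuotientGroup.mk_surjective c2
  set W := w * (w2 : G) with hW
  have hW1 : ∀ z ∈ Z1, (w2 : G)⁻¹ * z * (w2 : G) = z := fun z hz => by
    rw [mul_assoc, (Subgroup.mem_centralizer_iff.1 w2.2 z hz), inv_mul_cancel_left]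
  have hW2 : ∀ z ∈ Z2, (w2 : G)⁻¹ * z * (w2 : G) ∈ T := fun z hz => by
    have h : ((⟨z, hZ2C hz⟩ * w2 : ↥C) : ↥C ⧸ T.subgroupOf C) = (w2 : ↥C ⧸ T.subgroupOf C) :=
      hc2' ⟨⟨z, hZ2C hz⟩, hz⟩
    have := QuotientGroup.eq.1 h.symm
    rw [← mul_assoc] at this
    exact this
  -- both images
  set XX : Subgroup G := ((X1 ⊔ X2).map K.subtype).map (MulAut.conj W⁻¹).toMonoidHom with hXX
  have hXXT : XX ≤ T := by
    rw [hXX, Subgroup.map_sup, Subgroup.map_sup, sup_le_iff]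
    constructor
    · rintro _ ⟨z, hz, rfl⟩
      have hz' : w⁻¹ * z * w ∈ Z1 := ⟨z, hz, by simp⟩
      have := hZ1T hz'
      rw [← hW1 _ hz'] at this
      simpa [hW, mul_assoc] using this
    · rintro _ ⟨z, hz, rfl⟩
      have hz' : w⁻¹ * z * w ∈ Z2 := ⟨z, hz, by simp⟩
      have := hW2 _ hz'
      simpa [hW, mul_assoc] using this
  set b : G := W⁻¹ * (a : G) * W with hb
  have haX : ∀ z ∈ X1 ⊔ X2, a * z * a⁻¹ ∈ X1 ⊔ X2 := by
    intro z hz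
    have hle : X1 ⊔ X2 ≤ (X1 ⊔ X2).comap (MulAut.conj a).toMonoidHom := sup_le
      (fun z hz => Subgroup.mem_sup_left (haX1 z hz)) (fun z hz => Subgroup.mem_sup_right (ha3 z hz))
    exact hle hz
  have hbX : ∀ z ∈ XX, b * z * b⁻¹ ∈ XX := by
    rintro _ ⟨_, ⟨z, hz, rfl⟩, rfl⟩
    refine ⟨_, ⟨_, haX z hz, rfl⟩, ?_⟩
    simp [hb, mul_assoc]
  obtain ⟨n, hn, hnb⟩ := hfus b
  refine ⟨n, hn, fun e => ?_⟩
  have key : ∀ (z : ↥K) (x : Q) (k : ℕ) (d : ℤ), φ z = x → z ∈ X1 ⊔ X2 → φ a * x * (φ a)⁻¹ = x ^ k →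
      (∀ t ∈ T, n ^ e * t * (n ^ e)⁻¹ = t ^ d) → x ^ k ^ e = x ^ d := by
    intro z x k d hzx hz hk hd
    have hzX : W⁻¹ * (z : G) * W ∈ XX := ⟨_, ⟨z, hz, rfl⟩, by simp⟩
    obtain ⟨h', -⟩ := iterate_fusion hnb hXXT hbX e _ hzX
    rw [hd _ (hXXT hzX)] at h'
    have e1 : b ^ e = W⁻¹ * (a : G) ^ e * W := by
      rw [hb]
      have := conj_pow (i := e) (a := W⁻¹) (b := (a : G))
      simpa using this
    have e2 : (W⁻¹ * (z : G) * W) ^ d = W⁻¹ * (z : G) ^ d * W := by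
      have := conj_zpow (i := d) (a := W⁻¹) (b := (z : G))
      simpa using this
    rw [e1, e2] at h'
    have e3 : a ^ e * z * (a ^ e)⁻¹ = z ^ d := by
      apply Subtype.ext
      have := congrArg (fun t => W * t * W⁻¹) h'
      simpa [mul_assoc] using this
    have e4 := congrArg φ e3
    rw [map_mul, map_mul, map_inv, map_pow, map_zpow, hzx, conj_pow_act hk e] at e4
    exact e4
  have hm1 : (z1 : ↥K) ∈ X1 ⊔ X2 := Subgroup.mem_sup_left ⟨z1, hz1, rfl⟩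
  have hm2 : (z2 : ↥K) ∈ X1 ⊔ X2 := Subgroup.mem_sup_right ⟨z2, hz2, rfl⟩
  have hk1 := hac (Commute.refl x₁) hc.symm hg1
  have hk2 := hac hc (Commute.refl x₂) hg2
  constructor
  · intro hd
    have hd' : ∀ t ∈ T, n ^ e * t * (n ^ e)⁻¹ = t ^ (1 : ℤ) := by simpa using hd
    exact ⟨by simpa using key _ _ _ 1 hz1x hm1 hk1 hd', by simpa using key _ _ _ 1 hz2x hm2 hk2 hd'⟩
  · intro hd
    have hd' : ∀ t ∈ T, n ^ e * t * (n ^ e)⁻¹ = t ^ (-1 : ℤ) := by simpa using hd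
    exact ⟨by simpa using key _ _ _ (-1) hz1x hm1 hk1 hd', by simpa using key _ _ _ (-1) hz2x hm2 hk2 hd'⟩

end H52.SecFus
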