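import Cfsg.Agent.H52.TwistOrderE6
import Mathlib.GroupTheory.Sylow
import Mathlib.GroupTheory.SpecificGroups.Cyclic

/-!
A property of subgroups closed under conjugation holds for all nontrivial subgroups of prime power order at
primes beyond five once it holds for a few named ones: the Sylow reduction for the twisted group of type E6
over the field with four elements.
-/

set_option autoImplicit false
set_option linter.style.haveILetI false

namespace H52.E6MaxReduce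

variable {G : Type*} [Group G] [Finite G]

/-- A subgroup of prime power order moves into a given subgroup of the full power. -/
theorem exists_conj_le {p v : ℕ} [Fact p.Prime] {S P : Subgroup G} (hS : Nat.card S = p ^ v)
    (hv : ¬ p ^ (v + 1) ∣ Nat.card G) (hP : IsPGroup p P) :
    ∃ g : G, P.map (MulAut.conj g).toMonoidHom ≤ S := by
  obtain ⟨T, hT⟩ := (IsPGroup.of_card hS).exists_le_sylow
  obtain ⟨T', hT'⟩ := hP.exists_le_sylow
  obtain ⟨j, hj⟩ := IsPGroup.iff_card.1 T.2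
  have hjv : j ≤ v := by
    by_contra h
    exact hv ((pow_dvd_pow p (by omega : v + 1 ≤ j)).trans (hj ▸ (T : Subgroup G).card_subgroup_dvd_card))
  have hST : S = (T : Subgroup G) := Subgroup.eq_of_le_of_card_ge hT (by
    rw [hj, hS]; exact Nat.pow_le_pow_right (Nat.Prime.pos Fact.out) hjv)
  obtain ⟨g, hg⟩ := MulAction.exists_smul_eq G T' T
  refine ⟨g, ?_⟩
  rintro _ ⟨x, hx, rfl⟩
  rw [hST, ← hg]
  exact Subgroup.mem_map_of_mem _ (hT' hx)

theorem good_of_map {Good : Subgroup G → Prop}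
    (hconj : ∀ g P, Good P → Good (Subgroup.map (MulAut.conj g).toMonoidHom P)) {g : G} {P : Subgroup G}
    (h : Good (P.map (MulAut.conj g).toMonoidHom)) : Good P := by
  have := hconj g⁻¹ _ h
  rwa [Subgroup.map_map, show (MulAut.conj g⁻¹).toMonoidHom.comp (MulAut.conj g).toMonoidHom = MonoidHom.id G
    from MonoidHom.ext fun x => by simp [mul_assoc], Subgroup.map_id] at this

theorem good_cyclic {Good : Subgroup G → Prop}
    (hconj : ∀ g P, Good P → Good (Subgroup.map (MulAut.conj g).toMonoidHom P)) {q : ℕ} [Fact q.Prime]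
    (hv : ¬ q ^ 2 ∣ Nat.card G) {x : G} (hx : orderOf x = q) (hg : Good (Subgroup.zpowers x))
    {P : Subgroup G} (hP : IsPGroup q P) (hne : P ≠ ⊥) : Good P := by
  obtain ⟨g, hle⟩ := exists_conj_le (S := Subgroup.zpowers x) (v := 1)
    (by rw [Nat.card_zpowers, hx, pow_one]) hv hP
  refine good_of_map hconj (g := g) ?_
  obtain ⟨k, hk⟩ := IsPGroup.iff_card.1 hP
  have hk1 : 1 ≤ k := by
    rcases Nat.eq_zero_or_pos k with rfl | h
    · exact absurd (Subgroup.card_eq_one.1 (by simpa using hk)) hne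
    · exact h
  have hE : P.map (MulAut.conj g).toMonoidHom = Subgroup.zpowers x := Subgroup.eq_of_le_of_card_ge hle (by
    rw [Subgroup.card_map_of_injective (MulAut.conj g).injective, hk, Nat.card_zpowers, hx]
    exact Nat.le_self_pow (by omega) q)
  rw [hE]; exact hg

/-- The elements of the group generated by two commuting elements of order dividing seven. -/
theorem mem_closure_pair {a b : G} (ha : a ^ 7 = 1) (hb : b ^ 7 = 1) (hc : Commute a b) {z : G}
    (hz : z ∈ Subgroup.closure {a, b}) : ∃ i < 7, ∃ j < 7, z = a ^ i * b ^ j := by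
  have red : ∀ i j : ℕ, a ^ i * b ^ j = a ^ (i % 7) * b ^ (j % 7) := fun i j => by
    rw [← pow_eq_pow_mod i ha, ← pow_eq_pow_mod j hb]
  suffices h : ∃ i j : ℕ, z = a ^ i * b ^ j by
    obtain ⟨i, j, rfl⟩ := h
    exact ⟨i % 7, Nat.mod_lt _ (by norm_num), j % 7, Nat.mod_lt _ (by norm_num), red i j⟩
  induction hz using Subgroup.closure_induction with
  | mem x hx =>
    rcases hx with rfl | rfl
    · exact ⟨1, 0, by simp⟩
    · exact ⟨0, 1, by simp⟩
  | one => exact ⟨0, 0, by simp⟩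
  | mul x y _ _ ihx ihy =>
    obtain ⟨i, j, rfl⟩ := ihx
    obtain ⟨k, l, rfl⟩ := ihy
    exact ⟨i + k, j + l, by rw [pow_add, pow_add, (hc.pow_pow k j).symm.mul_mul_mul_comm]⟩
  | inv x _ ih =>
    obtain ⟨i, j, rfl⟩ := ih
    refine ⟨6 * i, 6 * j, inv_eq_of_mul_eq_one_right ?_⟩
    rw [(hc.pow_pow (6 * i) j).symm.mul_mul_mul_comm, ← pow_add, ← pow_add,
      show i + 6 * i = 7 * i by omega, show j + 6 * j = 7 * j by omega, pow_mul, pow_mul, ha, hb,
      one_pow, one_pow, one_mul]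

/-- The two generators are independent. -/
theorem pair_inj {a b : G} (ha : a ^ 7 = 1) (hb : b ^ 7 = 1) (ha1 : a ≠ 1) (hab : ∀ i < 7, a ^ i ≠ b)
    {i j k l : ℕ} (hi : i < 7) (hj : j < 7) (hk : k < 7) (hl : l < 7)
    (h : a ^ i * b ^ j = a ^ k * b ^ l) : i = k ∧ j = l := by
  haveI : Fact (Nat.Prime 7) := ⟨by norm_num⟩
  have hoa : orderOf a = 7 := orderOf_eq_prime ha ha1
  have key : ∀ d, b ^ d ∈ Subgroup.zpowers a → d % 7 = 0 := by
    intro d hd
    by_contra hd0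
    obtain ⟨e, he⟩ : ∃ e, d * e % 7 = 1 := by
      have : ∀ r < 7, r ≠ 0 → ∃ e < 7, r * e % 7 = 1 := by decide
      obtain ⟨e, -, he⟩ := this (d % 7) (Nat.mod_lt _ (by norm_num)) hd0
      exact ⟨e, by rwa [Nat.mod_mul_mod] at he⟩
    have hbm : b ∈ Subgroup.zpowers a := by
      have := Subgroup.pow_mem _ hd e
      rwa [← pow_mul, pow_eq_pow_mod (d * e) hb, he, pow_one] at this
    rw [← mem_powers_iff_mem_zpowers] at hbm
    obtain ⟨n, hn⟩ := hbm
    have hn' : a ^ n = b := hn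
    exact hab (n % 7) (Nat.mod_lt _ (by norm_num)) (by rw [← pow_eq_pow_mod n ha]; exact hn')
  have e1 : b ^ (j + (7 - l)) ∈ Subgroup.zpowers a := by
    have e : b ^ (j + (7 - l)) = (a ^ i)⁻¹ * a ^ k := by
      calc b ^ (j + (7 - l)) = (a ^ i)⁻¹ * (a ^ i * b ^ j) * b ^ (7 - l) := by rw [pow_add]; group
        _ = (a ^ i)⁻¹ * a ^ k * b ^ (l + (7 - l)) := by rw [h, pow_add]; group
        _ = _ := by rw [Nat.add_sub_cancel' hl.le, hb, mul_one]
    rw [e]
    exact mul_mem (inv_mem (Subgroup.pow_mem _ (Subgroup.mem_zpowers a) i))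
      (Subgroup.pow_mem _ (Subgroup.mem_zpowers a) k)
  have hjl : j = l := by have := key _ e1; omega
  subst hjl
  refine ⟨?_, rfl⟩
  have h' : a ^ i = a ^ k := mul_right_cancel h
  rw [pow_inj_mod, hoa, Nat.mod_eq_of_lt hi, Nat.mod_eq_of_lt hk] at h'
  exact h'

theorem card_pair {a b : G} (ha : a ^ 7 = 1) (hb : b ^ 7 = 1) (hc : Commute a b) (ha1 : a ≠ 1)
    (hab : ∀ i < 7, a ^ i ≠ b) : Nat.card (Subgroup.closure ({a, b} : Set G)) = 7 ^ 2 := by
  let f : Fin 7 × Fin 7 → Subgroup.closure ({a, b} : Set G) := fun p =>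
    ⟨a ^ (p.1 : ℕ) * b ^ (p.2 : ℕ), mul_mem (Subgroup.pow_mem _ (Subgroup.subset_closure (by simp)) _)
      (Subgroup.pow_mem _ (Subgroup.subset_closure (by simp)) _)⟩
  have hf : Function.Bijective f := by
    refine ⟨?_, ?_⟩
    · rintro ⟨i, j⟩ ⟨k, l⟩ h
      obtain ⟨h1, h2⟩ := pair_inj ha hb ha1 hab i.2 j.2 k.2 l.2 (congrArg Subtype.val h)
      exact Prod.ext (Fin.ext h1) (Fin.ext h2)
    · rintro ⟨z, hz⟩
      obtain ⟨i, hi, j, hj, rfl⟩ := mem_closure_pair ha hb hc hz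
      exact ⟨(⟨i, hi⟩, ⟨j, hj⟩), rfl⟩
  rw [← Nat.card_eq_of_bijective f hf, Nat.card_prod, Nat.card_fin]
  norm_num

theorem good_seven {Good : Subgroup G → Prop}
    (hconj : ∀ g P, Good P → Good (Subgroup.map (MulAut.conj g).toMonoidHom P))
    (hv : ¬ 7 ^ 3 ∣ Nat.card G) {a b n : G} (ha : a ^ 7 = 1) (hb : b ^ 7 = 1) (hc : Commute a b)
    (ha1 : a ≠ 1) (hab : ∀ i < 7, a ^ i ≠ b) (hna : n * a = a * n) (hnb : n * b = b ^ 2 * n)
    (g0 : Good (Subgroup.zpowers a)) (gb : Good (Subgroup.zpowers b))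
    (g1 : Good (Subgroup.zpowers (a * b))) (g3 : Good (Subgroup.zpowers (a * b ^ 3)))
    (gS : Good (Subgroup.closure {a, b})) {P : Subgroup G} (hP : IsPGroup 7 P) (hne : P ≠ ⊥) : Good P := by
  haveI : Fact (Nat.Prime 7) := ⟨by norm_num⟩
  obtain ⟨g, hle⟩ := exists_conj_le (v := 2) (card_pair ha hb hc ha1 hab) hv hP
  refine good_of_map hconj (g := g) ?_
  set Q := P.map (MulAut.conj g).toMonoidHom with hQ
  have hQne : Q ≠ ⊥ := fun h => hne ((Subgroup.map_eq_bot_iff_of_injective P (MulAut.conj g).injective).1 h)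
  obtain ⟨k, -, hQc⟩ := (Nat.dvd_prime_pow (by norm_num : Nat.Prime 7)).1
    (card_pair ha hb hc ha1 hab ▸ Subgroup.card_dvd_of_le hle)
  rcases Nat.lt_or_ge k 2 with hk | hk
  swap
  · have hE : Q = Subgroup.closure {a, b} := Subgroup.eq_of_le_of_card_ge hle (by
      rw [card_pair ha hb hc ha1 hab, hQc]; exact Nat.pow_le_pow_right (by norm_num) hk)
    rw [hE]; exact gS
  have hk1 : k = 1 := by
    rcases Nat.eq_zero_or_pos k with rfl | h
    · exact absurd (Subgroup.card_eq_one.1 (by simpa using hQc)) hQne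
    · omega
  rw [hk1, pow_one] at hQc
  haveI : Nontrivial ↥Q := Finite.one_lt_card_iff_nontrivial.1 (by omega)
  obtain ⟨⟨z, hz⟩, hz1⟩ := exists_ne (1 : ↥Q)
  have hz1' : z ≠ 1 := fun e => hz1 (Subtype.ext e)
  have hQz : ∀ w, w ∈ Q → w ≠ 1 → Q = Subgroup.zpowers w := by
    intro w hw hw1
    refine (Subgroup.eq_of_le_of_card_ge ((Subgroup.zpowers_le).2 hw) ?_).symm
    rw [hQc, Nat.card_zpowers]
    have hd : orderOf (⟨w, hw⟩ : ↥Q) ∣ Nat.card Q := orderOf_dvd_natCard _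
    rw [hQc, Subgroup.orderOf_mk] at hd
    rcases (Nat.dvd_prime (by norm_num)).1 hd with e | e
    · exact absurd (orderOf_eq_one_iff.1 e) hw1
    · omega
  obtain ⟨i, hi, j, hj, rfl⟩ := mem_closure_pair ha hb hc (hle hz)
  rcases Nat.eq_zero_or_pos i with rfl | hi0
  · rw [pow_zero, one_mul] at hz hz1'
    obtain ⟨e, -, he⟩ : ∃ e < 7, j * e % 7 = 1 := by
      have : ∀ r < 7, r ≠ 0 → ∃ e < 7, r * e % 7 = 1 := by decide
      exact this j hj (fun h => hz1' (by rw [h, pow_zero]))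
    have hbQ : b ∈ Q := by
      have := Subgroup.pow_mem _ hz e
      rwa [← pow_mul, pow_eq_pow_mod (j * e) hb, he, pow_one] at this
    rw [hQz b hbQ fun h => hab 0 (by norm_num) (by rw [pow_zero, h])]
    exact gb
  obtain ⟨e, -, he⟩ : ∃ e < 7, i * e % 7 = 1 := by
    have : ∀ r < 7, r ≠ 0 → ∃ e < 7, r * e % 7 = 1 := by decide
    exact this i hi (by omega)
  have hw : a * b ^ (j * e % 7) ∈ Q := by
    have := Subgroup.pow_mem _ hz e
    rwa [(hc.pow_pow i j).mul_pow, ← pow_mul, ← pow_mul, pow_eq_pow_mod (i * e) ha, he, pow_one,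
      pow_eq_pow_mod (j * e) hb] at this
  have hwne : a * b ^ (j * e % 7) ≠ 1 := by
    intro h
    have h2 : a ^ 1 * b ^ (j * e % 7) = a ^ 0 * b ^ 0 := by simpa using h
    exact absurd (pair_inj ha hb ha1 hab (by norm_num) (Nat.mod_lt _ (by norm_num)) (by norm_num)
      (by norm_num) h2).1 (by norm_num)
  rw [hQz _ hw hwne]
  have step : ∀ t, Good (Subgroup.zpowers (a * b ^ t)) → Good (Subgroup.zpowers (a * b ^ (2 * t % 7))) := by
    intro t ht
    have := hconj n _ ht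
    rwa [MonoidHom.map_zpowers, show (MulAut.conj n).toMonoidHom (a * b ^ t) =
        (n * a * n⁻¹) * (n * b * n⁻¹) ^ t by rw [conj_pow]; simp [mul_assoc],
      hna, mul_inv_cancel_right, hnb, mul_inv_cancel_right, ← pow_mul, pow_eq_pow_mod (2 * t) hb] at this
  have g1' : Good (Subgroup.zpowers (a * b ^ 1)) := by rwa [pow_one]
  have g2 := step 1 g1'
  have g4 := step 2 g2
  have g6 := step 3 g3
  have g5 := step 6 g6
  generalize hr : j * e % 7 = r
  have hr7 : r < 7 := hr ▸ Nat.mod_lt _ (by norm_num)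
  interval_cases r
  · rwa [pow_zero, mul_one]
  all_goals assumption

/-- **The reduction.** -/
theorem reduce (Good : Subgroup G → Prop)
    (hconj : ∀ g P, Good P → Good (Subgroup.map (MulAut.conj g).toMonoidHom P))
    (hcard : ∃ m, Nat.card G = 7 ^ 2 * 11 * 13 * 17 * 19 * m ∧ ∀ p, p.Prime → 5 < p → ¬ p ∣ m)
    (h11 : ∃ x : G, orderOf x = 11 ∧ Good (Subgroup.zpowers x))
    (h13 : ∃ x : G, orderOf x = 13 ∧ Good (Subgroup.zpowers x))
    (h17 : ∃ x : G, orderOf x = 17 ∧ Good (Subgroup.zpowers x))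
    (h19 : ∃ x : G, orderOf x = 19 ∧ Good (Subgroup.zpowers x))
    (a b n : G) (ha : a ^ 7 = 1) (hb : b ^ 7 = 1) (hc : Commute a b) (ha1 : a ≠ 1)
    (hab : ∀ i < 7, a ^ i ≠ b) (hna : n * a = a * n) (hnb : n * b = b ^ 2 * n)
    (g0 : Good (Subgroup.zpowers a)) (gb : Good (Subgroup.zpowers b))
    (g1 : Good (Subgroup.zpowers (a * b))) (g3 : Good (Subgroup.zpowers (a * b ^ 3)))
    (gS : Good (Subgroup.closure {a, b})) :
    ∀ p : ℕ, p.Prime → 5 < p → ∀ P : Subgroup G, IsPGroup p P → P ≠ ⊥ → Good P := by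
  obtain ⟨m, hm, hfree⟩ := hcard
  intro p hp h5 P hP hne
  haveI : Fact p.Prime := ⟨hp⟩
  obtain ⟨k, hk⟩ := IsPGroup.iff_card.1 hP
  have hk1 : 1 ≤ k := by
    rcases Nat.eq_zero_or_pos k with rfl | h
    · exact absurd (Subgroup.card_eq_one.1 (by simpa using hk)) hne
    · exact h
  have hdvdP : p ∣ Nat.card P := by rw [hk]; exact dvd_pow_self p (by omega)
  have hdvd : p ∣ Nat.card G := hdvdP.trans P.card_subgroup_dvd_card
  rw [hm] at hdvd
  have hcases : p = 7 ∨ p = 11 ∨ p = 13 ∨ p = 17 ∨ p = 19 := by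
    rcases (Nat.Prime.dvd_mul hp).1 hdvd with h | h
    swap
    · exact absurd h (hfree p hp h5)
    rcases (Nat.Prime.dvd_mul hp).1 h with h | h
    swap
    · exact Or.inr (Or.inr (Or.inr (Or.inr ((Nat.prime_dvd_prime_iff_eq hp (by norm_num)).1 h))))
    rcases (Nat.Prime.dvd_mul hp).1 h with h | h
    swap
    · exact Or.inr (Or.inr (Or.inr (Or.inl ((Nat.prime_dvd_prime_iff_eq hp (by norm_num)).1 h))))
    rcases (Nat.Prime.dvd_mul hp).1 h with h | h
    swap
    · exact Or.inr (Or.inr (Or.inl ((Nat.prime_dvd_prime_iff_eq hp (by norm_num)).1 h)))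
    rcases (Nat.Prime.dvd_mul hp).1 h with h | h
    swap
    · exact Or.inr (Or.inl ((Nat.prime_dvd_prime_iff_eq hp (by norm_num)).1 h))
    exact Or.inl ((Nat.prime_dvd_prime_iff_eq hp (by norm_num)).1 (hp.dvd_of_dvd_pow h))
  have h1 : ∀ q : ℕ, q.Prime → 5 < q → q ≠ 7 → (q = 11 ∨ q = 13 ∨ q = 17 ∨ q = 19) →
      ¬ q ^ 2 ∣ Nat.card G := by
    intro q hq h5q _ hq' hd
    rw [hm] at hd
    obtain ⟨r, hr, hco⟩ : ∃ r, 7 ^ 2 * 11 * 13 * 17 * 19 * m = q * (r * m) ∧ ¬ q ∣ r := by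
      rcases hq' with rfl | rfl | rfl | rfl
      · exact ⟨7 ^ 2 * 13 * 17 * 19, by ring, by norm_num⟩
      · exact ⟨7 ^ 2 * 11 * 17 * 19, by ring, by norm_num⟩
      · exact ⟨7 ^ 2 * 11 * 13 * 19, by ring, by norm_num⟩
      · exact ⟨7 ^ 2 * 11 * 13 * 17, by ring, by norm_num⟩
    rw [hr, pow_two] at hd
    rcases (Nat.Prime.dvd_mul hq).1 (Nat.dvd_of_mul_dvd_mul_left hq.pos hd) with h | h
    · exact hco h
    · exact hfree q hq h5q h
  rcases hcases with rfl | rfl | rfl | rfl | rfl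
  · refine good_seven hconj (fun hd => ?_) ha hb hc ha1 hab hna hnb g0 gb g1 g3 gS hP hne
    rw [hm, show 7 ^ 2 * 11 * 13 * 17 * 19 * m = 7 ^ 2 * (11 * 13 * 17 * 19 * m) by ring,
      show (7 : ℕ) ^ 3 = 7 ^ 2 * 7 by norm_num] at hd
    rcases (Nat.Prime.dvd_mul hp).1 (Nat.dvd_of_mul_dvd_mul_left (by norm_num) hd) with h | h
    · norm_num at h
    · exact hfree 7 hp h5 h
  · obtain ⟨x, hx, hg⟩ := h11
    exact good_cyclic hconj (h1 11 hp h5 (by norm_num) (by norm_num)) hx hg hP hne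
  · obtain ⟨x, hx, hg⟩ := h13
    exact good_cyclic hconj (h1 13 hp h5 (by norm_num) (by norm_num)) hx hg hP hne
  · obtain ⟨x, hx, hg⟩ := h17
    exact good_cyclic hconj (h1 17 hp h5 (by norm_num) (by norm_num)) hx hg hP hne
  · obtain ⟨x, hx, hg⟩ := h19
    exact good_cyclic hconj (h1 19 hp h5 (by norm_num) (by norm_num)) hx hg hP hne

/-- The order of the twisted group of type E6 over the field with four elements. -/
theorem card_twistedE6 {K : Type*} [Field K] [Fintype K] (hK : Fintype.card K = 4) :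
    ∃ m, Nat.card ↥(Cfsg.Lie.twistedE6 K 2) = 7 ^ 2 * 11 * 13 * 17 * 19 * m ∧
      ∀ p, p.Prime → 5 < p → ¬ p ∣ m := by
  have h := H52.e6t_card (K := K) (q := 2) Nat.prime_two.isPrimePow (by rw [hK]; rfl)
  refine ⟨2 ^ 36 * 3 ^ 9 * 5 ^ 2, ?_, fun p hp h5 hd => ?_⟩
  · norm_num at h ⊢
    omega
  · rcases (Nat.Prime.dvd_mul hp).1 hd with hd | hd
    · rcases (Nat.Prime.dvd_mul hp).1 hd with hd | hd
      · have := (Nat.prime_dvd_prime_iff_eq hp Nat.prime_two).1 (hp.dvd_of_dvd_pow hd); omega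
      · have := (Nat.prime_dvd_prime_iff_eq hp Nat.prime_three).1 (hp.dvd_of_dvd_pow hd); omega
    · have := (Nat.prime_dvd_prime_iff_eq hp Nat.prime_five).1 (hp.dvd_of_dvd_pow hd); omega

end H52.E6MaxReduce
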