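import Cfsg.Agent.H52.F4WeylData
import Cfsg.Agent.H53.ChevWeyl

/-!
The elements of the Weyl group of type F4 have eighth or sixth power one, or sixth power `-1`.
-/

set_option autoImplicit false
set_option maxRecDepth 100000

namespace H52.F4W

open Cfsg.Lie H53

/-- The image of a root under a coded permutation. -/
def img (c r : ℕ) : ℕ := c / 64 ^ r % 64

/-- Equal as functions on the roots. -/
def same (f g : ℕ → ℕ) : Bool := (List.range 48).all fun r => f r == g r

/-- The code of a composition. -/
def comp (a c : ℕ) : ℕ := (List.range 48).foldr (fun r acc => img a (img c r) + 64 * acc) 0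

/-- The check at one element. -/
def okAt (i : ℕ) : Bool :=
  let p := table.get i
  (List.range 4).all (fun g => decide (p.2.getD g 0 < 1152) &&
      comp (gens.getD g 0) p.1 == (table.get (p.2.getD g 0)).1) &&
    ((List.range 48).all (fun r => (img p.1)^[8] r == r) ||
      ((List.range 48).all (fun r => (img p.1)^[6] r == r) ||
        (List.range 48).all (fun r => (img p.1)^[6] r == 47 - r)))

/-- The check on a range. -/
def okFrom (a : ℕ) : Bool := (List.range' a 96).all okAt

theorem ok0 : okFrom 0 = true := by decide +kernel
theorem ok1 : okFrom 96 = true := by decide +kernel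
theorem ok2 : okFrom 192 = true := by decide +kernel
theorem ok3 : okFrom 288 = true := by decide +kernel
theorem ok4 : okFrom 384 = true := by decide +kernel
theorem ok5 : okFrom 480 = true := by decide +kernel
theorem ok6 : okFrom 576 = true := by decide +kernel
theorem ok7 : okFrom 672 = true := by decide +kernel
theorem ok8 : okFrom 768 = true := by decide +kernel
theorem ok9 : okFrom 864 = true := by decide +kernel
theorem ok10 : okFrom 960 = true := by decide +kernel
theorem ok11 : okFrom 1056 = true := by decide +kernel

theorem ok_all {i : ℕ} (h : i < 1152) : okAt i = true := by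
  have key : ∀ a, okFrom a = true → a ≤ i → i < a + 96 → okAt i = true := fun a ha h1 h2 =>
    List.all_eq_true.1 ha i (List.mem_range'_1.2 ⟨h1, h2⟩)
  rcases (show i / 96 = 0 ∨ i / 96 = 1 ∨ i / 96 = 2 ∨ i / 96 = 3 ∨ i / 96 = 4 ∨ i / 96 = 5 ∨ i / 96 = 6 ∨
      i / 96 = 7 ∨ i / 96 = 8 ∨ i / 96 = 9 ∨ i / 96 = 10 ∨ i / 96 = 11 by omega) with
    e | e | e | e | e | e | e | e | e | e | e | e
  exacts [key _ ok0 (by omega) (by omega), key _ ok1 (by omega) (by omega), key _ ok2 (by omega) (by omega),
    key _ ok3 (by omega) (by omega), key _ ok4 (by omega) (by omega), key _ ok5 (by omega) (by omega),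
    key _ ok6 (by omega) (by omega), key _ ok7 (by omega) (by omega), key _ ok8 (by omega) (by omega),
    key _ ok9 (by omega) (by omega), key _ ok10 (by omega) (by omega), key _ ok11 (by omega) (by omega)]

theorem gens_eq : ∀ g : Fin 4, ∀ r : Fin 48, img (gens.getD g.val 0) r.val = chevF4.reflectRoot g.val r.val := by
  decide +kernel

theorem start : ∀ r : Fin 48, img (table.get 0).1 r.val = r.val := by decide +kernel

theorem img_comp (a c : ℕ) :
    ∀ r < 48, img (comp a c) r = img a (img c r) := by
  have key : ∀ (n : ℕ) (f : ℕ → ℕ), (∀ r, f r < 64) → ∀ r < n,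
      ((List.range n).foldr (fun r acc => f r + 64 * acc) 0) / 64 ^ r % 64 = f r := by
    intro n
    induction n with
    | zero => intro f _ r hr; omega
    | succ n ih =>
      intro f hf r hr
      rw [List.range_succ_eq_map, List.foldr_cons, List.foldr_map]
      rcases r with _ | r
      · simp [Nat.mod_eq_of_lt (hf 0)]
      · rw [pow_succ', ← Nat.div_div_eq_div_mul, Nat.add_mul_div_left _ _ (by norm_num : 0 < 64),
          Nat.div_eq_of_lt (hf 0), zero_add]
        exact ih (fun r => f (r + 1)) (fun r => hf _) r (by omega)
  intro r hr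
  exact key 48 (fun r => img a (img c r)) (fun r => Nat.mod_lt _ (by norm_num)) r hr

end H52.F4W
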