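import Cfsg.Agent.H52.TorusFusion
import Cfsg.Agent.H52.F4WeylCheck
import Cfsg.Agent.H54.ChevBaseChange
import Cfsg.Agent.H52.OrderF4

/-!
Alternating sections of the groups of type F4: over a field containing enough roots of unity the
Sylow subgroups for the primes 5, 7, 11 lie in the split torus, whose normaliser acts through the
Weyl group.
-/

set_option autoImplicit false
set_option linter.unusedSectionVars false
set_option maxRecDepth 8000

namespace H52.F4Alt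

open Cfsg.Lie H52 H53

theorem weyl_cases (C : H54.Ctx chevF4) {π : Equiv.Perm (Fin chevF4.nroots)}
    (hπ : π ∈ Subgroup.closure (Set.range C.W.sigma)) :
    (∀ r, (π ^ 8) r = r) ∨ (∀ r, (π ^ 6) r = r) ∨ (∀ r, ((π ^ 6) r).val = 47 - r.val) := by
  let P : Equiv.Perm (Fin chevF4.nroots) → Prop := fun π =>
    ∃ i < 1152, ∀ r : Fin chevF4.nroots, (π r).val = F4W.img (F4W.table.get i).1 r.val
  have step : ∀ (g : Fin chevF4.rank) π, P π → P (C.W.sigma g * π) := by
    rintro g π ⟨i, hi, h⟩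
    have hok := F4W.ok_all hi
    simp only [F4W.okAt, Bool.and_eq_true, List.all_eq_true, List.mem_range, decide_eq_true_eq,
      beq_iff_eq] at hok
    obtain ⟨h1, h3⟩ := hok.1 g.val g.isLt
    refine ⟨_, h1, fun r => ?_⟩
    rw [← h3, F4W.img_comp _ _ r.val r.isLt, ← h r, Equiv.Perm.mul_apply, C.sigma_val]
    exact (F4W.gens_eq g (π r)).symm
  have hP : P π := by
    refine Subgroup.closure_induction_left (p := fun x _ => P x) ?_ ?_ ?_ hπ
    · exact ⟨0, by norm_num, fun r => (F4W.start r).symm⟩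
    · rintro _ ⟨g, rfl⟩ y _ hy
      exact step g y hy
    · rintro _ ⟨g, rfl⟩ y _ hy
      have e : (C.W.sigma g)⁻¹ = C.W.sigma g := by
        refine Equiv.ext fun r => ?_
        rw [Equiv.Perm.inv_def, Equiv.symm_apply_eq]
        exact ((C.axioms (F := ℚ)).sigma_sigma g r).symm
      rw [e]
      exact step g y hy
  obtain ⟨i, hi, h⟩ := hP
  have hit : ∀ (e : ℕ) (r : Fin chevF4.nroots), ((π ^ e) r).val = (F4W.img (F4W.table.get i).1)^[e] r.val := by
    intro e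
    induction e with
    | zero => intro r; simp
    | succ e ih => intro r; rw [pow_succ', Equiv.Perm.mul_apply, h, ih, Function.iterate_succ_apply']
  have hok := F4W.ok_all hi
  simp only [F4W.okAt, Bool.and_eq_true, Bool.or_eq_true, List.all_eq_true, List.mem_range,
    beq_iff_eq] at hok
  rcases hok.2 with h8 | h6 | h6
  · exact Or.inl fun r => Fin.ext ((hit 8 r).trans (h8 r.val r.isLt))
  · exact Or.inr (Or.inl fun r => Fin.ext ((hit 6 r).trans (h6 r.val r.isLt)))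
  · exact Or.inr (Or.inr fun r => (hit 6 r).trans (h6 r.val r.isLt))

theorem cartan_neg : ∀ (i : Fin chevF4.rank) (r : Fin chevF4.nroots),
    chevF4.cartan i.val (47 - r.val) = - chevF4.cartan i.val r.val := by decide +kernel

variable (C : H54.Ctx chevF4) {K : Type*} [Field K]

/-- The three possibilities for a monomial element. -/
theorem mono_cases {n : ↥(chevF4.group K)} (hn : n ∈ TorFus.N0 C K) :
    (∀ t ∈ TorFus.T0 C K, n ^ 24 * t * (n ^ 24)⁻¹ = t) ∧
    ((∀ t ∈ TorFus.T0 C K, n ^ 8 * t * (n ^ 8)⁻¹ = t) ∨ (∀ t ∈ TorFus.T0 C K, n ^ 6 * t * (n ^ 6)⁻¹ = t) ∨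
      (∀ t ∈ TorFus.T0 C K, n ^ 6 * t * (n ^ 6)⁻¹ = t⁻¹)) := by
  obtain ⟨π, hπ, hl⟩ := TorFus.exists_lin C hn
  have fixC : ∀ e : ℕ, (∀ r, (π ^ e) r = r) → ∀ t ∈ TorFus.T0 C K, n ^ e * t * (n ^ e)⁻¹ = t := by
    intro e he t ht
    have := TorFus.act_torus C (hl.pow C e) 1 (fun c r => by rw [he r, zpow_one]) t ht
    rwa [zpow_one] at this
  rcases weyl_cases C hπ with h | h | h
  · exact ⟨fixC 24 fun r => by rw [show 24 = 8 + (8 + 8) from rfl, pow_add, pow_add]; simp [Equiv.Perm.mul_apply, h],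
      Or.inl (fixC 8 h)⟩
  · exact ⟨fixC 24 fun r => by rw [show 24 = 6 + (6 + (6 + 6)) from rfl, pow_add, pow_add, pow_add]; simp [Equiv.Perm.mul_apply, h],
      Or.inr (Or.inl (fixC 6 h))⟩
  · have h12 : ∀ r, (π ^ 12) r = r := fun r => Fin.ext (by
      rw [show (12 : ℕ) = 6 + 6 from rfl, pow_add, Equiv.Perm.mul_apply, h, h]
      have h48 : r.val < 48 := r.isLt
      omega)
    refine ⟨fixC 24 fun r => by rw [show 24 = 12 + 12 from rfl, pow_add, Equiv.Perm.mul_apply, h12, h12],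
      Or.inr (Or.inr fun t ht => ?_)⟩
    have := TorFus.act_torus C (hl.pow C 6) (-1) (fun c r => ?_) t ht
    · rwa [zpow_neg_one] at this
    · rw [zpow_neg_one, eq_inv_iff_mul_eq_one, h r]
      simp only [H76.Exc.chi, ← Finset.prod_mul_distrib]
      exact Finset.prod_eq_one fun i _ => by rw [cartan_neg i r, ← zpow_add, add_neg_cancel, zpow_zero]

theorem index_T0 [Fintype K] {ℓ : ℕ} (hℓ : ℓ.Prime) (h1 : Fintype.card K % ℓ = 1) (h5 : 5 ≤ ℓ) :
    ¬ ℓ ∣ (TorFus.T0 C K).index := by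
  classical
  set q := Fintype.card K with hq
  have hq2 : 1 < q := Fintype.one_lt_card
  have hcard : Nat.card ↥(chevF4.group K) = q ^ (chevF4.nroots / 2) *
      (([2, 6, 8, 12] : List ℕ).map fun e => q ^ e - 1).prod := by
    have := f4_card (F := K) divisorsF4
    rwa [Finset.prod_eq_one (fun i _ => by fin_cases i <;> exact Nat.gcd_one_right _), one_mul] at this
  have hT : Nat.card ↥(TorFus.T0 C K) = (q - 1) ^ 4 := by
    have h := C.hC.card_diagonal (F := K) divisorsF4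
    rw [show Nat.card ↥(TorFus.T0 C K) = Nat.card ↥(chevF4.diagonalSubgroup K) by
      rw [← map_Hsub C.hC C.W, Subgroup.card_map_of_injective Subtype.val_injective]]
    rwa [Finset.prod_eq_one (fun i _ => by fin_cases i <;> exact Nat.gcd_one_right _), one_mul] at h
  have hgeom : ∀ e : ℕ, q ^ e - 1 = (q - 1) * ∑ i ∈ Finset.range e, q ^ i := fun e => by
    obtain ⟨d, hd⟩ : ∃ d, q = d + 1 := ⟨q - 1, by omega⟩
    refine Nat.sub_eq_of_eq_add ?_
    rw [hd, Nat.add_sub_cancel]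
    induction e with
    | zero => simp
    | succ e ih => rw [Finset.sum_range_succ, pow_succ]; linear_combination ih
  have hidx : (TorFus.T0 C K).index = q ^ 24 * ((∑ i ∈ Finset.range 2, q ^ i) * ((∑ i ∈ Finset.range 6, q ^ i) *
      ((∑ i ∈ Finset.range 8, q ^ i) * ∑ i ∈ Finset.range 12, q ^ i))) := by
    refine Nat.eq_of_mul_eq_mul_left (show 0 < (q - 1) ^ 4 from pow_pos (by omega) 4) ?_
    rw [← hT, Subgroup.card_mul_index, hcard, hT, show chevF4.nroots / 2 = 24 from rfl]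
    simp only [List.map_cons, List.map_nil, List.prod_cons, List.prod_nil, mul_one, hgeom]
    ring
  rw [hidx]
  have hsum : ∀ e : ℕ, (∑ i ∈ Finset.range e, q ^ i) % ℓ = e % ℓ := fun e => by
    rw [Finset.sum_nat_mod, Finset.sum_congr rfl (g := fun _ => 1) (fun i _ => by rw [Nat.pow_mod, h1, one_pow, Nat.mod_eq_of_lt hℓ.one_lt]),
      Finset.sum_const, Finset.card_range, smul_eq_mul, mul_one]
  intro hd
  have hne : ∀ e : ℕ, (e = 2 ∨ e = 6 ∨ e = 8 ∨ e = 12) → ¬ ℓ ∣ ∑ i ∈ Finset.range e, q ^ i := fun e he h => by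
    have h' : ℓ ∣ e := by
      rw [Nat.dvd_iff_mod_eq_zero, ← hsum, ← Nat.dvd_iff_mod_eq_zero]
      exact h
    have h24 : ℓ ∣ 2 ^ 3 * 3 := h'.trans (by rcases he with rfl | rfl | rfl | rfl <;> norm_num)
    rcases hℓ.dvd_mul.1 h24 with h | h
    · have := Nat.le_of_dvd (by norm_num) (hℓ.dvd_of_dvd_pow h); omega
    · have := Nat.le_of_dvd (by norm_num) h; omega
  rcases hℓ.dvd_mul.1 hd with h | h
  · have := hℓ.dvd_of_dvd_pow h
    rw [Nat.dvd_iff_mod_eq_zero, h1] at this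
    exact one_ne_zero this
  rcases hℓ.dvd_mul.1 h with h | h
  · exact hne 2 (by simp) h
  rcases hℓ.dvd_mul.1 h with h | h
  · exact hne 6 (by simp) h
  rcases hℓ.dvd_mul.1 h with h | h
  · exact hne 8 (by simp) h
  · exact hne 12 (by simp) h

/-- An element of order 11 conjugate to its cube. -/
theorem alt11 {r : ℕ} (hr : 11 ≤ r) :
    ∃ x g : ↥(alternatingGroup (Fin r)), x ^ 11 = 1 ∧ x ≠ 1 ∧ g * x * g⁻¹ = x ^ 3 := by
  let x0 : Equiv.Perm (Fin 11) := finRotate 11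
  let g0 : Equiv.Perm (Fin 11) :=
    { toFun := fun i => 3 * i, invFun := fun i => 4 * i, left_inv := by decide, right_inv := by decide }
  obtain ⟨h1, h2, h3, h4, h5⟩ : x0 ^ 11 = 1 ∧ x0 ≠ 1 ∧ g0 * x0 * g0⁻¹ = x0 ^ 3 ∧
      Equiv.Perm.sign x0 = 1 ∧ Equiv.Perm.sign g0 = 1 := by decide +kernel
  let f := Equiv.ofInjective (Fin.castLE hr) (Fin.castLE_injective hr)
  let e : Equiv.Perm (Fin 11) →* Equiv.Perm (Fin r) := Equiv.Perm.extendDomainHom f
  have hs : ∀ p : Equiv.Perm (Fin 11), Equiv.Perm.sign (e p) = Equiv.Perm.sign p := fun p =>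
    Equiv.Perm.sign_extendDomain p f
  have hinj : Function.Injective e := Equiv.Perm.extendDomainHom_injective f
  refine ⟨⟨e x0, (hs x0).trans h4⟩, ⟨e g0, (hs g0).trans h5⟩, Subtype.ext ?_, fun h => h2 (hinj ?_),
    Subtype.ext ?_⟩
  · simp only [SubgroupClass.coe_pow, OneMemClass.coe_one, ← map_pow, h1, map_one]
  · simpa using congrArg Subtype.val h
  · simp only [Subgroup.coe_mul, Subgroup.coe_inv, SubgroupClass.coe_pow, ← map_inv, ← map_mul, ← map_pow, h3]

/-- Commuting elements of orders 7 and 5, with an element cubing the first and squaring the second. -/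
theorem alt12 {r : ℕ} (hr : 12 ≤ r) :
    ∃ x y g : ↥(alternatingGroup (Fin r)), x ^ 7 = 1 ∧ x ≠ 1 ∧ y ^ 5 = 1 ∧ y ≠ 1 ∧ x * y = y * x ∧
      g * x * g⁻¹ = x ^ 3 ∧ g * y * g⁻¹ = y ^ 2 := by
  let x0 : Equiv.Perm (Fin 12) :=
    { toFun := ![1, 2, 3, 4, 5, 6, 0, 7, 8, 9, 10, 11], invFun := ![6, 0, 1, 2, 3, 4, 5, 7, 8, 9, 10, 11],
      left_inv := by decide, right_inv := by decide }
  let y0 : Equiv.Perm (Fin 12) :=
    { toFun := ![0, 1, 2, 3, 4, 5, 6, 8, 9, 10, 11, 7], invFun := ![0, 1, 2, 3, 4, 5, 6, 11, 7, 8, 9, 10],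
      left_inv := by decide, right_inv := by decide }
  let g0 : Equiv.Perm (Fin 12) :=
    { toFun := ![0, 3, 6, 2, 5, 1, 4, 7, 9, 11, 8, 10], invFun := ![0, 5, 3, 1, 6, 4, 2, 7, 10, 8, 11, 9],
      left_inv := by decide, right_inv := by decide }
  obtain ⟨h1, h2, h3, h4, h5, h6, h7, s1, s2, s3⟩ : x0 ^ 7 = 1 ∧ x0 ≠ 1 ∧ y0 ^ 5 = 1 ∧ y0 ≠ 1 ∧
      x0 * y0 = y0 * x0 ∧ g0 * x0 * g0⁻¹ = x0 ^ 3 ∧ g0 * y0 * g0⁻¹ = y0 ^ 2 ∧
      Equiv.Perm.sign x0 = 1 ∧ Equiv.Perm.sign y0 = 1 ∧ Equiv.Perm.sign g0 = 1 := by decide +kernel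
  let f := Equiv.ofInjective (Fin.castLE hr) (Fin.castLE_injective hr)
  let e : Equiv.Perm (Fin 12) →* Equiv.Perm (Fin r) := Equiv.Perm.extendDomainHom f
  have hs : ∀ p : Equiv.Perm (Fin 12), Equiv.Perm.sign (e p) = Equiv.Perm.sign p := fun p =>
    Equiv.Perm.sign_extendDomain p f
  have hinj : Function.Injective e := Equiv.Perm.extendDomainHom_injective f
  refine ⟨⟨e x0, (hs x0).trans s1⟩, ⟨e y0, (hs y0).trans s2⟩, ⟨e g0, (hs g0).trans s3⟩,
    Subtype.ext ?_, fun h => h2 (hinj ?_), Subtype.ext ?_, fun h => h4 (hinj ?_), Subtype.ext ?_,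
    Subtype.ext ?_, Subtype.ext ?_⟩
  · simp only [SubgroupClass.coe_pow, OneMemClass.coe_one, ← map_pow, h1, map_one]
  · simpa using congrArg Subtype.val h
  · simp only [SubgroupClass.coe_pow, OneMemClass.coe_one, ← map_pow, h3, map_one]
  · simpa using congrArg Subtype.val h
  · simp only [Subgroup.coe_mul, ← map_mul, h5]
  · simp only [Subgroup.coe_mul, Subgroup.coe_inv, SubgroupClass.coe_pow, ← map_inv, ← map_mul, ← map_pow, h6]
  · simp only [Subgroup.coe_mul, Subgroup.coe_inv, SubgroupClass.coe_pow, ← map_inv, ← map_mul, ← map_pow, h7]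

theorem pow_eq_self_absurd {G : Type*} [Group G] {x : G} {ℓ a : ℕ} (hℓ : ℓ.Prime) (hx : x ^ ℓ = 1)
    (hx1 : x ≠ 1) (h : x ^ a = 1) : ℓ ∣ a := by
  rw [← @orderOf_eq_prime _ _ x ℓ ⟨hℓ⟩ hx hx1]
  exact orderOf_dvd_of_pow_eq_one h

theorem sections {F : Type*} [Field F] [Fintype F] (p : ℕ) [Fact p.Prime] [CharP F p]
    (r : ℕ) (H : Subgroup ↥(chevF4.group F)) (N : Subgroup ↥H) [N.Normal]
    (h : Nonempty (↥H ⧸ N ≃* ↥(alternatingGroup (Fin r)))) :
    r ≤ 10 + (if p = 11 then 1 else 0) := by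
  classical
  by_contra hr
  obtain ⟨e⟩ := h
  obtain ⟨C⟩ := H54.exists_ctx (D := chevF4) (by simp)
  -- a field extension with enough roots of unity
  let L := FiniteField.Extension F p 60
  letI : Fintype L := Fintype.ofFinite L
  have hL : Fintype.card L = Fintype.card F ^ 60 := by
    rw [← Nat.card_eq_fintype_card, ← Nat.card_eq_fintype_card, FiniteField.natCard_extension]
  let f : F →+* L := algebraMap F L
  have hmod : ∀ ℓ : ℕ, ℓ.Prime → (ℓ - 1) ∣ 60 → ℓ ≠ p → Fintype.card L % ℓ = 1 := by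
    intro ℓ hℓ hd hne
    obtain ⟨n, hp, hn⟩ := FiniteField.card F p
    haveI := Fact.mk hℓ
    have hnd : ¬ ℓ ∣ Fintype.card F := fun h => hne ((Nat.prime_dvd_prime_iff_eq hℓ (Fact.out)).1 (hℓ.dvd_of_dvd_pow (hn ▸ h)))
    have h1 : ((Fintype.card F : ℕ) : ZMod ℓ) ^ 60 = 1 := by
      obtain ⟨k, hk⟩ := hd
      rw [hk, pow_mul, ZMod.pow_card_sub_one_eq_one (by rwa [Ne, ZMod.natCast_eq_zero_iff]), one_pow]
    rw [hL]
    have := (ZMod.natCast_eq_natCast_iff' (Fintype.card F ^ 60) 1 ℓ).1 (by push_cast; exact h1)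
    rwa [Nat.mod_eq_of_lt hℓ.one_lt] at this
  let ι : ↥(chevF4.group F) →* ↥(chevF4.group L) :=
    ((H54.glF chevF4 f).comp (chevF4.group F).subtype).codRestrict (chevF4.group L)
      fun g => C.glF_group_le f ⟨_, g.2, rfl⟩
  have hι : Function.Injective ι := fun a b e =>
    Subtype.ext (H54.glF_injective f (congrArg Subtype.val e))
  set M := H.map ι
  let φ : ↥M →* ↥(alternatingGroup (Fin r)) :=
    (e.toMonoidHom.comp (QuotientGroup.mk' N)).comp (H.equivMapOfInjective ι hι).symm.toMonoidHom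
  have hφ : Function.Surjective φ :=
    (e.surjective.comp (QuotientGroup.mk'_surjective N)).comp (H.equivMapOfInjective ι hι).symm.surjective
  have hexp : ∀ n ∈ TorFus.N0 C L, ∀ t ∈ TorFus.T0 C L, n ^ 24 * t * (n ^ 24)⁻¹ = t :=
    fun n hn => (mono_cases C hn).1
  by_cases hp : p = 11
  · rw [if_pos hp] at hr
    obtain ⟨x, y, g, hx, hx1, hy, hy1, hxy, hgx, hgy⟩ := alt12 (r := r) (by omega)
    haveI : Fact (Nat.Prime 7) := ⟨by norm_num⟩
    haveI : Fact (Nat.Prime 5) := ⟨by norm_num⟩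
    have i7 := index_T0 C (K := L) (ℓ := 7) (by norm_num) (hmod 7 (by norm_num) (by norm_num) (by omega)) (by norm_num)
    have i5 := index_T0 C (K := L) (ℓ := 5) (by norm_num) (hmod 5 (by norm_num) (by norm_num) (by omega)) (by norm_num)
    obtain ⟨n, hn, key⟩ := SecFus.lift (TorFus.T0_comm C) (TorFus.fusion C) hexp M φ hφ (ℓ₁ := 7) (ℓ₂ := 5)
      (by norm_num) i7 i5 (by norm_num) hx hy hxy hgx hgy
    have m7 : x ^ (3 ^ 8) = x ^ 2 := by
      rw [show 3 ^ 8 = 7 * 937 + 2 from rfl, pow_add, pow_mul, hx, one_pow, one_mul]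
    have m5 : y ^ (2 ^ 6) = y ^ 4 := by
      rw [show 2 ^ 6 = 5 * 12 + 4 from rfl, pow_add, pow_mul, hy, one_pow, one_mul]
    have n7 : x ^ (3 ^ 6) = x := by
      rw [show 3 ^ 6 = 7 * 104 + 1 from rfl, pow_add, pow_mul, hx, one_pow, one_mul, pow_one]
    rcases (mono_cases C hn).2 with h8 | h6 | h6
    · have := ((key 8).1 h8).1
      rw [m7, pow_two, mul_eq_left] at this
      exact hx1 this
    · have := ((key 6).1 h6).2
      rw [m5, pow_succ, mul_eq_right] at this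
      have := pow_eq_self_absurd (by norm_num : Nat.Prime 5) hy hy1 this
      norm_num at this
    · have := ((key 6).2 h6).1
      rw [n7, eq_inv_iff_mul_eq_one, ← pow_two] at this
      have := pow_eq_self_absurd (by norm_num : Nat.Prime 7) hx hx1 this
      norm_num at this
  · rw [if_neg hp] at hr
    obtain ⟨x, g, hx, hx1, hgx⟩ := alt11 (r := r) (by omega)
    haveI : Fact (Nat.Prime 11) := ⟨by norm_num⟩
    have i11 := index_T0 C (K := L) (ℓ := 11) (by norm_num) (hmod 11 (by norm_num) (by norm_num) (Ne.symm hp)) (by norm_num)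
    obtain ⟨ℓ, hℓ, hℓ1, hℓd, hℓp, hℓ5⟩ : ∃ ℓ : ℕ, ℓ.Prime ∧ 11 ≠ ℓ ∧ ℓ - 1 ∣ 60 ∧ ℓ ≠ p ∧ (ℓ = 5 ∨ ℓ = 7) := by
      by_cases h5 : p = 5
      · exact ⟨7, by norm_num, by norm_num, by norm_num, by omega, Or.inr rfl⟩
      · exact ⟨5, by norm_num, by norm_num, by norm_num, Ne.symm h5, Or.inl rfl⟩
    haveI := Fact.mk hℓ
    have iℓ := index_T0 C (K := L) hℓ (hmod ℓ hℓ hℓd hℓp) (by omega)
    obtain ⟨n, hn, key⟩ := SecFus.lift (TorFus.T0_comm C) (TorFus.fusion C) hexp M φ hφ (ℓ₁ := 11) (ℓ₂ := ℓ)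
      hℓ1 i11 iℓ (by rcases hℓ5 with rfl | rfl <;> norm_num) (x₂ := 1) hx (one_pow _) (Commute.one_right x)
      (k₂ := 1) hgx (by simp)
    have := ((key 24).1 (hexp n hn)).1
    rw [show 3 ^ 24 = 11 * 25675412407 + 4 from by norm_num] at this
    exact hx1 (by
      rw [pow_add, pow_mul, hx, one_pow, one_mul, pow_succ, mul_eq_right] at this
      have := pow_eq_self_absurd (by norm_num : Nat.Prime 11) hx hx1 this
      norm_num at this)

end H52.F4Alt
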