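import Cfsg.Agent.H52.F4Order

/-!
The exponent of a Sylow 2-subgroup of `²F₄(q)`: in `F₄` over characteristic 2 the positive unipotent group is
unitriangular for the height, which takes 23 values on the coordinates.
-/

set_option autoImplicit false
set_option linter.unusedSectionVars false

namespace H52.F4Ree

open Cfsg.Lie H53 H53.F4T Matrix

/-- The height of a root of `F₄`, shifted by 11. -/
def f4Hgt (s : ℕ) : ℕ :=
  ((11 : ℤ) + ((List.range 4).map fun j => tablesF4.co s j).sum).toNat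

/-- The height of a coordinate, shifted by 11. -/
def f4Lev : chevF4.Idx → ℕ := Sum.elim (fun _ => 11) (fun s => f4Hgt s.val)

theorem f4Lev_root : ∀ r : Fin chevF4.nroots, chevF4.nroots / 2 ≤ r.val →
    12 ≤ f4Hgt r.val ∧ f4Hgt (chevF4.negIdx.getD r.val 0) < 11 ∧
      ∀ e ∈ (chevF4.chain.getD r.val #[]).toList, ∀ q ∈ e.2.toList, f4Hgt e.1 < f4Hgt q.1 := by
  decide +kernel

theorem f4Hgt_lt : ∀ s : Fin chevF4.nroots, f4Hgt s.val < 23 := by decide +kernel

theorem f4Lev_lt : ∀ x : chevF4.Idx, f4Lev x < 23 := by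
  intro x
  rcases x with m | s
  · show 11 < 23
    norm_num
  · exact f4Hgt_lt s

variable {K : Type*} [Field K]

theorem f4_xMat_raises (r : Fin chevF4.nroots) (hr : chevF4.nroots / 2 ≤ r.val) (t : K) :
    Raises f4Lev 1 (chevF4.xMat K r t - 1) := by
  obtain ⟨h1, h2, h3⟩ := f4Lev_root r hr
  intro x y hxy
  rw [Matrix.sub_apply, sub_eq_zero, Matrix.one_apply]
  rcases y with i | s
  · rcases x with i' | u
    · simp [ChevalleyDatum.xMat]
    · simp only [f4Lev, Sum.elim_inl, Sum.elim_inr] at hxy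
      have hne : u ≠ r := by rintro rfl; omega
      simp [ChevalleyDatum.xMat, hne]
  · simp only [ChevalleyDatum.xMat, Matrix.of_apply]
    by_cases hs : s = r
    · subst hs
      rcases x with i' | u <;> simp
    · rw [if_neg hs]
      by_cases hn : s.val = chevF4.negIdx.getD r.val 0
      · rw [if_pos hn]
        rw [← hn] at h2
        rcases x with i' | u
        · simp only [f4Lev, Sum.elim_inl, Sum.elim_inr] at hxy
          omega
        · simp only [f4Lev, Sum.elim_inr] at hxy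
          have hne : u ≠ r := by rintro rfl; omega
          simp [hne]
      · rw [if_neg hn]
        rcases x with i' | u
        · simp
        · simp only [f4Lev, Sum.elim_inr] at hxy
          suffices chevF4.chainCoeff r.val s.val u.val = [] by simp [this]
          rw [List.eq_nil_iff_forall_not_mem]
          intro km hkm
          simp only [ChevalleyDatum.chainCoeff, List.mem_flatMap, List.mem_filter, List.mem_map,
            decide_eq_true_eq] at hkm
          obtain ⟨e, ⟨he, hes⟩, q, ⟨hq, hqu⟩, -⟩ := hkm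
          have := h3 e he q.1 (List.fst_mem_of_mem_zipIdx hq)
          rw [hes, hqu] at this
          omega

theorem f4_pos_le_uni : chevF4.posUnipotent K ≤ uniGroup f4Lev K 1 := by
  rw [ChevalleyDatum.posUnipotent, Subgroup.closure_le]
  rintro g ⟨r, t, hr, hg⟩
  have hr2 : chevF4.nroots / 2 ≤ r := (checkedF4.isPosRoot_iff r).1 hr |>.1
  have key : ∀ t : K, Raises f4Lev 1 (chevF4.x K r t - 1) := fun t => by
    rw [ChevalleyDatum.x, dif_pos hr.1]
    exact f4_xMat_raises ⟨r, hr.1⟩ hr2 t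
  have hgr : g = rt chevF4 r t := Units.ext (hg.trans (checkedF4.coe_rt r t).symm)
  refine ⟨?_, ?_⟩
  · rw [hg]; exact key t
  · rw [hgr, checkedF4.rt_inv, checkedF4.coe_rt]; exact key _

theorem f4_pow_thirtytwo (h2 : (2 : K) = 0) {g : GL chevF4.Idx K} (hg : g ∈ chevF4.posUnipotent K) :
    g ^ 32 = 1 := by
  have : Fact (Nat.Prime 2) := ⟨Nat.prime_two⟩
  have : CharP K 2 := (CharP.charP_iff_prime_eq_zero Nat.prime_two).2 (by simpa using h2)
  have hz : ((g : Matrix chevF4.Idx chevF4.Idx K) - 1) ^ 32 = 0 :=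
    (((Raises.pow (f4_pos_le_uni hg).1 32)).mono (show 23 ≤ 32 by norm_num)).eq_zero f4Lev_lt
  have : Nonempty chevF4.Idx := ⟨Sum.inl ⟨0, by decide⟩⟩
  rw [show (32 : ℕ) = 2 ^ 5 from rfl, sub_pow_char_pow_of_commute (p := 2) 5 (Commute.one_right _), one_pow,
    sub_eq_zero] at hz
  apply Units.ext
  rw [Units.val_pow_eq_pow_val, Units.val_one]
  exact hz

variable [Fintype K] {m : ℕ}

theorem orderOf_two_elt (hK : Fintype.card K = 2 ^ (2 * m + 1)) (x : ↥(twistedF4 K (2 ^ m)))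
    (hx : ∃ j : ℕ, orderOf x = 2 ^ j) : orderOf x ≤ 32 := by
  classical
  have : Fact (Nat.Prime 2) := ⟨Nat.prime_two⟩
  revert x
  set G := twistedF4 K (2 ^ m) with hG
  intro x hx
  set U := (chevF4.posUnipotent K ⊓ G).subgroupOf G with hU
  have hUc : Nat.card U = (2 ^ (2 * m + 1)) ^ 12 := by
    rw [hU, ← card_U hK]
    exact Nat.card_congr (Subgroup.subgroupOfEquivOfLe
      (inf_le_right : chevF4.posUnipotent K ⊓ G ≤ G)).toEquiv
  set q := 2 ^ (2 * m + 1) with hq
  have hodd : ¬ 2 ∣ (q - 1) * (q ^ 3 + 1) * (q ^ 4 - 1) * (q ^ 6 + 1) := by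
    have h0 : 2 ∣ q := hq ▸ dvd_pow_self 2 (by omega)
    have hqp : 1 ≤ q := Nat.one_le_two_pow
    have hq4 : 1 ≤ q ^ 4 := Nat.one_le_pow _ _ hqp
    have h3 : 2 ∣ q ^ 3 := dvd_pow h0 (by norm_num)
    have h4 : 2 ∣ q ^ 4 := dvd_pow h0 (by norm_num)
    have h6 : 2 ∣ q ^ 6 := dvd_pow h0 (by norm_num)
    intro h
    rcases (Nat.Prime.dvd_mul Nat.prime_two).1 h with h | h
    · rcases (Nat.Prime.dvd_mul Nat.prime_two).1 h with h | h
      · rcases (Nat.Prime.dvd_mul Nat.prime_two).1 h with h | h <;> omega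
      · omega
    · omega
  have hUp : IsPGroup 2 U := IsPGroup.of_card (n := (2 * m + 1) * 12) (by rw [hUc, hq, ← pow_mul])
  obtain ⟨Q, hQ⟩ := hUp.exists_le_sylow
  have hQU : U = (Q : Subgroup ↥G) := by
    refine Subgroup.eq_of_le_of_card_ge hQ ?_
    obtain ⟨k, hk⟩ := Q.2.exists_card_eq
    have hd := Subgroup.card_subgroup_dvd_card (Q : Subgroup ↥G)
    rw [show Nat.card ↥G = _ from card_f4 hK, ← hq, hk,
      show q ^ 12 * (q - 1) * (q ^ 3 + 1) * (q ^ 4 - 1) * (q ^ 6 + 1) =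
        q ^ 12 * ((q - 1) * (q ^ 3 + 1) * (q ^ 4 - 1) * (q ^ 6 + 1)) by ring] at hd
    rw [hk, hUc]
    exact Nat.le_of_dvd (by positivity)
      (((Nat.prime_two.coprime_iff_not_dvd.2 hodd).pow_left k).dvd_of_dvd_mul_right hd)
  obtain ⟨j, hj⟩ := hx
  obtain ⟨P, hP⟩ := (IsPGroup.of_card (n := j) (by rw [Nat.card_zpowers, hj]) :
    IsPGroup 2 (Subgroup.zpowers x)).exists_le_sylow
  obtain ⟨g, hg⟩ := MulAction.exists_smul_eq ↥G Q P
  have hxP : x ∈ (g • Q : Sylow 2 ↥G) := hg ▸ hP (Subgroup.mem_zpowers x)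
  rw [Sylow.smul_def, ← SetLike.mem_coe] at hxP
  obtain ⟨y, hy, hyx⟩ : ∃ y ∈ (Q : Subgroup ↥G), g * y * g⁻¹ = x := by
    obtain ⟨y, hy, e⟩ := hxP
    exact ⟨y, hy, e⟩
  rw [← hQU] at hy
  have hy32 : y ^ 32 = 1 := Subtype.ext (by
    rw [SubmonoidClass.coe_pow, Subgroup.coe_one]
    exact f4_pow_thirtytwo (two_eq hK) (Subgroup.mem_inf.1 (Subgroup.mem_subgroupOf.1 hy)).1)
  exact Nat.le_of_dvd (by norm_num) (orderOf_dvd_of_pow_eq_one (by
    rw [← hyx, conj_pow, hy32, mul_one, mul_inv_cancel]))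

end H52.F4Ree
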