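import Mathlib

/-!
Counting fixed points of finite permutation groups.
-/

set_option autoImplicit false
set_option linter.unusedSectionVars false

namespace H52.TitsAct

open MulAction

variable {G : Type*} [Group G] [Finite G] {Ω : Type*} [Fintype Ω] [MulAction G Ω]

/-- The number of fixed points. -/
noncomputable def fixN (Ω : Type*) [MulAction G Ω] (g : G) : ℕ := Nat.card (fixedBy Ω g)

theorem fixN_conj {w y c : G} (h : w * y = c * w) : fixN Ω y = fixN Ω c := by
  refine Nat.card_congr (Equiv.subtypeEquiv (MulAction.toPerm w) fun p => ?_)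
  show y • p = p ↔ c • (w • p) = w • p
  rw [smul_smul, ← h, mul_smul]
  exact ⟨fun e => by rw [e], fun e => MulAction.injective w e⟩

theorem smul_pow_fix {g : G} {p : Ω} (h : g • p = p) (k : ℕ) : g ^ k • p = p := by
  induction k with
  | zero => simp
  | succ k ih => rw [pow_succ, mul_smul, h, ih]

theorem fixedBy_pow_eq {g : G} {k m : ℕ} (h : (g ^ k) ^ m = g) : fixedBy Ω (g ^ k) = fixedBy Ω g := by
  ext p
  refine ⟨fun e => ?_, fun e => smul_pow_fix e k⟩
  have := smul_pow_fix (show g ^ k • p = p from e) m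
  rw [h] at this
  exact this

theorem fixN_pow_eq {g : G} {k m : ℕ} (h : (g ^ k) ^ m = g) : fixN Ω (g ^ k) = fixN Ω g := by
  rw [fixN, fixN, fixedBy_pow_eq h]

theorem exists_pow_pow {g : G} {p k : ℕ} (hp : p.Prime) (hg : g ^ p = 1) (hk : ¬ p ∣ k) :
    ∃ m, (g ^ k) ^ m = g := by
  refine exists_pow_eq_self_of_coprime (Nat.Coprime.of_dvd_right (orderOf_dvd_of_pow_eq_one hg) ?_)
  exact ((Nat.Prime.coprime_iff_not_dvd hp).2 hk).symm

theorem fixN_pow {g : G} {p k : ℕ} (hp : p.Prime) (hg : g ^ p = 1) (hk : ¬ p ∣ k) :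
    fixN Ω (g ^ k) = fixN Ω g := by
  obtain ⟨m, hm⟩ := exists_pow_pow hp hg hk
  exact fixN_pow_eq hm

theorem fixN_lt [FaithfulSMul G Ω] {g : G} (hg : g ≠ 1) : fixN Ω g < Nat.card Ω := by
  refine lt_of_le_of_ne (Nat.card_le_card_of_injective _ Subtype.val_injective) fun e => hg ?_
  refine eq_of_smul_eq_smul (α := Ω) fun p => ?_
  rw [one_smul]
  obtain ⟨⟨q, hq⟩, rfl⟩ := (Subtype.val_injective.bijective_of_nat_card_le
    (f := (Subtype.val : fixedBy Ω g → Ω)) e.ge).2 p
  exact hq

theorem sum_fixN_dvd [Fintype G] : Nat.card G ∣ ∑ g : G, fixN Ω g := by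
  classical
  have : Fintype (Quotient (orbitRel G Ω)) := Fintype.ofFinite _
  refine ⟨Fintype.card (Quotient (orbitRel G Ω)), ?_⟩
  rw [Nat.card_eq_fintype_card, mul_comm, ← sum_card_fixedBy_eq_card_orbits_mul_card_group G Ω]
  exact Finset.sum_congr rfl fun g _ => Nat.card_eq_fintype_card

theorem sum_fixN_eq_sum_stab [Fintype G] :
    ∑ g : G, fixN Ω g = ∑ p : Ω, Nat.card (stabilizer G p) := by
  classical
  simp only [fixN, Nat.card_eq_fintype_card, Fintype.card_subtype]
  simp only [mem_fixedBy, mem_stabilizer_iff, Finset.card_filter]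
  exact Finset.sum_comm

/-- The sum of the fixed point counts when all nontrivial elements of a subgroup agree. -/
theorem sum_fixN_const (Q : Subgroup G) [Fintype Q] {f : ℕ} (hf : ∀ g ∈ Q, g ≠ 1 → fixN Ω g = f) :
    ∑ g : Q, fixN Ω g = Nat.card Ω + (Nat.card Q - 1) * f := by
  classical
  rw [Fintype.sum_eq_add_sum_compl (1 : Q)]
  congr 1
  · show Nat.card (fixedBy Ω (1 : Q)) = Nat.card Ω
    exact Nat.card_congr (Equiv.subtypeUnivEquiv fun p => one_smul Q p)
  · rw [Finset.sum_congr rfl (g := fun _ => f), Finset.sum_const, smul_eq_mul, Finset.card_compl,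
      Finset.card_singleton, Nat.card_eq_fintype_card]
    intro g hg
    have hg1 : (g : G) ≠ 1 := fun e => by
      simp only [Finset.mem_compl, Finset.mem_singleton] at hg
      exact hg (Subtype.ext e)
    exact hf g g.2 hg1

theorem burnside_dvd (Q : Subgroup G) {f : ℕ} (hf : ∀ g ∈ Q, g ≠ 1 → fixN Ω g = f) :
    Nat.card Q ∣ Nat.card Ω + (Nat.card Q - 1) * f := by
  have : Fintype Q := Fintype.ofFinite _
  rw [← sum_fixN_const Q hf]
  exact sum_fixN_dvd

theorem count_le (Q : Subgroup G) {f s : ℕ} (hf : ∀ g ∈ Q, g ≠ 1 → fixN Ω g = f)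
    (hs : ∀ p : Ω, Nat.card (stabilizer Q p) ≤ s) :
    Nat.card Ω + (Nat.card Q - 1) * f ≤ Nat.card Ω * s := by
  have : Fintype Q := Fintype.ofFinite _
  rw [← sum_fixN_const Q hf, sum_fixN_eq_sum_stab, Nat.card_eq_fintype_card (α := Ω)]
  calc ∑ p : Ω, Nat.card (stabilizer Q p) ≤ ∑ _p : Ω, s := Finset.sum_le_sum fun p _ => hs p
    _ = Fintype.card Ω * s := by simp

/-- An element of prime order is conjugate into a subgroup of index prime to that prime. -/
theorem exists_conj_mem {p : ℕ} (hp : p.Prime) (Q : Subgroup G) (hQ : ¬ p ∣ Q.index) {g : G}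
    (hg : g ^ p = 1) : ∃ w q : G, q ∈ Q ∧ w * q = g * w := by
  have : Fact p.Prime := ⟨hp⟩
  have hP : IsPGroup p (Subgroup.zpowers g) := by
    rintro ⟨x, hx⟩
    obtain ⟨i, rfl⟩ := hx
    refine ⟨1, Subtype.ext ?_⟩
    show (g ^ i) ^ (p ^ 1) = 1
    rw [pow_one, ← zpow_natCast, ← zpow_mul, mul_comm, zpow_mul, zpow_natCast, hg, one_zpow]
  obtain ⟨x, hx⟩ := hP.nonempty_fixed_point_of_prime_not_dvd_card (G ⧸ Q) hQ
  obtain ⟨w, rfl⟩ := QuotientGroup.mk_surjective x
  have h1 : ((g * w : G) : G ⧸ Q) = (w : G ⧸ Q) := hx ⟨g, Subgroup.mem_zpowers g⟩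
  exact ⟨w, w⁻¹ * (g * w), QuotientGroup.eq.1 h1.symm, mul_inv_cancel_left w (g * w)⟩

/-- A fixed point free element of prime order on the fixed points of another element. -/
theorem dvd_fixN {p : ℕ} (hp : p.Prime) {x t : G} {k : ℕ} (ht : t ^ p = 1) (hrel : t * x ^ k = x * t)
    (hfree : ∀ q : Ω, t • q ≠ q) : p ∣ fixN Ω x := by
  classical
  have : Fact p.Prime := ⟨hp⟩
  have hmap : ∀ q : Ω, x • q = q → x • (t • q) = t • q := fun q e => by
    rw [smul_smul, ← hrel, mul_smul, smul_pow_fix e k]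
  have hmem : ∀ q : Ω, q ∈ fixedBy Ω x ↔ MulAction.toPerm t q ∈ fixedBy Ω x := by
    intro q
    refine ⟨hmap q, fun e => ?_⟩
    have it : ∀ j : ℕ, t ^ j • (t • q) ∈ fixedBy Ω x := by
      intro j
      induction j with
      | zero => rw [pow_zero, one_smul]; exact e
      | succ j ih => rw [pow_succ', mul_smul]; exact hmap _ ih
    have := it (p - 1)
    rwa [smul_smul, ← pow_succ, Nat.sub_add_cancel hp.one_le, ht, one_smul] at this
  set σ : Equiv.Perm (fixedBy Ω x) := Equiv.subtypeEquiv (MulAction.toPerm t) hmem with hσ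
  have hpow : σ ^ p ^ 1 = 1 := by
    have : ∀ (j : ℕ) (q : fixedBy Ω x), ((σ ^ j) q : Ω) = t ^ j • (q : Ω) := by
      intro j
      induction j with
      | zero => intro q; simp
      | succ j ih => intro q; rw [pow_succ', Equiv.Perm.mul_apply, pow_succ', mul_smul, ← ih]; rfl
    refine Equiv.ext fun q => Subtype.ext ?_
    rw [this, pow_one, ht, one_smul]; rfl
  have hs : σ.supportᶜ = ∅ := by
    refine Finset.eq_empty_of_forall_notMem fun q hq => ?_
    rw [Finset.mem_compl, Equiv.Perm.notMem_support] at hq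
    exact hfree _ (congrArg Subtype.val hq)
  have := Equiv.Perm.card_compl_support_modEq hpow
  rw [hs, Finset.card_empty] at this
  rw [fixN, Nat.card_eq_fintype_card]
  exact Nat.modEq_zero_iff_dvd.1 this.symm

theorem card_stabilizer_mul [IsPretransitive G Ω] (q : Ω) :
    Nat.card (stabilizer G q) * Nat.card Ω = Nat.card G := by
  rw [← index_stabilizer_of_transitive G q, Subgroup.card_mul_index]

theorem two_trans_dvd (h : IsMultiplyPretransitive G Ω 2) (h2 : 2 ≤ Fintype.card Ω) :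
    Fintype.card Ω * (Fintype.card Ω - 1) ∣ Nat.card G := by
  obtain ⟨e⟩ : Nonempty (Fin 2 ↪ Ω) := Function.Embedding.nonempty_of_card_le (by simpa using h2)
  have : IsPretransitive G (Fin 2 ↪ Ω) := h
  refine ⟨Nat.card (stabilizer G e), ?_⟩
  rw [← card_stabilizer_mul (G := G) e, mul_comm]
  congr 1
  rw [Nat.card_eq_fintype_card, Fintype.card_embedding_eq, Fintype.card_fin]
  simp [Nat.descFactorial, mul_comm]

end H52.TitsAct
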