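import Cfsg.Agent.H52.F4UCoord
import Cfsg.Agent.H52.TitsAct

/-!
Every involution of the twisted group of type F4 is conjugate to a root element of one of the
two kinds of classes.
-/

set_option autoImplicit false
set_option linter.unusedSectionVars false
set_option linter.unusedVariables false
set_option linter.unusedSimpArgs false
set_option maxRecDepth 8000
set_option maxHeartbeats 1000000

namespace H52.F4N

open Cfsg.Lie H52 H53

variable {K : Type*} [Field K] {m : ℕ}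

/-- Conjugacy under the twisted group. -/
def Cj (m : ℕ) (g h : GL chevF4.Idx K) : Prop := ∃ x ∈ twistedF4 K (2 ^ m), x * g * x⁻¹ = h

theorem cj_refl (g : GL chevF4.Idx K) : Cj m g g := ⟨1, one_mem _, by group⟩

theorem Cj.trans {g h k : GL chevF4.Idx K} (h1 : Cj m g h) (h2 : Cj m h k) : Cj m g k := by
  obtain ⟨x, hx, rfl⟩ := h1
  obtain ⟨y, hy, rfl⟩ := h2
  exact ⟨y * x, mul_mem hy hx, by group⟩

theorem Cj.symm {g h : GL chevF4.Idx K} (h1 : Cj m g h) : Cj m h g := by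
  obtain ⟨x, hx, rfl⟩ := h1
  exact ⟨x⁻¹, inv_mem hx, by group⟩

theorem Cj.sq {g h : GL chevF4.Idx K} (h1 : Cj m g h) (hg : g * g = 1) : h * h = 1 := by
  obtain ⟨x, hx, rfl⟩ := h1
  rw [show x * g * x⁻¹ * (x * g * x⁻¹) = x * (g * g) * x⁻¹ by group, hg, mul_one, mul_inv_cancel]

theorem Cj.mem {g h : GL chevF4.Idx K} (h1 : Cj m g h) (hg : g ∈ twistedF4 K (2 ^ m)) :
    h ∈ twistedF4 K (2 ^ m) := by
  obtain ⟨x, hx, rfl⟩ := h1
  exact mul_mem (mul_mem hx hg) (inv_mem hx)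

/-- The first kind of involution. -/
noncomputable def repA (m : ℕ) (a : K) : GL chevF4.Idx K := el m { Pt.o K with t1 := a }

/-- The second kind of involution. -/
noncomputable def repZ (m : ℕ) (a : K) : GL chevF4.Idx K := el m { Pt.o K with u8 := a }

/-- Conjugate to a representative. -/
def Good (m : ℕ) (g : GL chevF4.Idx K) : Prop :=
  (∃ a : K, a ≠ 0 ∧ Cj m g (repA m a)) ∨ ∃ a : K, a ≠ 0 ∧ Cj m g (repZ m a)

theorem Good.of_cj {g h : GL chevF4.Idx K} (h1 : Cj m g h) (h2 : Good m h) : Good m g := by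
  rcases h2 with ⟨a, ha, hc⟩ | ⟨a, ha, hc⟩
  · exact Or.inl ⟨a, ha, h1.trans hc⟩
  · exact Or.inr ⟨a, ha, h1.trans hc⟩

theorem pos_evW (ρ : List K) (w : Wd)
    (hw : w.all (fun p => decide (chevF4.nroots / 2 ≤ p.1 ∧ p.1 < chevF4.nroots)) = true) :
    evW ρ w ∈ chevF4.posUnipotent K := by
  rw [checkedF4.posUnipotent_eq]
  refine H52.Checked.wordRt_mem _ _ fun q hq => ?_
  obtain ⟨a, ha, rfl⟩ := List.mem_map.1 hq
  obtain ⟨h1, h2⟩ := of_decide_eq_true (List.all_eq_true.1 hw a ha)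
  exact H52.Checked.rt_mem_upper h1 h2 _

theorem nil_eq : coords 1 [] = some (List.replicate 24 []) := by decide +kernel

variable [Fintype K] (hK : Fintype.card K = 2 ^ (2 * m + 1))
include hK

theorem sq_th_add (a b : K) : th m (a + b) ^ 2 = th m a ^ 2 + th m b ^ 2 := by
  rw [th_add hK]; linear_combination (th m a * th m b) * H32.FF.h2 hK

theorem sq_coords {p : Pt K} {Z : List ℕ} {L : List Pol} (hc : coords 3000 (kill Z sqW) = some L)
    (hZ : ∀ a ∈ Z, (env m p).getD a 0 = 0) (hsq : el m p * el m p = 1) :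
    ∀ i < 24, evP (env m p) (L.getD i []) = 0 := by
  intro i hi
  have e : evW (env m p) (kill Z sqW) = evW (env m p) [] := by
    rw [evW_kill _ _ hZ, evW_nil, sqW, evW_append]; exact hsq
  rw [coords_inj (H32.FF.h2 hK) _ hc nil_eq e i hi]
  rw [List.getD_eq_getElem?_getD, List.getElem?_replicate_of_lt hi]
  simp [evP]

theorem conj_step (p q : Pt K) {Z : List ℕ} {L : List Pol} (hc : coords 3000 (kill Z conjW) = some L)
    (hZ : ∀ a ∈ Z, (env m p ++ env m q).getD a 0 = 0) :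
    ∃ p', Cj m (el m p) (el m p') ∧
      ∀ i < 24, evP (env m p') (cPhiL.getD i []) = evP (env m p ++ env m q) (L.getD i []) := by
  have hpos : (el m q)⁻¹ * el m p * el m q ∈ chevF4.posUnipotent K :=
    mul_mem (mul_mem (inv_mem (el_pos q)) (el_pos p)) (el_pos q)
  obtain ⟨p', hp'⟩ := exists_pt hK hpos
    (mul_mem (mul_mem (inv_mem (el_mem hK q)) (el_mem hK p)) (el_mem hK q))
  refine ⟨p', ⟨(el m q)⁻¹, inv_mem (el_mem hK q), by rw [inv_inv]; exact hp'⟩, ?_⟩
  refine coords_inj (H32.FF.h2 hK) _ (ρ' := env m p ++ env m q) cPhi_eq hc ?_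
  rw [evW_kill _ _ hZ, ← el_inv_conj hK, hp']
  rfl

theorem cj_mapW {g : GL chevF4.Idx K} {ρ : List K} {w : Wd} (k : Fin 2)
    (hw : w.all (fun p => decide (p.1 < chevF4.nroots)) = true) (h : Cj m g (evW ρ w)) :
    Cj m g (evW ρ (mapW k w)) := by
  refine h.trans ⟨(F4T.mk K k : GL chevF4.Idx K), mk_mem' hK k, ?_⟩
  exact mk_conj_evW hK ρ k w fun p hp => of_decide_eq_true (List.all_eq_true.1 hw p hp)

theorem cj_kill (p : Pt K) {Z : List ℕ} (hZ : ∀ a ∈ Z, (env m p).getD a 0 = 0) :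
    Cj m (el m p) (evW (env m p) (kill Z (phiW 0))) := by
  rw [evW_kill _ _ hZ]; exact cj_refl _

theorem move (p : Pt K) {w : Wd} {L : List Pol} (h : Cj m (el m p) (evW (env m p) w))
    (hw : w.all (fun p => decide (chevF4.nroots / 2 ≤ p.1 ∧ p.1 < chevF4.nroots)) = true)
    (hc : coords 3000 w = some L) :
    ∃ p', Cj m (el m p) (el m p') ∧
      ∀ i < 24, evP (env m p') (cPhiL.getD i []) = evP (env m p) (L.getD i []) := by
  obtain ⟨p', hp'⟩ := exists_pt hK (pos_evW _ w hw) (h.mem (el_mem hK p))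
  exact ⟨p', hp' ▸ h, coords_inj (H32.FF.h2 hK) _ (ρ' := env m p) cPhi_eq hc hp'.symm⟩

theorem sq_free {p : Pt K} (hsq : el m p * el m p = 1) : p.t8 = 0 ∧ p.t1 * p.u8 = 0 := by
  have E := sq_coords hK (Z := []) cSq_eq (by simp) hsq
  have h := E 4 (by norm_num)
  simp [cSqL, evP, evM, env] at h
  have h8 : p.t8 = 0 := by
    rcases h with h | h
    · exact h
    · exact th_eq_zero.1 h
  refine ⟨h8, ?_⟩
  have E' := sq_coords hK (Z := [20, 21]) cSqT8_eq (by simp [env, h8, th_zero]) hsq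
  have h := E' 7 (by norm_num)
  simp [cSqT8L, evP, evM, env, th_eq_zero] at h
  rcases h with h | h <;> simp [h]

theorem caseII {p : Pt K} (h1 : p.t1 ≠ 0) (h8 : p.t8 = 0) (hu8 : p.u8 = 0)
    (hsq : el m p * el m p = 1) : Good m (el m p) := by
  have hT : th m p.t1 ≠ 0 := fun e => h1 (th_eq_zero.1 e)
  obtain ⟨p₁, hc₁, E⟩ := conj_step hK p { Pt.o K with t8 := p.t2 / p.t1 } cA_eq
    (by simp [allBut, List.range, List.range.loop, env, Pt.o, th_zero, h8, hu8])
  have a1 : p₁.t1 = p.t1 := by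
    simpa [cPhiL, cAL, evP, evM, env] using E 0 (by norm_num)
  have a8 : p₁.t8 = 0 := by
    simpa [cPhiL, cAL, evP, evM, env] using E 1 (by norm_num)
  have au8 : p₁.u8 = 0 := by
    simpa [cPhiL, cAL, evP, evM, env] using E 4 (by norm_num)
  have a2 : p₁.t2 = 0 := by
    have := E 2 (by norm_num)
    simp [cPhiL, cAL, evP, evM, env, Pt.o] at this
    rw [this]
    field_simp
    linear_combination p.t2 * H32.FF.h2 hK
  obtain ⟨p₂, hc₂, E₂⟩ := conj_step hK p₁ { Pt.o K with u8 := th m p₁.t4 / p₁.t1 } cB_eq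
    (by simp [allBut, List.range, List.range.loop, env, Pt.o, th_zero, a8, au8, a2])
  have b1 : p₂.t1 = p.t1 := by
    simpa [cPhiL, cBL, evP, evM, env, a1] using E₂ 0 (by norm_num)
  have b8 : p₂.t8 = 0 := by
    simpa [cPhiL, cBL, evP, evM, env] using E₂ 1 (by norm_num)
  have bu8 : p₂.u8 = 0 := by
    simpa [cPhiL, cBL, evP, evM, env] using E₂ 4 (by norm_num)
  have b2 : p₂.t2 = 0 := by
    simpa [cPhiL, cBL, evP, evM, env] using E₂ 2 (by norm_num)
  have b4 : p₂.t4 = 0 := by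
    have := E₂ 5 (by norm_num)
    simp [cPhiL, cBL, evP, evM, env, Pt.o, a1] at this
    refine (th_eq_zero (m := m)).1 ?_
    rw [this]
    field_simp
    linear_combination (th m p₁.t4) * H32.FF.h2 hK
  have hsq₂ : el m p₂ * el m p₂ = 1 := (hc₁.trans hc₂).sq hsq
  have S := sq_coords hK (Z := [2, 3, 8, 9, 20, 21, 22, 23]) cSqTwo_eq
    (by simp [env, th_zero, b2, b4, b8, bu8]) hsq₂
  have b6 : p₂.t6 = 0 := by
    have := S 12 (by norm_num)
    simpa [cSqTwoL, evP, evM, env, b1, h1, th_eq_zero] using this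
  have b7 : p₂.t7 = 0 := by
    have := S 14 (by norm_num)
    simpa [cSqTwoL, evP, evM, env, b1, h1, th_eq_zero, b6, th_zero] using this
  have bu6 : p₂.u6 = 0 := by
    have := S 20 (by norm_num)
    simpa [cSqTwoL, evP, evM, env, b1, hT, h1, th_eq_zero, b6, b7, th_zero] using this
  obtain ⟨s, hs⟩ := th_surjective hK (p₂.u2 / th m p₂.t1)
  set r := th m (p₂.t5 / p₂.t1) with hr
  have hr2 : th m r ^ 2 = p₂.t5 / p₂.t1 := by rw [hr, ← th_sq, th_th_sq hK]
  have h1' : p₂.t1 ≠ 0 := b1 ▸ h1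
  have hT' : th m p₂.t1 ≠ 0 := fun e => h1' (th_eq_zero.1 e)
  set v := (p₂.u4 + th m p₂.t1 * th m s * th m r + p₂.u2 * th m r) / th m p₂.t1 with hv
  obtain ⟨p₃, hc₃, E₃⟩ := conj_step hK p₂ { Pt.o K with t4 := s, u6 := v, t7 := r } cC_eq
    (by simp [allBut, List.range, List.range.loop, env, Pt.o, th_zero, b2, b4, b6, b7, b8, bu6, bu8])
  have h2 := H32.FF.h2 hK
  have e3 : el m p₃ = el m { Pt.o K with t1 := p₂.t1, t3 := p₂.t3 + r * th m p₂.t1 ^ 2 } := by
    refine eq_of_coords h2 cPhi_eq cPhi_eq fun i hi => ?_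
    rw [E₃ i hi]
    have k5 : p₂.t5 = th m r ^ 2 * p₂.t1 := by rw [hr2]; field_simp
    have k2 : p₂.u2 = th m s * th m p₂.t1 := by rw [hs]; field_simp
    have k4 : p₂.u4 + th m p₂.t1 * th m s * th m r + p₂.u2 * th m r = th m p₂.t1 * v := by
      rw [hv]; field_simp
    interval_cases i <;> simp [cPhiL, cCL, evP, evM, env, Pt.o, th_zero]
    · linear_combination k2 + (th m s * th m p₂.t1) * h2
    · rw [th_add hK, th_mul, th_th_sq hK]; ring
    · rw [k5, th_mul, th_th_sq hK]; linear_combination (r * th m p₂.t1) * h2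
    · rw [k2, th_mul, mul_pow, sq_th_th hK, sq_th_th hK]; linear_combination (s * p₂.t1) * h2
    · ring
    · linear_combination k4 + (th m p₂.t1 * v) * h2
    · linear_combination k5 + (th m r ^ 2 * p₂.t1) * h2
    · have k4' := congrArg (fun x => th m x ^ 2) k4
      simp only [th_mul, mul_pow, sq_th_add hK, sq_th_th hK] at k4'
      linear_combination k4' + (p₂.t1 * th m v ^ 2) * h2
  rw [e3] at hc₃
  set c := p₂.t3 + r * th m p₂.t1 ^ 2 with hc
  refine Good.of_cj ((hc₁.trans hc₂).trans hc₃) ?_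
  obtain ⟨p₄, hc₄, E₄⟩ := move hK { Pt.o K with t1 := p₂.t1, t3 := c }
    (cj_mapW hK 0 (by decide +kernel) (cj_mapW hK 1 (by decide +kernel)
      (cj_kill hK _ (Z := allBut 24 [0, 1, 6, 7])
        (by simp [allBut, List.range, List.range.loop, env, Pt.o, th_zero])))) (by decide +kernel) rG_eq
  obtain ⟨p₅, hc₅, E₅⟩ := move hK { Pt.o K with t1 := p₂.t1 }
    (cj_mapW hK 0 (by decide +kernel) (cj_mapW hK 1 (by decide +kernel)
      (cj_kill hK _ (Z := allBut 24 [0, 1, 6, 7])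
        (by simp [allBut, List.range, List.range.loop, env, Pt.o, th_zero])))) (by decide +kernel) rG_eq
  have e5 : el m p₅ = el m { Pt.o K with t3 := p₂.t1 } := by
    refine eq_of_coords h2 cPhi_eq cPhi_eq fun i hi => ?_
    rw [E₅ i hi]
    interval_cases i <;> simp [cPhiL, rGL, evP, evM, env, Pt.o, th_zero]
  set a := p₂.t1 with ha
  set s' := th m (c / a) with hs'
  have hs2 : th m s' ^ 2 = c / a := by rw [hs', ← th_sq, th_th_sq hK]
  obtain ⟨p₆, hc₆, E₆⟩ := conj_step hK { Pt.o K with t3 := a }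
    { Pt.o K with t8 := s', u8 := s' * th m s', t6 := th m a ^ 2 * s' / a } cD_eq
    (by simp [allBut, List.range, List.range.loop, env, Pt.o, th_zero])
  have e6 : el m p₆ = el m p₄ := by
    refine eq_of_coords h2 cPhi_eq cPhi_eq fun i hi => ?_
    rw [E₆ i hi, E₄ i hi]
    interval_cases i <;> simp [cDL, rGL, evP, evM, env, Pt.o, th_zero]
    all_goals have kc : c = a * th m s' ^ 2 := by rw [hs2, mul_div_cancel₀ _ h1']
    · rw [kc, th_mul, th_th_sq hK]
    · linear_combination (th m a * (s' * th m s')) * h2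
    · rw [th_div, th_mul, th_th_sq hK, mul_div_cancel₀ _ (fun e => h1' (th_eq_zero.1 e))]
      linear_combination (a * th m s') * h2
    · rw [kc]; ring
    · rw [th_mul, mul_pow, sq_th_th hK s']; linear_combination (a * (s' * th m s' ^ 2)) * h2
    · rw [mul_div_cancel₀ _ h1']; linear_combination (th m a ^ 2 * s') * h2
  rw [e5] at hc₅
  rw [e6] at hc₆
  exact Or.inl ⟨a, h1', hc₄.trans (hc₆.symm.trans hc₅.symm)⟩

theorem caseIII {p : Pt K} (h1 : p.t1 = 0) (h8 : p.t8 = 0) (hu8 : p.u8 ≠ 0)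
    (hsq : el m p * el m p = 1) : Good m (el m p) := by
  have h2 := H32.FF.h2 hK
  have hW : th m p.u8 ^ 2 ≠ 0 := pow_ne_zero _ fun e => hu8 (th_eq_zero.1 e)
  have S := sq_coords hK (Z := [20, 21]) cSqT8_eq (by simp [env, h8, th_zero]) hsq
  have c2 : p.t2 = 0 := by
    have := S 12 (by norm_num)
    simpa [cSqT8L, evP, evM, env, h1, th_zero, th_eq_zero] using this
  obtain ⟨p₁, hc₁, E⟩ := conj_step hK p { Pt.o K with t1 := p.t6 / th m p.u8 ^ 2 } cE_eq
    (by simp [allBut, List.range, List.range.loop, env, Pt.o, th_zero, h1, h8, c2])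
  have a1 : p₁.t1 = 0 := by simpa [cPhiL, cEL, evP, evM, env] using E 0 (by norm_num)
  have a8 : p₁.t8 = 0 := by simpa [cPhiL, cEL, evP, evM, env] using E 1 (by norm_num)
  have a2 : p₁.t2 = 0 := by simpa [cPhiL, cEL, evP, evM, env] using E 2 (by norm_num)
  have au8 : p₁.u8 = p.u8 := by simpa [cPhiL, cEL, evP, evM, env] using E 4 (by norm_num)
  have a6 : p₁.t6 = 0 := by
    have := E 7 (by norm_num)
    simp [cPhiL, cEL, evP, evM, env, Pt.o] at this
    rw [this, mul_div_cancel₀ _ hW]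
    linear_combination p.t6 * h2
  obtain ⟨p₂, hc₂, E₂⟩ := conj_step hK p₁ { Pt.o K with t2 := p₁.t7 / th m p.u8 ^ 2 } cF_eq
    (by simp [allBut, List.range, List.range.loop, env, Pt.o, th_zero, a1, a8, a2])
  have b1 : p₂.t1 = 0 := by simpa [cPhiL, cFL, evP, evM, env] using E₂ 0 (by norm_num)
  have b8 : p₂.t8 = 0 := by simpa [cPhiL, cFL, evP, evM, env] using E₂ 1 (by norm_num)
  have b2 : p₂.t2 = 0 := by simpa [cPhiL, cFL, evP, evM, env] using E₂ 2 (by norm_num)
  have bu8 : p₂.u8 = p.u8 := by simpa [cPhiL, cFL, evP, evM, env, au8] using E₂ 4 (by norm_num)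
  have b6 : p₂.t6 = 0 := by simpa [cPhiL, cFL, evP, evM, env, a6] using E₂ 7 (by norm_num)
  have b7 : p₂.t7 = 0 := by
    have := E₂ 8 (by norm_num)
    simp [cPhiL, cFL, evP, evM, env, Pt.o, b6, b8, au8] at this
    rw [this, mul_div_cancel₀ _ hW]
    linear_combination p₁.t7 * h2
  have hsq₂ : el m p₂ * el m p₂ = 1 := (hc₁.trans hc₂).sq hsq
  have S₂ := sq_coords hK (Z := [0, 1, 2, 3, 14, 15, 18, 19, 20, 21]) cSqThree_eq
    (by simp [env, th_zero, b1, b2, b6, b7, b8]) hsq₂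
  have hu : p₂.u8 ≠ 0 := bu8 ▸ hu8
  have bu2 : p₂.u2 = 0 := by
    simpa [cSqThreeL, evP, evM, env, hu] using S₂ 15 (by norm_num)
  have b3 : p₂.t3 = 0 := by
    simpa [cSqThreeL, evP, evM, env, hu, bu2, th_eq_zero] using S₂ 16 (by norm_num)
  have b4 : p₂.t4 = 0 := by
    simpa [cSqThreeL, evP, evM, env, bu2, th_zero, th_eq_zero] using S₂ 20 (by norm_num)
  set a := th m (p₂.u4 / p₂.u8) with ha
  have ha2 : th m a ^ 2 = p₂.u4 / p₂.u8 := by rw [ha, ← th_sq, th_th_sq hK]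
  obtain ⟨b, hb⟩ := th_surjective hK ((p₂.u6 + th m p₂.u8 ^ 2 * a) / p₂.u8)
  obtain ⟨p₃, hc₃, E₃⟩ := conj_step hK p₂ { Pt.o K with u2 := a, t3 := b } cG_eq
    (by simp [allBut, List.range, List.range.loop, env, Pt.o, th_zero, b1, b2, b3, b4, b6, b7, b8, bu2])
  set b' := p₂.t5 + th m p₂.u8 ^ 2 * th m a ^ 2 with hb'
  have e3 : el m p₃ = el m { Pt.o K with t5 := b', u8 := p₂.u8 } := by
    refine eq_of_coords h2 cPhi_eq cPhi_eq fun i hi => ?_
    rw [E₃ i hi]
    interval_cases i <;> simp [cPhiL, cGL, evP, evM, env, Pt.o, th_zero]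
    all_goals have kb : p₂.u8 * th m b = p₂.u6 + th m p₂.u8 ^ 2 * a := by rw [hb, mul_div_cancel₀ _ hu]
    all_goals have ka : p₂.u8 * th m a ^ 2 = p₂.u4 := by rw [ha2, mul_div_cancel₀ _ hu]
    · rw [hb', th_add hK, th_mul, th_th_sq hK, th_th_sq hK]
    · linear_combination kb + (p₂.u6 + th m p₂.u8 ^ 2 * a) * h2
    · linear_combination ka + p₂.u4 * h2
    · rw [hb']
    · have kb' := congrArg (fun x => th m x ^ 2) kb
      simp only [th_mul, mul_pow, sq_th_add hK, sq_th_th hK, th_th_sq hK] at kb'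
      linear_combination kb' + (th m p₂.u6 ^ 2 + p₂.u8 ^ 2 * th m a ^ 2) * h2
    · have ka' := congrArg (fun x => th m x ^ 2) ka
      simp only [th_mul, mul_pow, th_th_sq hK] at ka'
      linear_combination ka' + (th m p₂.u4 ^ 2) * h2
  rw [e3] at hc₃
  refine Good.of_cj ((hc₁.trans hc₂).trans hc₃) ?_
  by_cases hb0 : b' = 0
  · rw [hb0]; exact Or.inr ⟨p₂.u8, hu, cj_refl _⟩
  · obtain ⟨p₄, hc₄, E₄⟩ := move hK { Pt.o K with t5 := b', u8 := p₂.u8 }
      (cj_mapW hK 1 (by decide +kernel) (cj_mapW hK 0 (by decide +kernel)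
        (cj_mapW hK 1 (by decide +kernel) (cj_mapW hK 0 (by decide +kernel)
          (cj_kill hK _ (Z := allBut 24 [12, 13, 22, 23])
            (by simp [allBut, List.range, List.range.loop, env, Pt.o, th_zero])))))) (by decide +kernel) rF_eq
    refine Good.of_cj hc₄ (caseII hK ?_ ?_ ?_ ?_)
    · rw [show p₄.t1 = b' by simpa [cPhiL, rFL, evP, evM, env] using E₄ 0 (by norm_num)]; exact hb0
    · simpa [cPhiL, rFL, evP, evM, env] using E₄ 1 (by norm_num)
    · simpa [cPhiL, rFL, evP, evM, env] using E₄ 4 (by norm_num)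
    · exact (((hc₁.trans hc₂).trans hc₃).trans hc₄).sq hsq

theorem main_alg {p : Pt K} (hsq : el m p * el m p = 1) (hne : el m p ≠ 1) : Good m (el m p) := by
  obtain ⟨h8, h18⟩ := sq_free hK hsq
  by_cases h1 : p.t1 = 0
  swap
  · exact caseII hK h1 h8 ((mul_eq_zero.1 h18).resolve_left h1) hsq
  by_cases hu8 : p.u8 = 0
  swap
  · exact caseIII hK h1 h8 hu8 hsq
  have S := sq_coords hK (Z := [20, 21]) cSqT8_eq (by simp [env, h8, th_zero]) hsq
  have h2' : p.t2 = 0 := by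
    simpa [cSqT8L, evP, evM, env, h1, th_zero, th_eq_zero] using S 12 (by norm_num)
  by_cases h7 : p.t7 = 0
  swap
  · obtain ⟨q, hc, E⟩ := move hK p (cj_mapW hK 1 (by decide +kernel)
      (cj_kill hK _ (Z := [0, 1, 2, 3, 20, 21, 22, 23]) (by simp [env, th_zero, h1, h2', h8, hu8])))
      (by decide +kernel) rA_eq
    refine Good.of_cj hc (caseII hK ?_ ?_ ?_ (hc.sq hsq))
    · rw [show q.t1 = p.t7 by simpa [cPhiL, rAL, evP, evM, env] using E 0 (by norm_num)]; exact h7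
    · simpa [cPhiL, rAL, evP, evM, env] using E 1 (by norm_num)
    · simpa [cPhiL, rAL, evP, evM, env] using E 4 (by norm_num)
  by_cases hu2 : p.u2 = 0
  swap
  · obtain ⟨q, hc, E⟩ := move hK p (cj_mapW hK 0 (by decide +kernel)
      (cj_kill hK _ (Z := [0, 1, 2, 3, 20, 21, 22, 23]) (by simp [env, th_zero, h1, h2', h8, hu8])))
      (by decide +kernel) rB_eq
    refine Good.of_cj hc (caseIII hK ?_ ?_ ?_ (hc.sq hsq))
    · simpa [cPhiL, rBL, evP, evM, env] using E 0 (by norm_num)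
    · simpa [cPhiL, rBL, evP, evM, env] using E 1 (by norm_num)
    · rw [show q.u8 = p.u2 by simpa [cPhiL, rBL, evP, evM, env] using E 4 (by norm_num)]; exact hu2
  by_cases h3 : p.t3 = 0
  swap
  · obtain ⟨q, hc, E⟩ := move hK p (cj_mapW hK 1 (by decide +kernel) (cj_mapW hK 0 (by decide +kernel)
      (cj_kill hK _ (Z := [0, 1, 2, 3, 4, 5, 18, 19, 20, 21, 22, 23])
        (by simp [env, th_zero, h1, h2', hu2, h7, h8, hu8])))) (by decide +kernel) rC_eq
    refine Good.of_cj hc (caseII hK ?_ ?_ ?_ (hc.sq hsq))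
    · rw [show q.t1 = p.t3 by simpa [cPhiL, rCL, evP, evM, env] using E 0 (by norm_num)]; exact h3
    · simpa [cPhiL, rCL, evP, evM, env] using E 1 (by norm_num)
    · simpa [cPhiL, rCL, evP, evM, env] using E 4 (by norm_num)
  have S' := sq_coords hK (Z := [0, 1, 2, 3, 4, 5, 18, 19, 20, 21, 22, 23]) cSqMid_eq
    (by simp [env, th_zero, h1, h2', hu2, h7, h8, hu8]) hsq
  have h6 : p.t6 = 0 := by simpa [cSqMidL, evP, evM, env, th_eq_zero] using S' 16 (by norm_num)
  have h4 : p.t4 = 0 := by simpa [cSqMidL, evP, evM, env, th_eq_zero, h3, h6, th_zero] using S' 20 (by norm_num)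
  have z : ∀ a ∈ allBut 24 [10, 11, 12, 13, 16, 17], (env m p).getD a 0 = 0 := by
    simp [allBut, List.range, List.range.loop, env, th_zero, h1, h2', hu2, h3, h4, h6, h7, h8, hu8]
  by_cases hu6 : p.u6 = 0
  swap
  · obtain ⟨q, hc, E⟩ := move hK p (cj_mapW hK 0 (by decide +kernel) (cj_mapW hK 1 (by decide +kernel)
      (cj_kill hK _ (Z := allBut 24 [10, 11, 12, 13, 16, 17]) z))) (by decide +kernel) rD_eq
    refine Good.of_cj hc (caseIII hK ?_ ?_ ?_ (hc.sq hsq))
    · simpa [cPhiL, rDL, evP, evM, env] using E 0 (by norm_num)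
    · simpa [cPhiL, rDL, evP, evM, env] using E 1 (by norm_num)
    · rw [show q.u8 = p.u6 by simpa [cPhiL, rDL, evP, evM, env] using E 4 (by norm_num)]; exact hu6
  obtain ⟨q, hc, E⟩ := move hK p (cj_mapW hK 1 (by decide +kernel) (cj_mapW hK 0 (by decide +kernel)
    (cj_mapW hK 1 (by decide +kernel) (cj_kill hK _ (Z := allBut 24 [10, 11, 12, 13])
      (by simp [allBut, List.range, List.range.loop, env, th_zero, h1, h2', hu2, h3, h4, h6, h7, h8, hu8, hu6])))))
    (by decide +kernel) rE_eq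
  by_cases h5 : p.t5 = 0
  swap
  · refine Good.of_cj hc (caseII hK ?_ ?_ ?_ (hc.sq hsq))
    · rw [show q.t1 = p.t5 by simpa [cPhiL, rEL, evP, evM, env] using E 0 (by norm_num)]; exact h5
    · simpa [cPhiL, rEL, evP, evM, env] using E 1 (by norm_num)
    · simpa [cPhiL, rEL, evP, evM, env] using E 4 (by norm_num)
  have hu4 : p.u4 ≠ 0 := by
    intro h
    apply hne
    simp [el, evW, phiW, wordA, wordB, at', padd, pmul, tog, mmul, ins, evP, evM, env, th_zero, wordRt,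
      h1, h2', hu2, h3, h4, h, h5, h6, hu6, h7, h8, hu8, checkedF4.rt_zero]
  have eq : el m q = el m { Pt.o K with u2 := p.u4 } := by
    refine eq_of_coords (H32.FF.h2 hK) cPhi_eq cPhi_eq fun i hi => ?_
    rw [E i hi]
    interval_cases i <;> simp [cPhiL, rEL, evP, evM, env, Pt.o, th_zero, h5]
  rw [eq] at hc
  obtain ⟨q', hc', E'⟩ := move hK { Pt.o K with u2 := p.u4 } (cj_mapW hK 0 (by decide +kernel)
    (cj_kill hK _ (Z := [0, 1, 2, 3, 20, 21, 22, 23]) (by simp [env, th_zero, Pt.o])))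
    (by decide +kernel) rB_eq
  have eq' : el m q' = repZ m p.u4 := by
    refine eq_of_coords (H32.FF.h2 hK) cPhi_eq cPhi_eq fun i hi => ?_
    rw [E' i hi]
    interval_cases i <;> simp [cPhiL, rBL, evP, evM, env, Pt.o, th_zero]
  exact Or.inr ⟨p.u4, hu4, hc.trans (eq' ▸ hc')⟩

end H52.F4N
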