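import Mathlib

/-!
Bit matrices for the ranks of two involutions in type F4. Generated.
-/

set_option autoImplicit false

namespace H52.F4N

/-- Row operations. -/
def rowOps : List ℕ :=
  [137438953472, 268435456, 32, 2048, 4096, 1024, 17408, 2113536, 65536, 8454144, 16777216, 1, 67108864, 8, 1073741824, 274877906944, 8589934592, 1108101562368, 34359738368, 4432406249472, 8796093022208, 74766790688768, 281474976710656, 2251799813685248, 4, 33554432, 16, 134217728, 2, 536870912, 64, 2147483648, 4294967296, 256, 17179869184, 262144, 68719476736, 9216, 32768, 558345748480, 131072, 2233382993920, 528384, 1049600, 17592186044416, 35218731827200, 128, 149533581377536, 4259840, 562949953421312, 1125899906842624, 512]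

/-- Column operations. -/
def colOps : List ℕ :=
  [2147483648, 2049, 8194, 134217728, 4, 4294967296, 8589934592, 8, 16, 32, 68719476928, 17179869184, 33554432, 68719476864, 536870912, 256, 17592186044928, 1024, 2048, 34359738368, 68719476736, 2199023255552, 17592186044416, 1125899906842624, 16777216, 4096, 67108864, 8192, 268435456, 16384, 1073741824, 32768, 65536, 549755944960, 262144, 35184374710272, 1048576, 137438953472, 274877906944, 549755813888, 1099511627776, 35184374185984, 4398046511104, 8796093022208, 4194304, 35184372088832, 70368744177664, 140737488355328, 281474976710656, 562949953421312, 8388608, 2251799813685248]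

/-- The left factor. -/
def leftFac : List ℕ :=
  [4294967296, 7168, 1024, 134217728, 8589934592, 549755813888, 8796093022208, 4, 4194308, 12, 17592186044416, 2147483648, 17179869184, 16, 68719476736, 48, 2199023255552, 64, 192, 281474976710656, 1125899906842624, 2097152, 256, 8388608, 16778240, 33554688, 67108864, 768, 268435456, 536871936, 1073741824, 2048, 1, 8192, 2, 34359746560, 24576, 137438953472, 274877906944, 32768, 1099511627776, 98304, 4398046511104, 131072, 393216, 35184372088832, 70368744177664, 140737488355328, 524288, 562949953945600, 1572864, 2251799813685248]

/-- The right factor. -/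
def rightFac : List ℕ :=
  [27262989, 69206024, 32, 64, 2048, 4096, 16384, 65536, 524288, 1048576, 2097152, 75497472, 67108864, 268435456, 1073741824, 137438953472, 274877906944, 1099511627776, 4398046511104, 70368744177664, 140737488355328, 1024, 4194304, 16, 16777216, 33554432, 4, 134217728, 8192, 536870912, 2, 2147483648, 4294967296, 8589934592, 17179869184, 34359738368, 68719476736, 32768, 128, 549755813888, 131072, 2199023255552, 262144, 8796093022208, 17592186044416, 35184372088832, 256, 512, 281474976710656, 562949953421312, 1125899906842624, 2251799813685248]

end H52.F4N
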