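import Cfsg.Agent.H52.F4Invol
import Cfsg.Agent.H52.F4RankData

/-!
The two classes of involutions of the twisted group of type F4.
-/

set_option autoImplicit false
set_option linter.unusedSectionVars false
set_option linter.unusedVariables false
set_option linter.unusedSimpArgs false
set_option maxRecDepth 8000

namespace H52.F4N

open Cfsg.Lie H52 H53 H53.BitMat

/-- Row-wise sum of two bit matrices. -/
def badd (A B : List ℕ) : List ℕ := (List.range 52).map fun i => (A.getD i 0) ^^^ (B.getD i 0)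

/-- The projection on the first coordinates. -/
def bproj (n : ℕ) : List ℕ := (List.range 52).map fun i => if i < n then 2 ^ i else 0

theorem idem_data :
    (bmul 52 (bmul 52 rowOps (badd (bword chevF4 [33, 24]) (bone 52))) colOps == bproj 24 &&
      badd (bword chevF4 [28, 30]) (bone 52) == bmul 52 (bmul 52 leftFac (bproj 21)) rightFac) = true := by
  decide +kernel

theorem card_small : Fintype.card {a : chevF4.Idx // (finSumFinEquiv a).val < 24} = 24 ∧
    Fintype.card {a : chevF4.Idx // (finSumFinEquiv a).val < 21} = 21 := by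
  decide +kernel

variable {K : Type*} [Field K] {m : ℕ}

theorem evalB_badd (h2 : (2 : K) = 0) (A B : List ℕ) :
    evalB chevF4 K (badd A B) = evalB chevF4 K A + evalB chevF4 K B := by
  ext a b
  simp only [evalB, Matrix.of_apply, Matrix.add_apply, badd, List.getD_eq_getElem?_getD, List.getElem?_map,
    List.getElem?_range (show (finSumFinEquiv a).val < 52 from (finSumFinEquiv a).isLt), Option.map_some,
    Option.getD_some, Nat.testBit_xor, bit_bne h2]

theorem evalB_bproj (n : ℕ) : evalB chevF4 K (bproj n) =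
    Matrix.diagonal fun a => if (finSumFinEquiv a).val < n then (1 : K) else 0 := by
  ext a b
  simp only [evalB, Matrix.of_apply, bproj, List.getD_eq_getElem?_getD, List.getElem?_map,
    List.getElem?_range (show (finSumFinEquiv a).val < 52 from (finSumFinEquiv a).isLt), Option.map_some,
    Option.getD_some, Matrix.diagonal_apply]
  by_cases hab : a = b
  · subst hab
    by_cases hn : (finSumFinEquiv a).val < n <;> simp [hn, bit, Nat.testBit_two_pow]
  · have : ¬ (finSumFinEquiv a).val = (finSumFinEquiv b).val := fun e => hab (finSumFinEquiv.injective (Fin.ext e))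
    by_cases hn : (finSumFinEquiv a).val < n <;> simp [hn, hab, bit, Nat.testBit_two_pow, this]

theorem rank_bproj (n : ℕ) (h : Fintype.card {a : chevF4.Idx // (finSumFinEquiv a).val < n} = n) :
    (evalB chevF4 K (bproj n)).rank = n := by
  classical
  rw [evalB_bproj, Matrix.rank_diagonal]
  refine Eq.trans (Fintype.card_congr (Equiv.subtypeEquivRight fun a => ?_)) h
  split_ifs with h' <;> simp [h']

variable [Fintype K] (hK : Fintype.card K = 2 ^ (2 * m + 1))
include hK

theorem coe_repA : ((repA m (1 : K) : GL chevF4.Idx K) : Matrix chevF4.Idx chevF4.Idx K) =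
    evalB chevF4 K (bword chevF4 [33, 24]) := by
  rw [evalB_bword chevF4 (H32.FF.h2 hK), ← checkedF4.coe_wordRt]
  simp [repA, el, evW, phiW, wordA, wordB, at', padd, pmul, tog, mmul, ins, evP, evM, env, Pt.o, th_zero, th_one,
    wordRt, checkedF4.rt_zero]

theorem coe_repZ : ((repZ m (1 : K) : GL chevF4.Idx K) : Matrix chevF4.Idx chevF4.Idx K) =
    evalB chevF4 K (bword chevF4 [28, 30]) := by
  rw [evalB_bword chevF4 (H32.FF.h2 hK), ← checkedF4.coe_wordRt]
  simp [repZ, el, evW, phiW, wordA, wordB, at', padd, pmul, tog, mmul, ins, evP, evM, env, Pt.o, th_zero, th_one,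
    wordRt, checkedF4.rt_zero]

theorem not_conj (x : GL chevF4.Idx K) : x * repA m (1 : K) * x⁻¹ ≠ repZ m (1 : K) := by
  classical
  intro h
  have h2 := H32.FF.h2 hK
  have hd := idem_data
  simp only [Bool.and_eq_true, beq_iff_eq] at hd
  obtain ⟨hA, hZ⟩ := hd
  have eA : evalB chevF4 K (bproj 24) = evalB chevF4 K rowOps *
      (((repA m (1 : K) : GL chevF4.Idx K) : Matrix chevF4.Idx chevF4.Idx K) + 1) * evalB chevF4 K colOps := by
    rw [← hA, show (52 : ℕ) = chevF4.rank + chevF4.nroots from rfl, evalB_bmul chevF4 h2, evalB_bmul chevF4 h2,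
      evalB_badd h2, evalB_bone chevF4, coe_repA hK]
  have eZ : ((repZ m (1 : K) : GL chevF4.Idx K) : Matrix chevF4.Idx chevF4.Idx K) + 1 =
      evalB chevF4 K leftFac * evalB chevF4 K (bproj 21) * evalB chevF4 K rightFac := by
    rw [coe_repZ hK, ← evalB_bone chevF4 (F := K), ← evalB_badd h2,
      show chevF4.rank + chevF4.nroots = (52 : ℕ) from rfl, hZ,
      show (52 : ℕ) = chevF4.rank + chevF4.nroots from rfl, evalB_bmul chevF4 h2, evalB_bmul chevF4 h2]
  have hx : ((repA m (1 : K) : GL chevF4.Idx K) : Matrix chevF4.Idx chevF4.Idx K) + 1 =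
      (x⁻¹ : GL chevF4.Idx K) * (((repZ m (1 : K) : GL chevF4.Idx K) : Matrix chevF4.Idx chevF4.Idx K) + 1) * x := by
    have e : repA m (1 : K) = x⁻¹ * repZ m (1 : K) * x := by rw [← h]; group
    rw [e, mul_add, add_mul, mul_one, Units.val_mul, Units.val_mul, Units.inv_mul]
  have r24 := rank_bproj (K := K) 24 card_small.1
  have r21 := rank_bproj (K := K) 21 card_small.2
  rw [eA, hx, eZ] at r24
  generalize hM : evalB chevF4 K (bproj 21) = M at r24 r21
  have hle : ∀ P Q R : Matrix chevF4.Idx chevF4.Idx K, (P * (Q * M * R)).rank ≤ M.rank := fun P Q R =>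
    (Matrix.rank_mul_le_right _ _).trans ((Matrix.rank_mul_le_left _ _).trans (Matrix.rank_mul_le_right _ _))
  have := hle (evalB chevF4 K rowOps * (x⁻¹ : GL chevF4.Idx K)) (evalB chevF4 K leftFac)
    (evalB chevF4 K rightFac * (x : GL chevF4.Idx K) * evalB chevF4 K colOps)
  simp only [mul_assoc] at this r24
  omega

theorem two_pow_ne_one_pred : ¬ 2 ∣ (2 ^ (2 * m + 1) - 1) := by
  have : 2 ^ (2 * m + 1) = 2 * 2 ^ (2 * m) := by ring
  have := Nat.one_le_two_pow (n := 2 * m)
  omega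

theorem exists_pt_conj {g : GL chevF4.Idx K} (hg : g ∈ twistedF4 K (2 ^ m)) (h2 : g * g = 1) :
    ∃ p, Cj m g (el m p) := by
  set G := twistedF4 K (2 ^ m) with hG
  let Q : Subgroup ↥G := (chevF4.posUnipotent K ⊓ G).subgroupOf G
  have hQ : Nat.card ↥Q = (2 ^ (2 * m + 1)) ^ 12 := by
    rw [Nat.card_congr (Subgroup.subgroupOfEquivOfLe inf_le_right).toEquiv, F4T.card_U hK]
  have hidx : ¬ 2 ∣ Q.index := by
    have hc := H52.F4Ree.card_f4 hK
    rw [← Subgroup.card_mul_index Q, hQ] at hc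
    set q := 2 ^ (2 * m + 1) with hq
    have hq2 : 2 ∣ q := dvd_pow_self 2 (by omega)
    have hq1 : 1 ≤ q := Nat.one_le_two_pow
    have e : Q.index = (q - 1) * (q ^ 3 + 1) * (q ^ 4 - 1) * (q ^ 6 + 1) := by
      refine Nat.eq_of_mul_eq_mul_left (show 0 < q ^ 12 by positivity) ?_
      rw [hc]; ring
    rw [e]
    have h3 : 2 ∣ q ^ 3 := dvd_pow hq2 (by norm_num)
    have h4 : 2 ∣ q ^ 4 := dvd_pow hq2 (by norm_num)
    have h6 : 2 ∣ q ^ 6 := dvd_pow hq2 (by norm_num)
    have p4 : 1 ≤ q ^ 4 := Nat.one_le_pow _ _ hq1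
    intro hd
    rcases (Nat.prime_two.dvd_mul).1 hd with hd | hd
    · rcases (Nat.prime_two.dvd_mul).1 hd with hd | hd
      · rcases (Nat.prime_two.dvd_mul).1 hd with hd | hd <;> omega
      · omega
    · omega
  obtain ⟨w, x, hx, hwx⟩ := H52.TitsAct.exists_conj_mem Nat.prime_two Q hidx (g := (⟨g, hg⟩ : ↥G))
    (Subtype.ext (by rw [pow_two]; exact h2))
  obtain ⟨p, hp⟩ := exists_pt hK (Subgroup.mem_inf.1 (Subgroup.mem_subgroupOf.1 hx)).1 x.2
  refine ⟨p, (w : GL chevF4.Idx K)⁻¹, inv_mem w.2, ?_⟩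
  have e := congrArg Subtype.val hwx
  simp only [Subgroup.coe_mul] at e
  rw [inv_inv, ← hp, mul_assoc, ← e, inv_mul_cancel_left]

theorem exists_pow_root (a : K) (ha : a ≠ 0) : ∃ b : K, b ≠ 0 ∧ th m b * b = a := by
  have h2 := H32.FF.h2 hK
  let f : Kˣ → Kˣ := fun b => Units.mk0 (th m b.val * b.val) (mul_ne_zero (fun e => b.ne_zero (th_eq_zero.1 e)) b.ne_zero)
  have hinj : Function.Injective f := by
    intro b c hbc
    have e : th m b.val * b.val = th m c.val * c.val := congrArg Units.val hbc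
    -- the ratio
    set r := b.val / c.val with hr
    have hc0 := c.ne_zero
    have hr1 : th m r * r = 1 := by
      rw [hr, th_div, div_mul_div_comm, e, div_self]
      exact mul_ne_zero (fun e => hc0 (th_eq_zero.1 e)) hc0
    have hr2 : th m r ^ 2 * r ^ 2 = 1 := by rw [← mul_pow, hr1, one_pow]
    have h3 : r * th m r ^ 2 = 1 := by
      have := congrArg (th m) hr2
      rw [th_mul, th_th_sq hK, th_sq, th_one] at this
      exact this
    have hr0 : r ≠ 0 := div_ne_zero b.ne_zero hc0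
    have h4 : th m r = 1 := by
      have : th m r * (th m r * r) = 1 := by rw [← h3]; ring
      rw [hr1, mul_one] at this
      exact this
    rw [h4, one_mul] at hr1
    exact Units.ext ((div_eq_one_iff_eq hc0).1 hr1)
  obtain ⟨b, hb⟩ := (Finite.injective_iff_surjective.1 hinj) (Units.mk0 a ha)
  exact ⟨b, b.ne_zero, congrArg Units.val hb⟩

theorem scaleA {a : K} (ha : a ≠ 0) : Cj m (repA m a) (repA m 1) := by
  classical
  have e : ∀ t : K, repA m t = H32.FF.val (H32.FF.P0 m t) := by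
    intro t
    rw [H32.FF.val_P0]
    simp [repA, el, evW, phiW, wordA, wordB, at', padd, pmul, tog, mmul, ins, evP, evM, env, Pt.o, th_zero, th,
      wordRt, checkedF4.rt_zero]
  refine ⟨H32.FF.val (H32.FF.hab hK (Units.mk0 a ha)⁻¹ 1), (H32.FF.hab hK (Units.mk0 a ha)⁻¹ 1).2, ?_⟩
  rw [e, e, ← H32.FF.val_inv, ← H32.FF.val_mul, ← H32.FF.val_mul, H32.FF.hab_conj_P0]
  simp [ha]

theorem scaleZ {a : K} (ha : a ≠ 0) : Cj m (repZ m a) (repZ m 1) := by
  classical
  have e : ∀ t : K, repZ m t = H32.FF.val (H32.FF.P1 m 0 t) := by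
    intro t
    rw [H32.FF.val_P1]
    simp [repZ, el, evW, phiW, wordA, wordB, at', padd, pmul, tog, mmul, ins, evP, evM, env, Pt.o, th_zero, th,
      wordRt, checkedF4.rt_zero]
    rw [← pow_mul, mul_comm]
  obtain ⟨b, hb, hba⟩ := exists_pow_root hK a⁻¹ (inv_ne_zero ha)
  refine ⟨H32.FF.val (H32.FF.hab hK 1 (Units.mk0 b hb)), (H32.FF.hab hK 1 (Units.mk0 b hb)).2, ?_⟩
  rw [e, e, ← H32.FF.val_inv, ← H32.FF.val_mul, ← H32.FF.val_mul, H32.FF.hab_conj_P1]
  congr 2
  · simp
  · show b ^ (2 ^ m + 1) * a = 1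
    rw [pow_succ]
    show th m b * b * a = 1
    rw [hba, inv_mul_cancel₀ ha]

/-- Every involution is conjugate to one of the two representatives. -/
theorem invol_conj {g : GL chevF4.Idx K} (hg : g ∈ twistedF4 K (2 ^ m)) (h2 : g * g = 1) (h1 : g ≠ 1) :
    Cj m g (repA m 1) ∨ Cj m g (repZ m 1) := by
  obtain ⟨p, hp⟩ := exists_pt_conj hK hg h2
  have hne : el m p ≠ 1 := by
    intro e
    obtain ⟨x, _, hx⟩ := hp
    rw [e, mul_inv_eq_one] at hx
    exact h1 (mul_left_cancel (hx.trans (mul_one x).symm))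
  rcases Good.of_cj hp (main_alg hK (hp.sq h2) hne) with ⟨a, ha, hc⟩ | ⟨a, ha, hc⟩
  · exact Or.inl (hc.trans (scaleA hK ha))
  · exact Or.inr (hc.trans (scaleZ hK ha))

theorem repA_facts : repA m (1 : K) ∈ twistedF4 K (2 ^ m) ∧ repA m (1 : K) * repA m 1 = 1 ∧ repA m (1 : K) ≠ 1 := by
  refine ⟨el_mem hK _, ?_, fun e => ?_⟩
  · rw [repA, el, ← evW_append, ← evW_kill _ (allBut 24 [0, 1])
      (by simp [allBut, List.range, List.range.loop, env, Pt.o, th_zero])]
    rw [evW_coords (H32.FF.h2 hK) _ (fuel := 100) (L := List.replicate 24 []) (by decide +kernel),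
      ← evW_coords (H32.FF.h2 hK) _ nil_eq, evW_nil]
  · have h := el_injective hK (e.trans (show (1 : GL chevF4.Idx K) = el m (Pt.o K) by
      simp [el, evW, phiW, wordA, wordB, at', padd, pmul, tog, mmul, ins, evP, evM, env, Pt.o, th_zero,
        wordRt, checkedF4.rt_zero]))
    exact one_ne_zero (congrArg Pt.t1 h)

theorem repZ_facts : repZ m (1 : K) ∈ twistedF4 K (2 ^ m) ∧ repZ m (1 : K) * repZ m 1 = 1 ∧ repZ m (1 : K) ≠ 1 := by
  refine ⟨el_mem hK _, ?_, fun e => ?_⟩
  · rw [repZ, el, ← evW_append, ← evW_kill _ (allBut 24 [22, 23])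
      (by simp [allBut, List.range, List.range.loop, env, Pt.o, th_zero])]
    rw [evW_coords (H32.FF.h2 hK) _ (fuel := 100) (L := List.replicate 24 []) (by decide +kernel),
      ← evW_coords (H32.FF.h2 hK) _ nil_eq, evW_nil]
  · have h := el_injective hK (e.trans (show (1 : GL chevF4.Idx K) = el m (Pt.o K) by
      simp [el, evW, phiW, wordA, wordB, at', padd, pmul, tog, mmul, ins, evP, evM, env, Pt.o, th_zero,
        wordRt, checkedF4.rt_zero]))
    exact one_ne_zero (congrArg Pt.u8 h)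

/-- The large Ree groups have exactly two classes of involutions. -/
theorem two_classes :
    (ConjClasses.mk '' {g : ↥(twistedF4 K (2 ^ m)) | orderOf g = 2}).ncard = 2 := by
  obtain ⟨hA, hA2, hA1⟩ := repA_facts hK
  obtain ⟨hZ, hZ2, hZ1⟩ := repZ_facts hK
  set A : ↥(twistedF4 K (2 ^ m)) := ⟨repA m 1, hA⟩ with hAd
  set Z : ↥(twistedF4 K (2 ^ m)) := ⟨repZ m 1, hZ⟩ with hZd
  have hord : ∀ y : ↥(twistedF4 K (2 ^ m)), orderOf y = 2 ↔ y.1 * y.1 = 1 ∧ y.1 ≠ 1 := by
    intro y
    rw [orderOf_eq_prime_iff, pow_two]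
    exact and_congr (by rw [← Subtype.coe_inj]; rfl) (not_congr (by rw [← Subtype.coe_inj]; rfl))
  have key : ∀ (a b : ↥(twistedF4 K (2 ^ m))), Cj m a.1 b.1 → ConjClasses.mk a = ConjClasses.mk b := by
    rintro a b ⟨x, hx, e⟩
    exact ConjClasses.mk_eq_mk_iff_isConj.2 (isConj_iff.2 ⟨⟨x, hx⟩, Subtype.ext e⟩)
  have hne : ConjClasses.mk A ≠ ConjClasses.mk Z := by
    intro e
    obtain ⟨x, hx⟩ := isConj_iff.1 (ConjClasses.mk_eq_mk_iff_isConj.1 e)
    exact not_conj hK x.1 (congrArg Subtype.val hx)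
  have himg : ConjClasses.mk '' {g : ↥(twistedF4 K (2 ^ m)) | orderOf g = 2} =
      {ConjClasses.mk A, ConjClasses.mk Z} := by
    ext c
    constructor
    · rintro ⟨g, hg, rfl⟩
      obtain ⟨h2, h1⟩ := (hord g).1 hg
      rcases invol_conj hK g.2 h2 h1 with h | h
      · exact Or.inl (key g A h)
      · exact Or.inr (key g Z h)
    · rintro (rfl | rfl)
      · exact ⟨A, (hord A).2 ⟨hA2, hA1⟩, rfl⟩
      · exact ⟨Z, (hord Z).2 ⟨hZ2, hZ1⟩, rfl⟩
  rw [himg, Set.ncard_pair hne]

end H52.F4N
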