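import Cfsg.Agent.H50.TwPPart

/-!
The `p`-part of the kernel of a stem extension of a group with a system of root subgroups, for
root subgroups that need not be abelian: it is enough that their canonical lifts meet the kernel
trivially.
-/

set_option autoImplicit false
set_option linter.unusedSectionVars false

namespace H52.PL

open Subgroup H53 H53.RootGroupSys H50.Tw H50
open scoped commutatorElement

variable {G : Type*} [Group G] {ι R : Type*} (S : RootGroupSys G ι R)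
  {Γ : Type*} [Group Γ] (σ : Γ →* G)

/-- A fixed-point-free automorphism of a finite group is `y ↦ [h, y]` onto. -/
theorem exists_comm_eq' [Finite G] {U : Subgroup G} {h : G}
    (hn : ∀ y ∈ U, h * y * h⁻¹ ∈ U) (hf : ∀ y ∈ U, h * y * h⁻¹ = y → y = 1) {x : G} (hx : x ∈ U) :
    ∃ y ∈ U, ⁅h, y⁆ = x := by
  let f : U → U := fun y => ⟨⁅h, (y : G)⁆, mul_mem (hn y y.2) (inv_mem y.2)⟩
  have hinj : Function.Injective f := by
    intro a b e
    have e' : h * a.1 * h⁻¹ * a.1⁻¹ = h * b.1 * h⁻¹ * b.1⁻¹ := congrArg Subtype.val e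
    refine Subtype.ext (inv_mul_eq_one.1 (hf _ (mul_mem (inv_mem a.2) b.2) ?_))
    have e2 : h * b.1 * h⁻¹ = h * a.1 * h⁻¹ * a.1⁻¹ * b.1 := by rw [e']; group
    calc h * (a.1⁻¹ * b.1) * h⁻¹ = (h * a.1 * h⁻¹)⁻¹ * (h * b.1 * h⁻¹) := by group
      _ = a.1⁻¹ * b.1 := by rw [e2]; group
  obtain ⟨y, hy⟩ := (Finite.injective_iff_surjective.1 hinj) ⟨x, hx⟩
  exact ⟨y, y.2, congrArg Subtype.val hy⟩

variable {S σ} in
/-- The canonical lift is generated by the commutators with one element of the torus. -/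
theorem rootLift_le_closure [Finite G] (hs : Function.Surjective σ) (hc : σ.ker ≤ center Γ) {r : R}
    (hact : ∀ x ∈ S.H, ∀ y ∈ S.U r, x * y * x⁻¹ ∈ S.U r) (hab : ∀ x ∈ S.H, ∀ y ∈ S.H, Commute x y)
    {h : Γ} (hh : σ h ∈ S.H)
    (hf : ∀ y ∈ S.U r, σ h * y * (σ h)⁻¹ = y → y = 1) :
    rootLift S σ r ≤ closure {g | ∃ a, σ a ∈ S.U r ∧ g = ⁅h, a⁆} := by
  have hn : ∀ {k : Γ}, σ k ∈ S.H → ∀ {y : G}, y ∈ S.U r → σ k * y * (σ k)⁻¹ ∈ S.U r :=
    fun {k} hk {y} hy => hact _ hk _ hy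
  refine commutator_le.2 fun k hk b hb => ?_
  obtain ⟨y, hy, hyb⟩ := H52.PL.exists_comm_eq' (fun y hy => hn hh hy) hf (show σ b ∈ S.U r from hb)
  obtain ⟨a, rfl⟩ := hs y
  rw [comm_congr' hc (rfl : σ k = σ k) (y' := ⁅h, a⁆) (by rw [← hyb, map_commutatorElement]),
    commutatorElement_def]
  refine mul_mem (subset_closure ?_) (inv_mem (subset_closure ⟨a, hy, rfl⟩))
  refine ⟨k * a * k⁻¹, ?_, ?_⟩
  · rw [map_mul, map_mul, map_inv]; exact hn hk hy
  · rw [conjugate_commutatorElement]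
    refine comm_congr' hc ?_ rfl
    rw [map_mul, map_mul, map_inv, (hab _ hk _ hh).eq, mul_inv_cancel_right]


/-- The hypotheses on the lifts of the positive root subgroups. -/
structure PHyp : Prop where
  ax : S.Axioms
  sep : Sep S
  hab : ∀ x ∈ S.H, ∀ y ∈ S.H, Commute x y
  fpf : ∀ r, S.pos r → ∃ h ∈ S.H, ∀ y ∈ S.U r, h * y * h⁻¹ = y → y = 1
  inj : ∀ r, S.pos r → ∀ g ∈ rootLift S σ r, σ g = 1 → g = 1
  pair : ∀ i r, S.pos r → r ≠ S.a i →
    (∃ h ∈ S.H, (∀ x ∈ S.U (S.a i), h * x * h⁻¹ = x) ∧ ∀ y ∈ S.U r, h * y * h⁻¹ = y → y = 1) ∨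
      LiftsCommute σ (S.U (S.a i)) (S.U r)

variable {S σ} [Finite G] (hP : PHyp S σ) (hs : Function.Surjective σ) (hc : σ.ker ≤ center Γ)

include hP hs hc

theorem rootLift_le {r : R} : rootLift S σ r ≤ (S.U r).comap σ := by
  refine commutator_le.2 fun k hk b hb => ?_
  show σ ⁅k, b⁆ ∈ S.U r
  rw [map_commutatorElement, commutatorElement_def]
  refine mul_mem ?_ (inv_mem hb)
  simpa using acts_conj_mem (acts_H hP.ax hk) hb

theorem exists_rootLift {r : R} (hr : S.pos r) {x : G} (hx : x ∈ S.U r) :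
    ∃ g ∈ rootLift S σ r, σ g = x := by
  obtain ⟨h', hh, hf⟩ := hP.fpf r hr
  obtain ⟨h, rfl⟩ := hs h'
  obtain ⟨y, hy, e⟩ := exists_comm_eq'
    (fun y hy => by simpa using acts_conj_mem (acts_H hP.ax hh) hy) hf hx
  obtain ⟨a, rfl⟩ := hs y
  exact ⟨⁅h, a⁆, commutator_mem_commutator hh hy, by rw [map_commutatorElement, e]⟩

omit hs hc in
theorem H_conj_rootLift (r : R) {k : Γ} (hk : σ k ∈ S.H) :
    (rootLift S σ r).map (MulAut.conj k).toMonoidHom = rootLift S σ r := by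
  rw [rootLift, map_commutator]
  congr 1
  · ext g
    constructor
    · rintro ⟨y, hy, rfl⟩
      show σ (k * y * k⁻¹) ∈ S.H
      rw [map_mul, map_mul, map_inv]
      exact mul_mem (mul_mem hk hy) (inv_mem hk)
    · intro hg
      refine ⟨k⁻¹ * g * k, ?_, by simp [mul_assoc]⟩
      show σ (k⁻¹ * g * k) ∈ S.H
      rw [map_mul, map_mul, map_inv]
      exact mul_mem (mul_mem (inv_mem hk) hg) hk
  · ext g
    constructor
    · rintro ⟨y, hy, rfl⟩
      show σ (k * y * k⁻¹) ∈ S.U r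
      rw [map_mul, map_mul, map_inv]
      simpa using acts_conj_mem (acts_H hP.ax hk) hy
    · intro hg
      refine ⟨k⁻¹ * g * k, ?_, by simp [mul_assoc]⟩
      show σ (k⁻¹ * g * k) ∈ S.U r
      rw [map_mul, map_mul, map_inv]
      simpa using acts_conj_mem (acts_H hP.ax (inv_mem hk)) (show σ g ∈ S.U r from hg)

omit hs hc in
theorem n_conj_rootLift (i : ι) (r : R) {k : Γ} (hk : σ k = S.n i) :
    (rootLift S σ r).map (MulAut.conj k).toMonoidHom = rootLift S σ (S.σ i r) := by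
  rw [rootLift, map_commutator, rootLift]
  congr 1
  · ext g
    constructor
    · rintro ⟨y, hy, rfl⟩
      show σ (k * y * k⁻¹) ∈ S.H
      rw [map_mul, map_mul, map_inv, hk]
      exact hP.ax.n_norm i _ hy
    · intro hg
      refine ⟨k⁻¹ * g * k, ?_, by simp [mul_assoc]⟩
      show σ (k⁻¹ * g * k) ∈ S.H
      rw [map_mul, map_mul, map_inv, hk]
      have h2 := mul_mem (mul_mem (inv_mem (hP.ax.n_sq i))
        (hP.ax.n_norm i _ (show σ g ∈ S.H from hg))) (hP.ax.n_sq i)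
      simpa [mul_assoc] using h2
  · ext g
    constructor
    · rintro ⟨y, hy, rfl⟩
      show σ (k * y * k⁻¹) ∈ S.U (S.σ i r)
      rw [map_mul, map_mul, map_inv, hk]
      exact acts_conj_mem (acts_n hP.ax i) hy
    · intro hg
      refine ⟨k⁻¹ * g * k, ?_, by simp [mul_assoc]⟩
      show σ (k⁻¹ * g * k) ∈ S.U r
      rw [map_mul, map_mul, map_inv, hk]
      have h2 := acts_conj_mem (acts_inv (acts_n hP.ax i)) (show σ g ∈ S.U (S.σ i r) from hg)
      simpa using h2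

theorem map_invLift (π : Equiv.Perm R) : (invLift S σ π).map σ = S.Uinv π := by
  refine le_antisymm ?_ ((closure_le _).2 ?_)
  · rw [map_le_iff_le_comap]
    exact iSup₂_le fun r hr => (rootLift_le hP hs hc).trans (comap_mono fun x hx =>
      subset_closure ⟨r, hr.1, hr.2, hx⟩)
  · rintro x ⟨r, h1, h2, hx⟩
    obtain ⟨g, hg, rfl⟩ := exists_rootLift hP hs hc h1 hx
    exact ⟨g, le_iSup₂ (f := fun r (_ : S.pos r ∧ ¬ S.pos (π r)) => rootLift S σ r) r ⟨h1, h2⟩ hg,
      rfl⟩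

/-- The span of the lifts meets the kernel trivially. -/
theorem invLift_inj [Finite R] : ∀ (n : ℕ) (w : G) (π : Equiv.Perm R), S.Acts w π →
    H52.invCard S π = n → ∀ g ∈ invLift S σ π, σ g = 1 → g = 1 := by
  intro n
  induction n with
  | zero =>
    intro w π hπ hn g hg _
    have h : invLift S σ π = ⊥ := by
      refine eq_bot_iff.2 (iSup₂_le fun r hr => ?_)
      rw [H52.invCard, Nat.card_eq_zero] at hn
      rcases hn with hn | hn
      · exact (hn.false ⟨r, hr⟩).elim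
      · exact absurd (inferInstance : Finite _) hn.not_finite
    rw [h] at hg
    exact mem_bot.1 hg
  | succ n ih =>
    intro w π hπ hn g hg hg1
    have hS := hP.ax
    have hex : ∃ r, S.pos r ∧ ¬ S.pos (π r) := by
      by_contra hne
      rw [H52.invCard, Nat.card_eq_zero.2 (Or.inl ⟨fun x => hne ⟨x.1, x.2⟩⟩)] at hn
      omega
    obtain ⟨i, hi⟩ := hS.descent π hπ.1 hex
    set π₁ := π * S.σ i with hπ₁
    have hacts₁ : S.Acts (w * S.n i) π₁ := acts_mul hπ (acts_n hS i)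
    have hn₁ : H52.invCard S π₁ = n := by
      have := H52.invCard_step hS hπ.1 hi
      rw [← hπ₁] at this
      omega
    have hpa : S.pos (π₁ (S.a i)) := by
      rw [hπ₁, Equiv.Perm.mul_apply, hS.sigma_a, W_neg hS hπ.1, hS.pos_neg]; exact hi
    have hmem : ∀ r, S.pos r → ¬ S.pos (π r) → r ≠ S.a i →
        S.pos (S.σ i r) ∧ ¬ S.pos (π₁ (S.σ i r)) := fun r h1 h2 h3 =>
      ⟨hS.sigma_pos i r h1 h3, by rwa [hπ₁, Equiv.Perm.mul_apply, hS.sigma_sigma]⟩
    obtain ⟨k, hk⟩ := hs (S.n i)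
    set M' := (invLift S σ π₁).map (MulAut.conj k).toMonoidHom with hM'
    have hM'r : ∀ r, S.pos r → ¬ S.pos (π r) → r ≠ S.a i → rootLift S σ r ≤ M' := by
      intro r h1 h2 h3
      have e := n_conj_rootLift hP i (S.σ i r) hk
      rw [hS.sigma_sigma] at e
      rw [← e]
      exact map_mono (le_iSup₂ (f := fun r (_ : S.pos r ∧ ¬ S.pos (π₁ r)) => rootLift S σ r)
        (S.σ i r) (hmem r h1 h2 h3))
    have hM'le : M' ≤ ⨆ (r : R) (_ : S.pos r ∧ ¬ S.pos (π r) ∧ r ≠ S.a i), rootLift S σ r := by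
      rw [hM', invLift, Subgroup.map_iSup]
      refine iSup_le fun r => ?_
      rw [Subgroup.map_iSup]
      refine iSup_le fun hr => ?_
      rw [n_conj_rootLift hP i r hk]
      have hne : r ≠ S.a i := fun e => hr.2 (e ▸ hpa)
      refine le_iSup₂ (f := fun r (_ : S.pos r ∧ ¬ S.pos (π r) ∧ r ≠ S.a i) => rootLift S σ r)
        (S.σ i r) ⟨hS.sigma_pos i r hr.1 hne, ?_, sigma_ne_a hS hr.1 hne⟩
      have := hr.2
      rwa [hπ₁, Equiv.Perm.mul_apply] at this
    have hM'H : ∀ t : Γ, σ t ∈ S.H → ∀ m ∈ M', t * m * t⁻¹ ∈ M' := by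
      intro t ht m hm
      have hm' := hM'le hm
      have h2 : (⨆ (r : R) (_ : S.pos r ∧ ¬ S.pos (π r) ∧ r ≠ S.a i), rootLift S σ r).map
          (MulAut.conj t).toMonoidHom ≤ M' := by
        rw [Subgroup.map_iSup]
        refine iSup_le fun r => ?_
        rw [Subgroup.map_iSup]
        refine iSup_le fun hr => ?_
        rw [H_conj_rootLift hP r ht]
        exact hM'r r hr.1 hr.2.1 hr.2.2
      exact h2 ⟨m, hm', rfl⟩
    -- lifts of elements of `U a` normalise `M'`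
    have hnorm : ∀ x : Γ, σ x ∈ S.U (S.a i) → ∀ m ∈ M', x * m * x⁻¹ ∈ M' := by
      intro x hx m hm
      have hm' := hM'le hm
      suffices h2 : (⨆ (r : R) (_ : S.pos r ∧ ¬ S.pos (π r) ∧ r ≠ S.a i), rootLift S σ r).map
          (MulAut.conj x).toMonoidHom ≤ M' from h2 ⟨m, hm', rfl⟩
      rw [Subgroup.map_iSup]
      refine iSup_le fun r => ?_
      rw [Subgroup.map_iSup]
      refine iSup_le fun hr => ?_
      rintro _ ⟨y, hy, rfl⟩
      show x * y * x⁻¹ ∈ M'
      rcases hP.pair i r hr.1 hr.2.2 with ⟨h', hh, hfix, hf⟩ | hcm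
      swap
      · rw [(hcm x y hx (rootLift_le hP hs hc hy)).eq, mul_inv_cancel_right]
        exact hM'r r hr.1 hr.2.1 hr.2.2 hy
      obtain ⟨h, rfl⟩ := hs h'
      refine closure_induction (p := fun y _ => x * y * x⁻¹ ∈ M') ?_ (by simp)
        (fun y y' _ _ h1 h2 => by simpa [mul_assoc] using mul_mem h1 h2)
        (fun y _ h1 => by simpa [mul_assoc] using inv_mem h1)
        (rootLift_le_closure hs hc (fun x hx y hy => by simpa using acts_conj_mem (acts_H hP.ax hx) hy) hP.hab hh hf hy)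
      rintro _ ⟨a, ha, rfl⟩
      -- `x a x⁻¹` lies in the image of `M'`
      have haU : σ a ∈ S.Uinv π := subset_closure ⟨r, hr.1, hr.2.1, ha⟩
      have hxU : σ x ∈ S.Uinv π := subset_closure ⟨S.a i, hS.pos_a i, hi, hx⟩
      obtain ⟨v, hv, x', hx', he⟩ := H52.Uinv_split hS hP.sep hπ hi
        (mul_mem (mul_mem hxU haU) (inv_mem hxU))
      have hvhat : S.n i * v * (S.n i)⁻¹ ∈ S.Uhat i := by
        refine n_conj_Uhat hS i ((closure_le _).2 ?_ hv)
        rintro g ⟨s, hs1, hs2, hg⟩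
        exact U_le_Uhat hs1 (fun e => hs2 (e ▸ hpa)) hg
      have hx'1 : x' = 1 := by
        refine H52.Ua_inf_Uhat hS hP.sep i hx' ?_
        have h3 := Ua_conj_Uhat hS i hx (U_le_Uhat hr.1 hr.2.2 ha)
        have : x' = (S.n i * v * (S.n i)⁻¹)⁻¹ * (σ x * σ a * (σ x)⁻¹) := by rw [he]; group
        rw [this]
        exact mul_mem (inv_mem hvhat) h3
      rw [hx'1, mul_one] at he
      rw [← map_invLift hP hs hc π₁] at hv
      obtain ⟨m₁, hm₁, rfl⟩ := hv
      rw [conjugate_commutatorElement, comm_congr' hc (x' := h) (y' := k * m₁ * k⁻¹) (by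
          rw [map_mul, map_mul, map_inv, mul_inv_eq_iff_eq_mul]
          exact (mul_inv_eq_iff_eq_mul.1 (hfix _ hx)).symm)
        (by rw [map_mul, map_mul, map_inv, map_mul, map_mul, map_inv, hk, he]),
        commutatorElement_def]
      exact mul_mem (hM'H h hh _ ⟨m₁, hm₁, rfl⟩) (inv_mem ⟨m₁, hm₁, rfl⟩)
    have hLn : rootLift S σ (S.a i) ≤ normalizer (M' : Set Γ) := by
      intro x hx
      rw [mem_normalizer_iff]
      have hx' : σ x ∈ S.U (S.a i) := rootLift_le hP hs hc hx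
      refine fun m => ⟨hnorm x hx' m, fun h => ?_⟩
      have := hnorm x⁻¹ (by rw [map_inv]; exact inv_mem hx') _ h
      rwa [show x⁻¹ * (x * m * x⁻¹) * x⁻¹⁻¹ = m by group] at this
    have hle : invLift S σ π ≤ M' ⊔ rootLift S σ (S.a i) := iSup₂_le fun r hr => by
      by_cases h3 : r = S.a i
      · exact h3 ▸ le_sup_right
      · exact (hM'r r hr.1 hr.2 h3).trans le_sup_left
    have hg' : g ∈ ((M' ⊔ rootLift S σ (S.a i) : Subgroup Γ) : Set Γ) := hle hg
    rw [coe_mul_of_right_le_normalizer_left _ _ hLn] at hg'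
    obtain ⟨m, ⟨m₁, hm₁, rfl⟩, l, hl, rfl⟩ := hg'
    simp only [MulEquiv.coe_toMonoidHom, MulAut.conj_apply, map_mul, map_inv, hk] at hg1
    have hl1 : σ l = 1 := by
      refine H52.Ua_inf_Uhat hS hP.sep i (rootLift_le hP hs hc hl) ?_
      rw [eq_inv_of_mul_eq_one_right hg1]
      refine inv_mem (n_conj_Uhat hS i ?_)
      have : σ m₁ ∈ S.Uinv π₁ := by rw [← map_invLift hP hs hc π₁]; exact ⟨m₁, hm₁, rfl⟩
      refine (closure_le _).2 ?_ this
      rintro g ⟨s, hs1, hs2, hg⟩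
      exact U_le_Uhat hs1 (fun e => hs2 (e ▸ hpa)) hg
    have hm1 : σ m₁ = 1 := by
      rw [hl1, mul_one] at hg1
      exact conj_eq_one_iff.1 hg1
    show MulAut.conj k m₁ * l = 1
    rw [ih _ _ hacts₁ hn₁ _ hm₁ hm1, hP.inj _ (hS.pos_a i) l hl hl1, map_one, one_mul]

/-- In a stem extension the kernel has order prime to `p`. -/
theorem not_dvd_ker [Finite Γ] [Finite R] {p : ℕ} [Fact p.Prime] (hidx : ¬ p ∣ S.Uplus.index)
    {π₀ : Equiv.Perm R} (hπ₀ : π₀ ∈ S.W) (hneg : ∀ r, S.pos r → ¬ S.pos (π₀ r))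
    (hd : σ.ker ≤ commutator Γ) : ¬ p ∣ Nat.card σ.ker := by
  intro hdvd
  obtain ⟨⟨z, hz⟩, hord⟩ := exists_prime_orderOf_dvd_card' p hdvd
  rw [Subgroup.orderOf_mk] at hord
  obtain ⟨⟨w, hw⟩, hwe⟩ := weylHom_surjective hP.ax hP.sep ⟨π₀, hπ₀⟩
  have hact : S.Acts w π₀ := by
    have := permOf_acts hP.ax hP.sep ⟨w, hw⟩
    rwa [show permOf hP.ax ⟨w, hw⟩ = π₀ from congrArg Subtype.val hwe] at this
  have hU : S.Uinv π₀ = S.Uplus := by
    refine congrArg Subgroup.closure (Set.ext fun g => ?_)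
    exact ⟨fun ⟨r, h1, _, h3⟩ => ⟨r, h1, h3⟩, fun ⟨r, h1, h3⟩ => ⟨r, h1, hneg r h1, h3⟩⟩
  have hzc := CExt.mem_commutator_comap σ hs hc hidx (hd hz) hz (hord ▸ pow_orderOf_eq_one z)
  have hle : ⁅S.Uplus.comap σ, S.Uplus.comap σ⁆ ≤ invLift S σ π₀ := by
    refine commutator_le.2 fun a ha b hb => ?_
    rw [← hU, ← map_invLift hP hs hc π₀] at ha hb
    obtain ⟨a', ha', ea⟩ := ha
    obtain ⟨b', hb', eb⟩ := hb
    rw [comm_congr' hc ea.symm eb.symm, commutatorElement_def]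
    exact mul_mem (mul_mem (mul_mem ha' hb') (inv_mem ha')) (inv_mem hb')
  have hz1 := invLift_inj hP hs hc _ w π₀ hact rfl z (hle hzc) hz
  rw [hz1, orderOf_one] at hord
  exact (Fact.out : p.Prime).one_lt.ne hord

end H52.PL
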