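import Cfsg.Agent.H52.F4RankOne
import Cfsg.Agent.H52.PLift

/-!
Central extensions of ²F₄(q): the canonical lifts of the root subgroups meet the kernel trivially.
-/

set_option autoImplicit false
set_option linter.unusedSectionVars false
set_option maxRecDepth 8000
set_option maxHeartbeats 1000000

namespace H52.F4R

open Cfsg.Lie H52 H53 H53.F4T H52.F4N H32.FF
open H50.Tw (LiftsCommute rootLift rk1)
open scoped commutatorElement

universe u v

variable {K : Type u} [Field K] [Fintype K] {m : ℕ} (hK : Fintype.card K = 2 ^ (2 * m + 1))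
include hK

/-! ### Certificates. -/

theorem conj_cert {w : Wd} {L : List Pol} (Z : List ℕ) (hw : w = kill Z conjW)
    (hL : coords 3000 w = some L) (p q p' : Pt K)
    (hZ : ∀ a ∈ Z, (env m p ++ env m q).getD a 0 = 0)
    (hd : ∀ i < 24, evP (env m p ++ env m q) (L.getD i []) = evP (env m p') (cPhiL.getD i [])) :
    (prodPt hK q)⁻¹ * prodPt hK p * prodPt hK q = prodPt hK p' := by
  apply gext
  rw [val_mul, val_mul, val_inv, val_prodPt, val_prodPt, val_prodPt, el_inv_conj hK,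
    ← evW_kill _ Z hZ, ← hw]
  exact eq_of_coords (h2 hK) hL cPhi_eq hd

theorem c03 (a s : K) : (pB hK 3 s 0)⁻¹ * pA hK 0 a * pB hK 3 s 0 =
    pA hK 0 a * pB hK 1 0 (th m (a * s)) := by
  have h := conj_cert hK (w := cX03W) (L := [[[0]], [], [], [], [], [], [], [], [], [[1]], [], [],
    [[1, 33]], [], [], [], [], [], [[0, 32]], [], [], [], [], []])
    (allBut 48 [0, 1, 32, 33]) rfl (by decide +kernel) (ptA 0 a) (ptB 3 s 0)
    ⟨a, 0, th m (a * s), 0, 0, 0, 0, 0, 0, 0, 0, 0⟩ ?_ ?_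
  · have e1 : prodPt hK (ptA 0 a) = pA hK 0 a :=
      (prodPt_single hK (k := 0) (by decide)).1 rfl a
    have e2 : prodPt hK (ptB 3 s 0) = pB hK 3 s 0 :=
      (prodPt_single hK (k := 3) (by decide)).2 rfl s 0
    rw [e1, e2] at h
    rw [h]
    simp [prodPt, pA_zero hK, pB_zero hK]
  · intro z hz
    simp [allBut, List.mem_filter] at hz
    obtain ⟨hz1, hz2⟩ := hz
    interval_cases z <;> simp [env, ptA, ptB, th_zero] at hz2 ⊢
  · intro i hi
    interval_cases i <;>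
      simp [cPhiL, evP, evM, env, ptA, ptB, th_zero, th_mul, sq_th_th hK, mul_comm, mul_assoc]
    all_goals
      rw [mul_pow, sq_th_th hK, sq_th_th hK]

theorem c13 (t u s : K) : (pB hK 3 s 0)⁻¹ * pB hK 1 t u * pB hK 3 s 0 =
    pB hK 1 t u * pA hK 2 (t * s) := by
  have h := conj_cert hK (w := cX13W) (L := [[], [], [[2]], [], [], [], [], [], [], [], [[3]], [],
    [[4]], [], [[3, 33]], [], [], [], [[5], [2, 3, 3]], [[2, 32]], [], [], [], []])
    (allBut 48 [2, 3, 4, 5, 32, 33]) rfl (by decide +kernel) (ptB 1 t u) (ptB 3 s 0)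
    ⟨0, t, u, t * s, 0, 0, 0, 0, 0, 0, 0, 0⟩ ?_ ?_
  · have e1 : prodPt hK (ptB 1 t u) = pB hK 1 t u :=
      (prodPt_single hK (k := 1) (by decide)).2 rfl t u
    have e2 : prodPt hK (ptB 3 s 0) = pB hK 3 s 0 :=
      (prodPt_single hK (k := 3) (by decide)).2 rfl s 0
    rw [e1, e2] at h
    rw [h]
    simp [prodPt, pA_zero hK, pB_zero hK]
  · intro z hz
    simp [allBut, List.mem_filter] at hz
    obtain ⟨hz1, hz2⟩ := hz
    interval_cases z <;> simp [env, ptA, ptB, th_zero] at hz2 ⊢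
  · intro i hi
    interval_cases i <;>
      simp [cPhiL, evP, evM, env, ptA, ptB, th_zero, th_mul, mul_comm, mul_assoc]

theorem comm01 : ∀ x ∈ U16 hK 0, ∀ y ∈ U16 hK 1, Commute x y := by
  intro x hx y hy
  obtain ⟨a, rfl⟩ := (mem_U16_even hK (k := 0) rfl).1 hx
  obtain ⟨t, u, rfl⟩ := (mem_U16_odd hK (k := 1) rfl).1 hy
  have h := conj_cert hK (w := kill (allBut 48 [0, 1, 26, 27, 28, 29]) conjW)
    (L := [[[0]], [], [], [], [], [], [], [], [], [[1]], [], [], [], [], [], [], [], [], [], [], [],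
      [], [], []]) _ rfl (by decide +kernel) (ptA 0 a) (ptB 1 t u) (ptA 0 a) ?_ ?_
  · have e1 : prodPt hK (ptA 0 a) = pA hK 0 a :=
      (prodPt_single hK (k := 0) (by decide)).1 rfl a
    have e2 : prodPt hK (ptB 1 t u) = pB hK 1 t u :=
      (prodPt_single hK (k := 1) (by decide)).2 rfl t u
    rw [e1, e2, mul_assoc, inv_mul_eq_iff_eq_mul] at h
    exact h
  · intro z hz
    simp [allBut, List.mem_filter] at hz
    obtain ⟨hz1, hz2⟩ := hz
    interval_cases z <;> simp [env, ptA, ptB, th_zero] at hz2 ⊢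
  · intro i hi
    interval_cases i <;> simp [cPhiL, evP, evM, env, ptA, ptB, th_zero]

theorem comm02 : ∀ x ∈ U16 hK 0, ∀ y ∈ U16 hK 2, Commute x y := by
  intro x hx y hy
  obtain ⟨a, rfl⟩ := (mem_U16_even hK (k := 0) rfl).1 hx
  obtain ⟨t, rfl⟩ := (mem_U16_even hK (k := 2) rfl).1 hy
  have h := conj_cert hK (w := kill (allBut 48 [6, 7, 24, 25]) conjW)
    (L := [[], [], [], [], [], [], [], [], [], [], [], [], [], [], [[7]], [], [], [], [], [[6]], [],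
      [], [], []]) _ rfl (by decide +kernel) (ptA 2 t) (ptA 0 a) (ptA 2 t) ?_ ?_
  · have e1 : prodPt hK (ptA 0 a) = pA hK 0 a :=
      (prodPt_single hK (k := 0) (by decide)).1 rfl a
    have e2 : prodPt hK (ptA 2 t) = pA hK 2 t :=
      (prodPt_single hK (k := 2) (by decide)).1 rfl t
    rw [e1, e2, mul_assoc, inv_mul_eq_iff_eq_mul] at h
    exact h.symm
  · intro z hz
    simp [allBut, List.mem_filter] at hz
    obtain ⟨hz1, hz2⟩ := hz
    interval_cases z <;> simp [env, ptA, ptB, th_zero] at hz2 ⊢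
  · intro i hi
    interval_cases i <;> simp [cPhiL, evP, evM, env, ptA, ptB, th_zero]

theorem comm23 (t s : K) : Commute (pA hK 2 t) (pB hK 3 s 0) := by
  have h := conj_cert hK (w := kill (allBut 48 [6, 7, 32, 33]) conjW)
    (L := [[], [], [], [], [], [], [], [], [], [], [], [], [], [], [[7]], [], [], [], [], [[6]], [],
      [], [], []]) _ rfl (by decide +kernel) (ptA 2 t) (ptB 3 s 0) (ptA 2 t) ?_ ?_
  · have e1 : prodPt hK (ptB 3 s 0) = pB hK 3 s 0 :=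
      (prodPt_single hK (k := 3) (by decide)).2 rfl s 0
    have e2 : prodPt hK (ptA 2 t) = pA hK 2 t :=
      (prodPt_single hK (k := 2) (by decide)).1 rfl t
    rw [e1, e2, mul_assoc, inv_mul_eq_iff_eq_mul] at h
    exact h
  · intro z hz
    simp [allBut, List.mem_filter] at hz
    obtain ⟨hz1, hz2⟩ := hz
    interval_cases z <;> simp [env, ptA, ptB, th_zero] at hz2 ⊢
  · intro i hi
    interval_cases i <;> simp [cPhiL, evP, evM, env, ptA, ptB, th_zero]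

/-! ### Fixed points of the torus. -/

theorem fix16 {k : Fin 16} {a b : Kˣ} (h : wt m k (a, b) = 1) {x : ↥(FG K m)}
    (hx : x ∈ U16 hK k) : hab hK a b * x * (hab hK a b)⁻¹ = x := by
  obtain e | e : cl k = 0 ∨ cl k = 1 := by omega
  · obtain ⟨t, rfl⟩ := (mem_U16_even hK e).1 hx
    rw [hab_conj_pA hK e, h, Units.val_one, one_mul]
  · obtain ⟨t, u, rfl⟩ := (mem_U16_odd hK e).1 hx
    rw [hab_conj_pB hK e, h, Units.val_one, one_mul, one_pow, one_mul]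

theorem nofix16 {k : Fin 16} {a b : Kˣ} (h : wt m k (a, b) ≠ 1) {x : ↥(FG K m)}
    (hx : x ∈ U16 hK k) (hf : hab hK a b * x * (hab hK a b)⁻¹ = x) : x = 1 := by
  have h' : ((wt m k (a, b) : Kˣ) : K) ≠ 1 := fun e => h (Units.ext e)
  have h'' : ((wt m k (a, b) : Kˣ) : K) ^ (2 ^ m + 1) ≠ 1 := fun e =>
    h (units_pow hK _ (Or.inr (Or.inr (Or.inr (Or.inr (Or.inl (Units.ext (by simpa using e))))))))
  obtain e | e : cl k = 0 ∨ cl k = 1 := by omega
  · obtain ⟨t, rfl⟩ := (mem_U16_even hK e).1 hx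
    rw [hab_conj_pA hK e, pA, pA] at hf
    have h1 := P0_inj hK (mul_left_cancel (mul_right_cancel hf))
    rw [mul_left_eq_self₀, or_iff_right h'] at h1
    rw [h1, pA_zero hK]
  · obtain ⟨t, u, rfl⟩ := (mem_U16_odd hK e).1 hx
    rw [hab_conj_pB hK e, pB, pB] at hf
    obtain ⟨h1, h3⟩ := P1_inj hK (mul_left_cancel (mul_right_cancel hf))
    rw [mul_left_eq_self₀, or_iff_right h'] at h1
    rw [mul_left_eq_self₀, or_iff_right h''] at h3
    rw [h1, h3, pB_zero hK]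

theorem no_cube (z : K) : z ^ 2 + z + 1 ≠ 0 := by
  intro h
  haveI := charTwo hK
  have hz0 : z ≠ 0 := by rintro rfl; simp at h
  have h3 : z ^ 3 = 1 := by linear_combination (z - 1) * h
  have hq := FiniteField.pow_card_sub_one_eq_one z hz0
  obtain ⟨j, hj⟩ : ∃ j, Fintype.card K - 1 = 3 * j + 1 := by
    have h4 : 2 ^ (2 * m + 1) % 3 = 2 := by
      rw [pow_succ, pow_mul, Nat.mul_mod, Nat.pow_mod]
      norm_num
    refine ⟨(Fintype.card K - 1) / 3, ?_⟩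
    rw [hK]
    omega
  rw [hj, pow_succ, pow_mul, h3, one_pow, one_mul] at hq
  rw [hq, one_pow, CharTwo.add_self_eq_zero, zero_add] at h
  exact one_ne_zero h

variable (hm : 1 ≤ m) {Γ : Type v} [Group Γ] {σ : Γ →* ↥(FG K m)}
  (hs : Function.Surjective σ) (hc : σ.ker ≤ Subgroup.center Γ)

omit hK in
/-- The torus normalises the root subgroups. -/
theorem H_mem16 (hK : Fintype.card K = 2 ^ (2 * m + 1)) (k : Fin 16) {x y : ↥(FG K m)}
    (hx : x ∈ (sys hK).H) (hy : y ∈ (sys hK).U k) : x * y * x⁻¹ ∈ (sys hK).U k :=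
  (conj_H16 hK hx k).le ⟨y, hy, rfl⟩

include hm hs hc

/-- Lifts of the classes 0 and 1 commute. -/
theorem lifts01 : LiftsCommute σ (U16 hK 0) (U16 hK 1) := by
  obtain ⟨l, hl⟩ := one_lt_card hK hm
  refine H50.Tw.liftsCommute_of_weight hs hc (comm01 hK) ?_ (h := hab hK l l⁻¹) ?_ ?_ ?_
  · intro x hx y hy
    obtain ⟨s, rfl⟩ := (mem_U16_even hK (k := 0) rfl).1 hx
    obtain ⟨t, rfl⟩ := (mem_U16_even hK (k := 0) rfl).1 hy
    show _ * _ = _ * _
    rw [pA_mul, pA_mul, add_comm]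
  · exact fun x hx => H_mem16 hK 0 (hab_mem16 hK _ _) hx
  · exact fun x hx hf => nofix16 hK (by rwa [(wt_table hK l l⁻¹).1]) hx hf
  · exact fun y hy => fix16 hK (by rw [(wt_table hK l l⁻¹).2.1, mul_inv_cancel]) hy

/-- Lifts of the classes 0 and 2 commute. -/
theorem lifts02 : LiftsCommute σ (U16 hK 0) (U16 hK 2) := by
  obtain ⟨l, hl⟩ := one_lt_card hK hm
  refine H50.Tw.liftsCommute_of_weight hs hc (comm02 hK) ?_
    (h := hab hK (l ^ (2 * 2 ^ m + 2)) (l ^ (2 * 2 ^ m + 1))⁻¹) ?_ ?_ ?_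
  · intro x hx y hy
    obtain ⟨s, rfl⟩ := (mem_U16_even hK (k := 0) rfl).1 hx
    obtain ⟨t, rfl⟩ := (mem_U16_even hK (k := 0) rfl).1 hy
    show _ * _ = _ * _
    rw [pA_mul, pA_mul, add_comm]
  · exact fun x hx => H_mem16 hK 0 (hab_mem16 hK _ _) hx
  · refine fun x hx hf => nofix16 hK (fun e => hl ?_) hx hf
    rw [(wt_table hK _ _).1] at e
    exact units_pow hK l (Or.inr (Or.inr (Or.inl e)))
  · refine fun y hy => fix16 hK ?_ hy
    rw [(wt_table hK _ _).2.2.1, inv_pow, ← pow_mul, ← pow_mul,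
      mul_comm (2 * 2 ^ m + 2), mul_inv_cancel]

/-- Lifts of the centre of the long class commute with lifts of the class. -/
theorem centre_lift {z x : Γ} {w : K} (hz : σ z = P1 m 0 w) (hx : σ x ∈ X16 hK 1) :
    Commute z x := by
  haveI := charTwo hK
  obtain ⟨k, hk⟩ := hs (sW hK 0)
  refine (Commute.conj_iff k).1 ?_
  have hwd : wd 1 = [0] := rfl
  have hwg : wG hK [0] = sW hK 0 := by simp [wG]
  obtain ⟨t, u, hx⟩ := (mem_X16_1 hK).1 hx
  have hz' : σ (k * z * k⁻¹) = pB hK 1 0 w := by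
    rw [map_mul, map_mul, map_inv, hz, hk, pB, hwd, hwg]
  have hx' : σ (k * x * k⁻¹) = pB hK 1 t u := by
    rw [map_mul, map_mul, map_inv, hx, hk, pB, hwd, hwg]
  generalize k * z * k⁻¹ = z at hz' ⊢
  generalize k * x * k⁻¹ = x at hx' ⊢
  obtain ⟨s, rfl⟩ := th_surjective hK w
  obtain ⟨A, hA⟩ := hs (pA hK 0 1)
  obtain ⟨B, hB⟩ := hs (pB hK 3 s 0)⁻¹
  have hAi : (pA hK 0 (1 : K))⁻¹ = pA hK 0 1 :=
    inv_eq_of_mul_eq_one_right (by rw [pA_mul, CharTwo.add_self_eq_zero, pA_zero hK])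
  have hAB : σ ⁅A, B⁆ = pB hK 1 0 (th m s) := by
    have h := c03 hK 1 s
    rw [one_mul] at h
    rw [map_commutatorElement, hA, hB, commutatorElement_def, inv_inv]
    calc pA hK 0 1 * (pB hK 3 s 0)⁻¹ * (pA hK 0 1)⁻¹ * pB hK 3 s 0
        = pA hK 0 1 * ((pB hK 3 s 0)⁻¹ * pA hK 0 1 * pB hK 3 s 0) := by rw [hAi]; group
      _ = _ := by rw [h, ← mul_assoc, pA_mul, CharTwo.add_self_eq_zero, pA_zero hK, one_mul]
  suffices h : Commute ⁅A, B⁆ x by
    have hker : ⁅A, B⁆⁻¹ * z ∈ Subgroup.center Γ := hc (by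
      rw [MonoidHom.mem_ker, map_mul, map_inv, hAB, hz', inv_mul_cancel])
    rw [show z = ⁅A, B⁆ * (⁅A, B⁆⁻¹ * z) by group]
    exact h.mul_left (Subgroup.mem_center_iff.1 hker x).symm
  have hA0 : σ A ∈ U16 hK 0 := (mem_U16_even hK rfl).2 ⟨_, hA⟩
  have hxA : x * A * x⁻¹ = A := by
    rw [(lifts01 hK hm hs hc A x hA0 ((mem_U16_odd hK rfl).2 ⟨_, _, hx'⟩)).symm.eq,
      mul_inv_cancel_right]
  have hXi : (pB hK 1 t u)⁻¹ = pB hK 1 t (u + t ^ 2 ^ m * t) := by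
    refine inv_eq_of_mul_eq_one_right ?_
    rw [pB_mul, CharTwo.add_self_eq_zero,
      show u + (u + t ^ 2 ^ m * t) + t ^ 2 ^ m * t = u + u + (t ^ 2 ^ m * t + t ^ 2 ^ m * t) by ring,
      CharTwo.add_self_eq_zero, CharTwo.add_self_eq_zero, add_zero, pB_zero hK]
  obtain ⟨W, hW⟩ := hs (pA hK 2 (t * s))
  have hB' : σ (x * B * x⁻¹) = σ (W * B) := by
    have h := c13 hK t (u + t ^ 2 ^ m * t) s
    rw [← hXi] at h
    rw [map_mul, map_mul, map_mul, map_inv, hx', hB, hW]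
    calc pB hK 1 t u * (pB hK 3 s 0)⁻¹ * (pB hK 1 t u)⁻¹
        = pB hK 1 t u * ((pB hK 3 s 0)⁻¹ * (pB hK 1 t u)⁻¹ * pB hK 3 s 0) * (pB hK 3 s 0)⁻¹ := by
          group
      _ = _ := by rw [h]; group
  have hAW : Commute A W := lifts02 hK hm hs hc A W hA0 ((mem_U16_even hK rfl).2 ⟨_, hW⟩)
  have hWc : W * ⁅A, B⁆ * W⁻¹ = ⁅A, B⁆ := by
    rw [conjugate_commutatorElement]
    refine H50.Tw.comm_congr' hc ?_ ?_
    · rw [hAW.symm.eq, mul_inv_cancel_right]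
    · rw [map_mul, map_mul, map_inv, hW, hB, (comm23 hK (t * s) s).inv_right.eq,
        mul_inv_cancel_right]
  have e : x * ⁅A, B⁆ * x⁻¹ = ⁅A, B⁆ := by
    rw [conjugate_commutatorElement, hxA, H50.Tw.comm_congr' hc (rfl : σ A = σ A) hB',
      commutatorElement_mul_right_eq_mul_conj, commutatorElement_eq_one_iff_commute.2 hAW, one_mul,
      hWc]
  exact (mul_inv_eq_iff_eq_mul.1 e).symm

/-- The canonical lift of the first class meets the kernel trivially. -/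
theorem inj0 [Finite Γ] {g : Γ} (hg : g ∈ rootLift (sys hK) σ (a16 0)) (hg1 : σ g = 1) : g = 1 := by
  classical
  haveI := charTwo hK
  obtain ⟨l, hl⟩ := one_lt_card hK hm
  have hl' : (l : K) + 1 ≠ 0 := fun e => hl (Units.ext (CharTwo.add_eq_zero.1 e))
  set U : Subgroup ↥(FG K m) := U16 hK 0
  have hab0 : ∀ x ∈ U, ∀ y ∈ U, Commute x y := by
    intro x hx y hy
    obtain ⟨s, rfl⟩ := (mem_U16_even hK (k := 0) rfl).1 hx
    obtain ⟨t, rfl⟩ := (mem_U16_even hK (k := 0) rfl).1 hy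
    show _ * _ = _ * _
    rw [pA_mul, pA_mul, add_comm]
  have hconj : ∀ (a : Kˣ) (t : K),
      hab hK a 1 * pA hK 0 t * (hab hK a 1)⁻¹ = pA hK 0 ((a : K) * t) := fun a t => by
    rw [hab_conj_pA hK rfl, (wt_table hK a 1).1]
  have hinv : (hab hK l 1)⁻¹ = hab hK l⁻¹ 1 := by
    refine inv_eq_of_mul_eq_one_right ?_
    rw [hab_mul, mul_inv_cancel, mul_one, hab_one]
  have hLC : LiftsCommute σ U U := by
    refine H50.Tw.liftsCommute_self_of_elt hs hc hab0 (h := hab hK l 1)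
      (h' := hab hK (Units.mk0 _ hl') 1) ?_ ?_ ?_ ?_
    · exact fun x hx => H_mem16 hK 0 (hab_mem16 hK _ _) hx
    · intro x hx
      have := H_mem16 hK 0 (inv_mem (hab_mem16 hK l 1)) (show x ∈ (sys hK).U 0 from hx)
      rwa [inv_inv] at this
    · intro x hx
      obtain ⟨t, rfl⟩ := (mem_U16_even hK (k := 0) rfl).1 hx
      rw [hconj, hconj, pA_mul, Units.val_mk0]
      congr 1; ring
    · intro x hx e
      obtain ⟨t, rfl⟩ := (mem_U16_even hK (k := 0) rfl).1 hx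
      have e' : (hab hK l 1)⁻¹ * pA hK 0 t * hab hK l 1 = pA hK 0 ((l⁻¹ : Kˣ) * t) := by
        rw [← hconj l⁻¹ t, ← hinv, inv_inv]
      rw [e', hconj, pA_mul, pA_mul, pA_base hK rfl, ← P0_zero hK] at e
      have e1 := P0_inj hK e
      have e2 : ((l : K) ^ 2 + l + 1) * t = 0 := by
        have h1 : (l : K) * ((l⁻¹ : Kˣ) : K) = 1 := Units.mul_inv l
        linear_combination (l : K) * e1 - t * h1
      rw [(mul_eq_zero.1 e2).resolve_left (no_cube hK _), pA_zero hK]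
  obtain ⟨h, hh⟩ := hs (hab hK l 1)
  have hhH : σ h ∈ (sys hK).H := hh ▸ hab_mem16 hK _ _
  have hf : ∀ y ∈ U, σ h * y * (σ h)⁻¹ = y → y = 1 := fun y hy e =>
    nofix16 hK (by rw [(wt_table hK l 1).1]; exact hl) hy (hh ▸ e)
  have hle := H52.PL.rootLift_le_closure (S := sys hK) hs hc (r := a16 0)
    (fun x hx y hy => H_mem16 hK _ hx hy) (hab16 hK) hhH hf hg
  have hC : ∀ a : Γ, σ a ∈ U → σ ⁅h, a⁆ ∈ U := fun a ha => by
    rw [map_commutatorElement, commutatorElement_def]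
    exact mul_mem (H_mem16 hK 0 hhH ha) (inv_mem ha)
  obtain ⟨a, ha, rfl⟩ : ∃ a, σ a ∈ U ∧ g = ⁅h, a⁆ := by
    let L : Submonoid Γ :=
      { carrier := {g | ∃ a, σ a ∈ U ∧ g = ⁅h, a⁆}
        one_mem' := ⟨1, by simp, by simp⟩
        mul_mem' := by
          rintro _ _ ⟨a, ha, rfl⟩ ⟨b, hb, rfl⟩
          refine ⟨a * b, by rw [map_mul]; exact mul_mem ha hb, ?_⟩
          rw [commutatorElement_mul_right_eq_mul_conj, mul_assoc ⁅h, a⁆,
            (hLC a ⁅h, b⁆ ha (hC b hb)).eq, ← mul_assoc, mul_inv_cancel_right] }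
    have : g ∈ L := by
      rw [← Subgroup.mem_toSubmonoid, Subgroup.closure_toSubmonoid_of_finite] at hle
      exact Submonoid.closure_le.2 (fun x hx => hx) hle
    exact this
  rw [map_commutatorElement, commutatorElement_def, mul_inv_eq_one] at hg1
  rw [H50.Tw.comm_congr' hc (rfl : σ h = σ h) (y' := 1) (by rw [map_one, hf _ ha hg1]),
    commutatorElement_one_right]

/-- The canonical lift of the second class meets the kernel trivially. -/
theorem inj7 [Finite Γ] {g : Γ} (hg : g ∈ rootLift (sys hK) σ (a16 1)) (hg1 : σ g = 1) : g = 1 := by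
  classical
  haveI := charTwo hK
  obtain ⟨l, hl⟩ := one_lt_card hK hm
  have hl1 : (l : K) + 1 ≠ 0 := fun e => hl (Units.ext (CharTwo.add_eq_zero.1 e))
  set c : K := (l : K) ^ (2 ^ m + 1) + 1 with hcdef
  have hc0 : c ≠ 0 := fun e => hl (units_pow hK l (Or.inr (Or.inr (Or.inr (Or.inr (Or.inl
    (Units.ext (by simpa using CharTwo.add_eq_zero.1 e))))))))
  obtain ⟨h, hh⟩ := hs (hab hK 1 l)
  let lf : ↥(FG K m) → Γ := Function.surjInv hs
  have hlf : ∀ x, σ (lf x) = x := Function.surjInv_eq hs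
  have hX : ∀ t u : K, P1 m t u ∈ X16 hK 1 := fun t u => (mem_X16_1 hK).2 ⟨t, u, rfl⟩
  have hcen : ∀ {z x : Γ} {w : K}, σ z = P1 m 0 w → σ x ∈ X16 hK 1 → Commute z x :=
    fun {z x w} a b => centre_lift hK hm hs hc a b
  have hcongr : ∀ {x x' y y' : Γ}, σ x = σ x' → σ y = σ y' → ⁅x, y⁆ = ⁅x', y'⁆ :=
    fun {x x' y y'} a b => H50.Tw.comm_congr' hc a b
  let ζ : K → Γ := fun u => ⁅h, lf (P1 m 0 (u / c))⁆
  let f : K → Γ := fun t => lf (P1 m t 0)
  let th' : K → K := fun t => t ^ 2 ^ m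
  have hadd : ∀ a b : K, (a + b) ^ 2 ^ m = a ^ 2 ^ m + b ^ 2 ^ m := add_pow_e hK
  have hP1i : ∀ t u : K, (P1 m t u : ↥(FG K m))⁻¹ = P1 m t (u + t ^ 2 ^ m * t) := fun t u => by
    refine inv_eq_of_mul_eq_one_right ?_
    rw [P1_mul hK, CharTwo.add_self_eq_zero,
      show u + (u + t ^ 2 ^ m * t) + t ^ 2 ^ m * t = u + u + (t ^ 2 ^ m * t + t ^ 2 ^ m * t) by ring,
      CharTwo.add_self_eq_zero, CharTwo.add_self_eq_zero, add_zero, P1_zero hK]
  have hz1 : (P1 m (0 : K) 0 : ↥(FG K m)) = 1 := P1_zero hK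
  have hcomm : ∀ t s : K, σ ⁅f t, f s⁆ = P1 m 0 (t ^ 2 ^ m * s + s ^ 2 ^ m * t) := fun t s => by
    rw [map_commutatorElement, hlf, hlf, commutatorElement_def, hP1i, hP1i, P1_mul hK, P1_mul hK,
      P1_mul hK]
    congr 1
    · rw [show t + s + t + s = t + t + (s + s) by ring, CharTwo.add_self_eq_zero,
        CharTwo.add_self_eq_zero, add_zero]
    · rw [hadd, hadd, hadd]
      linear_combination (t ^ 2 ^ m * t + s ^ 2 ^ m * s + t ^ 2 ^ m * s) * h2 hK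
  have hζσ : ∀ u : K, σ (ζ u) = P1 m 0 u := fun u => by
    rw [map_commutatorElement, hlf, hh, commutatorElement_def, hab_conj_P1, hP1i, P1_mul hK]
    congr 1
    · simp
    · rw [zero_pow (pow_ne_zero _ two_ne_zero)]
      simp only [zero_mul, mul_zero, add_zero]
      field_simp
      rw [hcdef]
  have hζadd : ∀ u u' : K, ζ (u + u') = ζ u * ζ u' := by
    intro u u'
    have h1 : Commute (lf (P1 m 0 (u / c))) (ζ u') :=
      hcen (hlf _) (hζσ u' ▸ hX _ _)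
    show ⁅h, lf (P1 m 0 ((u + u') / c))⁆ = _
    rw [hcongr (rfl : σ h = σ h) (y' := lf (P1 m 0 (u / c)) * lf (P1 m 0 (u' / c))) (by
        rw [map_mul, hlf, hlf, hlf, P1_mul hK, add_div]
        simp), commutatorElement_mul_right_eq_mul_conj]
    show ζ u * lf (P1 m 0 (u / c)) * ζ u' * (lf (P1 m 0 (u / c)))⁻¹ = _
    rw [mul_assoc (ζ u), h1.eq, ← mul_assoc, mul_inv_cancel_right]
  have hζ0 : ζ 0 = 1 := by
    have := hζadd 0 0
    rwa [add_zero, eq_comm, mul_eq_left] at this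
  have hζc : ∀ (u : K) (x : Γ), σ x ∈ X16 hK 1 → Commute (ζ u) x := fun u x hx => hcen (hζσ u) hx
  -- equivariance
  have hequ : ∀ (a : Kˣ) (k : Γ), σ k = hab hK 1 a →
      ∀ u, k * ζ u * k⁻¹ = ζ ((a : K) ^ (2 ^ m + 1) * u) := by
    intro a k hk u
    rw [conjugate_commutatorElement]
    refine hcongr ?_ ?_
    · rw [map_mul, map_mul, map_inv, hh, hk, hab_mul, mul_comm a, ← hab_mul, mul_inv_cancel_right]
    · rw [map_mul, map_mul, map_inv, hlf, hlf, hk, hab_conj_P1, mul_zero, mul_div_assoc]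
  -- the lifts of commutators
  let β : K → K → Γ := fun t s => (ζ (t ^ 2 ^ m * s + s ^ 2 ^ m * t))⁻¹ * ⁅f t, f s⁆
  have hβk : ∀ t s, β t s ∈ Subgroup.center Γ := fun t s => hc (by
    rw [MonoidHom.mem_ker, map_mul, map_inv, hζσ, hcomm, inv_mul_cancel])
  have hfc : ∀ t s (x : Γ), σ x ∈ X16 hK 1 → Commute ⁅f t, f s⁆ x := fun t s x hx =>
    hcen (hcomm t s) hx
  have hfX : ∀ t, σ (f t) ∈ X16 hK 1 := fun t => (hlf (P1 m t 0)).symm ▸ hX t 0
  have hsplit : ∀ (t u : K) (a : Γ), σ a = P1 m t u → σ a = σ (f t * lf (P1 m 0 u)) := fun t u a ha => by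
    rw [map_mul, hlf, hlf, P1_mul hK, ha]
    simp
  have hadd1 : ∀ t t' s, ⁅f (t + t'), f s⁆ = ⁅f t', f s⁆ * ⁅f t, f s⁆ := by
    intro t t' s
    set z := lf (P1 m 0 (t ^ 2 ^ m * t'))
    have e : σ (f (t + t')) = σ (f t * f t' * z) := by
      rw [map_mul, map_mul, hlf, hlf, hlf, hlf, P1_mul hK, P1_mul hK]
      congr 1
      · simp
      · rw [hadd]
        linear_combination -(t ^ 2 ^ m * t') * h2 hK
    have hz : Commute z (f s) := hcen (hlf _) (hfX s)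
    rw [hcongr e (rfl : σ (f s) = σ (f s)), commutatorElement_mul_left_eq_conj_mul,
      commutatorElement_eq_one_iff_commute.2 hz, mul_one, mul_inv_cancel, one_mul,
      commutatorElement_mul_left_eq_conj_mul, (hfc t' s _ (hfX t)).symm.eq, mul_inv_cancel_right]
  have hanti : ∀ t s, ⁅f s, f t⁆ = ⁅f t, f s⁆⁻¹ := fun t s => (commutatorElement_inv _ _).symm
  have hcc : ∀ t s t' s', Commute ⁅f t, f s⁆ ⁅f t', f s'⁆ := fun t s t' s' =>
    hfc t s _ (hcomm t' s' ▸ hX _ _)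
  have hadd2 : ∀ t s s', ⁅f t, f (s + s')⁆ = ⁅f t, f s'⁆ * ⁅f t, f s⁆ := fun t s s' => by
    rw [hanti (s + s') t, hadd1, mul_inv_rev, ← hanti, ← hanti]
    exact (hcc _ _ _ _).eq
  have hzc : ∀ u t s, Commute (ζ u) ⁅f t, f s⁆ := fun u t s => hζc u _ (hcomm t s ▸ hX _ _)
  have hβ1 : ∀ t t' s, β (t + t') s = β t s * β t' s := by
    intro t t' s
    show (ζ _)⁻¹ * _ = (ζ _)⁻¹ * _ * ((ζ _)⁻¹ * _)
    rw [hadd1, hadd, show (t ^ 2 ^ m + t' ^ 2 ^ m) * s + s ^ 2 ^ m * (t + t') =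
      (t ^ 2 ^ m * s + s ^ 2 ^ m * t) + (t' ^ 2 ^ m * s + s ^ 2 ^ m * t') by ring, hζadd, mul_inv_rev,
      (hcc t' s t s).eq]
    set A := ζ (t ^ 2 ^ m * s + s ^ 2 ^ m * t)
    set A' := ζ (t' ^ 2 ^ m * s + s ^ 2 ^ m * t')
    have h1 : Commute A'⁻¹ (A⁻¹ * ⁅f t, f s⁆) :=
      (Subgroup.mem_center_iff.1 (hβk t s) A'⁻¹)
    calc A'⁻¹ * A⁻¹ * (⁅f t, f s⁆ * ⁅f t', f s⁆) = A'⁻¹ * (A⁻¹ * ⁅f t, f s⁆) * ⁅f t', f s⁆ := by group
      _ = A⁻¹ * ⁅f t, f s⁆ * A'⁻¹ * ⁅f t', f s⁆ := by rw [h1.eq]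
      _ = _ := by group
  have hsymm : ∀ t s, β s t = (β t s)⁻¹ := by
    intro t s
    show (ζ _)⁻¹ * _ = ((ζ _)⁻¹ * _)⁻¹
    rw [mul_inv_rev, inv_inv, hanti t s, add_comm (s ^ 2 ^ m * t)]
    have h1 := (hzc (t ^ 2 ^ m * s + s ^ 2 ^ m * t) t s).inv_inv
    have h3 : (ζ (t ^ 2 ^ m * s + s ^ 2 ^ m * t))⁻¹ = ζ (t ^ 2 ^ m * s + s ^ 2 ^ m * t) := by
      refine inv_eq_of_mul_eq_one_right ?_
      rw [← hζadd, CharTwo.add_self_eq_zero, hζ0]
    rw [h1.eq]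
    conv_lhs => rw [h3]
  have hβ2 : ∀ t s s', β t (s + s') = β t s * β t s' := by
    intro t s s'
    rw [hsymm (s + s') t, hβ1, mul_inv_rev, ← hsymm, ← hsymm]
    exact (Subgroup.mem_center_iff.1 (hβk t s) _)
  have hβinv : ∀ (a : Kˣ) t s, β ((a : K) * t) ((a : K) * s) = β t s := by
    intro a t s
    obtain ⟨k, hk⟩ := hs (hab hK 1 a)
    have hkf : ∀ t, σ (k * f t * k⁻¹) = σ (f ((a : K) * t)) := fun t => by
      rw [map_mul, map_mul, map_inv, hk, hlf, hlf, hab_conj_P1, mul_zero]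
    have e : k * β t s * k⁻¹ = β ((a : K) * t) ((a : K) * s) := by
      show k * ((ζ _)⁻¹ * _) * k⁻¹ = (ζ _)⁻¹ * _
      rw [show k * ((ζ (t ^ 2 ^ m * s + s ^ 2 ^ m * t))⁻¹ * ⁅f t, f s⁆) * k⁻¹ =
        (k * ζ (t ^ 2 ^ m * s + s ^ 2 ^ m * t) * k⁻¹)⁻¹ * (k * ⁅f t, f s⁆ * k⁻¹) by group,
        hequ a k hk, conjugate_commutatorElement, hcongr (hkf t) (hkf s)]
      congr 3
      rw [mul_pow, mul_pow, pow_succ]
      ring
    rw [← e, Subgroup.mem_center_iff.1 (hβk t s) k, mul_inv_cancel_right]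
  have hβ : ∀ t s, β t s = 1 := by
    intro t s
    have hne : ((l⁻¹ : Kˣ) : K) + 1 + l ≠ 0 := fun e => no_cube hK (l : K) (by
      linear_combination (l : K) * e - Units.mul_inv l)
    obtain ⟨t, rfl⟩ : ∃ t', t = (((l⁻¹ : Kˣ) : K) + 1 + l) * t' :=
      ⟨t / _, (mul_div_cancel₀ t hne).symm⟩
    have e := hβinv (Units.mk0 _ hl1) t s
    rw [Units.val_mk0, add_mul, add_mul, one_mul, one_mul, hβ1, hβ2, hβ2, hβinv l] at e
    have e2 : β t ((l : K) * s) = β (((l⁻¹ : Kˣ) : K) * t) s := by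
      rw [← hβinv l⁻¹ t ((l : K) * s), ← mul_assoc ((l⁻¹ : Kˣ) : K) (l : K), Units.inv_mul, one_mul]
    rw [e2, ← hβ1, ← hβ1, ← hβ1] at e
    rw [add_mul, add_mul, one_mul]
    rw [show t + (l : K) * t + (((l⁻¹ : Kˣ) : K) * t + t) =
      (((l⁻¹ : Kˣ) : K) * t + t + (l : K) * t) + t by ring, hβ1] at e
    exact mul_eq_right.1 e
  have hff : ∀ t s, ⁅f t, f s⁆ = ζ (t ^ 2 ^ m * s + s ^ 2 ^ m * t) := fun t s =>
    (inv_mul_eq_one.1 (hβ t s)).symm
  -- the lift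
  let ψ : K → Γ := fun t => ⁅h, f t⁆
  have hψσ : ∀ t, ∃ u, σ (ψ t) = P1 m ((l : K) * t + t) u := fun t => by
    have h0 : σ (ψ t) =
        hab hK 1 l * P1 m t 0 * (hab hK 1 l)⁻¹ * (P1 m t 0 : ↥(FG K m))⁻¹ := by
      rw [map_commutatorElement, hlf, hh, commutatorElement_def]
    rw [hab_conj_P1, hP1i, P1_mul hK] at h0
    exact ⟨_, h0⟩
  have hψX : ∀ t, σ (ψ t) ∈ X16 hK 1 := fun t => by
    obtain ⟨u, hu⟩ := hψσ t
    exact hu ▸ hX _ _
  have hgen : ∀ a : Γ, σ a ∈ X16 hK 1 → ∃ t u, ⁅h, a⁆ = ψ t * ζ u := by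
    intro a ha
    obtain ⟨t, u, ha⟩ := (mem_X16_1 hK).1 ha
    refine ⟨t, u * c, ?_⟩
    rw [hcongr (rfl : σ h = σ h) (hsplit t u a ha), commutatorElement_mul_right_eq_mul_conj,
      mul_assoc (ψ t)]
    have e : ⁅h, lf (P1 m 0 u)⁆ = ζ (u * c) := by simp [ζ, hc0]
    rw [e, (hζc _ _ (hfX t)).symm.eq, ← mul_assoc, mul_inv_cancel_right]
  have hψmul : ∀ t t', ∃ u, ψ t * ψ t' = ψ (t + t') * ζ u := by
    intro t t'
    obtain ⟨u', hu'⟩ := hψσ t'
    obtain ⟨T, U, h1⟩ := hgen (f t * f t') (by rw [map_mul]; exact mul_mem (hfX t) (hfX t'))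
    have hT : σ (f t * f t') = P1 m (t + t') (t ^ 2 ^ m * t') := by
      rw [map_mul, hlf, hlf, P1_mul hK]; simp
    have h4 : ⁅h, f t * f t'⁆ = ψ (t + t') * ζ (t ^ 2 ^ m * t' * c) := by
      rw [hcongr (rfl : σ h = σ h) (hsplit _ _ _ hT), commutatorElement_mul_right_eq_mul_conj,
        mul_assoc (ψ (t + t'))]
      have e : ⁅h, lf (P1 m 0 (t ^ 2 ^ m * t'))⁆ = ζ (t ^ 2 ^ m * t' * c) := by simp [ζ, hc0]
      rw [e, (hζc _ _ (hfX _)).symm.eq, ← mul_assoc, mul_inv_cancel_right]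
    set T' := (l : K) * t' + t'
    have h5 : ⁅f t, ψ t'⁆ = ζ (t ^ 2 ^ m * T' + T' ^ 2 ^ m * t) := by
      rw [hcongr (rfl : σ (f t) = σ (f t)) (hsplit _ _ _ hu'), commutatorElement_mul_right_eq_mul_conj,
        commutatorElement_eq_one_iff_commute.2 (hcen (hlf (P1 m 0 u')) (hfX t)).symm, mul_one,
        mul_inv_cancel_right, hff]
    rw [commutatorElement_mul_right_eq_mul_conj, mul_assoc (ψ t), mul_assoc (ψ t),
      show f t * ⁅h, f t'⁆ * (f t)⁻¹ = ⁅f t, ψ t'⁆ * ψ t' by simp only [ψ, commutatorElement_def (f t)]; group,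
      h5, (hζc _ _ (hψX t')).eq, ← mul_assoc] at h4
    refine ⟨t ^ 2 ^ m * t' * c + (t ^ 2 ^ m * T' + T' ^ 2 ^ m * t), ?_⟩
    rw [hζadd, ← mul_assoc, ← h4]
    have : ζ (t ^ 2 ^ m * T' + T' ^ 2 ^ m * t) * ζ (t ^ 2 ^ m * T' + T' ^ 2 ^ m * t) = 1 := by
      rw [← hζadd, CharTwo.add_self_eq_zero, hζ0]
    rw [mul_assoc, this, mul_one]
  have hf0 : f 0 ∈ σ.ker := by rw [MonoidHom.mem_ker, hlf, hz1]
  have hψ0 : ψ 0 = 1 := by
    show ⁅h, f 0⁆ = 1
    rw [commutatorElement_eq_one_iff_commute]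
    exact Subgroup.mem_center_iff.1 (hc hf0) h
  obtain ⟨T, U, rfl⟩ : ∃ t u, g = ψ t * ζ u := by
    let L : Submonoid Γ :=
      { carrier := {g | ∃ t u, g = ψ t * ζ u}
        one_mem' := ⟨0, 0, by rw [hψ0, hζ0, one_mul]⟩
        mul_mem' := by
          rintro _ _ ⟨t, u, rfl⟩ ⟨t', u', rfl⟩
          obtain ⟨w, hw⟩ := hψmul t t'
          refine ⟨t + t', w + (u + u'), ?_⟩
          rw [hζadd, hζadd, ← mul_assoc (ψ _), ← hw, mul_assoc (ψ t), ← mul_assoc (ζ u),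
            (hζc u _ (hψX t')).eq, mul_assoc (ψ t'), ← mul_assoc, ← mul_assoc] }
    have hle := H52.PL.rootLift_le_closure (S := sys hK) hs hc (r := a16 1)
      (fun x hx y hy => H_mem16 hK _ hx hy) (hab16 hK) (show σ h ∈ (sys hK).H from hh ▸ hab_mem16 hK _ _)
      (fun y hy e => nofix16 hK (by rw [show wt m (a16 1) ((1 : Kˣ), l) = l from rfl]; exact hl) hy
        (hh ▸ e)) hg
    have : g ∈ L := by
      rw [← Subgroup.mem_toSubmonoid, Subgroup.closure_toSubmonoid_of_finite] at hle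
      refine Submonoid.closure_le.2 ?_ hle
      rintro _ ⟨a, ha, rfl⟩
      exact hgen a ((U16_base hK 1).le ha)
    exact this
  obtain ⟨u, hu⟩ := hψσ T
  rw [map_mul, hu, hζσ, P1_mul hK, ← hz1] at hg1
  obtain ⟨h1, h3⟩ := P1_inj hK hg1
  rw [add_zero, ← add_one_mul, mul_eq_zero] at h1
  obtain rfl := h1.resolve_left hl1
  have hu0 : σ (ψ 0) = 1 := by rw [hψ0, map_one]
  rw [hu, ← hz1] at hu0
  obtain ⟨-, rfl⟩ := P1_inj hK hu0
  simp at h3
  rw [h3, hψ0, hζ0, one_mul]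

end H52.F4R
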