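import Cfsg.Agent.H52.F4Lift
import Cfsg.Agent.H76.ExcFinite

/-!
The multiplier of ²F₄(q) is trivial.
-/

set_option autoImplicit false
set_option linter.unusedSectionVars false
set_option maxRecDepth 8000
set_option maxHeartbeats 1000000

namespace H52.F4R

open Cfsg.Lie H52 H53 H53.F4T H32.FF
open H50.CExt H50.Tw
open scoped commutatorElement

universe u v

/-- The dihedral Coxeter matrix of order sixteen. -/
def cox16 : CoxeterMatrix (Fin 2) where
  M := fun i j => if i = j then 1 else 8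
  isSymm := by ext i j; fin_cases i <;> fin_cases j <;> rfl
  diagonal := fun i => if_pos rfl
  off_diagonal := fun i j h => by rw [if_neg h]; norm_num

theorem sg_rel : ∀ i j : Fin 2, (sg i * sg j) ^ (if i = j then 1 else 8) = 1 := by decide +kernel

theorem sg_free : ∀ k : Fin 8, ((sg 0 * sg 1) ^ k.val = 1 → k = 0) ∧
    (sg 0 * sg 1) ^ k.val * sg 0 ≠ 1 := by
  decide +kernel

theorem sg_long : ∀ r : Fin 16, pos16 r → ¬ pos16 (((sg 0 * sg 1) ^ 4) r) := by decide +kernel

theorem exists_psi16 : ∃ ψ : cox16.Group →* Equiv.Perm (Fin 16),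
    (∀ i, ψ (cox16.simple i) = sg i) ∧ Function.Injective ψ := by
  let cs := cox16.toCoxeterSystem
  have hlift : cox16.IsLiftable sg := sg_rel
  refine ⟨cs.lift ⟨_, hlift⟩, fun i => cs.lift_apply_simple hlift i,
    (injective_iff_map_eq_one _).2 fun w hw => ?_⟩
  set a := cs.simple 0 with ha
  set r := cs.simple 0 * cs.simple 1 with hr
  have haa : a * a = 1 := cs.simple_mul_simple_self 0
  have hbb : cs.simple 1 * cs.simple 1 = 1 := cs.simple_mul_simple_self 1
  have hr8 : r ^ 8 = 1 := cs.simple_mul_simple_pow 0 1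
  have h7 : r ^ 7 = cs.simple 1 * a := by
    refine mul_left_cancel (a := r) ?_
    rw [← pow_succ', hr8, hr, ha, mul_assoc, ← mul_assoc (cs.simple 1), hbb, one_mul, ← ha, haa]
  have har : ∀ n : ℕ, a * r ^ n = r ^ (7 * n) * a := by
    intro n
    induction n with
    | zero => simp
    | succ n ih =>
      rw [pow_succ r n, ← mul_assoc, ih, mul_assoc, Nat.mul_succ, pow_add, mul_assoc]
      congr 1
      rw [h7, mul_assoc, haa, mul_one, hr, ha, ← mul_assoc, ← ha, haa, one_mul]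
  have hform : ∀ w : cox16.Group, ∃ n : ℕ, w = r ^ n ∨ w = r ^ n * a := by
    intro w
    induction w using cs.simple_induction_left with
    | one => exact ⟨0, Or.inl (pow_zero r).symm⟩
    | mul_simple_left w i ih =>
      obtain ⟨n, ih⟩ := ih
      have hb : cs.simple 1 = a * r := by rw [hr, ha, ← mul_assoc, ← ha, haa, one_mul]
      obtain rfl | rfl : i = 0 ∨ i = 1 := by omega
      · rw [← ha]
        rcases ih with rfl | rfl
        · exact ⟨_, Or.inr (har n)⟩
        · exact ⟨_, Or.inl (by rw [← mul_assoc, har, mul_assoc, haa, mul_one])⟩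
      · rw [hb]
        rcases ih with rfl | rfl
        · exact ⟨_, Or.inr (by rw [mul_assoc, ← pow_succ', har])⟩
        · exact ⟨_, Or.inl (by
            rw [mul_assoc, ← mul_assoc r, ← pow_succ', ← mul_assoc, har, mul_assoc, haa, mul_one])⟩
  obtain ⟨n, hn⟩ := hform w
  have hred : r ^ n = r ^ (n % 8) := by
    conv_lhs => rw [← Nat.div_add_mod n 8, pow_add, pow_mul, hr8, one_pow, one_mul]
  obtain ⟨k1, k2⟩ := sg_free ⟨n % 8, Nat.mod_lt _ (by norm_num)⟩
  rcases hn with rfl | rfl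
  · rw [hred, map_pow, hr, map_mul, cs.lift_apply_simple hlift, cs.lift_apply_simple hlift] at hw
    have h0 : n % 8 = 0 := congrArg Fin.val (k1 hw)
    rw [hred, h0, pow_zero]
  · rw [hred, map_mul, map_pow, hr, map_mul, ha, cs.lift_apply_simple hlift,
      cs.lift_apply_simple hlift] at hw
    exact absurd hw k2

theorem braid16 : ∀ i j : Fin 2, i ≠ j → BraidData sg a16 i j (cox16 i j) := by
  intro i j hij
  obtain rfl | rfl : i = 0 ∨ i = 1 := by omega
  · obtain rfl : j = 1 := by omega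
    exact ⟨[0, 1, 0, 1, 0, 1, 0], 1, by decide +kernel, by decide +kernel⟩
  · obtain rfl : j = 0 := by omega
    exact ⟨[1, 0, 1, 0, 1, 0, 1], 0, by decide +kernel, by decide +kernel⟩

variable {K : Type u} [Field K] [Fintype K] {m : ℕ} (hK : Fintype.card K = 2 ^ (2 * m + 1))
include hK

theorem wG_norm_H : ∀ (L : List (Fin 2)), ∀ h ∈ (sys hK).H,
    (wG hK L)⁻¹ * h * wG hK L ∈ (sys hK).H
  | [], h, hh => by simpa [wG_nil] using hh
  | i :: L, h, hh => by
    have h1 : (sW hK i)⁻¹ * h * sW hK i ∈ (sys hK).H := by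
      obtain ⟨a, b, rfl⟩ := exists_hab16 hK hh
      have h2' := s_conj hK i a b
      rw [sG_inv] at h2' ⊢
      rw [h2']
      exact hab_mem16 hK _ _
    have h3 := wG_norm_H L _ h1
    rw [wG_cons, show (sW hK i * wG hK L)⁻¹ * h * (sW hK i * wG hK L) =
      (wG hK L)⁻¹ * ((sW hK i)⁻¹ * h * sW hK i) * wG hK L by group]
    exact h3

variable (hm : 1 ≤ m) {Γ : Type v} [Group Γ] [Finite Γ] {σ : Γ →* ↥(FG K m)}
  (hs : Function.Surjective σ) (hc : σ.ker ≤ Subgroup.center Γ)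
include hm hs hc

/-- The hypotheses on the canonical lifts. -/
theorem pHyp16 : H52.PL.PHyp (sys hK) σ where
  ax := ax hK hm
  sep := sep hK hm
  hab := hab16 hK
  fpf r hr := by
    obtain ⟨z, hz⟩ := one_lt_card hK hm
    by_cases h0 : r = 0
    · refine ⟨hab hK z 1, hab_mem16 hK _ _, fun y hy hf => nofix16 hK (fun e => hz ?_) hy hf⟩
      exact wt_fix1 hK hr (by rw [h0]; decide) e
    · exact ⟨hab hK 1 z, hab_mem16 hK _ _,
        fun y hy hf => nofix16 hK (fun e => hz (wt_fix0 hK hr h0 e)) hy hf⟩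
  inj r hr g hg hg1 := by
    obtain ⟨k, hk⟩ := hs (wG hK (wd r))
    have hmap : (rootLift (sys hK) σ r).map (MulAut.conj k⁻¹).toMonoidHom ≤
        rootLift (sys hK) σ (a16 (cl r)) := by
      rw [rootLift, Subgroup.map_commutator, rootLift]
      refine Subgroup.commutator_mono ?_ ?_
      · rintro _ ⟨y, hy, rfl⟩
        show σ (k⁻¹ * y * k⁻¹⁻¹) ∈ (sys hK).H
        rw [inv_inv, map_mul, map_mul, map_inv, hk]
        exact wG_norm_H hK _ _ hy
      · rintro _ ⟨y, hy, rfl⟩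
        show σ (k⁻¹ * y * k⁻¹⁻¹) ∈ U16 hK (a16 (cl r))
        rw [inv_inv, map_mul, map_mul, map_inv, hk, U16_base]
        obtain ⟨x, hx, e⟩ := (show σ y ∈ U16 hK r from hy)
        rw [← e]
        simpa [mul_assoc] using hx
    have h1 : k⁻¹ * g * k⁻¹⁻¹ ∈ rootLift (sys hK) σ (a16 (cl r)) := hmap ⟨g, hg, rfl⟩
    have h3 : σ (k⁻¹ * g * k⁻¹⁻¹) = 1 := by rw [map_mul, map_mul, hg1]; simp
    have h4 : k⁻¹ * g * k⁻¹⁻¹ = 1 := by
      obtain e | e : cl r = 0 ∨ cl r = 1 := by omega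
      · rw [e] at h1; exact inj0 hK hm hs hc h1 h3
      · rw [e] at h1; exact inj7 hK hm hs hc h1 h3
    exact conj_eq_one_iff.1 h4
  pair i r hr hne := by
    obtain ⟨z, hz⟩ := one_lt_card hK hm
    have hne' : r ≠ a16 i := hne
    have hr' : pos16 r := hr
    have key : ∀ a b : Kˣ, wt m (a16 i) (a, b) = 1 → wt m r (a, b) ≠ 1 →
        ∃ h ∈ (sys hK).H, (∀ x ∈ (sys hK).U ((sys hK).a i), h * x * h⁻¹ = x) ∧
          ∀ y ∈ (sys hK).U r, h * y * h⁻¹ = y → y = 1 := fun a b h1 h3 =>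
      ⟨hab hK a b, hab_mem16 hK a b, fun x hx => fix16 hK h1 (show x ∈ U16 hK (a16 i) from hx),
        fun y hy hf => nofix16 hK h3 hy hf⟩
    clear hne hr
    obtain rfl | rfl : i = 0 ∨ i = 1 := by omega
    · exact Or.inl (key 1 z ((wt_fix_a hK).1 z) fun e => hz (wt_fix0 hK hr' hne' e))
    · exact Or.inl (key z 1 ((wt_fix_a hK).2 z) fun e => hz (wt_fix1 hK hr' hne' e))

/-- The kernel of a stem extension of ²F₄(q) is trivial. -/
theorem card_ker16 (hd : σ.ker ≤ commutator Γ) : Nat.card σ.ker = 1 := by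
  classical
  haveI : Fact (Nat.Prime 2) := ⟨Nat.prime_two⟩
  have hS := ax hK hm
  have hidx : ¬ 2 ∣ (sys hK).Uplus.index :=
    H50.Tw.not_dvd_index_Uplus hS (sep hK hm) (hab16 hK) (isPGroup_Uplus hK) (not_dvd_card_H16 hK)
  have hW : (sys hK).W = Subgroup.closure (Set.range sg) := rfl
  have hπ : (sg 0 * sg 1) ^ 4 ∈ (sys hK).W := by
    rw [hW]
    exact pow_mem (mul_mem (Subgroup.subset_closure (Set.mem_range_self 0)) (Subgroup.subset_closure (Set.mem_range_self 1))) 4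
  have hcop : ¬ 2 ∣ Nat.card σ.ker :=
    H52.PL.not_dvd_ker (pHyp16 hK hm hs hc) hs hc hidx hπ sg_long hd
  have hL : LiftHyp (sys hK) 2 σ :=
    ⟨hS, sep hK hm, hab16 hK, isPGroup_Uplus hK, sW_mem_rk1 hK,
      fun i => split16 hK hm i σ hs hc hcop, gen_H16 hK⟩
  obtain ⟨ψ, hψ, hψi⟩ := exists_psi16
  have hdvd := H50.Tw.card_ker_dvd hL hs hc hcop ψ hψ hψi braid16 hd
  obtain ⟨φ, -, -, h0⟩ := exists_sl2 hK hm
  obtain ⟨-, h1⟩ := exists_suzuki hK hm
  have hle := Nat.le_of_dvd (Finset.prod_pos fun i _ => Nat.card_pos) hdvd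
  rw [card_H16 hK, Fin.prod_univ_two] at hle
  have hq : 1 ≤ Fintype.card K - 1 := by
    have : 2 ≤ Fintype.card K := hK ▸ Nat.le_self_pow (by omega) 2
    omega
  have hpos : 0 < Nat.card σ.ker := Nat.card_pos
  have hprod := hle.trans (Nat.mul_le_mul h0 h1)
  rw [← sq] at hprod
  have h5 : 0 < (Fintype.card K - 1) ^ 2 := pow_pos hq 2
  nlinarith

omit hm hs hc in
/-- The multiplier of ²F₄(q) is trivial. -/
theorem multiplier (hm : 1 ≤ m) :
    Cfsg.HasCyclicSchurMultiplier ↥(twistedF4 K (2 ^ m)) 1 := by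
  refine H76.Exc.trivial_multiplier fun Γ _ _ σ hσ => ?_
  obtain ⟨hs, hc, hd⟩ := hσ
  let e : ↥(FG K m) ≃* ↥(twistedF4 K (2 ^ m)) :=
    Subgroup.subgroupOfEquivOfLe (twisted_le (K := K) (2 ^ m))
  have hk : (e.symm.toMonoidHom.comp σ).ker = σ.ker :=
    MonoidHom.ker_mulEquiv_comp σ e.symm
  have h := card_ker16 hK hm (σ := e.symm.toMonoidHom.comp σ) (e.symm.surjective.comp hs)
    (hk.le.trans hc) (hk.le.trans hd)
  rwa [hk] at h

end H52.F4R
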