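import Cfsg.Agent.H53.TwistF4Res

/-!
A checked normal form for words in the positive root elements of type F4 over a field of
characteristic two, with parameters polynomial in atoms.
-/

set_option autoImplicit false
set_option linter.unusedSectionVars false

namespace H52.F4N

open Cfsg.Lie H52 H53

/-- A monomial: the atoms, with multiplicity. -/
abbrev Mon := List ℕ
/-- A polynomial modulo two. -/
abbrev Pol := List Mon
/-- A word. -/
abbrev Wd := List (ℕ × Pol)

/-- Insert an atom. -/
def ins (a : ℕ) : Mon → Mon
  | [] => [a]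
  | b :: L => if a ≤ b then a :: b :: L else b :: ins a L

/-- Product of monomials. -/
def mmul (p q : Mon) : Mon := p.foldr ins q

/-- Add a monomial. -/
def tog (p : Mon) : Pol → Pol
  | [] => [p]
  | q :: L => if p = q then L else q :: tog p L

/-- Sum. -/
def padd (P Q : Pol) : Pol := P.foldr tog Q

/-- Product. -/
def pmul (P Q : Pol) : Pol := P.foldr (fun p acc => padd (Q.map (mmul p)) acc) []

/-- Power. -/
def ppow (P : Pol) : ℕ → Pol
  | 0 => [[]]
  | k + 1 => pmul (ppow P k) P

/-- The value of a monomial. -/
def evM {K : Type*} [Field K] (ρ : List K) (p : Mon) : K := (p.map fun a => ρ.getD a 0).prod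

/-- The value of a polynomial. -/
def evP {K : Type*} [Field K] (ρ : List K) (P : Pol) : K := (P.map (evM ρ)).sum

/-- The value of a word. -/
noncomputable def evW {K : Type*} [Field K] (ρ : List K) (w : Wd) : GL chevF4.Idx K :=
  wordRt chevF4 (w.map fun p => (p.1, evP ρ p.2))

/-- The correction when `x_s(u)` passes `x_r(t)`. -/
def commP (r s : ℕ) (t u : Pol) : Wd :=
  (chevF4.commTerms r s).map fun c =>
    (c.1, if c.2.1 % 2 = 0 then [] else pmul (ppow t c.2.2.1) (ppow u c.2.2.2))

/-- Drop trivial letters. -/
def strip (w : Wd) : Wd := w.filter fun p => !p.2.isEmpty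

/-- One rewriting step. -/
def step : Wd → Option Wd
  | [] => none
  | [_] => none
  | (a, x) :: (b, y) :: rest =>
    if a = b then some (strip ((a, padd x y) :: rest))
    else if b < a ∧ a < chevF4.nroots ∧ a ≠ chevF4.neg b then
      some (strip ((b, y) :: (a, x) :: (commP b a y x ++ rest)))
    else (step ((b, y) :: rest)).map ((a, x) :: ·)

/-- Repeated rewriting. -/
def norm : ℕ → Wd → Wd
  | 0, w => w
  | k + 1, w =>
    match step w with
    | none => w
    | some w' => norm k w'

/-- The coefficient of a root in a word without repetition. -/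
def coef (w : Wd) (r : ℕ) : Pol :=
  match w.find? (fun p => p.1 == r) with
  | some p => p.2
  | none => []

/-- The full word of a normal form. -/
def pad (w : Wd) : Wd := (List.range' 24 24).map fun r => (r, coef w r)

/-- The coefficients in the order of the roots, if the normal form was reached. -/
def coords (fuel : ℕ) (w : Wd) : Option (List Pol) :=
  let v := strip (norm fuel (strip w))
  if strip (pad v) = v then some ((List.range' 24 24).map (coef v)) else none

section sound

variable {K : Type*} [Field K] (h2 : (2 : K) = 0) (ρ : List K)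

theorem evM_ins (a : ℕ) (p : Mon) : evM ρ (ins a p) = ρ.getD a 0 * evM ρ p := by
  induction p with
  | nil => simp [evM, ins]
  | cons b L ih =>
    simp only [ins]
    split_ifs
    · simp [evM]
    · simp only [evM, List.map_cons, List.prod_cons] at ih ⊢
      rw [ih]; ring

theorem evM_mmul (p q : Mon) : evM ρ (mmul p q) = evM ρ p * evM ρ q := by
  induction p with
  | nil => simp [mmul, evM]
  | cons a p ih =>
    have e : mmul (a :: p) q = ins a (mmul p q) := rfl
    rw [e, evM_ins, ih]
    simp [evM, mul_assoc]

include h2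

theorem evP_tog (p : Mon) (P : Pol) : evP ρ (tog p P) = evM ρ p + evP ρ P := by
  induction P with
  | nil => simp [evP, tog]
  | cons q L ih =>
    simp only [tog]
    split_ifs with h
    · subst h
      simp only [evP, List.map_cons, List.sum_cons]
      linear_combination (-evM ρ p) * h2
    · simp only [evP, List.map_cons, List.sum_cons] at ih ⊢
      rw [ih]; ring

theorem evP_padd (P Q : Pol) : evP ρ (padd P Q) = evP ρ P + evP ρ Q := by
  induction P with
  | nil => simp [padd, evP]
  | cons p P ih =>
    have e : padd (p :: P) Q = tog p (padd P Q) := rfl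
    rw [e, evP_tog h2, ih]
    simp [evP, add_assoc]

theorem evP_pmul (P Q : Pol) : evP ρ (pmul P Q) = evP ρ P * evP ρ Q := by
  induction P with
  | nil => simp [pmul, evP]
  | cons p P ih =>
    have e : pmul (p :: P) Q = padd (Q.map (mmul p)) (pmul P Q) := rfl
    rw [e, evP_padd h2, ih]
    have e2 : evP ρ (Q.map (mmul p)) = evM ρ p * evP ρ Q := by
      simp only [evP, List.map_map]
      rw [← List.sum_map_mul_left]
      exact congrArg List.sum (List.map_congr_left fun q _ => evM_mmul ρ p q)
    rw [e2]
    simp [evP, add_mul]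

theorem evP_ppow (P : Pol) (k : ℕ) : evP ρ (ppow P k) = evP ρ P ^ k := by
  induction k with
  | zero => simp [ppow, evP, evM]
  | succ k ih => rw [ppow, evP_pmul h2, ih, pow_succ]

omit h2 in
theorem evW_nil : evW ρ [] = 1 := by simp [evW, wordRt]

omit h2 in
theorem evW_cons (p : ℕ × Pol) (w : Wd) : evW ρ (p :: w) = rt chevF4 p.1 (evP ρ p.2) * evW ρ w := by
  simp [evW, wordRt]

omit h2 in
theorem evW_append (v w : Wd) : evW ρ (v ++ w) = evW ρ v * evW ρ w := by
  simp [evW, wordRt, List.map_append, List.prod_append]

omit h2 in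
theorem evW_strip (w : Wd) : evW ρ (strip w) = evW ρ w := by
  induction w with
  | nil => rfl
  | cons p w ih =>
    rcases hp : p.2 with _ | ⟨q, L⟩
    · have e : strip (p :: w) = strip w := by simp [strip, hp]
      rw [e, ih, evW_cons, hp]
      simp [evP, checkedF4.rt_zero]
    · have e : strip (p :: w) = p :: strip w := by simp [strip, hp]
      rw [e, evW_cons, evW_cons, ih]

theorem evW_commP (r s : ℕ) (t u : Pol) :
    evW ρ (commP r s t u) = wordRt chevF4 (chevF4.commWord K r s (evP ρ t) (evP ρ u)) := by
  have hneg : ∀ x : K, -x = x := fun x => by linear_combination -x * h2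
  simp only [evW, commP, ChevalleyDatum.commWord, List.map_map]
  congr 1
  refine List.map_congr_left fun c _ => ?_
  simp only [Function.comp_apply, hneg]
  rw [Prod.mk.injEq]
  refine ⟨rfl, ?_⟩
  split_ifs with h
  · obtain ⟨d, hd⟩ : (2 : ℤ) ∣ c.2.1 := Int.dvd_of_emod_eq_zero h
    rw [hd]
    push_cast
    simp [evP, h2]
  · obtain ⟨d, hd⟩ : ∃ d : ℤ, c.2.1 = 2 * d + 1 := ⟨c.2.1 / 2, by omega⟩
    rw [hd, evP_pmul h2, evP_ppow h2, evP_ppow h2]
    push_cast
    linear_combination (-((d : K) * evP ρ t ^ c.2.2.1 * evP ρ u ^ c.2.2.2)) * h2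

theorem evW_step : ∀ {w w' : Wd}, step w = some w' → evW ρ w' = evW ρ w
  | [], _, h => by simp [step] at h
  | [_], _, h => by simp [step] at h
  | (a, x) :: (b, y) :: rest, w', h => by
    simp only [step] at h
    split_ifs at h with h1 h3
    · subst h1
      cases h
      rw [evW_strip, evW_cons, evW_cons, evW_cons, evP_padd h2, ← checkedF4.rt_mul, mul_assoc]
    · cases h
      obtain ⟨hba, ha, hneg⟩ := h3
      rw [evW_strip, evW_cons, evW_cons, evW_cons, evW_cons, evW_append, evW_commP h2]
      show rt chevF4 b (evP ρ y) * (rt chevF4 a (evP ρ x) * (_ * evW ρ rest)) =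
        rt chevF4 a (evP ρ x) * (rt chevF4 b (evP ρ y) * evW ρ rest)
      rw [← mul_assoc (rt chevF4 a _) (rt chevF4 b _), checkedF4.comm_rt (by omega) ha h1 hneg]
      simp only [mul_assoc]
    · rw [Option.map_eq_some_iff] at h
      obtain ⟨v, hv, rfl⟩ := h
      rw [evW_cons, evW_step hv, evW_cons ρ (a, x)]

theorem evW_norm (k : ℕ) (w : Wd) : evW ρ (norm k w) = evW ρ w := by
  induction k generalizing w with
  | zero => rfl
  | succ k ih =>
    simp only [norm]
    cases hs : step w with
    | none => rfl
    | some w' => rw [ih, evW_step h2 ρ hs]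

theorem evW_coords {fuel : ℕ} {w : Wd} {L : List Pol} (h : coords fuel w = some L) :
    evW ρ w = upProd chevF4 24 (fun r => evP ρ (L.getD (r - 24) [])) := by
  simp only [coords] at h
  split_ifs at h with hc
  cases h
  set v := strip (norm fuel (strip w)) with hv
  have e : evW ρ w = evW ρ v := by rw [hv, evW_strip, evW_norm h2, evW_strip]
  rw [e]
  conv_lhs => rw [← hc, evW_strip]
  simp only [evW, pad, upProd, List.map_map]
  congr 1

theorem coords_inj {fuel fuel' : ℕ} {w w' : Wd} {L L' : List Pol} {ρ' : List K}
    (h : coords fuel w = some L) (h' : coords fuel' w' = some L') (e : evW ρ w = evW ρ' w') :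
    ∀ i < 24, evP ρ (L.getD i []) = evP ρ' (L'.getD i []) := by
  rw [evW_coords h2 ρ h, evW_coords h2 ρ' h'] at e
  intro i hi
  have := checkedF4.upProd_injective (k := 24) (by decide) e (24 + i) (by omega)
    (show 24 + i < 48 by omega)
  simpa using this

end sound

end H52.F4N
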