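import Cfsg.Agent.H52.F4Root
import Cfsg.Agent.H50.TwRank1
import Cfsg.Agent.H11.SzUniq.SzModel
import Cfsg.Agent.S0331

/-!
The subgroups of rank one of ²F₄(q): SL₂(q) and Sz(q).
-/

set_option autoImplicit false
set_option linter.unusedSectionVars false
set_option maxRecDepth 8000
set_option maxHeartbeats 1000000

namespace H52.F4R

open Cfsg.Lie H52 H53 H53.F4T H32.FF
open H50.CExt H50.Tw
open scoped MatrixGroups

universe u v

variable {K : Type u} [Field K] [Fintype K] {m : ℕ} (hK : Fintype.card K = 2 ^ (2 * m + 1))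
include hK

theorem charTwo : CharP K 2 :=
  CharTwo.of_one_ne_zero_of_two_eq_zero one_ne_zero (h2 hK)

theorem isPGroup_Uplus : IsPGroup 2 (sys hK).Uplus := by
  rw [Uplus_eq]
  obtain ⟨P, hP⟩ := exists_sylow hK
  show IsPGroup 2 (H32.TwistFrame.frame (hT hK)).U
  exact hP ▸ P.isPGroup'

theorem hab16 : ∀ x ∈ (sys hK).H, ∀ y ∈ (sys hK).H, Commute x y := by
  intro x hx y hy
  obtain ⟨a, b, rfl⟩ := exists_hab16 hK hx
  obtain ⟨c, d, rfl⟩ := exists_hab16 hK hy
  show _ * _ = _ * _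
  rw [hab_mul, hab_mul, mul_comm a, mul_comm b]

theorem hab_inj {a b a' b' : Kˣ} (h : hab hK a b = hab hK a' b') : a = a' ∧ b = b' := by
  constructor
  · have h1 : hab hK a b * P0 m 1 * (hab hK a b)⁻¹ = hab hK a' b' * P0 m 1 * (hab hK a' b')⁻¹ := by
      rw [h]
    rw [hab_conj_P0, hab_conj_P0, mul_one, mul_one] at h1
    exact Units.ext (P0_inj hK h1)
  · have h1 : hab hK a b * P1 m 1 0 * (hab hK a b)⁻¹ =
        hab hK a' b' * P1 m 1 0 * (hab hK a' b')⁻¹ := by rw [h]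
    rw [hab_conj_P1, hab_conj_P1, mul_one, mul_one] at h1
    exact Units.ext (P1_inj hK h1).1

theorem card_H16 : Nat.card (sys hK).H = (Fintype.card K - 1) ^ 2 := by
  classical
  have e : Nat.card (Kˣ × Kˣ) = Nat.card (sys hK).H := by
    refine Nat.card_eq_of_bijective (fun p => (⟨hab hK p.1 p.2, hab_mem16 hK _ _⟩ : ↥(H16 hK)))
      ⟨fun p p' h => ?_, fun g => ?_⟩
    · obtain ⟨h1, h2⟩ := hab_inj hK (congrArg Subtype.val h)
      exact Prod.ext h1 h2
    · obtain ⟨a, b, h⟩ := exists_hab16 hK g.2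
      exact ⟨(a, b), Subtype.ext h.symm⟩
  rw [← e, Nat.card_prod, Nat.card_units, Nat.card_eq_fintype_card, sq]

theorem not_dvd_card_H16 : ¬ 2 ∣ Nat.card (sys hK).H := by
  have h : Odd (Fintype.card K - 1) := by
    rw [hK]
    exact Nat.Even.sub_odd (Nat.one_le_pow _ _ two_pos) (Nat.even_pow.2 ⟨even_two, by omega⟩) odd_one
  rw [card_H16, Nat.two_dvd_ne_zero]
  exact Nat.odd_iff.1 h.pow

theorem mem_U_a (i : Fin 2) {x : ↥(FG K m)} :
    x ∈ (sys hK).U ((sys hK).a i) ↔ x ∈ X16 hK i := SetLike.ext_iff.1 (U16_base hK i) x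

theorem sW_mem_rk1 (i : Fin 2) : sW hK i ∈ rk1 (sys hK) i := by
  have hp : ∀ {x : ↥(FG K m)}, x ∈ X16 hK i → x ∈ rk1 (sys hK) i := fun hx =>
    Subgroup.mem_sup_left ((mem_U_a hK i).2 hx)
  have hn : ∀ {x : ↥(FG K m)}, x ∈ X16 hK i → sW hK i * x * (sW hK i)⁻¹ ∈ rk1 (sys hK) i := by
    intro x hx
    refine Subgroup.mem_sup_right ?_
    show _ ∈ U16 hK (neg16 (a16 i))
    rw [← (sg_table i).2.1, ← conj_U16, U16_base]
    exact ⟨x, hx, rfl⟩
  obtain rfl | rfl : i = 0 ∨ i = 1 := by omega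
  · rw [sG0_eq hK]
    have h := (mem_X16_0 hK).2 ⟨(1 : K), rfl⟩
    exact mul_mem (mul_mem (hp h) (hn h)) (hp h)
  · rw [sG1_eq hK]
    exact mul_mem (mul_mem (hp ((mem_X16_1 hK).2 ⟨_, _, rfl⟩))
      (hn ((mem_X16_1 hK).2 ⟨_, _, rfl⟩))) (hp ((mem_X16_1 hK).2 ⟨_, _, rfl⟩))

theorem U16_neg_a (i : Fin 2) :
    U16 hK (neg16 (a16 i)) = (X16 hK i).map (MulAut.conj (sW hK i)).toMonoidHom := by
  rw [← (sg_table i).2.1, ← conj_U16, U16_base]

theorem U_neg_a (i : Fin 2) : (sys hK).U ((sys hK).neg ((sys hK).a i)) =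
    (X16 hK i).map (MulAut.conj (sW hK i)).toMonoidHom := U16_neg_a hK i

theorem H_conj_rk1 (i : Fin 2) {h g : ↥(FG K m)} (hh : h ∈ (sys hK).H)
    (hg : g ∈ rk1 (sys hK) i) : h * g * h⁻¹ ∈ rk1 (sys hK) i := by
  have e : (rk1 (sys hK) i).map (MulAut.conj h).toMonoidHom = rk1 (sys hK) i := by
    rw [rk1, Subgroup.map_sup]
    show (U16 hK _).map _ ⊔ (U16 hK _).map _ = _
    rw [conj_H16 hK hh, conj_H16 hK hh]
    rfl
  rw [← e]
  exact ⟨g, hg, rfl⟩

/-- Commutators with the reflection give torus elements of rank one. -/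
theorem tor_rk1 (i : Fin 2) (p : Kˣ × Kˣ) :
    hab hK ((tp m i p).1 * p.1⁻¹) ((tp m i p).2 * p.2⁻¹) ∈ rk1 (sys hK) i ⊓ (sys hK).H := by
  refine Subgroup.mem_inf.2 ⟨?_, hab_mem16 hK _ _⟩
  have e : hab hK ((tp m i p).1 * p.1⁻¹) ((tp m i p).2 * p.2⁻¹) =
      sW hK i * (hab hK p.1 p.2 * (sW hK i)⁻¹ * (hab hK p.1 p.2)⁻¹) := by
    rw [← hab_mul, ← s_conj hK i p.1 p.2]
    have : (hab hK p.1⁻¹ p.2⁻¹ : ↥(FG K m)) = (hab hK p.1 p.2)⁻¹ := by
      refine eq_inv_of_mul_eq_one_left ?_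
      rw [hab_mul, inv_mul_cancel, inv_mul_cancel, hab_one]
    rw [this]; group
  rw [e]
  exact mul_mem (sW_mem_rk1 hK i) (H_conj_rk1 hK i (hab_mem16 hK _ _)
    (inv_mem (sW_mem_rk1 hK i)))

theorem gen_H16 : (sys hK).H ≤ ⨆ i, rk1 (sys hK) i ⊓ (sys hK).H := by
  classical
  let f : Kˣ × Kˣ →* Kˣ × Kˣ :=
    { toFun := fun p => (p.1⁻¹ * p.1⁻¹ * p.2 ^ (2 * 2 ^ m + 2), p.1 * (p.2⁻¹ * p.2⁻¹))
      map_one' := by simp
      map_mul' := fun p r => by
        ext <;> simp [mul_pow] <;> ring }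
  have hf : Function.Injective f := by
    refine (injective_iff_map_eq_one f).2 fun p hp => ?_
    obtain ⟨h1, h2'⟩ := Prod.mk.inj hp
    have hx : p.1 = p.2 * p.2 := by
      rw [mul_eq_one_iff_eq_inv] at h2'
      rw [h2', mul_inv, inv_inv]
    have hy : p.2 ^ (2 * 2 ^ m) = p.2 ^ 2 := by
      rw [hx, pow_add, ← mul_inv, ← sq, ← sq] at h1
      have h5 : p.2 ^ (2 * 2 ^ m) * p.2 ^ 2 = (p.2 ^ 2) ^ 2 := by
        rw [inv_mul_eq_one] at h1
        exact h1.symm
      rwa [sq (p.2 ^ 2), mul_left_inj] at h5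
    have h3 : p.2 ^ (2 * 2 ^ m - 1) = 1 := by
      have h4 := congrArg (fun z => z ^ 2 ^ m) hy
      simp only [← pow_mul] at h4
      rw [mul_assoc, pow_ee hK] at h4
      have he1 : 1 ≤ 2 * 2 ^ m := by have := Nat.one_le_two_pow (n := m); omega
      have h5 : p.2 ^ (2 * 2 ^ m - 1) * p.2 = 1 * p.2 := by
        rw [← pow_succ, Nat.sub_add_cancel he1, one_mul]; exact h4.symm
      exact mul_right_cancel h5
    have hp2 := units_pow hK p.2 (Or.inr (Or.inr (Or.inr (Or.inr (Or.inr h3)))))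
    exact Prod.ext (by rw [hx, hp2, mul_one]; rfl) hp2
  intro g hg
  obtain ⟨a, b, rfl⟩ := exists_hab16 hK hg
  obtain ⟨⟨x, y⟩, hxy⟩ := (Finite.injective_iff_surjective.1 hf) (a, b)
  obtain ⟨rfl, rfl⟩ := Prod.mk.inj hxy
  have h0 := tor_rk1 hK 0 (x, 1)
  have h1 := tor_rk1 hK 1 (1, y)
  have e0 : ((tp m 0 (x, (1 : Kˣ))).1 * x⁻¹, (tp m 0 (x, (1 : Kˣ))).2 * (1 : Kˣ)⁻¹) =
      (x⁻¹ * x⁻¹, x) := by simp [tp]
  have e1 : ((tp m 1 ((1 : Kˣ), y)).1 * (1 : Kˣ)⁻¹, (tp m 1 ((1 : Kˣ), y)).2 * y⁻¹) =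
      (y ^ (2 * 2 ^ m + 2), y⁻¹ * y⁻¹) := by simp [tp]
  obtain ⟨e01, e02⟩ := Prod.mk.inj e0
  obtain ⟨e11, e12⟩ := Prod.mk.inj e1
  rw [e01, e02] at h0
  rw [e11, e12] at h1
  rw [← hab_mul]
  exact mul_mem (le_iSup (fun i => rk1 (sys hK) i ⊓ (sys hK).H) 0 h0)
    (le_iSup (fun i => rk1 (sys hK) i ⊓ (sys hK).H) 1 h1)

/-! ### The short class: SL₂. -/

theorem exists_sl2 (hm : 1 ≤ m) : ∃ φ : SL(2, K) →* ↥(FG K m),
    Function.Injective φ ∧ φ.range = rk1 (sys hK) 0 ∧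
    Nat.card ↥(rk1 (sys hK) 0 ⊓ (sys hK).H) ≤ Fintype.card K - 1 := by
  classical
  obtain ⟨φa, hma, hφa⟩ := (checkedF4.rankOneRel (F := K) (r := 33) (by decide +kernel)).exists_hom
  obtain ⟨φb, hmb, hφb⟩ := (checkedF4.rankOneRel (F := K) (r := 24) (by decide +kernel)).exists_hom
  have n33 : chevF4.neg 33 = 14 := by decide +kernel
  have n24 : chevF4.neg 24 = 23 := by decide +kernel
  rw [n33] at hma hφa
  rw [n24] at hmb hφb
  have hcomm : ∀ g g' : SL(2, K), Commute (φa g) (φb g') := by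
    intro g g'
    have h1 : ∀ z ∈ Set.range (fun t : K => rt chevF4 24 t) ∪ Set.range fun t : K => rt chevF4 23 t,
        Subgroup.closure (Set.range (fun t : K => rt chevF4 33 t) ∪
          Set.range fun t : K => rt chevF4 14 t) ≤ Subgroup.centralizer {z} := by
      intro z hz
      rw [Subgroup.closure_le]
      intro w hw
      rw [SetLike.mem_coe, Subgroup.mem_centralizer_singleton_iff]
      rcases hw with ⟨t, rfl⟩ | ⟨t, rfl⟩ <;> rcases hz with ⟨s, rfl⟩ | ⟨s, rfl⟩ <;>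
        exact pair_comm (by simp) _ _
    have h2' : Subgroup.closure (Set.range (fun t : K => rt chevF4 24 t) ∪
        Set.range fun t : K => rt chevF4 23 t) ≤ Subgroup.centralizer {φa g} := by
      rw [Subgroup.closure_le]
      intro z hz
      rw [SetLike.mem_coe, Subgroup.mem_centralizer_singleton_iff]
      exact (Subgroup.mem_centralizer_singleton_iff.1 (h1 z hz (hma g))).symm
    exact (Subgroup.mem_centralizer_singleton_iff.1 (h2' (hmb g'))).symm
  let ψ : SL(2, K) →* GL chevF4.Idx K :=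
    MonoidHom.mk' (fun g => φa (Matrix.SpecialLinearGroup.map (fr hK : K →+* K) g) * φb g)
      fun g h => by
        rw [map_mul, map_mul, map_mul, mul_assoc, mul_assoc, ← mul_assoc (φb g),
          ← ((hcomm (Matrix.SpecialLinearGroup.map (fr hK : K →+* K) h) g).eq), mul_assoc]
  have cmap : ∀ (A : SL(2, K)) (i j : Fin 2),
      (Matrix.SpecialLinearGroup.map (fr hK : K →+* K) A).1 i j = fr hK (A.1 i j) :=
    fun _ _ _ => rfl
  have cm : ∀ A B : SL(2, K), (A * B).1 = A.1 * B.1 := fun _ _ => rfl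
  have ci : ∀ A : SL(2, K), (A⁻¹).1 = A.1.adjugate := fun _ => rfl
  have mU : ∀ t : K, Matrix.SpecialLinearGroup.map (fr hK : K →+* K) (sU t) = sU (fr hK t) := by
    intro t
    refine Subtype.ext (Matrix.ext fun i j => ?_)
    refine (cmap (sU t) i j).trans ?_
    fin_cases i <;> fin_cases j <;> simp [sU]
  have mL : ∀ t : K, Matrix.SpecialLinearGroup.map (fr hK : K →+* K) (sL t) = sL (fr hK t) := by
    intro t
    refine Subtype.ext (Matrix.ext fun i j => ?_)
    refine (cmap (sL t) i j).trans ?_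
    fin_cases i <;> fin_cases j <;> simp [sL]
  have hU : ∀ t : K, ψ (sU t) = val (P0 m t) := by
    intro t
    show φa _ * φb _ = _
    rw [(hφa _ (fr hK t)).1 (congrArg Subtype.val (mU t)),
      (hφb _ t).1 rfl, fr_apply, val_P0]
  have f0 : fl [0] 33 = 14 ∧ fl [0] 24 = 23 := by decide +kernel
  have hw0 : sW hK 0 = wG hK [0] := by simp [wG]
  have hL : ∀ t : K, ψ (sL t) = val (sW hK 0 * P0 m t * (sW hK 0)⁻¹) := by
    intro t
    show φa _ * φb _ = _
    rw [hw0, val_conj_P0, f0.1, f0.2,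
      (hφa _ (fr hK t)).2 (congrArg Subtype.val (mL t)),
      (hφb _ t).2 rfl, fr_apply]
  have hmem : ∀ g, ψ g ∈ twistedF4 K (2 ^ m) := by
    have h1 : ∀ t, ψ (sU t) ∈ twistedF4 K (2 ^ m) := fun t => hU t ▸ (P0 m t).2
    have h2' : ∀ t, ψ (sL t) ∈ twistedF4 K (2 ^ m) := fun t =>
      hL t ▸ (sW hK 0 * P0 m t * (sW hK 0)⁻¹).2
    intro g
    by_cases hc : g.1 1 0 = 0
    · have ha : g.1 0 0 ≠ 0 := fun e => by
        have hd := g.2
        rw [Matrix.det_fin_two, e, hc] at hd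
        simp at hd
      rw [sl2_upper_eq g hc ha]
      simp only [map_mul]
      exact mul_mem (mul_mem (mul_mem (mul_mem (h1 _) (h2' _)) (h1 _))
        (mul_mem (mul_mem (h1 _) (h2' _)) (h1 _))) (h1 _)
    · rw [sl2_big_eq g hc]
      simp only [map_mul]
      exact mul_mem (mul_mem (h1 _) (mul_mem (mul_mem (h1 _) (h2' _)) (h1 _))) (h1 _)
  let φ : SL(2, K) →* ↥(FG K m) :=
    MonoidHom.mk' (fun g => mkG (ψ g) (hmem g)) fun g h => gext (map_mul ψ g h)
  have eU : ∀ t, φ (sU t) = P0 m t := fun t => gext (hU t)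
  have eL : ∀ t, φ (sL t) = sW hK 0 * P0 m t * (sW hK 0)⁻¹ := fun t => gext (hL t)
  have h2' := h2 hK
  have hinj : Function.Injective φ := by
    refine (injective_iff_map_eq_one φ).2 fun g hg => ?_
    have hconj : ∀ s : SL(2, K), φ (g * s * g⁻¹) = φ s := fun s => by
      rw [map_mul, map_mul, map_inv, hg]; group
    have kU : ∀ t, φ (sU t) = 1 → t = 0 := fun t h => P0_inj hK
      ((eU t).symm.trans (h.trans (P0_zero hK).symm))
    have kL : ∀ t, φ (sL t) = 1 → t = 0 := fun t h => by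
      rw [eL, conj_eq_one_iff] at h
      exact P0_inj hK (h.trans (P0_zero hK).symm)
    -- kernel elements commute with every lower unitriangular element modulo the kernel
    by_cases hc : g.1 1 0 = 0
    · have hdet := g.2
      rw [Matrix.det_fin_two, hc, mul_zero, sub_zero] at hdet
      have ha : g.1 0 0 ≠ 0 := fun e => by rw [e, zero_mul] at hdet; exact zero_ne_one hdet
      have e : g * sU 1 * g⁻¹ * (sU 1)⁻¹ = sU (g.1 0 0 * g.1 0 0 - 1) := by
        rw [mul_inv_eq_iff_eq_mul, mul_inv_eq_iff_eq_mul]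
        apply Subtype.ext
        simp only [Matrix.SpecialLinearGroup.coe_mul]
        ext i j
        fin_cases i <;> fin_cases j <;>
          simp [sU, Matrix.mul_apply, Fin.sum_univ_two, hc] <;>
          linear_combination (-(g.1 0 0)) * hdet
      have h1 := kU _ (by rw [← e, map_mul, hconj, map_inv, mul_inv_cancel])
      have ha1 : g.1 0 0 = 1 := by
        have : (g.1 0 0 - 1) * (g.1 0 0 - 1) = 0 := by
          linear_combination h1 + (1 - g.1 0 0) * h2'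
        exact sub_eq_zero.1 (mul_self_eq_zero.1 this)
      rw [ha1, one_mul] at hdet
      have hg' : g = sU (g.1 0 1) := by
        apply Subtype.ext
        ext i j
        fin_cases i <;> fin_cases j <;> simp [sU, hc, ha1, hdet]
      have hb := kU _ (show φ (sU (g.1 0 1)) = 1 by rw [← hg']; exact hg)
      rw [hg', hb]
      apply Subtype.ext
      ext i j
      fin_cases i <;> fin_cases j <;> simp [sU]
    · exfalso
      obtain ⟨t, ht⟩ := one_lt_card hK hm
      set c := g.1 1 0 with hc'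
      set x := -(g.1 0 0) / c
      set g' := sU x * g * (sU x)⁻¹
      have hg' : φ g' = 1 := by
        simp only [g', map_mul, map_inv, hg]; group
      have e00 : g'.1 0 0 = 0 := by
        simp only [g', cm, ci, Matrix.mul_apply, Fin.sum_univ_two]
        simp [sU, cm, ci, Matrix.adjugate_fin_two, Matrix.mul_apply,
          Fin.sum_univ_two, x]
        field_simp
        ring
      have e10 : g'.1 1 0 = c := by
        simp only [g', cm, ci, Matrix.mul_apply, Fin.sum_univ_two]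
        simp [sU, cm, ci, Matrix.adjugate_fin_two, Matrix.mul_apply,
          Fin.sum_univ_two, hc']
      let D : SL(2, K) := ⟨!![(t : K), 0; 0, ((t⁻¹ : Kˣ) : K)], by simp [Matrix.det_fin_two]⟩
      set k := D * g' * D⁻¹ * g'⁻¹
      have hk : φ k = 1 := by
        simp only [k, map_mul, map_inv, hg']; group
      have hdet := g'.2
      rw [Matrix.det_fin_two, e00, e10, zero_mul, zero_sub] at hdet
      have k01 : k.1 0 1 = 0 := by
        simp only [k, cm, ci, Matrix.mul_apply, Fin.sum_univ_two]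
        simp [D, cm, ci, Matrix.adjugate_fin_two, Matrix.mul_apply,
          Fin.sum_univ_two, e00]
      have k00 : k.1 0 0 = (t : K) * t := by
        simp only [k, cm, ci, Matrix.mul_apply, Fin.sum_univ_two]
        simp [D, cm, ci, Matrix.adjugate_fin_two, Matrix.mul_apply,
          Fin.sum_univ_two, e00, e10]
        linear_combination ((t : K) * t) * hdet
      have hkd := k.2
      rw [Matrix.det_fin_two, k01, zero_mul, sub_zero] at hkd
      have e : k * sL 1 * k⁻¹ * (sL 1)⁻¹ = sL (k.1 1 1 * k.1 1 1 - 1) := by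
        rw [mul_inv_eq_iff_eq_mul, mul_inv_eq_iff_eq_mul]
        apply Subtype.ext
        simp only [Matrix.SpecialLinearGroup.coe_mul]
        ext i j
        fin_cases i <;> fin_cases j <;>
          simp [sL, Matrix.mul_apply, Fin.sum_univ_two, k01] <;>
          linear_combination (-(k.1 1 1)) * hkd
      have h1 := kL _ (by
        rw [← e]; simp only [map_mul, map_inv, hk]; group)
      have h3 : (k.1 1 1 - 1) * (k.1 1 1 - 1) = 0 := by
        linear_combination h1 + (1 - k.1 1 1) * h2'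
      rw [sub_eq_zero.1 (mul_self_eq_zero.1 h3), mul_one, k00] at hkd
      have h4 : ((t : K) - 1) * ((t : K) - 1) = 0 := by
        linear_combination hkd + (1 - (t : K)) * h2'
      exact ht (Units.ext (sub_eq_zero.1 (mul_self_eq_zero.1 h4)))
  have hrange : φ.range = rk1 (sys hK) 0 := by
    refine le_antisymm ?_ (sup_le ?_ ?_)
    · rintro _ ⟨g, rfl⟩
      have h1 : ∀ t, φ (sU t) ∈ rk1 (sys hK) 0 := fun t => by
        rw [eU]; exact Subgroup.mem_sup_left ((mem_U_a hK 0).2 ((mem_X16_0 hK).2 ⟨t, rfl⟩))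
      have h3 : ∀ t, φ (sL t) ∈ rk1 (sys hK) 0 := fun t => by
        rw [eL]; refine Subgroup.mem_sup_right ?_
        rw [U_neg_a]; exact ⟨_, (mem_X16_0 hK).2 ⟨t, rfl⟩, rfl⟩
      by_cases hc : g.1 1 0 = 0
      · have ha : g.1 0 0 ≠ 0 := fun e => by
          have hd := g.2
          rw [Matrix.det_fin_two, e, hc] at hd
          simp at hd
        rw [sl2_upper_eq g hc ha]
        simp only [map_mul]
        exact mul_mem (mul_mem (mul_mem (mul_mem (h1 _) (h3 _)) (h1 _))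
          (mul_mem (mul_mem (h1 _) (h3 _)) (h1 _))) (h1 _)
      · rw [sl2_big_eq g hc]
        simp only [map_mul]
        exact mul_mem (mul_mem (h1 _) (mul_mem (mul_mem (h1 _) (h3 _)) (h1 _))) (h1 _)
    · intro g hg
      obtain ⟨t, rfl⟩ := (mem_X16_0 hK).1 ((mem_U_a hK 0).1 hg)
      exact ⟨sU t, eU t⟩
    · intro g hg
      rw [U_neg_a] at hg
      obtain ⟨x, hx, rfl⟩ := hg
      obtain ⟨t, rfl⟩ := (mem_X16_0 hK).1 hx
      exact ⟨sL t, eL t⟩
  refine ⟨φ, hinj, hrange, ?_⟩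
  let D : Kˣ → SL(2, K) := fun t =>
    ⟨!![(t : K), 0; 0, ((t⁻¹ : Kˣ) : K)], by simp [Matrix.det_fin_two]⟩
  have hsub : ∀ x : ↥(rk1 (sys hK) 0 ⊓ (sys hK).H), ∃ t, φ (D t) = x := by
    rintro ⟨x, hx, hxH⟩
    rw [← hrange] at hx
    obtain ⟨g, rfl⟩ := hx
    obtain ⟨a, b, hab'⟩ := exists_hab16 hK hxH
    have h1 : g * sU 1 * g⁻¹ = sU (a : K) := hinj (by
      rw [map_mul, map_mul, map_inv, hab', eU, eU, hab_conj_P0, mul_one])
    have h3 : ∃ s, g * sL 1 * g⁻¹ = sL s := by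
      have eN : U16 hK (neg16 (a16 0)) = (X16 hK 0).map (MulAut.conj (sW hK 0)).toMonoidHom :=
        U16_neg_a hK 0
      have hz : sW hK 0 * P0 m 1 * (sW hK 0)⁻¹ ∈ U16 hK (neg16 (a16 0)) := by
        rw [eN]; exact ⟨P0 m 1, (mem_X16_0 hK).2 ⟨1, rfl⟩, rfl⟩
      have hm' : φ (g * sL 1 * g⁻¹) ∈ (X16 hK 0).map (MulAut.conj (sW hK 0)).toMonoidHom := by
        rw [map_mul, map_mul, map_inv, hab', eL, ← eN, ← conj_H16 hK (hab_mem16 hK a b)]
        exact ⟨_, hz, rfl⟩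
      obtain ⟨y, hy, e⟩ := hm'
      obtain ⟨s, rfl⟩ := (mem_X16_0 hK).1 hy
      exact ⟨s, hinj (e.symm.trans (eL s).symm)⟩
    obtain ⟨s, h3⟩ := h3
    rw [mul_inv_eq_iff_eq_mul] at h1 h3
    have hdet := g.2
    rw [Matrix.det_fin_two] at hdet
    have c10 : g.1 1 0 = 0 := by
      have := congrArg (fun M : SL(2, K) => M.1 1 1) h1
      simp only [cm, Matrix.mul_apply, Fin.sum_univ_two] at this
      simp [sU] at this
      first
        | exact this
        | linear_combination this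
    have c01 : g.1 0 1 = 0 := by
      have := congrArg (fun M : SL(2, K) => M.1 0 0) h3
      simp only [cm, Matrix.mul_apply, Fin.sum_univ_two] at this
      simp [sL] at this
      first
        | exact this
        | linear_combination this
    rw [c10, mul_zero, sub_zero] at hdet
    have ha : g.1 0 0 ≠ 0 := fun e => by rw [e, zero_mul] at hdet; exact zero_ne_one hdet
    refine ⟨Units.mk0 _ ha, congrArg φ ?_⟩
    apply Subtype.ext
    ext i j
    fin_cases i <;> fin_cases j <;> simp [D, c10, c01, eq_inv_of_mul_eq_one_right hdet]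
  choose f hf using hsub
  calc Nat.card ↥(rk1 (sys hK) 0 ⊓ (sys hK).H) ≤ Nat.card Kˣ :=
        Nat.card_le_card_of_injective f fun x y h => Subtype.ext (by rw [← hf x, ← hf y, h])
    _ = _ := by rw [Nat.card_units, Nat.card_eq_fintype_card]

/-! ### The long class: Sz. -/

theorem exists_suzuki (hm : 1 ≤ m) :
    Nonempty (↥(rk1 (sys hK) 1) ≃* Cfsg.Sz K m) ∧
      Nat.card ↥(rk1 (sys hK) 1 ⊓ (sys hK).H) ≤ Fintype.card K - 1 := by
  classical
  haveI := charTwo hK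
  let θ : K ≃+* K := (fr hK).trans (frobeniusEquiv K 2)
  have hθ : ∀ x, θ x = x ^ (2 * (2 ^ m)) := fun x => by
    show frobeniusEquiv K 2 (fr hK x) = _
    rw [frobeniusEquiv_def, fr_apply, ← pow_mul, mul_comm]
  have hθe : ∀ x : K, θ x ^ (2 ^ m) = x := fun x => by
    rw [hθ, ← pow_mul]
    conv_rhs => rw [← H32.FF.he hK x]
    rw [← pow_mul, ← pow_mul]
    congr 1; ring
  have hθ57 : ∀ x, θ x = H57.th m x := fun x => by
    rw [hθ, H57.th, pow_succ']
  have hN : Function.Bijective (H11.SzUniq.nrm θ) := by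
    refine Finite.injective_iff_bijective.1 fun x y hxy => ?_
    by_cases hx : x = 0
    · subst hx
      by_contra hy
      rw [H11.SzUniq.nrm_zero] at hxy
      exact H11.SzUniq.nrm_ne_zero θ (Ne.symm hy) hxy.symm
    · have hy : y ≠ 0 := fun h => by
        rw [h, H11.SzUniq.nrm_zero] at hxy
        exact H11.SzUniq.nrm_ne_zero θ hx hxy
      have h1 := units_pow hK (Units.mk0 (x / y) (div_ne_zero hx hy)) (Or.inr (Or.inl (Units.ext (by
        rw [Units.val_pow_eq_pow_val, Units.val_mk0, Units.val_one, pow_succ, ← hθ]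
        show H11.SzUniq.nrm θ (x / y) = 1
        rw [div_eq_mul_inv, H11.SzUniq.nrm_mul, H11.SzUniq.nrm_inv, hxy,
          mul_inv_cancel₀ (H11.SzUniq.nrm_ne_zero θ hy)]))))
      exact div_eq_one_iff_eq hy |>.1 (congrArg Units.val h1)
  let q : K → K → ↥(FG K m) := fun a c => P1 m (θ a) c
  let δ : Kˣ →* ↥(FG K m) :=
    MonoidHom.mk' (fun l => hab hK (l ^ (2 * (2 ^ m) + 1))⁻¹ (l ^ (2 * (2 ^ m)))) fun l k => by
      rw [hab_mul, mul_pow, mul_pow, mul_inv]
  set t := sW hK 1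
  have ht : t * t = 1 := sG_sq hK 1
  have hti : t⁻¹ = t := sG_inv hK 1
  have hval : ∀ l : Kˣ, ((l ^ (2 * (2 ^ m)) : Kˣ) : K) = θ (l : K) := fun l => by
    rw [Units.val_pow_eq_pow_val, hθ]
  have hR : H11.SzUniq.Rel θ 1 1 q δ t := by
    refine ⟨fun a c b d => ?_, fun l a c => ?_, ht, fun l => ?_, ?_⟩
    · show P1 m (θ a) c * P1 m (θ b) d = _
      rw [P1_mul hK, ← map_add, hθe]
      show P1 m _ _ = P1 m _ _
      congr 1
      rw [H11.SzUniq.kap, CharTwo.add_self_eq_zero]; ring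
    · show hab hK _ _ * P1 m (θ a) c = P1 m (θ ((l : K) * a)) (H11.SzUniq.nrm θ (l : K) * c) *
        hab hK _ _
      rw [← mul_inv_eq_iff_eq_mul, hab_conj_P1, hval, map_mul, pow_succ, hθe,
        H11.SzUniq.nrm, mul_comm (l : K)]
    · show t * hab hK _ _ = hab hK _ _ * t
      rw [← mul_inv_eq_iff_eq_mul, s1_conj]
      congr 1
      · rw [inv_pow, inv_inv, inv_mul_eq_iff_eq_mul, ← pow_add, ← pow_mul]
        rw [show 2 * (2 ^ m) * (2 * (2 ^ m) + 2) = 2 * ((2 ^ m) * (2 ^ m)) * 2 + 4 * (2 ^ m) by ring, pow_add, pow_mul,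
          pow_ee hK, ← pow_add]
        congr 1; ring
    · have h1 : θ 1 = 1 := map_one θ
      have h0 : θ 0 = 0 := map_zero θ
      have hq : t = q 0 1 * (t * q 1 1 * t⁻¹) * q 1 0 := by
        simp only [q, h0, h1]; exact sG1_eq hK
      have e11 : (q 1 0)⁻¹ = q 1 1 := by
        refine inv_eq_of_mul_eq_one_right ?_
        show P1 m (θ 1) 0 * P1 m (θ 1) 1 = 1
        rw [P1_mul hK, h1, one_pow, mul_one, zero_add, CharTwo.add_self_eq_zero, P1_zero hK]
      have e01 : (q 0 1)⁻¹ = q 0 1 := by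
        refine inv_eq_of_mul_eq_one_right ?_
        show P1 m (θ 0) 1 * P1 m (θ 0) 1 = 1
        rw [P1_mul hK, h0, mul_zero, add_zero, add_zero, CharTwo.add_self_eq_zero, P1_zero hK]
      rw [hti, ← e11] at hq
      have h2' : t * q 1 0 * t = q 1 0 * t * q 0 1 := by
        have h3 := congrArg (·⁻¹) hq
        simp only [mul_inv_rev, hti, inv_inv, e01] at h3
        calc t * q 1 0 * t
            = q 1 0 * ((q 1 0)⁻¹ * (t * (q 1 0 * t) * q 0 1)) * (q 0 1)⁻¹ := by group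
          _ = q 1 0 * t * (q 0 1)⁻¹ := by rw [← h3]
          _ = _ := by rw [e01]
      calc t * q 0 1 * t = (q 1 0)⁻¹ * (q 1 0 * t * q 0 1) * t := by group
        _ = (q 1 0)⁻¹ * (t * q 1 0 * (t * t)) := by rw [← h2']; group
        _ = _ := by rw [ht, mul_one, mul_assoc]
  have hone : H11.SzUniq.InForm q δ t 1 := Or.inl ⟨0, 0, 1, by rw [hR.q_zero, map_one, mul_one]⟩
  let L : Subgroup ↥(FG K m) :=
    { carrier := {g | H11.SzUniq.InForm q δ t g}
      one_mem' := hone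
      mul_mem' := by
        rintro g g' hg (⟨a, c, l, rfl⟩ | ⟨a, c, l, a', c', rfl⟩)
        · rw [← mul_assoc]
          exact hR.inForm_mul_delta (hR.inForm_mul_q hg a c) l
        · rw [← mul_assoc, ← mul_assoc, ← mul_assoc]
          exact hR.inForm_mul_q
            (hR.inForm_mul_t hN (hR.inForm_mul_delta (hR.inForm_mul_q hg a c) l)) a' c'
      inv_mem' := fun {g} hg => by
        show H11.SzUniq.InForm q δ t g⁻¹
        rw [← one_mul g⁻¹]
        rcases hg with ⟨a, c, l, rfl⟩ | ⟨a, c, l, a', c', rfl⟩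
        · rw [mul_inv_rev, hR.q_inv, ← map_inv, ← mul_assoc]
          exact hR.inForm_mul_q (hR.inForm_mul_delta hone l⁻¹) _ _
        · rw [mul_inv_rev, mul_inv_rev, mul_inv_rev, hR.q_inv, hR.q_inv, ← map_inv, hti,
            ← mul_assoc, ← mul_assoc, ← mul_assoc]
          exact hR.inForm_mul_q (hR.inForm_mul_delta (hR.inForm_mul_t hN
            (hR.inForm_mul_q hone _ _)) l⁻¹) _ _ }
  have hqL : ∀ a c, q a c ∈ L := fun a c => Or.inl ⟨a, c, 1, by rw [map_one, mul_one]⟩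
  have hδL : ∀ l, δ l ∈ L := fun l => Or.inl ⟨0, 0, l, by rw [hR.q_zero, one_mul]⟩
  have htL : t ∈ L :=
    Or.inr ⟨0, 0, 1, 0, 0, by rw [hR.q_zero, map_one, one_mul, one_mul, mul_one]⟩
  have hqU : ∀ a c, q a c ∈ (sys hK).U ((sys hK).a 1) := fun a c =>
    (mem_U_a hK 1).2 ((mem_X16_1 hK).2 ⟨_, _, rfl⟩)
  have hqr : ∀ a c, q a c ∈ rk1 (sys hK) 1 := fun a c => Subgroup.mem_sup_left (hqU a c)
  have htr : t ∈ rk1 (sys hK) 1 := sW_mem_rk1 hK 1
  have hδr : ∀ l, δ l ∈ rk1 (sys hK) 1 := by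
    intro l
    set y := l⁻¹ ^ ((2 ^ m) * (2 ^ m))
    have hy : l = y⁻¹ * y⁻¹ := by
      rw [← mul_inv, ← sq, ← inv_inj, inv_inv]
      show _ = (l⁻¹ ^ ((2 ^ m) * (2 ^ m))) ^ 2
      rw [← pow_mul, mul_comm ((2 ^ m) * (2 ^ m)), pow_ee hK]
    rw [hy]
    have h := hR.tZ y
    rw [one_mul] at h
    have h' : δ (y⁻¹ * y⁻¹) = q (↑y⁻¹ : K) 0 * (t * q 0 (H11.SzUniq.nrm θ (y : K)) * t) *
        (q (↑y⁻¹ : K) 0)⁻¹ * t⁻¹ := by rw [h]; group
    rw [h']
    exact mul_mem (mul_mem (mul_mem (hqr _ _) (mul_mem (mul_mem htr (hqr _ _)) htr))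
      (inv_mem (hqr _ _))) (inv_mem htr)
  have hLeq : L = rk1 (sys hK) 1 := by
    refine le_antisymm ?_ (sup_le ?_ ?_)
    · rintro g (⟨a, c, l, rfl⟩ | ⟨a, c, l, a', c', rfl⟩)
      · exact mul_mem (hqr _ _) (hδr _)
      · exact mul_mem (mul_mem (mul_mem (hqr _ _) (hδr _)) htr) (hqr _ _)
    · intro g hg
      obtain ⟨s, u, rfl⟩ := (mem_X16_1 hK).1 ((mem_U_a hK 1).1 hg)
      obtain ⟨a, rfl⟩ := θ.surjective s
      exact hqL a u
    · intro g hg
      rw [U_neg_a] at hg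
      obtain ⟨x, hx, rfl⟩ := hg
      obtain ⟨s, u, rfl⟩ := (mem_X16_1 hK).1 hx
      obtain ⟨a, rfl⟩ := θ.surjective s
      exact mul_mem (mul_mem htL (hqL a u)) (inv_mem htL)
  have hS := ax hK hm
  have hsep := sep hK hm
  have hqB : ∀ a c, q a c ∈ (sys hK).B := fun a c =>
    RootGroupSys.Uplus_le_B (RootGroupSys.U_le_Uplus (hS.pos_a 1) (hqU a c))
  have hδH : ∀ l, δ l ∈ (sys hK).H := fun l => hab_mem16 hK _ _
  have hfree : ∀ a c l, q a c * δ l ∈ (sys hK).H → a = 0 ∧ c = 0 := by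
    intro a c l h
    have h' : q a c ∈ (sys hK).H := by simpa using mul_mem h (inv_mem (hδH l))
    have h1 : q a c ∈ (sys hK).Uplus ⊓ (sys hK).N := Subgroup.mem_inf.2
      ⟨RootGroupSys.U_le_Uplus (hS.pos_a 1) (hqU a c), RootGroupSys.H_le_N h'⟩
    rw [hsep.U_N, Subgroup.mem_bot] at h1
    obtain ⟨h3, h4⟩ := P1_inj hK (h1.trans (P1_zero hK).symm)
    exact ⟨(map_eq_zero θ).1 h3, h4⟩
  have hbig : ∀ a c l a' c', q a c * δ l * t * q a' c' ∉ (sys hK).H := by
    intro a c l a' c' h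
    have htB : t ∈ (sys hK).B := by
      have := mul_mem (mul_mem (inv_mem (mul_mem (hqB a c) (RootGroupSys.H_le_B (hδH l))))
        (RootGroupSys.H_le_B h)) (inv_mem (hqB a' c'))
      rwa [show (q a c * δ l)⁻¹ * (q a c * δ l * t * q a' c') * (q a' c')⁻¹ = t by group] at this
    have htH : t ∈ (sys hK).H := by
      rw [← RootGroupSys.BN_eq hS hsep]
      exact Subgroup.mem_inf.2 ⟨htB, RootGroupSys.n_mem_N (S := sys hK) 1⟩
    have h1 := RootGroupSys.acts_unique hS hsep (RootGroupSys.acts_n hS 1)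
      (RootGroupSys.acts_H hS (show (sys hK).n 1 ∈ (sys hK).H from htH))
    have h2' := hS.sigma_a 1
    rw [h1, Equiv.Perm.one_apply] at h2'
    exact RootGroupSys.pos_neg_a hS 1 (h2' ▸ hS.pos_a 1)
  have hδinj : Function.Injective δ := fun l k h => by
    obtain ⟨-, h1⟩ := hab_inj hK h
    have := units_pow hK (l * k⁻¹) (Or.inl (by rw [mul_pow, inv_pow, h1, mul_inv_cancel]))
    exact mul_inv_eq_one.1 this
  have hM : H11.SzUniq.Model θ 1 1 (fun a c => (⟨q a c, hqL a c⟩ : L))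
      (δ.codRestrict L hδL) ⟨t, htL⟩ := by
    refine ⟨⟨fun a c b d => Subtype.ext (hR.mul a c b d), fun l a c => Subtype.ext (hR.conj l a c),
      Subtype.ext hR.sq, fun l => Subtype.ext (hR.swap l), Subtype.ext hR.base⟩, fun g => ?_,
      fun a c l h => ?_, fun a c l a' c' h => ?_⟩
    · rcases g.2 with ⟨a, c, l, h⟩ | ⟨a, c, l, a', c', h⟩
      · exact Or.inl ⟨a, c, l, Subtype.ext h⟩
      · exact Or.inr ⟨a, c, l, a', c', Subtype.ext h⟩
    · have h' : q a c * δ l = 1 := congrArg Subtype.val h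
      obtain ⟨rfl, rfl⟩ := hfree a c l (h' ▸ one_mem _)
      rw [hR.q_zero, one_mul, ← map_one δ] at h'
      exact ⟨rfl, rfl, hδinj h'⟩
    · have h' : q a c * δ l * t * q a' c' = 1 := congrArg Subtype.val h
      exact hbig a c l a' c' (by rw [h']; exact one_mem _)
  obtain ⟨iso⟩ := H11.SzUniq.nonempty_mulEquiv hM (H11.SzUniq.sz_model hm hK θ hθ57) hN
  refine ⟨⟨(MulEquiv.subgroupCongr hLeq.symm).trans iso⟩, ?_⟩
  have hsub : ∀ x : ↥(rk1 (sys hK) 1 ⊓ (sys hK).H), ∃ l, δ l = x := by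
    rintro ⟨x, hx, hxH⟩
    rw [← hLeq] at hx
    rcases hx with ⟨a, c, l, rfl⟩ | ⟨a, c, l, a', c', rfl⟩
    · obtain ⟨rfl, rfl⟩ := hfree a c l hxH
      refine ⟨l, ?_⟩
      show δ l = q 0 0 * δ l
      rw [hR.q_zero, one_mul]
    · exact absurd hxH (hbig a c l a' c')
  choose f hf using hsub
  calc Nat.card ↥(rk1 (sys hK) 1 ⊓ (sys hK).H) ≤ Nat.card Kˣ :=
        Nat.card_le_card_of_injective f fun x y h => Subtype.ext (by rw [← hf x, ← hf y, h])
    _ = _ := by rw [Nat.card_units, Nat.card_eq_fintype_card]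

/-- The extensions of order prime to two split over the rank one subgroups. -/
theorem split16 (hm : 1 ≤ m) (i : Fin 2) {Γ : Type v} [Group Γ] [Finite Γ] (σ : Γ →* ↥(FG K m))
    (hs : Function.Surjective σ) (hc : σ.ker ≤ Subgroup.center Γ) (hcop : ¬ 2 ∣ Nat.card σ.ker) :
    Split 2 σ (rk1 (sys hK) i) := by
  haveI := charTwo hK
  haveI : Fact (Nat.Prime 2) := ⟨Nat.prime_two⟩
  obtain rfl | rfl : i = 0 ∨ i = 1 := by omega
  · obtain ⟨φ, hφ, hr, -⟩ := exists_sl2 hK hm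
    rw [← hr]
    exact H50.Covering.split_range σ hs hc hcop φ hφ fun Γ0 _ _ σ0 h1 h2 h3 =>
      H50.SCBase.sl2_split 2 Γ0 σ0 h1 h2 h3
  · obtain ⟨⟨eq⟩, -⟩ := exists_suzuki hK hm
    rw [← (rk1 (sys hK) 1).range_subtype]
    refine H50.Covering.split_range σ hs hc hcop _ (rk1 (sys hK) 1).subtype_injective
      fun Γ0 _ _ σ0 hs0 hc0 hcop0 => split_top_of_comm 2 σ0 hc0 hcop0 fun ℓ hℓ hℓ2 z hzc hzk hzl => ?_
    haveI := Fact.mk hℓ
    have hpz : IsPGroup ℓ (Subgroup.zpowers z) := fun x => ⟨1, by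
      obtain ⟨k, hk⟩ := Subgroup.mem_zpowers_iff.1 x.2
      refine Subtype.ext ?_
      show (x : Γ0) ^ ℓ ^ 1 = 1
      rw [pow_one, ← hk, ← _root_.zpow_natCast, ← _root_.zpow_mul, mul_comm, _root_.zpow_mul,
        _root_.zpow_natCast, hzl, _root_.one_zpow]⟩
    obtain ⟨P, hP⟩ := hpz.exists_le_sylow
    have hzP : z ∈ P := hP (Subgroup.mem_zpowers z)
    have hzd := H97.mem_commutator_sylow P (hc0 hzk) hzc hzP
    suffices h : (⟨z, hzP⟩ : P) = 1 from congrArg Subtype.val h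
    refine H97.commutator_trivial_of_comm (fun a b => ?_) hzd
    set f := eq.toMonoidHom.comp σ0
    obtain ⟨Q, hQ⟩ := (P.isPGroup'.map f).exists_le_sylow
    haveI := Cfsg.Agent.S0331.result hm hK hℓ2 Q
    obtain ⟨⟨g, hg⟩, hgen⟩ := IsCyclic.exists_generator (α := Q)
    obtain ⟨c, hcg⟩ := hs0 (eq.symm g)
    have hmem : ∀ x : P, σ0 x ∈ Subgroup.zpowers (σ0 c) := fun x => by
      obtain ⟨i, hi⟩ := Subgroup.mem_zpowers_iff.1
        (hgen ⟨f x, hQ (Subgroup.mem_map_of_mem f x.2)⟩)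
      refine Subgroup.mem_zpowers_iff.2 ⟨i, ?_⟩
      rw [hcg, ← map_zpow, show g ^ i = f x from congrArg Subtype.val hi]
      simp [f]
    exact Subtype.ext (H97.commute_of_map_cyclic hc0 c (hmem a) (hmem b))

end H52.F4R
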