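import Cfsg.Agent.H52.F4UCert
import Cfsg.Agent.H32.F4Base

/-!
Coordinates on the positive unipotent subgroup of the twisted group of type F4.
-/

set_option autoImplicit false
set_option linter.unusedSectionVars false
set_option maxRecDepth 8000

namespace H52.F4N

open Cfsg.Lie H52 H53

/-- The twisting map of the field. -/
def th {K : Type*} [Field K] (m : ℕ) (x : K) : K := x ^ 2 ^ m

/-- The coordinates of a positive element. -/
structure Pt (K : Type*) where
  t1 : K
  t2 : K
  u2 : K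
  t3 : K
  t4 : K
  u4 : K
  t5 : K
  t6 : K
  u6 : K
  t7 : K
  t8 : K
  u8 : K

/-- The trivial coordinates. -/
def Pt.o (K : Type*) [Field K] : Pt K := ⟨0, 0, 0, 0, 0, 0, 0, 0, 0, 0, 0, 0⟩

variable {K : Type*} [Field K] {m : ℕ}

/-- The values of the atoms. -/
def env (m : ℕ) (p : Pt K) : List K :=
  [p.t1, th m p.t1, p.t2, th m p.t2, p.u2, th m p.u2 ^ 2, p.t3, th m p.t3,
   p.t4, th m p.t4, p.u4, th m p.u4 ^ 2, p.t5, th m p.t5, p.t6, th m p.t6, p.u6, th m p.u6 ^ 2,
   p.t7, th m p.t7, p.t8, th m p.t8, p.u8, th m p.u8 ^ 2]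

/-- The element with given coordinates. -/
noncomputable def el (m : ℕ) (p : Pt K) : GL chevF4.Idx K := evW (env m p) (phiW 0)

theorem th_zero : th m (0 : K) = 0 := zero_pow (pow_ne_zero _ two_ne_zero)

theorem th_one : th m (1 : K) = 1 := one_pow _

theorem th_mul (a b : K) : th m (a * b) = th m a * th m b := mul_pow a b _

theorem th_sq (a : K) : th m (a ^ 2) = th m a ^ 2 := by rw [th, th, ← pow_mul, ← pow_mul, mul_comm]

theorem th_div (a b : K) : th m (a / b) = th m a / th m b := div_pow a b _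

theorem th_eq_zero {a : K} : th m a = 0 ↔ a = 0 := pow_eq_zero_iff (pow_ne_zero _ two_ne_zero)

section kill

theorem evP_filter (ρ : List K) (Z : List ℕ) (hZ : ∀ a ∈ Z, ρ.getD a 0 = 0) (P : Pol) :
    evP ρ (P.filter fun q => !q.any fun a => Z.contains a) = evP ρ P := by
  induction P with
  | nil => rfl
  | cons q P ih =>
    by_cases hq : q.any (fun a => Z.contains a) = true
    · rw [List.filter_cons_of_neg (by rw [hq]; decide), ih]
      obtain ⟨a, ha, hZa⟩ := List.any_eq_true.1 hq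
      have : evM ρ q = 0 :=
        List.prod_eq_zero (List.mem_map.2 ⟨a, ha, hZ a (by simpa using hZa)⟩)
      simp [evP, this]
    · rw [List.filter_cons_of_pos (by rw [Bool.not_eq_true] at hq; rw [hq]; rfl)]
      simp only [evP, List.map_cons, List.sum_cons] at ih ⊢
      rw [ih]

theorem evW_kill (ρ : List K) (Z : List ℕ) (hZ : ∀ a ∈ Z, ρ.getD a 0 = 0) (w : Wd) :
    evW ρ (kill Z w) = evW ρ w := by
  rw [kill, evW_strip]
  simp only [evW, List.map_map]
  congr 1
  exact List.map_congr_left fun p _ => by simp only [Function.comp_apply, evP_filter ρ Z hZ]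

/-- Two words with equal coordinates. -/
theorem eq_of_coords (h2 : (2 : K) = 0) {fuel fuel' : ℕ} {w w' : Wd} {L L' : List Pol} {ρ ρ' : List K}
    (h : coords fuel w = some L) (h' : coords fuel' w' = some L')
    (e : ∀ i < 24, evP ρ (L.getD i []) = evP ρ' (L'.getD i [])) : evW ρ w = evW ρ' w' := by
  rw [evW_coords h2 ρ h, evW_coords h2 ρ' h']
  exact H52.Checked.upProd_congr fun r hr hr' => e (r - 24) (by
    have : r < 48 := hr'
    omega)

end kill

section group

variable [Fintype K] (hK : Fintype.card K = 2 ^ (2 * m + 1))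
include hK

theorem th_add (a b : K) : th m (a + b) = th m a + th m b := H32.FF.add_pow_e hK a b

theorem th_th_sq (a : K) : th m (th m a ^ 2) = a := H32.FF.he hK a

theorem sq_th_th (a : K) : th m (th m a) ^ 2 = a := by rw [← th_sq, th_th_sq hK]

theorem th_injective : Function.Injective (th m : K → K) := fun a b h => by
  rw [← sq_th_th hK a, ← sq_th_th hK b, h]

theorem th_surjective : Function.Surjective (th m : K → K) := fun a => ⟨th m a ^ 2, th_th_sq hK a⟩

theorem evW_reverse (ρ : List K) (w : Wd) : evW ρ w.reverse = (evW ρ w)⁻¹ := by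
  induction w with
  | nil => simp [evW_nil]
  | cons p w ih =>
    rw [List.reverse_cons, evW_append, ih, evW_cons, evW_cons, evW_nil, mul_one, mul_inv_rev,
      checkedF4.rt_inv, F4T.neg_self (H32.FF.h2 hK)]

theorem mk_mem' (k : Fin 2) : (F4T.mk K k : GL chevF4.Idx K) ∈ twistedF4 K (2 ^ m) :=
  Subgroup.mem_subgroupOf.1 (F4T.mk_mem (H32.FF.h2 hK) (H32.FF.he hK) k)

theorem mk_conj_evW (ρ : List K) (k : Fin 2) :
    ∀ w : Wd, (∀ p ∈ w, p.1 < chevF4.nroots) →
      (F4T.mk K k : GL chevF4.Idx K) * evW ρ w * (F4T.mk K k : GL chevF4.Idx K)⁻¹ = evW ρ (mapW k w)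
  | [], _ => by simp [mapW, evW_nil]
  | p :: w, h => by
    have hp := h p (List.mem_cons_self ..)
    have e : mapW k (p :: w) = (actR k p.1, p.2) :: mapW k w := rfl
    rw [e, evW_cons, evW_cons, ← mk_conj_evW ρ k w (fun q hq => h q (List.mem_cons_of_mem _ hq)), ← conj_mul]
    congr 1
    rw [show F4T.mk K k = nWordProd weylForF4 F4T.spec K k from rfl, coe_nWordProd checkedF4,
      prod_nElt_conj checkedF4 (H32.FF.h2 hK) weylForF4 _ ⟨p.1, hp⟩]
    simp only [actR, dif_pos hp]
    rfl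

theorem mem_mapW (ρ : List K) (k : Fin 2) {w : Wd} (hw : w.all (fun p => decide (p.1 < chevF4.nroots)) = true)
    (h : evW ρ w ∈ twistedF4 K (2 ^ m)) : evW ρ (mapW k w) ∈ twistedF4 K (2 ^ m) := by
  rw [← mk_conj_evW hK ρ k w fun p hp => of_decide_eq_true (List.all_eq_true.1 hw p hp)]
  exact mul_mem (mul_mem (mk_mem' hK k) h) (inv_mem (mk_mem' hK k))

theorem mem_wordA {ρ : List K} {o : ℕ} (h : ρ.getD (o + 1) 0 = th m (ρ.getD o 0)) :
    evW ρ (wordA 33 24 o) ∈ twistedF4 K (2 ^ m) := by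
  have e : evW ρ (wordA 33 24 o) = rt chevF4 33 (ρ.getD o 0 ^ 2 ^ m) * rt chevF4 24 (ρ.getD o 0) := by
    simp [evW, wordA, at', evP, evM, wordRt, -List.getD_eq_getElem?_getD, h, th]
  rw [e]
  exact F4T.pair_mem _ (by simp) _

theorem mem_wordB {ρ : List K} {o : ℕ} (h : ρ.getD (o + 1) 0 = th m (ρ.getD o 0))
    (h' : ρ.getD (o + 3) 0 = th m (ρ.getD (o + 2) 0) ^ 2) :
    evW ρ (wordB 27 25 28 30 o) ∈ twistedF4 K (2 ^ m) := by
  have e : evW ρ (wordB 27 25 28 30 o) = F4T.yWord (27, 25, 28, 30) (ρ.getD o 0 ^ 2 ^ m) (ρ.getD o 0)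
      (ρ.getD o 0 ^ (2 ^ m + 1) + ρ.getD (o + 2) 0) (ρ.getD (o + 2) 0 ^ (2 * 2 ^ m)) := by
    have h2' := H32.FF.h2 hK
    simp only [evW, wordB, List.map_cons, List.map_nil, evP_padd h2', evP_pmul h2', at', F4T.yWord, wordRt,
      List.prod_cons, List.prod_nil, mul_one, mul_assoc]
    simp only [evP, evM, List.map_cons, List.map_nil, List.prod_cons, List.prod_nil, List.sum_cons,
      List.sum_nil, mul_one, add_zero, h, h', th]
    rw [← pow_mul, pow_succ (ρ.getD o 0) (2 ^ m), mul_comm 2 (2 ^ m)]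
  rw [e]
  exact F4T.class_mem _ (by simp) _ _

theorem el_mem (p : Pt K) : el m p ∈ twistedF4 K (2 ^ m) := by
  have e2 : wordB 34 26 36 42 2 = mapW 0 (wordB 27 25 28 30 2) := by decide +kernel
  have e3 : wordA 38 43 6 = mapW 0 (mapW 1 (wordA 33 24 6)) := by decide +kernel
  have e4 : wordB 29 41 44 47 8 = mapW 0 (mapW 1 (mapW 0 (wordB 27 25 28 30 8))) := by decide +kernel
  have e5 : wordA 39 45 12 = mapW 1 (mapW 0 (mapW 1 (wordA 33 24 12))) := by decide +kernel
  have e6 : wordB 35 31 40 46 14 = mapW 1 (mapW 0 (wordB 27 25 28 30 14)) := by decide +kernel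
  have e7 : wordA 37 32 18 = mapW 1 (wordA 33 24 18) := by decide +kernel
  rw [el, phiW]
  simp only [evW_append, Nat.zero_add, e2, e3, e4, e5, e6, e7]
  refine mul_mem (mul_mem (mul_mem (mul_mem (mul_mem (mul_mem (mul_mem ?_ ?_) ?_) ?_) ?_) ?_) ?_) ?_
  · exact mem_wordA hK (o := 0) rfl
  · exact mem_mapW hK _ _ (by decide +kernel) (mem_wordB hK (o := 2) rfl rfl)
  · exact mem_mapW hK _ _ (by decide +kernel) (mem_mapW hK _ _ (by decide +kernel) (mem_wordA hK (o := 6) rfl))
  · exact mem_mapW hK _ _ (by decide +kernel) (mem_mapW hK _ _ (by decide +kernel)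
      (mem_mapW hK _ _ (by decide +kernel) (mem_wordB hK (o := 8) rfl rfl)))
  · exact mem_mapW hK _ _ (by decide +kernel) (mem_mapW hK _ _ (by decide +kernel)
      (mem_mapW hK _ _ (by decide +kernel) (mem_wordA hK (o := 12) rfl)))
  · exact mem_mapW hK _ _ (by decide +kernel) (mem_mapW hK _ _ (by decide +kernel)
      (mem_wordB hK (o := 14) rfl rfl))
  · exact mem_mapW hK _ _ (by decide +kernel) (mem_wordA hK (o := 18) rfl)
  · exact mem_wordB hK (o := 20) rfl rfl

omit hK in
theorem el_pos (p : Pt K) : el m p ∈ chevF4.posUnipotent K := by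
  rw [checkedF4.posUnipotent_eq]
  refine H52.Checked.wordRt_mem _ _ fun q hq => ?_
  obtain ⟨a, ha, rfl⟩ := List.mem_map.1 hq
  have h : ∀ a ∈ phiW 0, chevF4.nroots / 2 ≤ a.1 ∧ a.1 < chevF4.nroots := by decide +kernel
  exact H52.Checked.rt_mem_upper (h a ha).1 (h a ha).2 _

theorem el_injective : Function.Injective (el m : Pt K → GL chevF4.Idx K) := by
  intro p q h
  have E := coords_inj (H32.FF.h2 hK) (ρ := env m p) (ρ' := env m q) cPhi_eq cPhi_eq h
  obtain ⟨a1, a2, a3, a4, a5, a6, a7, a8, a9, a10, a11, a12⟩ := p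
  obtain ⟨b1, b2, b3, b4, b5, b6, b7, b8, b9, b10, b11, b12⟩ := q
  have z := E 0 (by norm_num)
  simp [cPhiL, evP, evM, env] at z
  subst z
  have z := E 1 (by norm_num)
  simp [cPhiL, evP, evM, env] at z
  subst z
  have z := E 2 (by norm_num)
  simp [cPhiL, evP, evM, env] at z
  subst z
  have z := E 4 (by norm_num)
  simp [cPhiL, evP, evM, env] at z
  subst z
  have z := E 7 (by norm_num)
  simp [cPhiL, evP, evM, env] at z
  subst z
  have z := E 8 (by norm_num)
  simp [cPhiL, evP, evM, env] at z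
  subst z
  have z := E 5 (by norm_num)
  simp [cPhiL, evP, evM, env] at z
  replace z := th_injective hK z
  subst z
  have z := E 12 (by norm_num)
  simp [cPhiL, evP, evM, env] at z
  subst z
  have z := E 19 (by norm_num)
  simp [cPhiL, evP, evM, env] at z
  subst z
  have z := E 21 (by norm_num)
  simp [cPhiL, evP, evM, env] at z
  subst z
  have z := E 16 (by norm_num)
  simp [cPhiL, evP, evM, env] at z
  subst z
  have z := E 20 (by norm_num)
  simp [cPhiL, evP, evM, env] at z
  subst z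
  rfl

theorem exists_pt {g : GL chevF4.Idx K} (hp : g ∈ chevF4.posUnipotent K) (hg : g ∈ twistedF4 K (2 ^ m)) :
    ∃ p, g = el m p := by
  classical
  let e : Pt K ≃ (Fin 12 → K) :=
    { toFun := fun p => ![p.t1, p.t2, p.u2, p.t3, p.t4, p.u4, p.t5, p.t6, p.u6, p.t7, p.t8, p.u8]
      invFun := fun v => ⟨v 0, v 1, v 2, v 3, v 4, v 5, v 6, v 7, v 8, v 9, v 10, v 11⟩
      left_inv := fun p => rfl
      right_inv := fun v => by funext i; fin_cases i <;> rfl }
  have : Fintype (Pt K) := Fintype.ofEquiv _ e.symm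
  let F : Pt K → ↥(chevF4.posUnipotent K ⊓ twistedF4 K (2 ^ m)) := fun p => ⟨el m p, el_pos p, el_mem hK p⟩
  have hc : Nat.card (Pt K) = Nat.card ↥(chevF4.posUnipotent K ⊓ twistedF4 K (2 ^ m)) := by
    rw [F4T.card_U hK, Nat.card_congr e, Nat.card_fun, Nat.card_fin, Nat.card_eq_fintype_card, hK]
  have hb : Function.Bijective F := (Nat.bijective_iff_injective_and_card F).2
    ⟨fun a b h => el_injective hK (congrArg Subtype.val h), hc⟩
  obtain ⟨p, hp'⟩ := hb.2 ⟨g, hp, hg⟩
  exact ⟨p, (congrArg Subtype.val hp').symm⟩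

theorem el_inv_conj (p q : Pt K) :
    (el m q)⁻¹ * el m p * el m q = evW (env m p ++ env m q) conjW := by
  have e1 : evW (env m p ++ env m q) (phiW 24) = el m q := by
    simp [el, evW, phiW, wordA, wordB, at', padd, pmul, tog, mmul, ins, evP, evM, env]
  have e2 : evW (env m p ++ env m q) (phiW 0) = el m p := by
    simp [el, evW, phiW, wordA, wordB, at', padd, pmul, tog, mmul, ins, evP, evM, env]
  rw [conjW, evW_append, evW_append, evW_reverse hK, e1, e2]

end group

end H52.F4N
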