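import Cfsg.Agent.H52.F4RootCert
import Cfsg.Agent.H52.F4UCoord
import Cfsg.Agent.H32.TwistFrame

/-!
²F₄(q) as a group with a system of sixteen root subgroups.
-/

set_option autoImplicit false
set_option linter.unusedSectionVars false
set_option maxRecDepth 8000
set_option maxHeartbeats 1000000

namespace H52.F4R

open Cfsg.Lie H52 H53 H53.F4T H52.F4N H32.FF H32.TwistFrame

/-- A positive class of roots. -/
def pos16 (k : Fin 16) : Prop := k.val < 8

instance (k : Fin 16) : Decidable (pos16 k) := inferInstanceAs (Decidable (_ < _))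

/-- The fundamental reflections on the classes. -/
def sg (i : Fin 2) : Equiv.Perm (Fin 16) := Equiv.subLeft (if i = 0 then 8 else 6)

/-- The fundamental classes. -/
def a16 (i : Fin 2) : Fin 16 := if i = 0 then 0 else 7

/-- The opposite class. -/
def neg16 (k : Fin 16) : Fin 16 := k + 8

/-- The kind of a class. -/
def cl (k : Fin 16) : Fin 2 := if k.val % 2 = 0 then 0 else 1

/-- A word taking a fundamental class to the class. -/
def wd (k : Fin 16) : List (Fin 2) :=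
  (if k.val < 8 then [] else [0, 1, 0, 1, 0, 1, 0, 1]) ++
    ([[], [0], [0, 1], [0, 1, 0], [1, 0, 1], [1, 0], [1], []] : List (List (Fin 2))).getD
      (k.val % 8) []

/-- A root moved by a word. -/
def fl (L : List (Fin 2)) (r : ℕ) : ℕ := L.foldr actR r

/-- The roots of a class. -/
def cr (k : Fin 16) : List ℕ :=
  (if cl k = 0 then [33, 24] else [27, 25, 28, 30]).map (fl (wd k))

theorem pk_step : ∀ (i : Fin 2) (k : Fin 16), cl (sg i k) = cl k ∧
    ∀ r ∈ pk (cl k), fl (i :: wd k) r = fl (wd (sg i k)) r := by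
  decide +kernel

theorem cr_table : cr 0 = [33, 24] ∧ cr 1 = [34, 26, 36, 42] ∧ cr 2 = [38, 43] ∧
    cr 3 = [29, 41, 44, 47] ∧ cr 4 = [39, 45] ∧ cr 5 = [35, 31, 40, 46] ∧ cr 6 = [37, 32] ∧
    cr 7 = [27, 25, 28, 30] := by
  decide +kernel

theorem cr_neg : ∀ k : Fin 16, ¬ pos16 k → ∀ r ∈ cr k, r < 24 := by
  decide +kernel

theorem neg_roots : ∀ r < 24, chevF4.IsNegRoot r := by
  decide +kernel

theorem sg_table : ∀ i : Fin 2, pos16 (a16 i) ∧ sg i (a16 i) = neg16 (a16 i) ∧ cl (a16 i) = i ∧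
    wd (a16 i) = [] ∧ (∀ r, sg i (neg16 r) = neg16 (sg i r)) ∧
    (∀ r, sg i (sg i r) = r) ∧ ∀ r, pos16 r → r ≠ a16 i → pos16 (sg i r) := by
  decide +kernel

theorem pos_neg16 : ∀ r, pos16 (neg16 r) ↔ ¬ pos16 r := by decide +kernel

theorem dih_pos : ∀ c : Fin 8,
    let d : Fin 16 := ⟨2 * c.val, by omega⟩
    ((∀ r, pos16 r → pos16 (d + r)) → ∀ r, d + r = r) ∧
    ((∀ r, pos16 r → pos16 (d - r)) → ∀ r, d - r = r) ∧
    ((∃ r, pos16 r ∧ ¬ pos16 (d + r)) → ∃ i, ¬ pos16 (d + a16 i)) ∧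
    ((∃ r, pos16 r ∧ ¬ pos16 (d - r)) → ∃ i, ¬ pos16 (d - a16 i)) := by
  decide +kernel

theorem dih_step : ∀ (i : Fin 2) (c : Fin 8),
    let d : Fin 16 := ⟨2 * c.val, by omega⟩
    ∃ c' : Fin 8, (∀ r, sg i (d + r) = ⟨2 * c'.val, by omega⟩ - r) ∧
      ∀ r, sg i (d - r) = ⟨2 * c'.val, by omega⟩ + r := by
  decide +kernel

theorem coe_actR_lt (k : Fin 2) {r : ℕ} (hr : r < chevF4.nroots) : actR k r < chevF4.nroots := by
  rw [actR, dif_pos hr]; exact Fin.isLt _

theorem fl_lt : ∀ (L : List (Fin 2)) {r : ℕ}, r < chevF4.nroots → fl L r < chevF4.nroots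
  | [], _, h => h
  | i :: L, _, h => coe_actR_lt i (fl_lt L h)

variable {K : Type*} [Field K] [Fintype K] {m : ℕ} (hK : Fintype.card K = 2 ^ (2 * m + 1))

/-- A simple element. -/
noncomputable def sW (i : Fin 2) : ↥(FG K m) := sG (hT hK) i

/-- A fundamental root subgroup. -/
noncomputable def X16 (i : Fin 2) : Subgroup ↥(FG K m) := XG (TD hK) i

/-- The torus. -/
noncomputable def H16 : Subgroup ↥(FG K m) := (frame (hT hK)).H

/-- The positive part. -/
noncomputable def U0 : Subgroup ↥(FG K m) := (frame (hT hK)).U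

/-- The negative part. -/
noncomputable def V0 : Subgroup ↥(FG K m) := (frame (hT hK)).V

theorem mem_X16_0 {g : ↥(FG K m)} : g ∈ X16 hK 0 ↔ ∃ t, g = P0 m t := mem_X0 hK

theorem mem_X16_1 {g : ↥(FG K m)} : g ∈ X16 hK 1 ↔ ∃ t u, g = P1 m t u := mem_X1 hK

theorem hab_mem16 (a b : Kˣ) : hab hK a b ∈ H16 hK := hab_mem hK a b

theorem exists_hab16 {g : ↥(FG K m)} (hg : g ∈ H16 hK) : ∃ a b, g = hab hK a b := exists_hab hK hg

theorem s0_conj16 (a b : Kˣ) : sW hK 0 * hab hK a b * (sW hK 0)⁻¹ = hab hK a⁻¹ (a * b) :=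
  s0_conj hK a b

/-- The product of simple elements along a word. -/
noncomputable def wG (L : List (Fin 2)) : ↥(FG K m) := (L.map (sW hK)).prod

theorem wG_nil : wG hK [] = 1 := rfl

theorem wG_cons (i : Fin 2) (L : List (Fin 2)) : wG hK (i :: L) = sW hK i * wG hK L :=
  List.prod_cons

theorem val_sG (i : Fin 2) : val (sW hK i) = (mk K i : GL chevF4.Idx K) := rfl

theorem val_one : val (1 : ↥(FG K m)) = 1 := rfl

theorem conj_word : ∀ (L : List (Fin 2)) {r : ℕ}, r < chevF4.nroots → ∀ t : K,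
    val (wG hK L) * rt chevF4 r t * (val (wG hK L))⁻¹ = rt chevF4 (fl L r) t
  | [], r, _, t => by simp [wG_nil, val_one, fl]
  | i :: L, r, hr, t => by
    have hp := fl_lt L hr
    rw [wG_cons, val_mul, val_sG,
      show (mk K i : GL chevF4.Idx K) * val (wG hK L) * rt chevF4 r t *
          ((mk K i : GL chevF4.Idx K) * val (wG hK L))⁻¹ = (mk K i : GL chevF4.Idx K) *
          (val (wG hK L) * rt chevF4 r t * (val (wG hK L))⁻¹) * (mk K i : GL chevF4.Idx K)⁻¹ by group,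
      conj_word L hr t, show mk K i = nWordProd weylForF4 spec K i from rfl,
      coe_nWordProd checkedF4, prod_nElt_conj checkedF4 (h2 hK) weylForF4 _ ⟨fl L r, hp⟩]
    show _ = rt chevF4 (actR i (fl L r)) t
    rw [actR, dif_pos hp]
    rfl

theorem root_lt : ∀ r ∈ [33, 24, 27, 25, 28, 30], r < chevF4.nroots := by decide +kernel

theorem val_conj_P0 (L : List (Fin 2)) (t : K) :
    val (wG hK L * P0 m t * (wG hK L)⁻¹) =
      rt chevF4 (fl L 33) (t ^ 2 ^ m) * rt chevF4 (fl L 24) t := by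
  rw [val_mul, val_mul, val_inv, val_P0, ← conj_mul, conj_word hK L (root_lt 33 (by simp)),
    conj_word hK L (root_lt 24 (by simp))]

theorem val_conj_P1 (L : List (Fin 2)) (t u : K) :
    val (wG hK L * P1 m t u * (wG hK L)⁻¹) =
      rt chevF4 (fl L 27) (t ^ 2 ^ m) * rt chevF4 (fl L 25) t *
        rt chevF4 (fl L 28) (t ^ (2 ^ m + 1) + u) * rt chevF4 (fl L 30) (u ^ (2 * 2 ^ m)) := by
  rw [val_mul, val_mul, val_inv, val_P1, ← conj_mul, ← conj_mul, ← conj_mul,
    conj_word hK L (root_lt 27 (by simp)), conj_word hK L (root_lt 25 (by simp)),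
    conj_word hK L (root_lt 28 (by simp)), conj_word hK L (root_lt 30 (by simp))]

/-- An element of a class with two roots. -/
noncomputable def pA (k : Fin 16) (t : K) : ↥(FG K m) :=
  wG hK (wd k) * P0 m t * (wG hK (wd k))⁻¹

/-- An element of a class with four roots. -/
noncomputable def pB (k : Fin 16) (t u : K) : ↥(FG K m) :=
  wG hK (wd k) * P1 m t u * (wG hK (wd k))⁻¹

include hK

theorem pA_zero (k : Fin 16) : pA hK k 0 = 1 := by simp [pA, P0_zero hK]

theorem pB_zero (k : Fin 16) : pB hK k 0 0 = 1 := by simp [pB, P1_zero hK]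

theorem pA_mul (k : Fin 16) (s t : K) : pA hK k s * pA hK k t = pA hK k (s + t) := by
  rw [pA, pA, pA, ← P0_mul hK]; group

theorem pB_mul (k : Fin 16) (t u t' u' : K) :
    pB hK k t u * pB hK k t' u' = pB hK k (t + t') (u + u' + t ^ 2 ^ m * t') := by
  rw [pB, pB, pB, ← P1_mul hK]; group

theorem pA_base {k : Fin 16} (h : wd k = []) (t : K) : pA hK k t = P0 m t := by
  simp [pA, h, wG_nil]

theorem pB_base {k : Fin 16} (h : wd k = []) (t u : K) : pB hK k t u = P1 m t u := by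
  simp [pB, h, wG_nil]

omit [Fintype K] hK in
theorem evW_wordA (ρ : List K) (r rb o : ℕ) :
    evW ρ (wordA r rb o) = rt chevF4 r (ρ.getD (o + 1) 0) * rt chevF4 rb (ρ.getD o 0) := by
  simp [evW, wordA, at', evP, evM, wordRt, -List.getD_eq_getElem?_getD]

theorem evW_wordB (ρ : List K) (a b c d o : ℕ) :
    evW ρ (wordB a b c d o) = rt chevF4 a (ρ.getD (o + 1) 0) * rt chevF4 b (ρ.getD o 0) *
      rt chevF4 c (ρ.getD (o + 1) 0 * ρ.getD o 0 + ρ.getD (o + 2) 0) *
      rt chevF4 d (ρ.getD (o + 3) 0) := by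
  have h2' := h2 hK
  simp only [evW, wordB, List.map_cons, List.map_nil, evP_padd h2', evP_pmul h2', at', wordRt,
    List.prod_cons, List.prod_nil, mul_one, mul_assoc]
  simp only [evP, evM, List.map_cons, List.map_nil, List.prod_cons, List.prod_nil, List.sum_cons,
    List.sum_nil, mul_one, add_zero]

theorem sq_th (u : K) : u ^ (2 * 2 ^ m) = th m u ^ 2 := by
  rw [th, ← pow_mul, mul_comm]

/-- The coordinates as a product of elements of the classes. -/
noncomputable def prodPt (p : Pt K) : ↥(FG K m) :=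
  pA hK 0 p.t1 * pB hK 1 p.t2 p.u2 * pA hK 2 p.t3 * pB hK 3 p.t4 p.u4 * pA hK 4 p.t5 *
    pB hK 5 p.t6 p.u6 * pA hK 6 p.t7 * pB hK 7 p.t8 p.u8

theorem val_prodPt (p : Pt K) : val (prodPt hK p) = el m p := by
  obtain ⟨c0, c1, c2, c3, c4, c5, c6, c7⟩ := cr_table
  have hA : ∀ (k : Fin 16) (a b : ℕ) (t : K), cl k = 0 → cr k = [a, b] →
      val (pA hK k t) = rt chevF4 a (th m t) * rt chevF4 b t := by
    intro k a b t hk h
    rw [cr, if_pos hk] at h
    simp only [List.map_cons, List.map_nil, List.cons.injEq, and_true] at h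
    rw [pA, val_conj_P0, h.1, h.2]; rfl
  have hB : ∀ (k : Fin 16) (a b c d : ℕ) (t u : K), cl k ≠ 0 → cr k = [a, b, c, d] →
      val (pB hK k t u) = rt chevF4 a (th m t) * rt chevF4 b t *
        rt chevF4 c (th m t * t + u) * rt chevF4 d (th m u ^ 2) := by
    intro k a b c d t u hk h
    rw [cr, if_neg hk] at h
    simp only [List.map_cons, List.map_nil, List.cons.injEq, and_true] at h
    obtain ⟨e1, e2, e3, e4⟩ := h
    rw [pB, val_conj_P1, e1, e2, e3, e4, sq_th hK, pow_succ]; rfl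
  simp only [prodPt, val_mul]
  rw [hA 0 _ _ _ rfl c0, hB 1 _ _ _ _ _ _ (by decide) c1, hA 2 _ _ _ rfl c2,
    hB 3 _ _ _ _ _ _ (by decide) c3, hA 4 _ _ _ rfl c4, hB 5 _ _ _ _ _ _ (by decide) c5,
    hA 6 _ _ _ rfl c6, hB 7 _ _ _ _ _ _ (by decide) c7, el, phiW]
  simp only [evW_append, evW_wordA, evW_wordB hK]
  simp [env, mul_assoc]

theorem prodPt_inj {p q : Pt K} (h : prodPt hK p = prodPt hK q) : p = q :=
  el_injective hK (by rw [← val_prodPt hK, ← val_prodPt hK, h])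

/-- The point with one class only. -/
def ptA (k : ℕ) (t : K) : Pt K :=
  ⟨if k = 0 then t else 0, 0, 0, if k = 2 then t else 0, 0, 0, if k = 4 then t else 0, 0, 0,
    if k = 6 then t else 0, 0, 0⟩

/-- The point with one class only. -/
def ptB (k : ℕ) (t u : K) : Pt K :=
  ⟨0, if k = 1 then t else 0, if k = 1 then u else 0, 0, if k = 3 then t else 0,
    if k = 3 then u else 0, 0, if k = 5 then t else 0, if k = 5 then u else 0, 0,
    if k = 7 then t else 0, if k = 7 then u else 0⟩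

theorem prodPt_single {k : Fin 16} (hk : pos16 k) :
    (cl k = 0 → ∀ t : K, prodPt hK (ptA k.val t) = pA hK k t) ∧
    (cl k = 1 → ∀ t u : K, prodPt hK (ptB k.val t u) = pB hK k t u) := by
  fin_cases k <;> simp [pos16] at hk <;> simp [prodPt, ptA, ptB, cl, pA_zero hK, pB_zero hK]

/-- The root subgroup of a class. -/
noncomputable def U16 (k : Fin 16) : Subgroup ↥(FG K m) :=
  (X16 hK (cl k)).map (MulAut.conj (wG hK (wd k))).toMonoidHom

theorem mem_U16_even {k : Fin 16} (h : cl k = 0) {g : ↥(FG K m)} :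
    g ∈ U16 hK k ↔ ∃ t, g = pA hK k t := by
  rw [U16, h]
  constructor
  · rintro ⟨x, hx, rfl⟩
    obtain ⟨t, rfl⟩ := (mem_X16_0 hK).1 hx
    exact ⟨t, rfl⟩
  · rintro ⟨t, rfl⟩
    exact ⟨_, (mem_X16_0 hK).2 ⟨t, rfl⟩, rfl⟩

theorem mem_U16_odd {k : Fin 16} (h : cl k = 1) {g : ↥(FG K m)} :
    g ∈ U16 hK k ↔ ∃ t u, g = pB hK k t u := by
  rw [U16, h]
  constructor
  · rintro ⟨x, hx, rfl⟩
    obtain ⟨t, u, rfl⟩ := (mem_X16_1 hK).1 hx
    exact ⟨t, u, rfl⟩
  · rintro ⟨t, u, rfl⟩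
    exact ⟨_, (mem_X16_1 hK).2 ⟨t, u, rfl⟩, rfl⟩

theorem U16_base (i : Fin 2) : U16 hK (a16 i) = X16 hK i := by
  obtain ⟨-, -, h1, h2, -⟩ := sg_table i
  rw [U16, h1, h2, wG_nil]
  ext g; simp

theorem conj_U16 (i : Fin 2) (k : Fin 16) :
    (U16 hK k).map (MulAut.conj (sW hK i)).toMonoidHom = U16 hK (sg i k) := by
  obtain ⟨hc, hr⟩ := pk_step i k
  have hmap : (U16 hK k).map (MulAut.conj (sW hK i)).toMonoidHom =
      (X16 hK (cl k)).map (MulAut.conj (wG hK (i :: wd k))).toMonoidHom := by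
    rw [U16, Subgroup.map_map, wG_cons]
    congr 1
    ext g; simp
  rw [hmap, U16, hc]
  have key : ∀ g ∈ X16 hK (cl k), wG hK (i :: wd k) * g * (wG hK (i :: wd k))⁻¹ =
      wG hK (wd (sg i k)) * g * (wG hK (wd (sg i k)))⁻¹ := by
    intro g hg
    apply gext
    obtain e | e : cl k = 0 ∨ cl k = 1 := by omega
    · rw [e] at hg hr
      obtain ⟨t, rfl⟩ := (mem_X16_0 hK).1 hg
      rw [val_conj_P0, val_conj_P0, hr 33 (by simp [pk]), hr 24 (by simp [pk])]
    · rw [e] at hg hr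
      obtain ⟨t, u, rfl⟩ := (mem_X16_1 hK).1 hg
      rw [val_conj_P1, val_conj_P1, hr 27 (by simp [pk]), hr 25 (by simp [pk]),
        hr 28 (by simp [pk]), hr 30 (by simp [pk])]
  ext g
  constructor <;> rintro ⟨x, hx, rfl⟩ <;> refine ⟨x, hx, ?_⟩
  · exact (key x hx).symm
  · exact key x hx

/-- The system of root subgroups. -/
noncomputable def sys : RootGroupSys ↥(FG K m) (Fin 2) (Fin 16) where
  pos := pos16
  a := a16
  neg := neg16
  σ := sg
  U := U16 hK
  H := H16 hK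
  n := sW hK

theorem sys_U_a (i : Fin 2) : (sys hK).U ((sys hK).a i) = X16 hK i := U16_base hK i

theorem Uplus_eq : (sys hK).Uplus = U0 hK := by
  apply le_antisymm
  · refine (Subgroup.closure_le _).2 ?_
    rintro g ⟨k, hk, hg⟩
    refine (mem_pos_iff checkedF4 weylForF4 (g : ↥(chevF4.group K))).1 ?_
    obtain e | e : cl k = 0 ∨ cl k = 1 := by omega
    · obtain ⟨t, rfl⟩ := (mem_U16_even hK e).1 hg
      rw [← (prodPt_single hK hk).1 e, show ((prodPt hK (ptA k.val t) : ↥(FG K m)) :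
        ↥(chevF4.group K)).1 = el m (ptA k.val t) from val_prodPt hK _]
      exact el_pos _
    · obtain ⟨t, u, rfl⟩ := (mem_U16_odd hK e).1 hg
      rw [← (prodPt_single hK hk).2 e, show ((prodPt hK (ptB k.val t u) : ↥(FG K m)) :
        ↥(chevF4.group K)).1 = el m (ptB k.val t u) from val_prodPt hK _]
      exact el_pos _
  · intro g hg
    obtain ⟨p, hp⟩ := exists_pt hK
      ((mem_pos_iff checkedF4 weylForF4 (g : ↥(chevF4.group K))).2 hg) g.2
    rw [gext (a := g) (b := prodPt hK p) (hp.trans (val_prodPt hK p).symm)]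
    have hA : ∀ (k : Fin 16) (t : K), pos16 k → cl k = 0 → pA hK k t ∈ (sys hK).Uplus :=
      fun k t h1 h2 => RootGroupSys.U_le_Uplus (S := sys hK) h1 ((mem_U16_even hK h2).2 ⟨t, rfl⟩)
    have hB : ∀ (k : Fin 16) (t u : K), pos16 k → cl k = 1 → pB hK k t u ∈ (sys hK).Uplus :=
      fun k t u h1 h2 =>
        RootGroupSys.U_le_Uplus (S := sys hK) h1 ((mem_U16_odd hK h2).2 ⟨t, u, rfl⟩)
    exact mul_mem (mul_mem (mul_mem (mul_mem (mul_mem (mul_mem (mul_mem
      (hA 0 _ (by decide) rfl) (hB 1 _ _ (by decide) rfl)) (hA 2 _ (by decide) rfl))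
      (hB 3 _ _ (by decide) rfl)) (hA 4 _ (by decide) rfl)) (hB 5 _ _ (by decide) rfl))
      (hA 6 _ (by decide) rfl)) (hB 7 _ _ (by decide) rfl)

theorem exists_prodPt {g : ↥(FG K m)} (hg : g ∈ (sys hK).Uplus) : ∃ p, g = prodPt hK p := by
  rw [Uplus_eq] at hg
  obtain ⟨p, hp⟩ := exists_pt hK
    ((mem_pos_iff checkedF4 weylForF4 (g : ↥(chevF4.group K))).2 hg) g.2
  exact ⟨p, gext (hp.trans (val_prodPt hK p).symm)⟩

theorem Uminus_le : (sys hK).Uminus ≤ V0 hK := by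
  refine (Subgroup.closure_le _).2 ?_
  rintro g ⟨k, hk, hg⟩
  refine (mem_neg_iff checkedF4 weylForF4 (g : ↥(chevF4.group K))).1 ?_
  have hneg : ∀ r ∈ cr k, ∀ t : K, rt chevF4 r t ∈ chevF4.negUnipotent K := by
    intro r hr t
    have h24 := cr_neg k hk r hr
    exact Subgroup.subset_closure ⟨r, t, neg_roots r h24, checkedF4.coe_rt r t⟩
  obtain e | e : cl k = 0 ∨ cl k = 1 := by omega
  · obtain ⟨t, rfl⟩ := (mem_U16_even hK e).1 hg
    show val (pA hK k t) ∈ _
    rw [pA, val_conj_P0]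
    exact mul_mem (hneg _ (by simp [cr, e]) _) (hneg _ (by simp [cr, e]) _)
  · obtain ⟨t, u, rfl⟩ := (mem_U16_odd hK e).1 hg
    show val (pB hK k t u) ∈ _
    rw [pB, val_conj_P1]
    exact mul_mem (mul_mem (mul_mem (hneg _ (by simp [cr, e]) _) (hneg _ (by simp [cr, e]) _))
      (hneg _ (by simp [cr, e]) _)) (hneg _ (by simp [cr, e]) _)

/-! ### The torus. -/

theorem s1_conj (a b : Kˣ) :
    sW hK 1 * hab hK a b * (sW hK 1)⁻¹ = hab hK (a * b ^ (2 * 2 ^ m + 2)) b⁻¹ := by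
  obtain ⟨h1, h3, h4⟩ := (exists_tor hK a b).choose_spec
  obtain ⟨-, p2⟩ := chi_fix hK h1
  set c := (exists_tor hK a b).choose with hc
  set g : ↥(FG K m) := sW hK 1 * hab hK a b * (sW hK 1)⁻¹ with hg
  have hgH : (g : ↥(chevF4.group K)) ∈ (grpSys weylForF4 K).H := by
    have hN : ((hab hK a b : ↥(FG K m)) : ↥(chevF4.group K)) ∈ (TD hK).S.N :=
      RootGroupSys.H_le_N (S := (TD hK).S) (hab_mem hK a b)
    have h1 := (RootGroupSys.pair (hT hK).ax (hT hK).sep).conj_mem _ ((hT hK).m_N 1)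
      ((hab hK a b : ↥(FG K m)) : ↥(chevF4.group K))
      (Subgroup.mem_inf.2 ⟨RootGroupSys.H_le_B (S := (TD hK).S) (hab_mem hK a b), hN⟩)
    exact TwistData.mem_B_inf_N (hT hK)
      (show (mk K 1 * ((hab hK a b : ↥(FG K m)) : ↥(chevF4.group K)) * (mk K 1)⁻¹) ∈ (TD hK).S.B
        from h1)
      (mul_mem (mul_mem ((hT hK).m_N 1) hN) (inv_mem ((hT hK).m_N 1)))
  rw [← mem_diag_iff checkedF4 weylForF4, checkedF4.diagonalSubgroup_eq] at hgH
  obtain ⟨c', hc'⟩ := hgH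
  rw [eq_hab hK (g := g) (c := c') hc'.symm]
  have hval : T4 c' = (mk K 1 : GL chevF4.Idx K) * T4 c * (mk K 1 : GL chevF4.Idx K)⁻¹ := hc'
  have key : ∀ r r' : ℕ, r < chevF4.nroots → r' < chevF4.nroots → actR 1 r' = r →
      chi c' r = chi c r' := by
    intro r r' hr hr' hrr
    have w1 : ∀ y : K, (mk K 1 : GL chevF4.Idx K) * rt chevF4 r' y *
        (mk K 1 : GL chevF4.Idx K)⁻¹ = rt chevF4 r y := by
      intro y
      rw [show mk K 1 = nWordProd weylForF4 spec K 1 from rfl, coe_nWordProd checkedF4,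
        prod_nElt_conj checkedF4 (h2 hK) weylForF4 _ ⟨r', hr'⟩, ← hrr, actR, dif_pos hr']
      rfl
    have e1 := conj_torus c' hr (1 : K)
    rw [← w1 1, hval] at e1
    have e2 : (mk K 1 : GL chevF4.Idx K) * (T4 c * rt chevF4 r' 1 * (T4 c)⁻¹) *
        (mk K 1 : GL chevF4.Idx K)⁻¹ = rt chevF4 r ((chi c' r : K) * 1) := by
      rw [← e1]; group
    rw [conj_torus c hr', w1] at e2
    exact Units.ext (by simpa using (checkedF4.rt_injective hr e2).symm)
  rw [key 24 32 (by decide +kernel) (by decide +kernel) (by decide +kernel),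
    key 25 22 (by decide +kernel) (by decide +kernel) (by decide +kernel),
    chi_add c (r := 32) (a := 31) (b := 25) (by decide +kernel),
    chi_add c (r := 31) (a := 24) (b := 30) (by decide +kernel),
    chi_add c (r := 30) (a := 28) (b := 27) (by decide +kernel),
    chi_add c (r := 28) (a := 25) (b := 27) (by decide +kernel), p2, h3, h4]
  congr 1
  · calc a * (b * b ^ 2 ^ m * b ^ 2 ^ m) * b = a * (b ^ 2 ^ m * b ^ 2 ^ m * (b * b)) := by
          simp only [mul_assoc, mul_comm, mul_left_comm]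
      _ = _ := by rw [← pow_add, ← sq, ← pow_add, two_mul]
  · apply eq_inv_of_mul_eq_one_left
    have hz : chi c 22 * chi c 25 = 1 := by
      show (∏ i : Fin 4, _) * (∏ i : Fin 4, _) = 1
      rw [← Finset.prod_mul_distrib]
      refine Finset.prod_eq_one fun i _ => ?_
      rw [← zpow_add, show chevF4.cartan i.val 22 + chevF4.cartan i.val 25 = 0 from
        (by decide +kernel : ∀ i : Fin 4, chevF4.cartan i.val 22 + chevF4.cartan i.val 25 = 0) i,
        zpow_zero]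
    rw [← h4]; exact hz

/-- A fundamental reflection on the parameters of the torus. -/
def tp (m : ℕ) (i : Fin 2) (p : Kˣ × Kˣ) : Kˣ × Kˣ :=
  if i = 0 then (p.1⁻¹, p.1 * p.2) else (p.1 * p.2 ^ (2 * 2 ^ m + 2), p.2⁻¹)

theorem s_conj (i : Fin 2) (a b : Kˣ) :
    sW hK i * hab hK a b * (sW hK i)⁻¹ = hab hK (tp m i (a, b)).1 (tp m i (a, b)).2 := by
  obtain rfl | rfl : i = 0 ∨ i = 1 := by omega
  · exact s0_conj16 hK a b
  · exact s1_conj hK a b

theorem tp_tp (i : Fin 2) (p : Kˣ × Kˣ) : tp m i (tp m i p) = p := by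
  obtain rfl | rfl : i = 0 ∨ i = 1 := by omega
  · simp [tp]
  · simp [tp]

theorem hab_conj_wG : ∀ (L : List (Fin 2)) (p : Kˣ × Kˣ) (x : ↥(FG K m)),
    hab hK p.1 p.2 * (wG hK L * x * (wG hK L)⁻¹) * (hab hK p.1 p.2)⁻¹ =
      wG hK L * (hab hK (L.foldl (fun q i => tp m i q) p).1 (L.foldl (fun q i => tp m i q) p).2 *
        x * (hab hK (L.foldl (fun q i => tp m i q) p).1
          (L.foldl (fun q i => tp m i q) p).2)⁻¹) * (wG hK L)⁻¹
  | [], p, x => by simp [wG_nil]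
  | i :: L, p, x => by
    have h := s_conj hK i (tp m i p).1 (tp m i p).2
    rw [Prod.mk.eta, tp_tp hK] at h
    have ih := hab_conj_wG L (tp m i p) x
    rw [List.foldl_cons, wG_cons, ← h]
    simp only [mul_inv_rev, inv_inv, mul_assoc, inv_mul_cancel_left] at ih ⊢
    rw [← mul_assoc (hab hK (tp m i p).1 _) (wG hK L)]
    rw [← mul_assoc (hab hK (tp m i p).1 _) (wG hK L)] at ih
    simp only [mul_assoc] at ih ⊢
    rw [← mul_assoc (wG hK L)⁻¹ (hab hK (tp m i p).1 _)⁻¹]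
    exact congrArg (sW hK i * ·) (by
      simpa only [mul_assoc] using congrArg (fun z => z * (sW hK i)⁻¹) ih)

/-- The weight of a class. -/
def wt (m : ℕ) (k : Fin 16) (p : Kˣ × Kˣ) : Kˣ :=
  if cl k = 0 then ((wd k).foldl (fun q i => tp m i q) p).1
  else ((wd k).foldl (fun q i => tp m i q) p).2

theorem hab_conj_pA {k : Fin 16} (h : cl k = 0) (a b : Kˣ) (t : K) :
    hab hK a b * pA hK k t * (hab hK a b)⁻¹ = pA hK k ((wt m k (a, b) : Kˣ) * t) := by
  rw [pA, hab_conj_wG hK (wd k) (a, b), hab_conj_P0, pA, wt, if_pos h]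

theorem hab_conj_pB {k : Fin 16} (h : cl k = 1) (a b : Kˣ) (t u : K) :
    hab hK a b * pB hK k t u * (hab hK a b)⁻¹ =
      pB hK k ((wt m k (a, b) : Kˣ) * t) (((wt m k (a, b) : Kˣ) : K) ^ (2 ^ m + 1) * u) := by
  rw [pB, hab_conj_wG hK (wd k) (a, b), hab_conj_P1, pB, wt, if_neg (by rw [h]; decide)]

theorem pow_ee (b : Kˣ) : b ^ (2 * (2 ^ m * 2 ^ m)) = b := by
  apply Units.ext
  push_cast
  conv_rhs => rw [← H32.FF.he hK (b : K)]
  rw [← pow_mul, ← pow_mul]
  congr 1; ring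

theorem wt_table (a b : Kˣ) :
    wt m 0 (a, b) = a ∧ wt m 1 (a, b) = a * b ∧
    wt m 2 (a, b) = a ^ (2 * 2 ^ m + 1) * b ^ (2 * 2 ^ m + 2) ∧
    wt m 3 (a, b) = a ^ (2 * 2 ^ m) * b ^ (2 * 2 ^ m + 1) ∧
    wt m 4 (a, b) = a ^ (2 * 2 ^ m + 1) * b ^ (4 * 2 ^ m + 2) ∧
    wt m 5 (a, b) = a * b ^ (2 * 2 ^ m + 1) ∧ wt m 6 (a, b) = a * b ^ (2 * 2 ^ m + 2) ∧
    wt m 7 (a, b) = b := by
  set e := 2 ^ m with he
  have h0 : ∀ c : Kˣ, (c : K) ≠ 0 := fun c => c.ne_zero
  refine ⟨rfl, rfl, ?_, ?_, ?_, ?_, rfl, rfl⟩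
  · show a⁻¹ * (a * b) ^ (2 * e + 2) = _
    apply Units.ext; push_cast; field_simp; ring
  · show a⁻¹ * (a * b) ^ (2 * e + 2) * (a * b)⁻¹ = _
    apply Units.ext; push_cast; field_simp; ring
  · show (a * b ^ (2 * e + 2))⁻¹ * (a * b ^ (2 * e + 2) * b⁻¹) ^ (2 * e + 2) = _
    have hb : (b : K) ^ (2 * (e * e)) = b := by
      exact_mod_cast congrArg Units.val (pow_ee hK b)
    apply Units.ext
    push_cast
    field_simp
    have e1 : (b : K) ^ ((2 * e + 2) * (2 * e + 2)) =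
        b ^ (4 * e + 2) * (b ^ (2 * e + 2) * b ^ (2 * e + 2)) := by
      calc (b : K) ^ ((2 * e + 2) * (2 * e + 2))
          = (b ^ (2 * (e * e))) ^ 2 * b ^ (8 * e + 4) := by rw [← pow_mul, ← pow_add]; ring_nf
        _ = _ := by rw [hb, ← pow_add, ← pow_add, ← pow_add]; ring_nf
    rw [div_pow, mul_pow, ← pow_mul, e1]
    field_simp
    ring
  · show a * b ^ (2 * e + 2) * b⁻¹ = _
    apply Units.ext; push_cast; field_simp; ring

theorem conj_H16 {h : ↥(FG K m)} (hh : h ∈ (sys hK).H) (k : Fin 16) :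
    (U16 hK k).map (MulAut.conj h).toMonoidHom = U16 hK k := by
  have key : ∀ h ∈ (sys hK).H, ∀ g ∈ U16 hK k, h * g * h⁻¹ ∈ U16 hK k := by
    intro h hh g hg
    obtain ⟨a, b, rfl⟩ := exists_hab16 hK hh
    obtain e | e : cl k = 0 ∨ cl k = 1 := by omega
    · obtain ⟨t, rfl⟩ := (mem_U16_even hK e).1 hg
      exact (mem_U16_even hK e).2 ⟨_, hab_conj_pA hK e a b t⟩
    · obtain ⟨t, u, rfl⟩ := (mem_U16_odd hK e).1 hg
      exact (mem_U16_odd hK e).2 ⟨_, _, hab_conj_pB hK e a b t u⟩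
  refine le_antisymm ?_ fun x hx => ⟨h⁻¹ * x * h, ?_, by simp [mul_assoc]⟩
  · rintro _ ⟨x, hx, rfl⟩
    exact key h hh x hx
  · simpa using key h⁻¹ (inv_mem hh) x hx

theorem hab_conj_prodPt (a b : Kˣ) (p : Pt K) :
    hab hK a b * prodPt hK p * (hab hK a b)⁻¹ = prodPt hK
      ⟨(wt m 0 (a, b) : Kˣ) * p.t1,
       (wt m 1 (a, b) : Kˣ) * p.t2, ((wt m 1 (a, b) : Kˣ) : K) ^ (2 ^ m + 1) * p.u2,
       (wt m 2 (a, b) : Kˣ) * p.t3,
       (wt m 3 (a, b) : Kˣ) * p.t4, ((wt m 3 (a, b) : Kˣ) : K) ^ (2 ^ m + 1) * p.u4,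
       (wt m 4 (a, b) : Kˣ) * p.t5,
       (wt m 5 (a, b) : Kˣ) * p.t6, ((wt m 5 (a, b) : Kˣ) : K) ^ (2 ^ m + 1) * p.u6,
       (wt m 6 (a, b) : Kˣ) * p.t7,
       (wt m 7 (a, b) : Kˣ) * p.t8, ((wt m 7 (a, b) : Kˣ) : K) ^ (2 ^ m + 1) * p.u8⟩ := by
  set h := hab hK a b
  have e : ∀ x y : ↥(FG K m), h * (x * y) * h⁻¹ = h * x * h⁻¹ * (h * y * h⁻¹) := fun x y => by group
  simp only [prodPt, e]
  simp only [h, hab_conj_pA hK (k := 0) rfl, hab_conj_pA hK (k := 2) rfl,
    hab_conj_pA hK (k := 4) rfl, hab_conj_pA hK (k := 6) rfl, hab_conj_pB hK (k := 1) rfl,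
    hab_conj_pB hK (k := 3) rfl, hab_conj_pB hK (k := 5) rfl, hab_conj_pB hK (k := 7) rfl]

/-! ### The axioms. -/

theorem sG_sq (i : Fin 2) : sW hK i * sW hK i = 1 := by
  apply gext
  rw [val_mul, val_sG, val_one]
  have hb : ∀ w : List ℕ, BitMat.bword chevF4 w = BitMat.bone (chevF4.rank + chevF4.nroots) →
      wordRt chevF4 (w.map fun r => (r, (1 : K))) = 1 := by
    intro w hw
    apply Units.ext
    rw [checkedF4.coe_wordRt, ← BitMat.evalB_bword chevF4 (h2 hK), hw, BitMat.evalB_bone,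
      Units.val_one]
  obtain rfl | rfl : i = 0 ∨ i = 1 := by omega
  · rw [show mk K 0 = nWordProd weylForF4 spec K 0 from rfl, coe_nWordProd checkedF4]
    show nElt chevF4 _ (1 : K) * (nElt chevF4 _ (1 : K) * 1) *
      (nElt chevF4 _ (1 : K) * (nElt chevF4 _ (1 : K) * 1)) = _
    rw [mul_one, nElt_word (h2 hK) (i := 0) (a := 33) (c := 14) (simple_table 0).1 (by decide +kernel),
      nElt_word (h2 hK) (i := 3) (a := 24) (c := 23) (simple_table 3).1 (by decide +kernel)]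
    refine Eq.trans ?_ (hb [33, 14, 33, 24, 23, 24, 33, 14, 33, 24, 23, 24] (by decide +kernel))
    simp [wordRt, mul_assoc]
  · rw [show mk K 1 = nWordProd weylForF4 spec K 1 from rfl, coe_nWordProd checkedF4]
    show nElt chevF4 _ (1 : K) * (nElt chevF4 _ (1 : K) * (nElt chevF4 _ (1 : K) *
        (nElt chevF4 _ (1 : K) * 1))) * (nElt chevF4 _ (1 : K) * (nElt chevF4 _ (1 : K) *
        (nElt chevF4 _ (1 : K) * (nElt chevF4 _ (1 : K) * 1)))) = _
    rw [nElt_word (h2 hK) (i := 1) (a := 27) (c := 20) (simple_table 1).1 (by decide +kernel),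
      nElt_word (h2 hK) (i := 2) (a := 25) (c := 22) (simple_table 2).1 (by decide +kernel)]
    refine Eq.trans ?_ (hb [27, 20, 27, 25, 22, 25, 27, 20, 27, 25, 22, 25,
      27, 20, 27, 25, 22, 25, 27, 20, 27, 25, 22, 25] (by decide +kernel))
    simp [wordRt, mul_assoc]

theorem sG_inv (i : Fin 2) : (sW hK i)⁻¹ = sW hK i :=
  inv_eq_of_mul_eq_one_right (sG_sq hK i)

theorem sG0_eq : sW hK 0 = P0 m 1 * (sW hK 0 * P0 m 1 * (sW hK 0)⁻¹) * P0 m 1 := by
  have hL : sW hK 0 = wG hK [0] := by simp [wG]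
  conv_rhs => rw [hL]
  apply gext
  have f : fl [0] 33 = 14 ∧ fl [0] 24 = 23 := by decide +kernel
  rw [val_mul, val_mul, val_conj_P0, f.1, f.2, val_P0, val_sG, one_pow,
    show mk K 0 = nWordProd weylForF4 spec K 0 from rfl, coe_nWordProd checkedF4]
  show nElt chevF4 _ (1 : K) * (nElt chevF4 _ (1 : K) * 1) = _
  rw [mul_one, nElt_word (h2 hK) (i := 0) (a := 33) (c := 14) (simple_table 0).1 (by decide +kernel),
    nElt_word (h2 hK) (i := 3) (a := 24) (c := 23) (simple_table 3).1 (by decide +kernel),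
    mul3_comm (pair_comm (by simp) _ _) (pair_comm (by simp) _ _) (pair_comm (by simp) _ _)]

theorem sG1_eq : sW hK 1 =
    P1 m 0 1 * (sW hK 1 * P1 m 1 1 * (sW hK 1)⁻¹) * P1 m 1 0 := by
  have hL : sW hK 1 = wG hK [1] := by simp [wG]
  conv_rhs => rw [hL]
  apply gext
  have f : fl [1] 27 = 20 ∧ fl [1] 25 = 22 ∧ fl [1] 28 = 19 ∧ fl [1] 30 = 17 := by decide +kernel
  obtain ⟨f1, f2, f3, f4⟩ := f
  rw [val_mul, val_mul, val_conj_P1, f1, f2, f3, f4, val_P1, val_P1, val_sG,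
    show mk K 1 = nWordProd weylForF4 spec K 1 from rfl, coe_nWordProd checkedF4]
  show nElt chevF4 _ (1 : K) * (nElt chevF4 _ (1 : K) * (nElt chevF4 _ (1 : K) *
      (nElt chevF4 _ (1 : K) * 1))) = _
  rw [nElt_word (h2 hK) (i := 1) (a := 27) (c := 20) (simple_table 1).1 (by decide +kernel),
    nElt_word (h2 hK) (i := 2) (a := 25) (c := 22) (simple_table 2).1 (by decide +kernel)]
  have hR : wordRt chevF4 (([27, 20, 27, 25, 22, 25, 27, 20, 27, 25, 22, 25] : List ℕ).map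
      fun r => (r, (1 : K))) =
      wordRt chevF4 (([28, 30, 20, 22, 17, 27, 25, 28] : List ℕ).map fun r => (r, (1 : K))) := by
    apply Units.ext
    rw [checkedF4.coe_wordRt, checkedF4.coe_wordRt, ← BitMat.evalB_bword chevF4 (h2 hK),
      ← BitMat.evalB_bword chevF4 (h2 hK), bit_identity]
  have hz : (1 : K) + 1 = 0 := by rw [← h2 hK]; norm_num
  simp only [wordRt, List.map_cons, List.map_nil, List.prod_cons, List.prod_nil, mul_one,
    mul_assoc] at hR
  simp only [mul_one, mul_assoc]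
  rw [hR]
  simp [hz, checkedF4.rt_zero, mul_assoc]

theorem comm_Uhat {i : Fin 2} {k : Fin 16} (hk : pos16 k) (hne : k ≠ a16 i)
    {x y : ↥(FG K m)} (hx : x ∈ (sys hK).U (a16 i)) (hy : y ∈ (sys hK).U k) :
    x * y * x⁻¹ ∈ (sys hK).Uhat i := by
  have hh : ∀ (p : Pt K), (i = 0 → p.t1 = 0) → (i = 1 → p.t8 = 0 ∧ p.u8 = 0) →
      prodPt hK p ∈ (sys hK).Uhat i := by
    intro p h0 h1
    have hA : ∀ (l : Fin 16) (t : K), pos16 l → l ≠ a16 i → cl l = 0 →
        pA hK l t ∈ (sys hK).Uhat i := fun l t a1 a2 a3 =>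
      RootGroupSys.U_le_Uhat (S := sys hK) a1 a2 ((mem_U16_even hK a3).2 ⟨t, rfl⟩)
    have hB : ∀ (l : Fin 16) (t u : K), pos16 l → l ≠ a16 i → cl l = 1 →
        pB hK l t u ∈ (sys hK).Uhat i := fun l t u a1 a2 a3 =>
      RootGroupSys.U_le_Uhat (S := sys hK) a1 a2 ((mem_U16_odd hK a3).2 ⟨t, u, rfl⟩)
    unfold prodPt
    obtain rfl | rfl : i = 0 ∨ i = 1 := by omega
    · rw [h0 rfl, pA_zero hK, one_mul]
      exact mul_mem (mul_mem (mul_mem (mul_mem (mul_mem (mul_mem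
        (hB 1 _ _ (by decide) (by decide) rfl) (hA 2 _ (by decide) (by decide) rfl))
        (hB 3 _ _ (by decide) (by decide) rfl)) (hA 4 _ (by decide) (by decide) rfl))
        (hB 5 _ _ (by decide) (by decide) rfl)) (hA 6 _ (by decide) (by decide) rfl))
        (hB 7 _ _ (by decide) (by decide) rfl)
    · rw [(h1 rfl).1, (h1 rfl).2, pB_zero hK, mul_one]
      exact mul_mem (mul_mem (mul_mem (mul_mem (mul_mem (mul_mem
        (hA 0 _ (by decide) (by decide) rfl) (hB 1 _ _ (by decide) (by decide) rfl))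
        (hA 2 _ (by decide) (by decide) rfl)) (hB 3 _ _ (by decide) (by decide) rfl))
        (hA 4 _ (by decide) (by decide) rfl)) (hB 5 _ _ (by decide) (by decide) rfl))
        (hA 6 _ (by decide) (by decide) rfl)
  have hp : ∃ p : Pt K, y = prodPt hK p ∧ (i = 0 → p.t1 = 0) ∧
      (i = 1 → p.t8 = 0 ∧ p.u8 = 0) := by
    obtain e | e : cl k = 0 ∨ cl k = 1 := by omega
    · obtain ⟨t, rfl⟩ := (mem_U16_even hK e).1 hy
      refine ⟨_, ((prodPt_single hK hk).1 e t).symm, fun hi => ?_, fun _ => ⟨rfl, rfl⟩⟩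
      subst hi
      exact if_neg fun h => hne (Fin.ext h)
    · obtain ⟨t, u, rfl⟩ := (mem_U16_odd hK e).1 hy
      refine ⟨_, ((prodPt_single hK hk).2 e t u).symm, fun _ => rfl, fun hi => ?_⟩
      subst hi
      have h7 : k.val ≠ 7 := fun h => hne (Fin.ext h)
      exact ⟨if_neg h7, if_neg h7⟩
  obtain ⟨p, rfl, hp0, hp1⟩ := hp
  have hU : x⁻¹ ∈ (sys hK).U (a16 i) := inv_mem hx
  have hup : x * prodPt hK p * x⁻¹ ∈ (sys hK).Uplus := by
    have hxU := RootGroupSys.U_le_Uplus (S := sys hK) (show pos16 (a16 i) from (sg_table i).1) hx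
    have hpU : prodPt hK p ∈ (sys hK).Uplus := RootGroupSys.Uhat_le_Uplus i (hh p hp0 hp1)
    exact mul_mem (mul_mem hxU hpU) (inv_mem hxU)
  obtain ⟨p', hp'⟩ := exists_prodPt hK hup
  rw [hp']
  have key : ∀ q : Pt K, x⁻¹ = prodPt hK q →
      el m p' = evW (env m p ++ env m q) conjW := by
    intro q hq
    rw [← val_prodPt hK p', ← hp', ← el_inv_conj hK, ← val_prodPt hK p, ← val_prodPt hK q, ← hq]
    simp [val_mul, val_inv]
  obtain rfl | rfl : i = 0 ∨ i = 1 := by omega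
  · refine hh p' (fun _ => ?_) (fun h => absurd h (by decide))
    obtain ⟨t, ht⟩ := (mem_U16_even hK (k := a16 0) rfl).1 hU
    have hk' := key (ptA 0 t) (ht.trans ((prodPt_single hK (k := 0) (by decide)).1 rfl t).symm)
    obtain ⟨L, hL, hd⟩ := Option.map_eq_some_iff.1 cH0_eq
    have hd0 : L.getD 0 [] = [] := of_decide_eq_true hd
    rw [← evW_kill (env m p ++ env m (ptA 0 t))
      ([0, 1] ++ allBut 48 (List.range 24 ++ [24, 25]))] at hk'
    · have := coords_inj (h2 hK) (env m p') (ρ' := env m p ++ env m (ptA 0 t)) cPhi_eq hL hk' 0 (by norm_num)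
      rw [hd0] at this
      simpa [cPhiL, evP, evM, env] using this
    · intro z hz
      have hz' : z < 48 ∧ (z = 0 ∨ z = 1 ∨ 26 ≤ z) := by
        simp [allBut, List.mem_filter] at hz
        omega
      obtain ⟨h48, h⟩ := hz'
      rcases h with rfl | rfl | h
      · simp [env, hp0 rfl]
      · simp [env, hp0 rfl, th_zero]
      · interval_cases z <;> simp [env, ptA, th_zero]
  · refine hh p' (fun h => absurd h (by decide)) (fun _ => ?_)
    obtain ⟨t, u, ht⟩ := (mem_U16_odd hK (k := a16 1) rfl).1 hU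
    have hk' := key (ptB 7 t u) (ht.trans ((prodPt_single hK (k := 7) (by decide)).2 rfl t u).symm)
    obtain ⟨L, hL, hd⟩ := Option.map_eq_some_iff.1 cH1_eq
    obtain ⟨hd1, hd4⟩ := of_decide_eq_true hd
    rw [← evW_kill (env m p ++ env m (ptB 7 t u))
      ([20, 21, 22, 23] ++ allBut 48 (List.range 24 ++ [44, 45, 46, 47]))] at hk'
    · have h1 := coords_inj (h2 hK) (env m p') (ρ' := env m p ++ env m (ptB 7 t u)) cPhi_eq hL hk' 1 (by norm_num)
      have h4 := coords_inj (h2 hK) (env m p') (ρ' := env m p ++ env m (ptB 7 t u)) cPhi_eq hL hk' 4 (by norm_num)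
      rw [hd1] at h1
      rw [hd4] at h4
      exact ⟨by simpa [cPhiL, evP, evM, env] using h1, by simpa [cPhiL, evP, evM, env] using h4⟩
    · intro z hz
      have hz' : z < 48 ∧ (z = 20 ∨ z = 21 ∨ z = 22 ∨ z = 23 ∨ (24 ≤ z ∧ z < 44)) := by
        simp [allBut, List.mem_filter] at hz
        omega
      obtain ⟨h48, h⟩ := hz'
      rcases h with rfl | rfl | rfl | rfl | ⟨h, h'⟩
      · simp [env, (hp1 rfl).1]
      · simp [env, (hp1 rfl).1, th_zero]
      · simp [env, (hp1 rfl).2]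
      · simp [env, (hp1 rfl).2, th_zero]
      · interval_cases z <;> simp [env, ptB, th_zero]

/-- Units are rigid for the exponents met by the classes. -/
theorem units_pow (b : Kˣ) (hb : b ^ (2 * 2 ^ m) = 1 ∨ b ^ (2 * 2 ^ m + 1) = 1 ∨
    b ^ (2 * 2 ^ m + 2) = 1 ∨ b ^ (4 * 2 ^ m + 2) = 1 ∨ b ^ (2 ^ m + 1) = 1 ∨
    b ^ (2 * 2 ^ m - 1) = 1) : b = 1 := by
  set e := 2 ^ m with he
  have hee := pow_ee hK b
  have h0 : b ^ (2 * e) = 1 → b = 1 := fun h => by
    rw [show 2 * (e * e) = 2 * e * e by ring, pow_mul, h, one_pow] at hee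
    exact hee.symm
  have h2' : b ^ 2 = 1 → b = 1 := fun h => by
    rw [pow_mul, h, one_pow] at hee
    exact hee.symm
  have h4 : b ^ (4 * (e * e)) = b ^ 2 := by
    rw [show 4 * (e * e) = 2 * (e * e) * 2 by ring, pow_mul, hee]
  have h1 : b ^ (2 * e + 1) = 1 → b = 1 := fun h => by
    have h5 : b ^ (4 * (e * e) + 2 * e) = 1 := by
      rw [show 4 * (e * e) + 2 * e = (2 * e + 1) * (2 * e) by ring, pow_mul, h, one_pow]
    rw [pow_add, h4, ← pow_add, show 2 + 2 * e = (2 * e + 1) + 1 by ring, pow_succ, h,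
      one_mul] at h5
    exact h5
  have hp : b ^ (e + 1) = 1 → b = 1 := fun h => by
    have h5 : b ^ (2 * (e * e) + 2 * e) = 1 := by
      rw [show 2 * (e * e) + 2 * e = (e + 1) * (2 * e) by ring, pow_mul, h, one_pow]
    rw [pow_add, hee, ← pow_succ'] at h5
    exact h1 h5
  rcases hb with h | h | h | h | h | h
  · exact h0 h
  · exact h1 h
  · refine hp ?_
    have h5 := congrArg (fun z => z ^ (e * e)) h
    simp only [one_pow, ← pow_mul] at h5
    rwa [show (2 * e + 2) * (e * e) = 2 * (e * e) * (e + 1) by ring, pow_mul, hee] at h5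
  · refine h1 ?_
    have h5 := congrArg (fun z => z ^ (e * e)) h
    simp only [one_pow, ← pow_mul] at h5
    rwa [show (4 * e + 2) * (e * e) = 2 * (e * e) * (2 * e + 1) by ring, pow_mul, hee] at h5
  · exact hp h
  · have he1 : 1 ≤ e := Nat.one_le_two_pow
    have h5 : b ^ (4 * (e * e)) = b := by
      obtain ⟨d, hd⟩ : ∃ d, 2 * e = d + 1 := ⟨2 * e - 1, by omega⟩
      rw [show 4 * (e * e) = (2 * e) * (2 * e) by ring, hd]
      rw [hd, Nat.add_sub_cancel] at h
      rw [show (d + 1) * (d + 1) = d * (d + 2) + 1 by ring, pow_succ, pow_mul, h, one_pow, one_mul]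
    rw [h4, sq] at h5
    exact mul_eq_left.1 h5

/-- On the classes other than the first, a torus element has no fixed points. -/
theorem wt_fix0 {b : Kˣ} {k : Fin 16} (hk : pos16 k) (hne : k ≠ 0) (h : wt m k (1, b) = 1) :
    b = 1 := by
  obtain ⟨-, w1, w2, w3, w4, w5, w6, w7⟩ := wt_table hK 1 b
  fin_cases k <;> simp [pos16] at hk <;> simp at hne
  all_goals simp [w1, w2, w3, w4, w5, w6, w7] at h
  all_goals first
    | exact h
    | exact units_pow hK b (by tauto)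

/-- On the classes other than the last, a torus element has no fixed points. -/
theorem wt_fix1 {a : Kˣ} {k : Fin 16} (hk : pos16 k) (hne : k ≠ 7) (h : wt m k (a, 1) = 1) :
    a = 1 := by
  obtain ⟨w0, w1, w2, w3, w4, w5, w6, -⟩ := wt_table hK a 1
  fin_cases k <;> simp [pos16] at hk <;> simp at hne
  all_goals simp [w0, w1, w2, w3, w4, w5, w6] at h
  all_goals first
    | exact h
    | exact units_pow hK a (by tauto)

theorem wt_fix_a : (∀ b : Kˣ, wt m (0 : Fin 16) (1, b) = 1) ∧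
    ∀ a : Kˣ, wt m (7 : Fin 16) (a, 1) = 1 :=
  ⟨fun _ => rfl, fun _ => rfl⟩

omit hK in
theorem one_lt_card (hK : Fintype.card K = 2 ^ (2 * m + 1)) (hm : 1 ≤ m) :
    ∃ a : Kˣ, a ≠ 1 := by
  classical
  have h8 : 2 ^ 3 ≤ Fintype.card K := hK ▸ Nat.pow_le_pow_right (by norm_num) (by omega)
  haveI : Nontrivial Kˣ := Fintype.one_lt_card_iff_nontrivial.1 (by rw [Fintype.card_units]; omega)
  exact exists_ne 1

variable (hm : 1 ≤ m)
include hm

theorem rankone16 (i : Fin 2) {y : ↥(FG K m)} (hy : y ∈ (sys hK).U (neg16 (a16 i)))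
    (hy1 : y ≠ 1) : ∃ x₁ ∈ (sys hK).U (a16 i), ∃ h ∈ (sys hK).H, ∃ x₂ ∈ (sys hK).U (a16 i),
      y = x₁ * h * sW hK i * x₂ := by
  have hy' := hy
  rw [show neg16 (a16 i) = sg i (a16 i) from (sg_table i).2.1.symm] at hy'
  change y ∈ U16 hK _ at hy'
  rw [← conj_U16, U16_base] at hy'
  obtain ⟨q, hq, rfl⟩ := hy'
  have hq1 : (q : ↥(chevF4.group K)) ≠ 1 := fun e => hy1 (by
    rw [show q = 1 from Subtype.ext e, map_one])
  obtain ⟨c, hc, hcG, u, hu, huG, e⟩ :=
    TwistData.rankone (hT hK) (k := i) (show (q : ↥(chevF4.group K)) ∈ _ from hq) q.2 hq1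
  obtain ⟨v, hv, hvG, h, hh, hhG, rfl⟩ := TwistData.split_B (hT hK) hc hcG
  set v' : ↥(FG K m) := ⟨v, hvG⟩
  set h' : ↥(FG K m) := ⟨h, hhG⟩
  set u' : ↥(FG K m) := ⟨u, huG⟩
  set s := sW hK i
  have he : (MulAut.conj s).toMonoidHom q = v' * h' * s * u' := Subtype.ext e
  obtain ⟨p, hp⟩ := exists_prodPt hK
    (show v' ∈ (sys hK).Uplus by rw [Uplus_eq]; exact hv)
  refine ⟨v', ?_, h', hh, u', (U16_base hK i).ge hu, he⟩
  obtain ⟨z, hz⟩ := one_lt_card hK hm
  -- a torus element fixing the classes `±a i` and no other one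
  have main : ∀ k : ↥(FG K m), k ∈ (sys hK).H →
      (∀ x ∈ X16 hK i, k * x * k⁻¹ = x) → k * s * k⁻¹ = s → k * v' * k⁻¹ = v' := by
    intro k hk hfix hs'
    have hkh : k * h' * k⁻¹ = h' := by
      obtain ⟨a, b, rfl⟩ := exists_hab16 hK hk
      obtain ⟨a', b', hh'⟩ := exists_hab16 hK (show h' ∈ H16 hK from hh)
      rw [hh', hab_mul, mul_comm a, mul_comm b, ← hab_mul, mul_inv_cancel_right]
    have hconj : ∀ x y : ↥(FG K m), k * (x * y) * k⁻¹ = k * x * k⁻¹ * (k * y * k⁻¹) :=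
      fun x y => by group
    have hy2 : k * (s * q * s⁻¹) * k⁻¹ = s * q * s⁻¹ := by
      rw [hconj, hconj, show k * s⁻¹ * k⁻¹ = (k * s * k⁻¹)⁻¹ by group, hs', hfix q hq]
    rw [show (MulAut.conj s).toMonoidHom q = s * q * s⁻¹ from rfl] at he
    rw [he, hconj, hconj, hconj, hkh, hs', hfix u' hu, mul_left_inj, mul_left_inj,
      mul_left_inj] at hy2
    exact hy2
  rw [hp]
  obtain rfl | rfl : i = 0 ∨ i = 1 := by omega
  · have h1 := main (hab hK 1 z) (hab_mem16 hK 1 z) (fun x hx => by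
        obtain ⟨t, rfl⟩ := (mem_X16_0 hK).1 hx
        rw [hab_conj_P0, Units.val_one, one_mul]) (by
        have := s_conj hK 0 1 z
        rw [show tp m 0 ((1 : Kˣ), z) = (1, z) by simp [tp]] at this
        rw [mul_inv_eq_iff_eq_mul, ← mul_inv_eq_iff_eq_mul.1 this])
    rw [hp, hab_conj_prodPt] at h1
    have h2' := prodPt_inj hK h1
    have hne : ∀ k : Fin 16, pos16 k → k ≠ 0 → ((wt m k (1, z) : Kˣ) : K) ≠ 1 :=
      fun k a1 a2 a3 => hz (wt_fix0 hK a1 a2 (Units.ext a3))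
    have hne' : ∀ k : Fin 16, pos16 k → k ≠ 0 → ((wt m k (1, z) : Kˣ) : K) ^ (2 ^ m + 1) ≠ 1 :=
      fun k a1 a2 a3 => hne k a1 a2 (congrArg Units.val (units_pow hK (wt m k (1, z))
        (Or.inr (Or.inr (Or.inr (Or.inr (Or.inl (Units.ext (by simpa using a3)))))))))
    obtain ⟨a1, a2, a3, a4, a5, a6, a7, a8, a9, a10, a11, a12⟩ := p
    simp only [Pt.mk.injEq] at h2'
    obtain ⟨-, e2, e3, e4, e5, e6, e7, e8, e9, e10, e11, e12⟩ := h2'
    simp only [mul_left_eq_self₀, hne _ (show pos16 1 by decide) (by decide),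
      hne _ (show pos16 2 by decide) (by decide), hne _ (show pos16 3 by decide) (by decide),
      hne _ (show pos16 4 by decide) (by decide), hne _ (show pos16 5 by decide) (by decide),
      hne _ (show pos16 6 by decide) (by decide), hne _ (show pos16 7 by decide) (by decide),
      hne' _ (show pos16 1 by decide) (by decide), hne' _ (show pos16 3 by decide) (by decide),
      hne' _ (show pos16 5 by decide) (by decide), hne' _ (show pos16 7 by decide) (by decide),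
      false_or] at e2 e3 e4 e5 e6 e7 e8 e9 e10 e11 e12
    subst e2 e3 e4 e5 e6 e7 e8 e9 e10 e11 e12
    exact (mem_U16_even hK rfl).2 ⟨a1, by simp [prodPt, pA_zero hK, pB_zero hK, a16]⟩
  · have h1 := main (hab hK z 1) (hab_mem16 hK z 1) (fun x hx => by
        obtain ⟨t, u, rfl⟩ := (mem_X16_1 hK).1 hx
        rw [hab_conj_P1, Units.val_one, one_mul, one_pow, one_mul]) (by
        have := s_conj hK 1 z 1
        rw [show tp m 1 (z, (1 : Kˣ)) = (z, 1) by simp [tp]] at this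
        rw [mul_inv_eq_iff_eq_mul, ← mul_inv_eq_iff_eq_mul.1 this])
    rw [hp, hab_conj_prodPt] at h1
    have h2' := prodPt_inj hK h1
    have hne : ∀ k : Fin 16, pos16 k → k ≠ 7 → ((wt m k (z, 1) : Kˣ) : K) ≠ 1 :=
      fun k a1 a2 a3 => hz (wt_fix1 hK a1 a2 (Units.ext a3))
    have hne' : ∀ k : Fin 16, pos16 k → k ≠ 7 → ((wt m k (z, 1) : Kˣ) : K) ^ (2 ^ m + 1) ≠ 1 :=
      fun k a1 a2 a3 => hne k a1 a2 (congrArg Units.val (units_pow hK (wt m k (z, 1))
        (Or.inr (Or.inr (Or.inr (Or.inr (Or.inl (Units.ext (by simpa using a3)))))))))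
    obtain ⟨a1, a2, a3, a4, a5, a6, a7, a8, a9, a10, a11, a12⟩ := p
    simp only [Pt.mk.injEq] at h2'
    obtain ⟨e1, e2, e3, e4, e5, e6, e7, e8, e9, e10, -, -⟩ := h2'
    simp only [mul_left_eq_self₀, hne _ (show pos16 0 by decide) (by decide),
      hne _ (show pos16 1 by decide) (by decide),
      hne _ (show pos16 2 by decide) (by decide), hne _ (show pos16 3 by decide) (by decide),
      hne _ (show pos16 4 by decide) (by decide), hne _ (show pos16 5 by decide) (by decide),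
      hne _ (show pos16 6 by decide) (by decide),
      hne' _ (show pos16 1 by decide) (by decide), hne' _ (show pos16 3 by decide) (by decide),
      hne' _ (show pos16 5 by decide) (by decide),
      false_or] at e1 e2 e3 e4 e5 e6 e7 e8 e9 e10
    subst e1 e2 e3 e4 e5 e6 e7 e8 e9 e10
    exact (mem_U16_odd hK rfl).2 ⟨a11, a12, by simp [prodPt, pA_zero hK, pB_zero hK, a16]⟩

omit hm in
theorem dihedral {π : Equiv.Perm (Fin 16)} (h : π ∈ (sys hK).W) : ∃ c : Fin 8,
    let d : Fin 16 := ⟨2 * c.val, by omega⟩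
    (∀ r, π r = d + r) ∨ ∀ r, π r = d - r := by
  have hW : (sys hK).W = Subgroup.closure (Set.range sg) := rfl
  rw [hW, ← Subgroup.mem_toSubmonoid, Subgroup.closure_toSubmonoid_of_finite] at h
  induction h using Submonoid.closure_induction_left with
  | one => exact ⟨0, Or.inl fun r => by simp⟩
  | mul_left x hx π _ ih =>
    obtain ⟨i, rfl⟩ := hx
    obtain ⟨c, hc⟩ := ih
    obtain ⟨c', h1, h2⟩ := dih_step i c
    refine ⟨c', ?_⟩
    rcases hc with hc | hc
    · exact Or.inr fun r => by rw [Equiv.Perm.mul_apply, hc, h1]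
    · exact Or.inl fun r => by rw [Equiv.Perm.mul_apply, hc, h2]

omit hm in
theorem sG_mem_gen (i : Fin 2) :
    sW hK i ∈ (sys hK).H ⊔ Subgroup.closure {g | ∃ i, g ∈ (sys hK).U ((sys hK).a i) ∨
      g ∈ (sys hK).U ((sys hK).neg ((sys hK).a i))} := by
  apply Subgroup.mem_sup_right
  have hp : ∀ {j : Fin 2} {x : ↥(FG K m)}, x ∈ X16 hK j →
      x ∈ Subgroup.closure {g | ∃ i, g ∈ (sys hK).U ((sys hK).a i) ∨
        g ∈ (sys hK).U ((sys hK).neg ((sys hK).a i))} := fun {j x} hx =>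
    Subgroup.subset_closure ⟨j, Or.inl ((U16_base hK j).ge hx)⟩
  have hn : ∀ {j : Fin 2} {x : ↥(FG K m)}, x ∈ X16 hK j →
      sW hK j * x * (sW hK j)⁻¹ ∈ Subgroup.closure {g | ∃ i,
        g ∈ (sys hK).U ((sys hK).a i) ∨ g ∈ (sys hK).U ((sys hK).neg ((sys hK).a i))} := by
    intro j x hx
    refine Subgroup.subset_closure ⟨j, Or.inr ?_⟩
    show _ ∈ U16 hK (neg16 (a16 j))
    rw [← (sg_table j).2.1, ← conj_U16, U16_base]
    exact ⟨x, hx, rfl⟩
  obtain rfl | rfl : i = 0 ∨ i = 1 := by omega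
  · rw [sG0_eq hK]
    have h := (mem_X16_0 hK).2 ⟨(1 : K), rfl⟩
    exact mul_mem (mul_mem (hp h) (hn h)) (hp h)
  · rw [sG1_eq hK]
    exact mul_mem (mul_mem (hp ((mem_X16_1 hK).2 ⟨_, _, rfl⟩)) (hn ((mem_X16_1 hK).2 ⟨_, _, rfl⟩)))
      (hp ((mem_X16_1 hK).2 ⟨_, _, rfl⟩))

theorem ax : (sys hK).Axioms where
  pos_a i := (sg_table i).1
  pos_neg := pos_neg16
  sigma_neg i := (sg_table i).2.2.2.2.1
  sigma_a i := (sg_table i).2.1
  sigma_sigma i := (sg_table i).2.2.2.2.2.1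
  sigma_pos i := (sg_table i).2.2.2.2.2.2
  conj_n := conj_U16 hK
  conj_H h hh k := conj_H16 hK hh k
  n_norm i h hh := by
    obtain ⟨a, b, rfl⟩ := exists_hab16 hK hh
    show sW hK i * hab hK a b * (sW hK i)⁻¹ ∈ H16 hK
    rw [s_conj]
    exact hab_mem16 hK _ _
  n_sq i := by
    show sW hK i * sW hK i ∈ _
    rw [sG_sq]; exact one_mem _
  comm i r hr hne x hx y hy := comm_Uhat hK hr hne hx hy
  rankone i y hy hy1 := rankone16 hK hm i hy hy1
  gen := by
    set M := (sys hK).H ⊔ Subgroup.closure {g | ∃ i, g ∈ (sys hK).U ((sys hK).a i) ∨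
      g ∈ (sys hK).U ((sys hK).neg ((sys hK).a i))}
    have hw : ∀ L : List (Fin 2), wG hK L ∈ M := fun L => list_prod_mem fun g hg => by
      obtain ⟨i, -, rfl⟩ := List.mem_map.1 hg
      exact sG_mem_gen hK i
    have hU : (sys hK).Uplus ≤ M := by
      refine (Subgroup.closure_le _).2 ?_
      rintro g ⟨k, -, hg⟩
      obtain ⟨x, hx, rfl⟩ := (show g ∈ U16 hK k from hg)
      refine mul_mem (mul_mem (hw _) ?_) (inv_mem (hw _))
      exact Subgroup.mem_sup_right (Subgroup.subset_closure ⟨cl k, Or.inl ((U16_base hK _).ge hx)⟩)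
    rw [eq_top_iff]
    intro g _
    have key : Subgroup.closure ({g : ↥(chevF4.group K) | g ∈ (TD hK).S.Uplus ∧ g ∈ FG K m} ∪
        Set.range (TD hK).m) ≤ M.map (FG K m).subtype := by
      refine (Subgroup.closure_le _).2 ?_
      rintro z (⟨hz, hzG⟩ | ⟨i, rfl⟩)
      · exact ⟨⟨z, hzG⟩, hU (by rw [Uplus_eq]; exact hz), rfl⟩
      · exact ⟨sW hK i, sG_mem_gen hK i, rfl⟩
    obtain ⟨z, hz, e⟩ := key ((hT hK).gen g.2)
    rwa [← show z = g from Subtype.ext e]
  descent π hπ hex := by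
    obtain ⟨c, h | h⟩ := dihedral hK hπ
    · simp only [h] at hex ⊢
      exact (dih_pos c).2.2.1 hex
    · simp only [h] at hex ⊢
      exact (dih_pos c).2.2.2 hex

theorem sep : RootGroupSys.Sep (sys hK) where
  U_N := by
    rw [eq_bot_iff]
    intro g hg
    obtain ⟨hU, hN⟩ := Subgroup.mem_inf.1 hg
    rw [Uplus_eq] at hU
    have hN' : (g : ↥(chevF4.group K)) ∈ (TD hK).S.N := by
      refine (sup_le ?_ ((Subgroup.closure_le _).2 ?_) :
        (sys hK).N ≤ (TD hK).S.N.comap (FG K m).subtype) hN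
      · exact fun h hh => RootGroupSys.H_le_N (S := (TD hK).S) hh
      · rintro _ ⟨i, rfl⟩; exact (hT hK).m_N i
    have h1 : (g : ↥(chevF4.group K)) ∈ (TD hK).S.Uplus ⊓ (TD hK).S.N :=
      Subgroup.mem_inf.2 ⟨hU, hN'⟩
    rw [(hT hK).sep.U_N, Subgroup.mem_bot] at h1
    exact Subgroup.mem_bot.2 (Subtype.ext h1)
  B_V := by
    rw [eq_bot_iff]
    intro g hg
    obtain ⟨hB, hV⟩ := Subgroup.mem_inf.1 hg
    have hB' : (g : ↥(chevF4.group K)) ∈ (TD hK).S.B := by
      refine (sup_le ?_ ?_ : (sys hK).B ≤ (TD hK).S.B.comap (FG K m).subtype) hB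
      · rw [Uplus_eq]; exact fun h hh => RootGroupSys.Uplus_le_B (S := (TD hK).S) hh
      · exact fun h hh => RootGroupSys.H_le_B (S := (TD hK).S) hh
    have h1 : (g : ↥(chevF4.group K)) ∈ (TD hK).S.B ⊓ (TD hK).S.Uminus :=
      Subgroup.mem_inf.2 ⟨hB', Uminus_le hK hV⟩
    rw [(hT hK).sep.B_V, Subgroup.mem_bot] at h1
    exact Subgroup.mem_bot.2 (Subtype.ext h1)
  U_ne k h := by
    obtain e | e : cl k = 0 ∨ cl k = 1 := by omega
    · have h1 : pA hK k 1 ∈ (sys hK).U k := (mem_U16_even hK e).2 ⟨1, rfl⟩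
      rw [h, Subgroup.mem_bot, pA, conj_eq_one_iff, ← P0_zero hK] at h1
      exact one_ne_zero (P0_inj hK h1)
    · have h1 : pB hK k 1 0 ∈ (sys hK).U k := (mem_U16_odd hK e).2 ⟨1, 0, rfl⟩
      rw [h, Subgroup.mem_bot, pB, conj_eq_one_iff, ← P1_zero hK] at h1
      exact one_ne_zero (P1_inj hK h1).1
  a_inj := by
    intro i j h
    revert i j
    show ∀ i j : Fin 2, a16 i = a16 j → i = j
    decide
  fix π hπ hp := by
    ext r
    obtain ⟨c, h | h⟩ := dihedral hK hπ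
    · have := (dih_pos c).1 (fun r hr => by rw [← h]; exact hp r hr) r
      simp only [h, this, Equiv.Perm.one_apply]
    · have := (dih_pos c).2.1 (fun r hr => by rw [← h]; exact hp r hr) r
      simp only [h, this, Equiv.Perm.one_apply]

end H52.F4R
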