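import Cfsg.Agent.H52.F4UCert

/-!
Certificates on the commutators of the simple classes with the positive classes of the twisted
system of type F4.
-/

set_option autoImplicit false
set_option maxRecDepth 20000

namespace H52.F4R

open Cfsg.Lie H52 H53 H52.F4N

/-- A general element without the first class, conjugated by the first class. -/
def cH0W : Wd := kill ([0, 1] ++ allBut 48 (List.range 24 ++ [24, 25])) conjW

/-- A general element without the last class, conjugated by the last class. -/
def cH1W : Wd := kill ([20, 21, 22, 23] ++ allBut 48 (List.range 24 ++ [44, 45, 46, 47])) conjW

/-- An element of the classes of the first and fourth kinds. -/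
def cX03W : Wd := kill (allBut 48 [0, 1, 32, 33]) conjW

/-- An element of the second and fourth classes. -/
def cX13W : Wd := kill (allBut 48 [2, 3, 4, 5, 32, 33]) conjW

theorem cH0_eq : (coords 3000 cH0W).map (fun L => decide (L.getD 0 [] = [])) = some true := by
  decide +kernel

theorem cH1_eq :
    (coords 3000 cH1W).map (fun L => decide (L.getD 1 [] = [] ∧ L.getD 4 [] = [])) = some true := by
  decide +kernel

end H52.F4R
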