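import Cfsg.Agent.H32.F4Base
import Cfsg.Agent.H56.BNParabolic
import Cfsg.Agent.H52.TitsAct

/-!
Alternating sections of the twisted groups of type F4: the normaliser of a torus acts on it through
a group of order 16, so no element of order 7 is squared by conjugation.
-/

set_option autoImplicit false
set_option linter.unusedSectionVars false

namespace H52.F4Sec

open H53 H53.RootGroupSys

section frame

variable {G : Type*} [Group G] {ι R κ : Type*} [Fintype R] {T : TwistData G ι R κ} (hT : T.Hyp)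

include hT in
/-- Conjugation between elements of the torus is induced by a monomial element of the twisted group. -/
theorem torus_fusion (hcomm : ∀ h z : G, h ∈ T.S.H → z ∈ T.S.H → h * z = z * h) {g : G} (hg : g ∈ T.G1) :
    ∃ n ∈ T.S.N ⊓ T.G1, ∀ x ∈ T.S.H, g * x * g⁻¹ ∈ T.S.H → n * x * n⁻¹ = g * x * g⁻¹ := by
  classical
  obtain ⟨n, hn, hcell⟩ := H56.exists_cell_N (TwistData.bnPair hT) ⟨g, hg⟩
  obtain ⟨c, hc, c', hc', e⟩ := (H56.mem_cell _).1 hcell
  have e' : g = (c : G) * (n : G) * (c' : G) := congrArg Subtype.val e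
  refine ⟨n, Subgroup.mem_inf.2 ⟨hn, n.2⟩, fun x hx hgx => ?_⟩
  obtain ⟨u, hu, h, hh, ec⟩ := mem_B hT.ax (show (c' : G) ∈ T.S.B from hc')
  set w := (n : G) * h with hw
  have hwN : w ∈ T.S.N := mul_mem hn (H_le_N hh)
  obtain ⟨π, hπ⟩ := exists_acts hT.ax hwN
  have hu' : h⁻¹ * u * h ∈ T.S.Uplus := by
    simpa using H_conj_Uplus hT.ax (inv_mem hh) hu
  obtain ⟨p, _, q, hq, hpq, hwp⟩ := Uplus_factor hT.ax hπ hu'
  set b := (c : G) * (w * p * w⁻¹) with hb
  have hbB : b ∈ T.S.B := mul_mem hc (Uplus_le_B hwp)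
  have eg : g = b * w * q := by
    rw [e', ec, hb, hw]
    calc (c : G) * n * (u * h) = c * ((n : G) * h) * (h⁻¹ * u * h) := by group
      _ = _ := by rw [hpq]; group
  have hwx : w * x * w⁻¹ ∈ T.S.H := by
    have := (RootGroupSys.pair hT.ax hT.sep).conj_mem w hwN x
      (Subgroup.mem_inf.2 ⟨H_le_B (S := T.S) hx, H_le_N (S := T.S) hx⟩)
    exact TwistData.mem_B_inf_N hT this (mul_mem (mul_mem hwN (H_le_N hx)) (inv_mem hwN))
  set y := g * x * g⁻¹ with hy
  have e1 : b * (w * x * w⁻¹) * w * (x⁻¹ * q * x) = y * b * w * q := by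
    calc b * (w * x * w⁻¹) * w * (x⁻¹ * q * x) = b * w * q * x := by group
      _ = g * x := by rw [eg]
      _ = y * g := by rw [hy]; group
      _ = _ := by rw [eg]; simp only [mul_assoc]
  have hxq : x⁻¹ * q * x ∈ T.S.Uinv π := by
    have hle : (T.S.Uinv π).map (MulAut.conj x⁻¹).toMonoidHom ≤ T.S.Uinv π := by
      rw [Uinv, MonoidHom.map_closure, Subgroup.closure_le]
      rintro _ ⟨z, ⟨r, hr, hr', hz⟩, rfl⟩
      refine Subgroup.subset_closure ⟨r, hr, hr', ?_⟩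
      have := hT.ax.conj_H x⁻¹ (inv_mem hx) r
      rw [← this]
      exact ⟨z, hz, rfl⟩
    have := hle ⟨q, hq, rfl⟩
    simpa using this
  obtain ⟨-, hun⟩ := normal_form_unique hT.ax hT.sep hwN hwN hπ hπ (mul_mem hbB (H_le_B hwx))
    (mul_mem (H_le_B hgx) hbB) hxq hq e1
  obtain ⟨eb, -⟩ := hun rfl
  obtain ⟨v, hv, h0, hh0, eb0⟩ := mem_B hT.ax hbB
  have e2 : (v⁻¹ * (y * v * y⁻¹)) = (h0 * (w * x * w⁻¹)) * (y * h0)⁻¹ := by
    rw [eb0] at eb
    calc v⁻¹ * (y * v * y⁻¹) = v⁻¹ * (y * (v * h0)) * (y * h0)⁻¹ := by group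
      _ = v⁻¹ * (v * h0 * (w * x * w⁻¹)) * (y * h0)⁻¹ := by rw [eb]
      _ = _ := by group
  have hmem : v⁻¹ * (y * v * y⁻¹) ∈ T.S.Uplus ⊓ T.S.N := by
    refine Subgroup.mem_inf.2 ⟨mul_mem (inv_mem hv) (H_conj_Uplus hT.ax hgx hv), ?_⟩
    rw [e2]
    exact H_le_N (mul_mem (mul_mem hh0 hwx) (inv_mem (mul_mem hgx hh0)))
  rw [hT.sep.U_N, Subgroup.mem_bot] at hmem
  rw [hmem] at e2
  have e3 : h0 * (w * x * w⁻¹) = y * h0 := mul_inv_eq_one.1 e2.symm
  rw [hcomm h0 _ hh0 hwx] at e3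
  have e4 : w * x * w⁻¹ = y := mul_right_cancel e3
  rw [hw] at e4
  calc (n : G) * x * (n : G)⁻¹ = (n : G) * (h * x * h⁻¹) * (n : G)⁻¹ := by
        rw [hcomm h x hh hx, mul_inv_cancel_right]
    _ = (n : G) * h * x * ((n : G) * h)⁻¹ := by group
    _ = y := e4

end frame

/-- No quotient of a subgroup has an element of order 7 that is conjugate to its square, when the
normaliser of every 7-subgroup induces a group of exponent 16 on it. -/
theorem no_square {G : Type*} [Group G] [Finite G] (H : Subgroup G) {Q : Type*} [Group Q] (φ : ↥H →* Q)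
    (hφ : Function.Surjective φ) {x g : Q} (hx : x ^ 7 = 1) (hx1 : x ≠ 1) (hg : g * x * g⁻¹ = x ^ 2)
    (key : ∀ X : Subgroup G, IsPGroup 7 X → ∀ a : G, (∀ z ∈ X, a * z * a⁻¹ ∈ X) →
      ∀ z ∈ X, a ^ 16 * z * (a ^ 16)⁻¹ = z) : False := by
  classical
  have : Fact (Nat.Prime 7) := ⟨by norm_num⟩
  have hord : orderOf x = 7 := orderOf_eq_prime hx hx1
  set C := Subgroup.zpowers x with hC
  set L := C.comap φ with hL
  obtain ⟨P⟩ := (inferInstance : Nonempty (Sylow 7 ↥L))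
  let ψ : ↥L →* ↥C := (φ.comp L.subtype).codRestrict C fun z => z.2
  have hψ : Function.Surjective ψ := by
    intro c
    obtain ⟨z, hz⟩ := hφ (c : Q)
    exact ⟨⟨z, show φ z ∈ C by rw [hz]; exact c.2⟩, Subtype.ext hz⟩
  obtain ⟨g0, hg0⟩ := hφ g
  have hnorm : ∀ z : ↥H, z ∈ L → g0 * z * g0⁻¹ ∈ L := by
    intro z hz
    show φ (g0 * z * g0⁻¹) ∈ C
    rw [map_mul, map_mul, map_inv, hg0]
    obtain ⟨i, hi⟩ := Subgroup.mem_zpowers_iff.1 (show φ z ∈ C from hz)
    rw [← hi, ← conj_zpow, hg]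
    exact zpow_mem (pow_mem (Subgroup.mem_zpowers x) 2) i
  let cj : ↥L →* ↥L := ((MulAut.conj g0).toMonoidHom.comp L.subtype).codRestrict L fun z => hnorm z z.2
  have hcj : Function.Injective cj := fun a b e => by
    have := congrArg Subtype.val e
    exact Subtype.ext ((MulAut.conj g0).injective this)
  have hP' : Nat.card ↥((P : Subgroup ↥L).map cj) = 7 ^ (Nat.card ↥L).factorization 7 := by
    rw [Subgroup.card_map_of_injective hcj, P.card_eq_multiplicity]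
  obtain ⟨l, hl⟩ := MulAction.exists_smul_eq ↥L (Sylow.ofCard ((P : Subgroup ↥L).map cj) hP') P
  set a : ↥H := (l : ↥H) * g0 with ha
  have haP : ∀ z ∈ ((P : Subgroup ↥L).map L.subtype).map H.subtype,
      (a : G) * z * (a : G)⁻¹ ∈ ((P : Subgroup ↥L).map L.subtype).map H.subtype := by
    rintro _ ⟨_, ⟨z, hz, rfl⟩, rfl⟩
    have : MulAut.conj l (cj z) ∈ (P : Subgroup ↥L) := by
      rw [← hl]
      exact ⟨cj z, ⟨z, hz, rfl⟩, rfl⟩
    refine ⟨_, ⟨_, this, rfl⟩, ?_⟩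
    show ((((l : ↥H)) * (g0 * (z : ↥H) * g0⁻¹) * (l : ↥H)⁻¹ : ↥H) : G) = _
    simp [ha, mul_assoc]
  -- the image of the Sylow subgroup
  have hsur : ∃ z ∈ (P : Subgroup ↥L), ψ z = ⟨x, Subgroup.mem_zpowers x⟩ := by
    set P' : Sylow 7 ↥C := P.mapSurjective hψ with hP'
    have htop : (P' : Subgroup ↥C) = ⊤ := by
      have hc : IsPGroup 7 ↥(⊤ : Subgroup ↥C) := by
        refine IsPGroup.of_card (n := 1) ?_
        rw [Subgroup.card_top, Nat.card_zpowers, hord, pow_one]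
      exact (P'.3 hc le_top).symm
    have : (⟨x, Subgroup.mem_zpowers x⟩ : ↥C) ∈ (P' : Subgroup ↥C) := by rw [htop]; trivial
    rw [hP', Sylow.coe_mapSurjective] at this
    exact this
  obtain ⟨z, hz, hzx⟩ := hsur
  have hzφ : φ (z : ↥H) = x := congrArg Subtype.val hzx
  have h16 := key (((P : Subgroup ↥L).map L.subtype).map H.subtype) ((P.2.map _).map _) (a : G) haP
    ((z : ↥H) : G) ⟨_, ⟨z, hz, rfl⟩, rfl⟩
  have h16' : φ (a ^ 16) * x * (φ (a ^ 16))⁻¹ = x := by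
    rw [← hzφ, ← map_inv, ← map_mul, ← map_mul]
    exact congrArg φ (Subtype.ext (by simpa using h16))
  have hact : ∀ j : ℕ, φ (a ^ j) * x * (φ (a ^ j))⁻¹ = x ^ 2 ^ j := by
    have h1 : φ a * x * (φ a)⁻¹ = x ^ 2 := by
      obtain ⟨i, hi⟩ := Subgroup.mem_zpowers_iff.1 (show φ (l : ↥H) ∈ C from l.2)
      rw [ha, map_mul, hg0, mul_inv_rev, show φ (l : ↥H) * g * x * (g⁻¹ * (φ (l : ↥H))⁻¹) =
        φ (l : ↥H) * (g * x * g⁻¹) * (φ (l : ↥H))⁻¹ by group, hg, ← hi,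
        (((Commute.refl x).zpow_left i).pow_right 2).eq, mul_inv_cancel_right]
    intro j
    induction j with
    | zero => simp
    | succ j ih =>
      rw [pow_succ' a, map_mul, mul_inv_rev, show φ a * φ (a ^ j) * x * ((φ (a ^ j))⁻¹ * (φ a)⁻¹) =
        φ a * (φ (a ^ j) * x * (φ (a ^ j))⁻¹) * (φ a)⁻¹ by group, ih, ← conj_pow, h1, ← pow_mul,
        pow_succ']
  rw [hact 16] at h16'
  have h2 : x ^ (2 ^ 16 % 7) = x := by rw [← hord, pow_mod_orderOf]; exact h16'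
  norm_num at h2
  exact hx1 (mul_eq_left.1 (show x * x = x by rw [← pow_two]; exact h2))

/-- An element of order seven and an element squaring it, in an alternating group of degree at least seven. -/
theorem alt_elements {r : ℕ} (hr : 7 ≤ r) :
    ∃ x g : ↥(alternatingGroup (Fin r)), x ^ 7 = 1 ∧ x ≠ 1 ∧ g * x * g⁻¹ = x ^ 2 := by
  let x7 : Equiv.Perm (Fin 7) := finRotate 7
  let g7 : Equiv.Perm (Fin 7) :=
    { toFun := fun i => 2 * i, invFun := fun i => 4 * i, left_inv := by decide, right_inv := by decide }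
  have h7 : x7 ^ 7 = 1 ∧ x7 ≠ 1 ∧ g7 * x7 * g7⁻¹ = x7 ^ 2 ∧ Equiv.Perm.sign x7 = 1 ∧ Equiv.Perm.sign g7 = 1 := by
    decide +kernel
  obtain ⟨h1, h2, h3, h4, h5⟩ := h7
  let f := Equiv.ofInjective (Fin.castLE hr) (Fin.castLE_injective hr)
  let e : Equiv.Perm (Fin 7) →* Equiv.Perm (Fin r) := Equiv.Perm.extendDomainHom f
  have hs : ∀ p : Equiv.Perm (Fin 7), Equiv.Perm.sign (e p) = Equiv.Perm.sign p := fun p =>
    Equiv.Perm.sign_extendDomain p f
  have hinj : Function.Injective e := Equiv.Perm.extendDomainHom_injective f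
  refine ⟨⟨e x7, (hs x7).trans h4⟩, ⟨e g7, (hs g7).trans h5⟩, Subtype.ext ?_, fun h => h2 (hinj ?_),
    Subtype.ext ?_⟩
  · simp only [SubgroupClass.coe_pow, OneMemClass.coe_one, ← map_pow, h1, map_one]
  · simpa using congrArg Subtype.val h
  · simp only [Subgroup.coe_mul, Subgroup.coe_inv, SubgroupClass.coe_pow, ← map_inv, ← map_mul, ← map_pow, h3]

open Cfsg.Lie

variable {K : Type*} [Field K] [Fintype K] {m : ℕ}

theorem sections (hK : Fintype.card K = 2 ^ (2 * m + 1)) (r : ℕ)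
    (H : Subgroup ↥(twistedF4 K (2 ^ m))) (N : Subgroup ↥H) [N.Normal]
    (h : Nonempty (↥H ⧸ N ≃* ↥(alternatingGroup (Fin r)))) : r ≤ 6 := by
  classical
  by_contra hr
  obtain ⟨e⟩ := h
  obtain ⟨x, g, hx, hx1, hg⟩ := alt_elements (r := r) (by omega)
  set φ : ↥H →* ↥(alternatingGroup (Fin r)) := e.toMonoidHom.comp (QuotientGroup.mk' N) with hφ
  have hsur : Function.Surjective φ := e.surjective.comp (QuotientGroup.mk'_surjective N)
  set q := 2 ^ (2 * m + 1) with hq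
  have hq1 : 1 ≤ q := Nat.one_le_two_pow
  have hcard := H52.F4Ree.card_f4 hK
  rw [← hq] at hcard
  have hmod : q % 7 = 1 ∨ q % 7 = 2 ∨ q % 7 = 4 := by
    have hgen : ∀ n : ℕ, 2 ^ n % 7 = 1 ∨ 2 ^ n % 7 = 2 ∨ 2 ^ n % 7 = 4 := fun n => by
      induction n with
      | zero => simp
      | succ n ih => rw [pow_succ]; omega
    exact hgen _
  have h7p : Nat.Prime 7 := by norm_num
  by_cases h1 : q % 7 = 1
  swap
  · -- seven does not divide the order
    have hd : 7 ∣ Nat.card ↥(twistedF4 K (2 ^ m)) := by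
      rw [← orderOf_eq_prime hx hx1 (hp := ⟨h7p⟩)]
      refine (orderOf_dvd_natCard x).trans ((Subgroup.card_dvd_of_surjective φ hsur).trans ?_)
      exact Subgroup.card_subgroup_dvd_card H
    rw [hcard] at hd
    have e4 : q ^ 3 % 7 = 1 ∧ q ^ 4 % 7 = q % 7 ∧ q ^ 6 % 7 = 1 := by
      rw [Nat.pow_mod q 3, Nat.pow_mod q 4, Nat.pow_mod q 6]
      rcases hmod with e | e | e <;> rw [e] <;> norm_num
    have h4' := Nat.one_le_pow 4 q hq1
    rcases h7p.dvd_mul.1 hd with hd | hd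
    · rcases h7p.dvd_mul.1 hd with hd | hd
      · rcases h7p.dvd_mul.1 hd with hd | hd
        · rcases h7p.dvd_mul.1 hd with hd | hd
          · have := h7p.dvd_of_dvd_pow hd; omega
          · omega
        · omega
      · omega
    · omega
  -- the torus
  set D : Subgroup ↥(twistedF4 K (2 ^ m)) := (chevF4.diagonalSubgroup K).subgroupOf (twistedF4 K (2 ^ m)) with hD
  have hDcard : Nat.card ↥D = (q - 1) ^ 2 := by
    rw [hD, ← Subgroup.inf_subgroupOf_right, Nat.card_congr (Subgroup.subgroupOfEquivOfLe inf_le_right).toEquiv,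
      F4T.card_H hK]
  have hidx : ¬ 7 ∣ D.index := by
    have hc := hcard
    rw [← Subgroup.card_mul_index D, hDcard] at hc
    have e : D.index = q ^ 12 * (q ^ 3 + 1) * (q ^ 3 + q ^ 2 + q + 1) * (q ^ 6 + 1) := by
      by_cases hq0 : q = 1
      · have : 2 ≤ q := by
          calc 2 = 2 ^ 1 := rfl
            _ ≤ q := Nat.pow_le_pow_right (by norm_num) (by omega)
        omega
      refine Nat.eq_of_mul_eq_mul_left (show 0 < (q - 1) ^ 2 from pow_pos (by omega) 2) ?_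
      rw [hc]
      obtain ⟨p, hp⟩ : ∃ p, q = p + 1 := ⟨q - 1, by omega⟩
      rw [hp, Nat.add_sub_cancel]
      have h4 : (p + 1) ^ 4 - 1 = p * ((p + 1) ^ 3 + (p + 1) ^ 2 + (p + 1) + 1) := by
        apply Nat.sub_eq_of_eq_add; ring
      rw [h4]; ring
    rw [e, Nat.Prime.dvd_iff_not_coprime h7p, not_not, Nat.Coprime]
    rw [← Nat.coprime_iff_gcd_eq_one, Nat.Prime.coprime_iff_not_dvd h7p, Nat.dvd_iff_mod_eq_zero]
    simp [Nat.mul_mod, Nat.add_mod, Nat.pow_mod, h1]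
  refine no_square H φ hsur hx hx1 hg fun X hX a ha z hz => ?_
  have : Fact (Nat.Prime 7) := ⟨h7p⟩
  obtain ⟨c, hc⟩ := hX.nonempty_fixed_point_of_prime_not_dvd_card (↥(twistedF4 K (2 ^ m)) ⧸ D) hidx
  obtain ⟨w, rfl⟩ := QuotientGroup.mk_surjective c
  have hwD : ∀ z ∈ X, w⁻¹ * z * w ∈ D := fun z hz => by
    have h1' : ((z * w : ↥(twistedF4 K (2 ^ m))) : ↥(twistedF4 K (2 ^ m)) ⧸ D) = (w : ↥(twistedF4 K (2 ^ m)) ⧸ D) := hc ⟨z, hz⟩
    have := QuotientGroup.eq.1 h1'.symm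
    rwa [← mul_assoc] at this
  obtain ⟨he', hperf, hcz, f, hf⟩ := F4T.exists_params hK
  have hT := F4T.hyp (F4T.two_eq hK) (hperf := hperf) (hc := hcz) hf he'
  set b : ↥(twistedF4 K (2 ^ m)) := w⁻¹ * a * w with hb
  have hcomm : ∀ h z : ↥(chevF4.group K), h ∈ (grpSys weylForF4 K).H → z ∈ (grpSys weylForF4 K).H →
      h * z = z * h := by
    intro h z hh hz
    rw [← mem_diag_iff checkedF4 weylForF4, checkedF4.diagonalSubgroup_eq] at hh hz
    obtain ⟨c, hc⟩ := hh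
    obtain ⟨c', hc'⟩ := hz
    apply Subtype.ext
    rw [Subgroup.coe_mul, Subgroup.coe_mul, ← hc, ← hc', ← map_mul, ← map_mul, mul_comm]
  obtain ⟨n, hn, hnc⟩ := torus_fusion hT hcomm
    (g := (⟨b.1, F4T.twisted_le _ b.2⟩ : ↥(chevF4.group K))) (show b.1 ∈ twistedF4 K (2 ^ m) from b.2)
  set n' : ↥(twistedF4 K (2 ^ m)) := ⟨(n : GL chevF4.Idx K), (Subgroup.mem_inf.1 hn).2⟩ with hn'
  have hnmon : (n : GL chevF4.Idx K) ∈ chevF4.monomialSubgroup K :=
    (mem_monomial_iff checkedF4 weylForF4 F4T.ok n).2 (Subgroup.mem_inf.1 hn).1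
  have hconj : ∀ y : ↥(twistedF4 K (2 ^ m)), y ∈ D → b * y * b⁻¹ ∈ D → n' * y * n'⁻¹ = b * y * b⁻¹ := by
    intro y hy hby
    have e1 := hnc ⟨y.1, F4T.twisted_le _ y.2⟩ ((mem_diag_iff checkedF4 weylForF4 _).1 hy)
      ((mem_diag_iff checkedF4 weylForF4 _).1 hby)
    refine Subtype.ext ?_
    have e2 := congrArg Subtype.val e1
    simp only [Subgroup.coe_mul, Subgroup.coe_inv] at e2 ⊢
    exact e2
  have hb1 : ∀ y : ↥(twistedF4 K (2 ^ m)), w * y * w⁻¹ ∈ X → w * (b * y * b⁻¹) * w⁻¹ ∈ X := by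
    intro y hy
    have := ha _ hy
    rw [hb]
    convert this using 1
    group
  have hit : ∀ (j : ℕ) (y : ↥(twistedF4 K (2 ^ m))), w * y * w⁻¹ ∈ X →
      b ^ j * y * (b ^ j)⁻¹ = n' ^ j * y * (n' ^ j)⁻¹ ∧ w * (b ^ j * y * (b ^ j)⁻¹) * w⁻¹ ∈ X := by
    intro j
    induction j with
    | zero => intro y hy; simpa using hy
    | succ j ih =>
      intro y hy
      obtain ⟨h1', h2'⟩ := ih y hy
      have m1 : b ^ j * y * (b ^ j)⁻¹ ∈ D := by
        have := hwD _ h2'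
        simpa [mul_assoc] using this
      have h3 := hb1 _ h2'
      have m2 : b * (b ^ j * y * (b ^ j)⁻¹) * b⁻¹ ∈ D := by
        have := hwD _ h3
        simpa [mul_assoc] using this
      have e2 := hconj _ m1 m2
      have e3 : b ^ (j + 1) * y * (b ^ (j + 1))⁻¹ = b * (b ^ j * y * (b ^ j)⁻¹) * b⁻¹ := by
        rw [pow_succ']; group
      rw [e3]
      refine ⟨?_, h3⟩
      rw [← e2, h1', pow_succ']
      group
  -- the Weyl group has exponent sixteen
  obtain ⟨ψ, -, hker⟩ := F4T.weyl hK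
  set nn : ↥(chevF4.monomialSubgroup K ⊓ twistedF4 K (2 ^ m)) := ⟨n'.1, hnmon, n'.2⟩ with hnn
  have h16 : nn ^ 16 ∈ ψ.ker := by
    rw [MonoidHom.mem_ker, map_pow]
    have : Nat.card (DihedralGroup 8) = 16 := DihedralGroup.nat_card
    rw [← this]
    exact pow_card_eq_one'
  rw [hker, Subgroup.mem_subgroupOf, Subgroup.mem_inf] at h16
  set y := w⁻¹ * z * w with hy
  have hyX : w * y * w⁻¹ ∈ X := by rw [hy]; convert hz using 1; group
  obtain ⟨e16, -⟩ := hit 16 y hyX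
  have hfix : n' ^ 16 * y * (n' ^ 16)⁻¹ = y := by
    have e1 := hcomm ⟨(n' ^ 16).1, F4T.twisted_le _ (n' ^ 16).2⟩ ⟨y.1, F4T.twisted_le _ y.2⟩
      ((mem_diag_iff checkedF4 weylForF4 _).1 (by simpa [hnn] using h16.1))
      ((mem_diag_iff checkedF4 weylForF4 _).1 (hwD z hz))
    have e2 : n' ^ 16 * y = y * n' ^ 16 := by
      refine Subtype.ext ?_
      have e3 := congrArg Subtype.val e1
      simp only [Subgroup.coe_mul] at e3 ⊢
      exact e3
    rw [e2, mul_inv_cancel_right]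
  have e5 : (w⁻¹ * a * w) ^ 16 = w⁻¹ * a ^ 16 * w := by
    have := conj_pow (i := 16) (a := w⁻¹) (b := a)
    simpa using this
  rw [hfix, hb, e5, hy] at e16
  have := congrArg (fun t => w * t * w⁻¹) e16
  simpa [mul_assoc] using this

end H52.F4Sec
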