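import Cfsg.Agent.H52.F4UWords

/-!
Normal forms of the words used for the involutions of the twisted group of type F4. Generated.
-/

set_option autoImplicit false
set_option maxRecDepth 20000

namespace H52.F4N

/-- The word of a square. -/
def sqW : Wd := phiW 0 ++ phiW 0

/-- The word `cPhi`. -/
def cPhiW : Wd := phiW 0

/-- The coordinates of `cPhiW`. -/
def cPhiL : List Pol :=
  [[[0]], [[20]], [[2]], [[21]], [[22]], [[9]], [[23], [20, 21, 21]], [[14]], [[18], [14, 20]], [[1]], [[3], [1, 21]], [[15], [3, 20], [1, 22]], [[4], [1, 9]], [[19], [15, 21], [1, 20, 21, 21], [3, 20, 21], [1, 21, 22], [3, 22], [1, 23]], [[7], [3, 9], [1, 14], [1, 9, 21], [4, 21]], [[13], [1, 18], [1, 14, 20], [3, 9, 20], [7, 20], [1, 9, 22], [4, 22]], [[16], [3, 18], [1, 18, 21], [13, 21], [4, 20, 21, 21], [1, 9, 20, 21, 21], [1, 14, 20, 21], [3, 9, 20, 21], [7, 20, 21], [4, 21, 22], [1, 9, 21, 22], [1, 14,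 22], [3, 9, 22], [7, 22], [1, 9, 23], [4, 23]], [[8], [3, 3, 20], [1, 1, 20, 21, 21], [1, 1, 23]], [[5], [2, 3, 3], [1, 1, 14]], [[6], [1, 1, 18], [1, 1, 14, 20], [2, 3, 3, 20], [5, 20]], [[10], [8, 9], [3, 9, 15], [7, 15], [1, 14, 15], [1, 3, 18], [4, 15, 21], [1, 9, 15, 21], [1, 1, 18, 21], [6, 21], [3, 4, 22], [1, 4, 21, 22], [3, 4, 20, 21], [1, 4, 20, 21, 21], [1, 3, 9, 22], [1, 1, 9, 21, 22], [1, 3, 9, 20, 21], [1, 1, 9, 20, 21, 21], [1, 1, 14, 20, 21], [2, 3, 3, 20, 21], [5, 20, 21], [1, 1, 14, 22], [2, 3, 3, 22], [5, 22], [1, 1, 9, 23], [1, 4, 23]], [[12], [8, 14], [3, 3, 18], [1, 1, 18, 21, 21], [6, 21, 21], [1, 1, 14, 23], [2, 3, 3, 23], [5, 23]], [[17], [14, 15, 15], [8, 18], [6, 20, 21, 21], [1, 1, 18, 20, 21, 21], [3, 3, 18, 20], [8, 14, 20], [12, 20], [1, 1, 14, 22, 22], [2, 3, 3, 22, 22], [5, 22, 22], [1, 1, 14, 20, 20, 21, 21], [2, 3, 3, 20, 20, 21, 21], [5, 20, 20, 21,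 21], [5, 20, 23], [2, 3, 3, 20, 23], [1, 1, 14, 20, 23], [1, 1, 18, 23], [6, 23]], [[11], [6, 14], [1, 1, 14, 18], [2, 3, 3, 18], [5, 18], [7, 7, 20], [3, 3, 9, 9, 20], [1, 1, 14, 14, 20], [1, 1, 9, 9, 20, 21, 21], [4, 4, 20, 21, 21], [4, 4, 23], [1, 1, 9, 9, 23]]]

theorem cPhi_eq : coords 3000 cPhiW = some cPhiL := by decide +kernel

/-- The word `cSq`. -/
def cSqW : Wd := kill [] sqW

/-- The coordinates of `cSqW`. -/
def cSqL : List Pol :=
  [[], [], [[0, 20]], [], [[20, 21]], [[2, 21], [0, 22]], [[20, 21, 21]], [[2, 21, 21], [0, 23], [0, 20, 21, 21]], [[2, 23], [0, 22, 22], [14, 20], [0, 20, 20, 21, 21], [0, 20, 23]], [], [[1, 21]], [[1, 22], [3, 20], [1, 20, 21]], [[2, 3], [1, 2, 21], [0, 15], [0, 3, 20], [0, 1, 22], [1, 9]], [[1, 23], [3, 22], [15, 21], [1, 21, 22]], [[0, 19], [0, 1, 20, 21, 21], [0, 3, 22], [0, 1, 23], [4, 21], [1, 14], [3, 9], [1, 9, 21], [1, 2, 21, 21], [2,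 3, 21]], [[9, 15], [2, 19], [2, 15, 21], [1, 2, 23], [4, 22], [7, 20], [1, 18], [3, 9, 20], [4, 20, 21], [0, 1, 20, 23], [0, 1, 20, 20, 21, 21], [0, 19, 20], [0, 1, 20, 21, 22], [0, 3, 20, 20, 21], [0, 15, 20, 21], [1, 2, 20, 21, 21], [2, 3, 20, 21], [1, 9, 22], [0, 1, 22, 22], [0, 15, 22]], [[14, 15], [3, 14, 20], [9, 19], [4, 23], [7, 22], [13, 21], [3, 18], [1, 18, 21], [2, 15, 21, 21], [2, 19, 21], [1, 9, 20, 21, 21], [3, 9, 20, 21], [1, 14, 20, 21], [0, 1, 20, 21, 23], [0, 3, 20, 21, 22], [0, 1, 20, 20, 21, 21, 21], [0, 19, 20, 21], [1, 9, 21, 22], [3, 9, 22], [1, 14, 22], [4, 21, 22], [0, 3, 22, 22], [0, 1, 20, 21, 21, 22], [0, 19, 22], [1, 9, 23], [0, 3, 20, 23], [0, 15, 23], [2, 3, 23]], [[1, 1, 23], [3, 3, 20]], [[1, 1, 2, 21, 21], [0, 8], [0, 3, 3, 20], [0, 1, 1, 20, 21, 21], [0, 1, 1, 23], [1, 1, 14], [2, 3, 3]], [[2, 8], [1, 1, 2, 23], [0, 1, 1, 22, 22], [0, 15, 15], [5, 20],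 [1, 1, 18], [2, 3, 3, 20], [0, 1, 1, 20, 23], [0, 1, 1, 20, 20, 21, 21], [0, 8, 20]], [[8, 9], [1, 1, 9, 23], [4, 19], [1, 4, 20, 21, 21], [1, 4, 21, 22], [3, 4, 22], [1, 4, 23], [2, 3, 19], [2, 3, 15, 21], [1, 2, 3, 23], [3, 13], [1, 3, 18], [1, 3, 14, 20], [3, 7, 20], [1, 3, 9, 22], [1, 16], [1, 13, 21], [1, 7, 20, 21], [1, 7, 22], [5, 22], [6, 21], [7, 15], [4, 15, 21], [0, 1, 15, 23], [0, 3, 15, 22], [0, 15, 19], [1, 1, 2, 21, 21, 22], [1, 1, 18, 21], [1, 1, 2, 21, 23], [1, 1, 2, 20, 21, 21, 21], [2, 8, 21], [1, 2, 3, 21, 22], [1, 2, 3, 20, 21, 21], [0, 1, 15, 21, 22], [0, 1, 3, 20, 21, 22], [0, 1, 3, 20, 20, 21, 21], [0, 1, 1, 21, 22, 22], [1, 1, 9, 21, 22], [0, 1, 1, 20, 21, 23], [0, 1, 1, 20, 20, 21, 21, 21], [0, 3, 3, 20, 20, 21], [0, 8, 20, 21], [2, 3, 3, 22], [1, 1, 14, 22], [0, 1, 1, 22, 23], [0, 3, 3, 20, 22], [0, 8, 22]], [[0, 3, 3, 22, 22], [0, 1, 1, 20, 20, 21, 21, 21,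 21], [0, 19, 19], [5, 23], [6, 21, 21], [3, 3, 18], [8, 14], [3, 3, 14, 20], [1, 1, 18, 21, 21], [5, 20, 21, 21], [1, 1, 2, 20, 21, 21, 21, 21], [2, 8, 21, 21], [1, 1, 14, 23], [0, 1, 1, 20, 21, 21, 23], [0, 3, 3, 20, 23], [0, 8, 23]], [[2, 15, 15, 21, 21], [2, 19, 19], [6, 23], [1, 1, 14, 20, 23], [5, 22, 22], [12, 20], [8, 18], [14, 15, 15], [2, 8, 20, 21, 21], [1, 1, 2, 20, 21, 21, 23], [1, 1, 18, 20, 21, 21], [3, 3, 18, 20], [0, 19, 19, 20], [2, 3, 3, 22, 22], [1, 1, 14, 22, 22], [0, 1, 1, 20, 21, 21, 22, 22], [0, 8, 22, 22], [2, 3, 3, 20, 20, 21, 21], [0, 3, 3, 20, 20, 20, 21, 21], [0, 8, 20, 20, 21, 21], [1, 1, 2, 20, 20, 21, 21, 21, 21], [0, 8, 20, 23], [2, 3, 3, 20, 23], [1, 1, 18, 23], [5, 20, 23], [0, 15, 15, 23], [2, 8, 23]], [[8, 9, 9], [2, 12], [2, 6, 21, 21], [2, 5, 23], [0, 2, 19, 19], [0, 2, 15, 15, 21, 21], [0, 1, 1, 2, 20, 20, 21, 21, 21, 21], [0, 1, 1, 2, 21, 21, 22,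 22], [0, 1, 1, 2, 23, 23], [0, 17], [0, 6, 20, 21, 21], [0, 8, 14, 20], [0, 12, 20], [0, 5, 22, 22], [0, 1, 1, 14, 20, 20, 21, 21], [0, 5, 20, 20, 21, 21], [0, 5, 20, 23], [0, 2, 3, 3, 20, 23], [0, 1, 1, 14, 20, 23], [0, 6, 23], [4, 4, 23], [7, 7, 20], [5, 18], [6, 14], [5, 14, 20], [0, 3, 3, 14, 20, 20], [1, 1, 2, 14, 20, 21, 21], [2, 3, 3, 18], [1, 1, 14, 18], [0, 0, 19, 19, 20], [0, 0, 1, 1, 20, 20, 20, 21, 21, 21, 21], [0, 0, 3, 3, 20, 22, 22], [0, 0, 1, 1, 20, 23, 23], [1, 1, 14, 14, 20], [3, 3, 9, 9, 20], [1, 1, 9, 9, 20, 21, 21], [1, 1, 2, 2, 20, 21, 21, 21, 21], [2, 2, 3, 3, 20, 21, 21], [1, 1, 2, 2, 21, 21, 23], [0, 0, 15, 15, 23], [0, 0, 3, 3, 20, 20, 23], [0, 0, 1, 1, 22, 22, 23], [1, 1, 9, 9, 23]]]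

theorem cSq_eq : coords 3000 cSqW = some cSqL := by decide +kernel

/-- The word `cSqT8`. -/
def cSqT8W : Wd := kill [20,21] sqW

/-- The coordinates of `cSqT8W`. -/
def cSqT8L : List Pol :=
  [[], [], [], [], [], [[0, 22]], [], [[0, 23]], [[2, 23], [0, 22, 22]], [], [], [[1, 22]], [[2, 3], [0, 15], [0, 1, 22], [1, 9]], [[1, 23], [3, 22]], [[0, 19], [0, 3, 22], [0, 1, 23], [1, 14], [3, 9]], [[9, 15], [2, 19], [1, 2, 23], [4, 22], [1, 18], [1, 9, 22], [0, 1, 22, 22], [0, 15, 22]], [[14, 15], [9, 19], [4, 23], [7, 22], [3, 18], [3, 9, 22], [1, 14, 22], [0, 3, 22, 22], [0, 19, 22], [1, 9, 23], [0, 15, 23], [2, 3, 23]], [[1, 1, 23]], [[0, 8], [0, 1, 1, 23], [1, 1, 14], [2, 3, 3]], [[2, 8], [1, 1, 2, 23], [0, 1, 1, 22, 22], [0, 15, 15], [1, 1, 18]], [[8, 9], [1, 1, 9, 23], [4, 19], [3, 4, 22], [1, 4, 23], [2, 3, 19], [1, 2, 3, 23], [3, 13], [1, 3, 18], [1, 3, 9, 22], [1, 16], [1, 7, 22],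 [5, 22], [7, 15], [0, 1, 15, 23], [0, 3, 15, 22], [0, 15, 19], [2, 3, 3, 22], [1, 1, 14, 22], [0, 1, 1, 22, 23], [0, 8, 22]], [[0, 3, 3, 22, 22], [0, 19, 19], [5, 23], [3, 3, 18], [8, 14], [1, 1, 14, 23], [0, 8, 23]], [[2, 19, 19], [6, 23], [5, 22, 22], [8, 18], [14, 15, 15], [2, 3, 3, 22, 22], [1, 1, 14, 22, 22], [0, 8, 22, 22], [1, 1, 18, 23], [0, 15, 15, 23], [2, 8, 23]], [[8, 9, 9], [2, 12], [2, 5, 23], [0, 2, 19, 19], [0, 1, 1, 2, 23, 23], [0, 17], [0, 5, 22, 22], [0, 6, 23], [4, 4, 23], [5, 18], [6, 14], [2, 3, 3, 18], [1, 1, 14, 18], [0, 0, 15, 15, 23], [0, 0, 1, 1, 22, 22, 23], [1, 1, 9, 9, 23]]]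

theorem cSqT8_eq : coords 3000 cSqT8W = some cSqT8L := by decide +kernel

/-- The word `cSqTwo`. -/
def cSqTwoW : Wd := kill [2,3,8,9,20,21,22,23] sqW

/-- The coordinates of `cSqTwoW`. -/
def cSqTwoL : List Pol :=
  [[], [], [], [], [], [], [], [], [], [], [], [], [[0, 15]], [], [[0, 19], [1, 14]], [[1, 18]], [[14, 15]], [], [[1, 1, 14]], [[0, 15, 15], [1, 1, 18]], [[4, 19], [1, 16], [7, 15], [0, 15, 19]], [[0, 19, 19]], [[14, 15, 15]], [[0, 17], [5, 18], [6, 14], [1, 1, 14, 18]]]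

theorem cSqTwo_eq : coords 3000 cSqTwoW = some cSqTwoL := by decide +kernel

/-- The word `cSqThree`. -/
def cSqThreeW : Wd := kill [0,1,2,3,14,15,18,19,20,21] sqW

/-- The coordinates of `cSqThreeW`. -/
def cSqThreeL : List Pol :=
  [[], [], [], [], [], [], [], [], [], [], [], [], [], [], [], [[4, 22]], [[4, 23], [7, 22]], [], [], [], [[8, 9], [5, 22]], [[5, 23]], [[6, 23], [5, 22, 22]], [[8, 9, 9], [4, 4, 23]]]

theorem cSqThree_eq : coords 3000 cSqThreeW = some cSqThreeL := by decide +kernel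

/-- The word `cSqMid`. -/
def cSqMidW : Wd := kill [0,1,2,3,4,5,18,19,20,21,22,23] sqW

/-- The coordinates of `cSqMidW`. -/
def cSqMidL : List Pol :=
  [[], [], [], [], [], [], [], [], [], [], [], [], [], [], [], [[9, 15]], [[14, 15]], [], [], [], [[8, 9], [7, 15]], [[8, 14]], [[14, 15, 15]], [[8, 9, 9], [6, 14]]]

theorem cSqMid_eq : coords 3000 cSqMidW = some cSqMidL := by decide +kernel

/-- The word `cA`. -/
def cAW : Wd := kill ([20,21,22,23] ++ allBut 48 (List.range 24 ++ [44,45])) conjW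

/-- The coordinates of `cAW`. -/
def cAL : List Pol :=
  [[[0]], [], [[2], [0, 44]], [], [], [[9], [2, 45], [0, 44, 45]], [], [[14], [2, 45, 45]], [[18], [0, 44, 44, 45, 45], [2, 44, 45, 45], [14, 44]], [[1]], [[3], [1, 45]], [[15], [3, 44]], [[4], [1, 9]], [[19], [15, 45], [1, 44, 45, 45], [3, 44, 45]], [[7], [3, 9], [1, 14], [1, 9, 45], [4, 45]], [[13], [1, 18], [1, 14, 44], [3, 9, 44], [7, 44]], [[16], [3, 18], [1, 18, 45], [13, 45], [4, 44, 45, 45], [1, 9, 44, 45, 45], [1, 14, 44, 45], [3, 9, 44, 45], [7, 44, 45]], [[8], [3, 3, 44], [1, 1, 44, 45, 45]], [[5], [2, 3, 3], [1, 1, 14]], [[6], [1, 1, 18], [1, 1, 14, 44], [2, 3, 3, 44], [5, 44]], [[10], [8, 9], [3, 9, 15], [7, 15], [1, 14, 15], [1, 3, 18], [4, 15, 45], [1, 9, 15, 45], [1, 1, 18, 45], [6, 45], [3, 4, 44, 45], [1, 4, 44, 45, 45], [1, 3, 9, 44, 45], [1, 1, 9, 44, 45, 45], [1, 1, 14, 44, 45], [2, 3, 3, 44, 45], [5, 44, 45]],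 [[12], [8, 14], [3, 3, 18], [1, 1, 18, 45, 45], [6, 45, 45]], [[17], [14, 15, 15], [8, 18], [6, 44, 45, 45], [1, 1, 18, 44, 45, 45], [3, 3, 18, 44], [8, 14, 44], [12, 44], [1, 1, 14, 44, 44, 45, 45], [2, 3, 3, 44, 44, 45, 45], [5, 44, 44, 45, 45]], [[11], [6, 14], [1, 1, 14, 18], [2, 3, 3, 18], [5, 18], [7, 7, 44], [3, 3, 9, 9, 44], [1, 1, 14, 14, 44], [1, 1, 9, 9, 44, 45, 45], [4, 4, 44, 45, 45]]]

theorem cA_eq : coords 3000 cAW = some cAL := by decide +kernel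

/-- The word `cB`. -/
def cBW : Wd := kill ([2,3,20,21,22,23] ++ allBut 48 (List.range 24 ++ [46,47])) conjW

/-- The coordinates of `cBW`. -/
def cBL : List Pol :=
  [[[0]], [], [], [], [], [[9], [0, 46]], [], [[14], [0, 47]], [[18], [0, 46, 46]], [[1]], [], [[15], [1, 46]], [[4], [1, 9]], [[19], [1, 47]], [[7], [1, 14]], [[13], [1, 18], [1, 9, 46], [4, 46]], [[16], [1, 14, 46], [7, 46], [1, 9, 47], [4, 47]], [[8], [1, 1, 47]], [[5], [1, 1, 14]], [[6], [1, 1, 18]], [[10], [8, 9], [7, 15], [1, 14, 15], [1, 1, 14, 46], [5, 46], [1, 1, 9, 47], [1, 4, 47]], [[12], [8, 14], [1, 1, 14, 47], [5, 47]], [[17], [14, 15, 15], [8, 18], [1, 1, 14, 46, 46], [5, 46, 46], [1, 1, 18, 47], [6, 47]], [[11], [6, 14], [1, 1, 14, 18], [5, 18], [4, 4, 47], [1, 1, 9, 9, 47]]]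

theorem cB_eq : coords 3000 cBW = some cBL := by decide +kernel

/-- The word `cC`. -/
def cCW : Wd := kill (allBut 48 [0,1,4,5,6,7,10,11,12,13, 32,33,40,41,42,43]) conjW

/-- The coordinates of `cCW`. -/
def cCL : List Pol :=
  [[[0]], [], [], [], [], [], [], [], [], [[1]], [], [], [[4], [1, 33]], [], [[7], [0, 43]], [[13], [1, 42]], [], [], [[5], [0, 32]], [[6], [1, 1, 42]], [[1, 40], [1, 33, 43], [4, 43], [10]], [[12], [0, 43, 43]], [], [[11], [0, 41], [0, 32, 42], [5, 42]]]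

theorem cC_eq : coords 3000 cCW = some cCL := by decide +kernel

/-- The word `cD`. -/
def cDW : Wd := kill (allBut 48 [6,7, 44,45,46,47,38,39]) conjW

/-- The coordinates of `cDW`. -/
def cDL : List Pol :=
  [[], [], [], [], [], [], [], [], [], [], [], [], [], [], [[7]], [[7, 44]], [[7, 46], [7, 44, 45]], [], [], [[6]], [[7, 39], [6, 45]], [[6, 45, 45]], [[6, 44, 45, 45], [6, 47]], [[6, 38], [7, 7, 44]]]

theorem cD_eq : coords 3000 cDW = some cDL := by decide +kernel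

/-- The word `cE`. -/
def cEW : Wd := kill ([0,1,2,3,20,21] ++ allBut 48 (List.range 24 ++ [24,25])) conjW

/-- The coordinates of `cEW`. -/
def cEL : List Pol :=
  [[], [], [], [], [[22]], [[9], [22, 24]], [[23]], [[14], [23, 24]], [[18], [22, 22, 24]], [], [], [[15], [22, 25]], [[4], [9, 25], [22, 24, 25], [15, 24]], [[19], [23, 25]], [[7], [14, 25], [23, 24, 25], [19, 24]], [[13], [18, 25], [9, 22, 25], [4, 22]], [[16], [14, 22, 25], [7, 22], [9, 23, 25], [4, 23]], [[8], [23, 25, 25]], [[5], [14, 25, 25], [23, 24, 25, 25], [8, 24]], [[6], [18, 25, 25], [15, 15, 24], [22, 22, 24, 25, 25]], [[10], [8, 9], [7, 15], [14, 15, 25], [5, 22], [7, 22, 25], [16, 25]], [[12], [8, 14], [14, 23, 25, 25], [5, 23], [19, 19, 24], [23, 23, 24, 25, 25]], [[17], [14, 15, 15], [8, 18], [14, 22, 22, 25, 25], [5, 22, 22], [18, 23, 25, 25], [6, 23]], [[11], [6, 14], [14, 18, 25, 25], [5, 18], [4, 4, 23],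 [9, 9, 23, 25, 25], [6, 23, 24], [18, 23, 24, 25, 25], [5, 22, 22, 24], [14, 22, 22, 24, 25, 25], [8, 18, 24], [14, 15, 15, 24], [17, 24]]]

theorem cE_eq : coords 3000 cEW = some cEL := by decide +kernel

/-- The word `cF`. -/
def cFW : Wd := kill ([0,1,2,3,20,21] ++ allBut 48 (List.range 24 ++ [26,27])) conjW

/-- The coordinates of `cFW`. -/
def cFL : List Pol :=
  [[], [], [], [], [[22]], [[9]], [[23]], [[14]], [[18], [23, 26]], [], [], [[15]], [[4]], [[19], [22, 27]], [[7], [9, 27]], [[13], [4, 22], [19, 26]], [[16], [18, 27], [9, 22, 27], [7, 22], [23, 26, 27], [4, 23]], [[8]], [[5]], [[6], [8, 26]], [[10], [8, 9], [9, 15, 27], [7, 15], [5, 22], [13, 27], [22, 26, 27, 27], [19, 26, 27]], [[12], [8, 14], [18, 27, 27], [5, 23]], [[17], [14, 15, 15], [8, 18], [5, 22, 22], [6, 23], [19, 19, 26], [22, 22, 26, 27, 27]], [[11], [6, 14], [5, 18], [4, 4, 23], [23, 26, 26, 27, 27], [5, 23,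 26], [18, 26, 27, 27], [8, 14, 26], [12, 26]]]

theorem cF_eq : coords 3000 cFW = some cFL := by decide +kernel

/-- The word `cG`. -/
def cGW : Wd := kill (allBut 48 [10,11,12,13,16,17,22,23, 28,29,30,31]) conjW

/-- The coordinates of `cGW`. -/
def cGL : List Pol :=
  [[], [], [], [], [[22]], [], [[23]], [], [], [], [], [], [], [], [], [[13], [22, 28]], [[16], [22, 31], [23, 28]], [], [], [], [[10], [22, 29]], [[12], [23, 29]], [[17], [22, 22, 29], [23, 30]], [[11], [23, 28, 28]]]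

theorem cG_eq : coords 3000 cGW = some cGL := by decide +kernel

/-- The word `rA`. -/
def rAW : Wd := mapW 1 (kill [0,1,2,3,20,21,22,23] (phiW 0))

/-- The coordinates of `rAW`. -/
def rAL : List Pol :=
  [[[18]], [], [[14]], [], [], [[9]], [], [], [], [[19]], [[15]], [], [[16]], [], [[13]], [[7]], [[4]], [[8]], [[17], [14, 15, 15], [8, 18]], [[12], [8, 14]], [[10], [8, 9], [7, 15], [4, 19]], [[6]], [[5]], [[11], [6, 14], [5, 18]]]

theorem rA_eq : coords 3000 rAW = some rAL := by decide +kernel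

/-- The word `rB`. -/
def rBW : Wd := mapW 0 (kill [0,1,2,3,20,21,22,23] (phiW 0))

/-- The coordinates of `rBW`. -/
def rBL : List Pol :=
  [[], [], [], [], [[4]], [[15]], [[5]], [[8]], [[6]], [], [], [[9]], [], [[7]], [[19]], [[13], [9, 15]], [[10], [7, 15]], [[14]], [], [[18]], [[16], [14, 15]], [[12]], [[11], [8, 9, 9]], [[17]]]

theorem rB_eq : coords 3000 rBW = some rBL := by decide +kernel

/-- The word `rC`. -/
def rCW : Wd := mapW 1 (mapW 0 (kill ([0,1,2,3,4,5,18,19,20,21,22,23]) (phiW 0)))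

/-- The coordinates of `rCW`. -/
def rCL : List Pol :=
  [[[6]], [], [[8]], [], [], [[15]], [], [], [], [[7]], [[9]], [], [[10], [7, 15]], [], [[13], [9, 15]], [], [], [[14]], [[11], [8, 9, 9]], [[12]], [[16], [14, 15]], [], [], [[17]]]

theorem rC_eq : coords 3000 rCW = some rCL := by decide +kernel

/-- The word `rD`. -/
def rDW : Wd := mapW 0 (mapW 1 (kill (allBut 24 [10,11,12,13,16,17]) (phiW 0)))

/-- The coordinates of `rDW`. -/
def rDL : List Pol :=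
  [[], [], [], [], [[16]], [], [[17]], [], [[12]], [], [], [], [], [[13]], [], [], [[10]], [], [], [], [], [], [[11]], []]

theorem rD_eq : coords 3000 rDW = some rDL := by decide +kernel

/-- The word `rE`. -/
def rEW : Wd := mapW 1 (mapW 0 (mapW 1 (kill (allBut 24 [10,11,12,13]) (phiW 0))))

/-- The coordinates of `rEW`. -/
def rEL : List Pol :=
  [[[12]], [], [], [], [], [], [], [], [], [[13]], [], [], [[10]], [], [], [], [], [], [[11]], [], [], [], [], []]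

theorem rE_eq : coords 3000 rEW = some rEL := by decide +kernel

/-- The word `rF`. -/
def rFW : Wd := mapW 1 (mapW 0 (mapW 1 (mapW 0 (kill (allBut 24 [12,13,22,23]) (phiW 0)))))

/-- The coordinates of `rFW`. -/
def rFL : List Pol :=
  [[[12]], [], [], [], [], [], [], [], [], [[13]], [], [], [], [], [], [], [], [], [], [], [[22]], [], [], [[23]]]

theorem rF_eq : coords 3000 rFW = some rFL := by decide +kernel

/-- The word `rG`. -/
def rGW : Wd := mapW 0 (mapW 1 (kill (allBut 24 [0,1,6,7]) (phiW 0)))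

/-- The coordinates of `rGW`. -/
def rGL : List Pol :=
  [[], [], [], [], [], [], [], [], [], [], [], [], [], [], [[1]], [[7]], [], [], [], [[0]], [], [[6]], [], []]

theorem rG_eq : coords 3000 rGW = some rGL := by decide +kernel

end H52.F4N
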