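import Cfsg.Agent.H52.F4Norm

/-!
The words of the eight positive classes of roots of the twisted system of type F4.
-/

set_option autoImplicit false

namespace H52.F4N

open Cfsg.Lie H52 H53

/-- An atom as a polynomial. -/
def at' (i : ℕ) : Pol := [[i]]

/-- The word of a class of two orthogonal roots. -/
def wordA (r rb o : ℕ) : Wd := [(r, at' (o + 1)), (rb, at' o)]

/-- The word of a class of four roots. -/
def wordB (a b c d o : ℕ) : Wd :=
  [(a, at' (o + 1)), (b, at' o), (c, padd (pmul (at' (o + 1)) (at' o)) (at' (o + 2))), (d, at' (o + 3))]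

/-- The general positive element. -/
def phiW (o : ℕ) : Wd :=
  wordA 33 24 o ++ wordB 34 26 36 42 (o + 2) ++ wordA 38 43 (o + 6) ++ wordB 29 41 44 47 (o + 8) ++
    wordA 39 45 (o + 12) ++ wordB 35 31 40 46 (o + 14) ++ wordA 37 32 (o + 18) ++ wordB 27 25 28 30 (o + 20)

/-- Put some atoms to zero. -/
def kill (Z : List ℕ) (w : Wd) : Wd :=
  strip (w.map fun p => (p.1, p.2.filter fun q => !q.any fun a => Z.contains a))

/-- The roots moved by a fundamental reflection of the twisted system. -/
def actR (k : Fin 2) (r : ℕ) : ℕ :=
  if h : r < chevF4.nroots then (H53.F4T.spec.wact weylForF4 k ⟨r, h⟩).val else r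

/-- A word moved by a fundamental reflection. -/
def mapW (k : Fin 2) (w : Wd) : Wd := w.map fun p => (actR k p.1, p.2)

/-- The atoms outside a set of free ones, among the first `n`. -/
def allBut (n : ℕ) (F : List ℕ) : List ℕ := (List.range n).filter fun a => !F.contains a

/-- The conjugate of a general element by another one. -/
def conjW : Wd := (phiW 24).reverse ++ phiW 0 ++ phiW 24

end H52.F4N
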