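import Cfsg.Agent.H56.BNSimple
import Cfsg.Agent.S0496

/-!
A group of order `1512` with a split (B,N)-pair of rank one and a proper derived subgroup has a simple derived
subgroup of order `504`.
-/

set_option autoImplicit false
set_option linter.unusedSectionVars false

namespace H52.O1512

open Cfsg
open scoped commutatorElement

variable {G : Type*} [Group G] [Finite G]

theorem dvd_card_normal (hG : Nat.card G = 1512) (P : Cfsg.BNPair G) (hirr : P.Irreducible)
    (hcore : P.B.normalCore = ⊥) (hB : Nat.card P.B = 54) (N : Subgroup G) [N.Normal] (hN : N ≠ ⊥) :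
    28 ∣ Nat.card N := by
  rcases H56.normal_le_B_or_sup_eq_top P hirr N with h | h
  · exact absurd (le_bot_iff.1 (hcore ▸ Subgroup.normal_le_normalCore.2 h)) hN
  set f := (QuotientGroup.mk' N).comp P.B.subtype
  have hsurj : Function.Surjective f := by
    intro q
    obtain ⟨g, rfl⟩ := QuotientGroup.mk'_surjective N q
    obtain ⟨b, hb, k, hk, rfl⟩ := Subgroup.mem_sup_of_normal_right.1 (h ▸ Subgroup.mem_top g : g ∈ P.B ⊔ N)
    exact ⟨⟨b, hb⟩, (QuotientGroup.mk'_eq_mk' N).2 ⟨k, hk, rfl⟩⟩
  obtain ⟨c, hc⟩ := Subgroup.card_dvd_of_surjective f hsurj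
  have h2 := Subgroup.card_eq_card_quotient_mul_card_subgroup N
  rw [hB] at hc
  rw [hG] at h2
  refine ⟨c, ?_⟩
  have hpos : 0 < Nat.card (G ⧸ N) := Nat.card_pos
  have : Nat.card (G ⧸ N) * Nat.card N = Nat.card (G ⧸ N) * (28 * c) := by
    rw [← h2, show Nat.card (G ⧸ N) * (28 * c) = 28 * (Nat.card (G ⧸ N) * c) by ring, ← hc]
  exact Nat.eq_of_mul_eq_mul_left hpos this

theorem not_comm_normal (hG : Nat.card G = 1512) (P : Cfsg.BNPair G) (hirr : P.Irreducible)
    (hcore : P.B.normalCore = ⊥) (hB : Nat.card P.B = 54) (N : Subgroup G) [N.Normal] (hN : N ≠ ⊥) :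
    ∃ a ∈ N, ∃ b ∈ N, a * b ≠ b * a := by
  by_contra hcomm
  push Not at hcomm
  have h28 := dvd_card_normal hG P hirr hcore hB N hN
  let A : Subgroup G :=
    { carrier := {x | x ∈ N ∧ x ^ 7 = 1}
      one_mem' := ⟨one_mem _, one_pow _⟩
      mul_mem' := fun {a b} ha hb => ⟨mul_mem ha.1 hb.1, by
        rw [(show Commute a b from hcomm a ha.1 b hb.1).mul_pow, ha.2, hb.2, one_mul]⟩
      inv_mem' := fun {a} ha => ⟨inv_mem ha.1, by rw [inv_pow, ha.2, inv_one]⟩ }
  haveI : A.Normal := ⟨fun a ha g => ⟨Subgroup.Normal.conj_mem inferInstance a ha.1 g, by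
    rw [conj_pow, ha.2, mul_one, mul_inv_cancel]⟩⟩
  haveI : Fact (Nat.Prime 7) := ⟨by norm_num⟩
  obtain ⟨⟨x, hx⟩, hox⟩ := exists_prime_orderOf_dvd_card' (G := ↥N) 7 ((by norm_num : 7 ∣ 28).trans h28)
  rw [Subgroup.orderOf_mk] at hox
  have hxA : x ∈ A := ⟨hx, by rw [← hox]; exact pow_orderOf_eq_one x⟩
  have hA : A ≠ ⊥ := fun h => by
    have : x = 1 := Subgroup.mem_bot.1 (h ▸ hxA)
    rw [this, orderOf_one] at hox
    omega
  have h2 : 2 ∣ Nat.card A := (by norm_num : 2 ∣ 28).trans (dvd_card_normal hG P hirr hcore hB A hA)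
  haveI : Fact (Nat.Prime 2) := ⟨Nat.prime_two⟩
  obtain ⟨⟨y, hy⟩, hoy⟩ := exists_prime_orderOf_dvd_card' (G := ↥A) 2 h2
  rw [Subgroup.orderOf_mk] at hoy
  have := orderOf_dvd_of_pow_eq_one hy.2
  rw [hoy] at this
  norm_num at this

/-- The derived subgroup is simple of order `504`. -/
theorem derived_simple (hG : Nat.card G = 1512) (P : Cfsg.BNPair G) (hirr : P.Irreducible)
    (hcore : P.B.normalCore = ⊥) (hB : Nat.card P.B = 54) (hne : commutator G ≠ ⊤) :
    Nat.card ↥(commutator G) = 504 ∧ IsSimpleGroup ↥(commutator G) := by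
  classical
  have hnt : (⊤ : Subgroup G) ≠ ⊥ := fun h => by
    have := congrArg (fun H : Subgroup G => Nat.card H) h
    simp [hG] at this
  -- a minimal normal subgroup
  obtain ⟨M, ⟨hMn, hMb⟩, hmin⟩ := (Set.toFinite {N : Subgroup G | N.Normal ∧ N ≠ ⊥}).exists_minimal
    ⟨⊤, inferInstance, hnt⟩
  have hmin' : ∀ N : Subgroup G, N.Normal → N ≤ M → N = ⊥ ∨ N = M := fun N hN hle =>
    (em (N = ⊥)).imp_right fun h => le_antisymm hle (hmin ⟨hN, h⟩ hle)
  haveI := hMn
  have hperf : ⁅M, M⁆ = M := by
    refine (hmin' ⁅M, M⁆ inferInstance (Subgroup.commutator_le_self M)).resolve_left fun h => ?_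
    obtain ⟨a, ha, b, hb, hab⟩ := not_comm_normal hG P hirr hcore hB M hMb
    apply hab
    have h1 : ⁅a, b⁆ ∈ (⊥ : Subgroup G) := h ▸ Subgroup.commutator_mem_commutator ha hb
    exact commutatorElement_eq_one_iff_mul_comm.1 (Subgroup.mem_bot.1 h1)
  have hMC : M ≤ commutator G := by
    rw [← hperf]; exact Subgroup.commutator_mono le_top le_top
  have hMperf : commutator ↥M = ⊤ := by
    apply Subgroup.map_injective M.subtype_injective
    rw [Subgroup.map_subtype_commutator, hperf, ← MonoidHom.range_eq_map, Subgroup.range_subtype]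
  have h28 := dvd_card_normal hG P hirr hcore hB M hMb
  have hdvd : Nat.card M ∣ 1512 := hG ▸ Subgroup.card_subgroup_dvd_card M
  have hlt : Nat.card M ≤ 756 := by
    obtain ⟨k, hk⟩ := hdvd
    have : k ≠ 1 := fun h => hne (eq_top_iff.2 (by
      rw [← (Subgroup.card_eq_iff_eq_top M).1 (by rw [hG, hk, h, mul_one])]; exact hMC))
    rcases Nat.lt_or_ge k 2 with h | h
    · interval_cases k <;> omega
    · nlinarith
  haveI : Nontrivial ↥M := (Subgroup.nontrivial_iff_ne_bot M).2 hMb
  -- a maximal normal subgroup of M
  obtain ⟨L, ⟨hLn, hLt⟩, hmax⟩ := (Set.toFinite {N : Subgroup ↥M | N.Normal ∧ N ≠ ⊤}).exists_maximal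
    ⟨⊥, inferInstance, bot_ne_top⟩
  haveI := hLn
  have hq : IsSimpleGroup (↥M ⧸ L) := by
    haveI : Nontrivial (↥M ⧸ L) := by
      by_contra h
      rw [not_nontrivial_iff_subsingleton] at h
      exact hLt (QuotientGroup.subgroup_eq_top_of_subsingleton L h)
    refine ⟨fun N hN => ?_⟩
    have hle : L ≤ N.comap (QuotientGroup.mk' L) := fun x hx => by
      rw [Subgroup.mem_comap, show QuotientGroup.mk' L x = 1 from (QuotientGroup.eq_one_iff x).2 hx]
      exact one_mem _
    by_cases h : N.comap (QuotientGroup.mk' L) = ⊤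
    · right
      exact Subgroup.comap_injective (QuotientGroup.mk'_surjective L) (h.trans (Subgroup.comap_top _).symm)
    · left
      have h1 := le_antisymm (hmax ⟨inferInstance, h⟩ hle) hle
      apply Subgroup.comap_injective (QuotientGroup.mk'_surjective L)
      rw [h1, MonoidHom.comap_bot, QuotientGroup.ker_mk']
  have hqperf : commutator (↥M ⧸ L) = ⊤ := by
    rw [commutator_def, ← Subgroup.map_top_of_surjective _ (QuotientGroup.mk'_surjective L),
      ← Subgroup.map_commutator, ← commutator_def, hMperf]
  have hqnc : ¬ IsMulCommutative (↥M ⧸ L) := fun h => by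
    have hbot : commutator (↥M ⧸ L) = ⊥ := by
      rw [commutator_def, Subgroup.commutator_eq_bot_iff_le_centralizer]
      intro x _
      rw [Subgroup.mem_centralizer_iff]
      intro y _
      exact h.is_comm.comm y x
    exact top_ne_bot (hqperf.symm.trans hbot)
  have hML := Subgroup.card_eq_card_quotient_mul_card_subgroup L
  have hLpos : 0 < Nat.card L := Nat.card_pos
  have hqle : Nat.card (↥M ⧸ L) ≤ 756 :=
    le_trans (Nat.le_of_dvd Nat.card_pos ⟨_, hML⟩) hlt
  have hqd : Nat.card (↥M ⧸ L) ∣ 1512 := (Dvd.intro _ hML.symm).trans hdvd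
  have hq' : Nat.card (↥M ⧸ L) = 168 ∨ Nat.card (↥M ⧸ L) = 504 := by
    rcases Cfsg.Agent.S0496.result (G := ↥M ⧸ L) hqnc (by omega) with h | h | h | h | h | h <;>
      rw [h] at hqd <;> norm_num at hqd <;> simp [h]
  -- M has order 504 and is simple
  have hmain : Nat.card M = 504 ∧ L = ⊥ := by
    rcases hq' with h | h <;> rw [h] at hML
    · have hl : Nat.card L ≤ 4 := by omega
      obtain ⟨c, hc⟩ := h28
      obtain ⟨d, hd⟩ := hdvd
      interval_cases hLc : Nat.card L
      · exfalso
        have hMs : IsSimpleGroup ↥M := by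
          have hLb : L = ⊥ := Subgroup.eq_bot_of_card_eq L hLc
          subst hLb
          exact ((QuotientGroup.quotientBot (G := ↥M)).isSimpleGroup_congr).1 hq
        haveI : Fact (Nat.Prime 7) := ⟨by norm_num⟩
        let ρ : G →* Equiv.Perm (Sylow 7 ↥M) :=
          (MulAction.toPermHom (MulAut ↥M) (Sylow 7 ↥M)).comp MulAut.conjNormal
        have h168 : Nat.card ↥M = 168 := by omega
        have hS : Nat.card (Sylow 7 ↥M) = 8 := by
          have h1 := card_sylow_modEq_one 7 ↥M
          obtain ⟨Q⟩ := (inferInstance : Nonempty (Sylow 7 ↥M))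
          have hQc : Nat.card (Q : Subgroup ↥M) = 7 := by
            rw [Sylow.card_eq_multiplicity, h168, show (168 : ℕ).factorization 7 = 1 by
              rw [Nat.factorization_def _ (by norm_num)]; decide +kernel]
            norm_num
          have h2 : Nat.card (Sylow 7 ↥M) ∣ 24 := by
            have h3 := Q.card_dvd_index
            have h4 := (Q : Subgroup ↥M).card_mul_index
            rw [hQc, h168] at h4
            rwa [show (Q : Subgroup ↥M).index = 24 by omega] at h3
          have h5 : Nat.card (Sylow 7 ↥M) ≠ 1 := fun h6 => by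
            have hsub : Subsingleton (Sylow 7 ↥M) := (Nat.card_eq_one_iff_unique.1 h6).1
            have hn : (Q : Subgroup ↥M).Normal := Q.normal_of_subsingleton
            rcases hMs.eq_bot_or_eq_top_of_normal _ hn with h7 | h7
            · rw [h7, Subgroup.card_bot] at hQc; omega
            · rw [h7, Subgroup.card_top, h168] at hQc; omega
          have h8 := Nat.le_of_dvd (by norm_num) h2
          have h9 : Nat.card (Sylow 7 ↥M) % 7 = 1 := h1
          interval_cases hn7 : Nat.card (Sylow 7 ↥M) <;> first | omega | norm_num at h2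
        have hker : ρ.ker ≠ ⊥ := fun h0 => by
          have := Subgroup.card_dvd_of_injective ρ ((MonoidHom.ker_eq_bot_iff ρ).1 h0)
          rw [hG, Nat.card_perm, hS] at this
          norm_num [Nat.factorial] at this
        rcases hmin' (ρ.ker ⊓ M) inferInstance inf_le_right with h0 | h0
        · have hcard : Nat.card ρ.ker * Nat.card M ∣ Nat.card G := by
            let f : ↥ρ.ker × ↥M →* G :=
              MonoidHom.noncommCoprod ρ.ker.subtype M.subtype fun a b =>
                Subgroup.commute_of_normal_of_disjoint _ _ inferInstance inferInstance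
                  (disjoint_iff.2 h0) _ _ a.2 b.2
            have hf : Function.Injective f := by
              rw [injective_iff_map_eq_one]
              rintro ⟨a, b⟩ e
              have e' : (a : G) * b = 1 := e
              have ha : (a : G) ∈ ρ.ker ⊓ M := Subgroup.mem_inf.2
                ⟨a.2, by rw [eq_inv_of_mul_eq_one_left e']; exact inv_mem b.2⟩
              rw [h0, Subgroup.mem_bot] at ha
              rw [ha, one_mul] at e'
              exact Prod.ext (Subtype.ext ha) (Subtype.ext e')
            rw [← Nat.card_prod]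
            exact Subgroup.card_dvd_of_injective f hf
          obtain ⟨e, he⟩ := dvd_card_normal hG P hirr hcore hB ρ.ker hker
          rw [he, h168, hG] at hcard
          have : 28 * 168 ∣ 1512 := Dvd.dvd.trans ⟨e, by ring⟩ hcard
          norm_num at this
        · have hle : M ≤ ρ.ker := inf_eq_right.1 h0
          obtain ⟨Q⟩ := (inferInstance : Nonempty (Sylow 7 ↥M))
          have hfix : ∀ g : ↥M, g • Q = Q := fun g => by
            have h1 : ρ (g : G) = 1 := hle g.2
            have h2 : MulAut.conjNormal (H := M) (g : G) • Q = Q := by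
              have h4 := congrArg (fun p : Equiv.Perm (Sylow 7 ↥M) => p Q) h1
              simpa [ρ] using h4
            have h3 : MulAut.conjNormal (H := M) (g : G) = MulAut.conj g := by
              ext x; simp
            rw [h3] at h2
            exact h2
          have hall : ∀ R : Sylow 7 ↥M, R = Q := fun R => by
            obtain ⟨g, rfl⟩ := MulAction.exists_smul_eq ↥M Q R
            exact hfix g
          have : Subsingleton (Sylow 7 ↥M) := ⟨fun a b => (hall a).trans (hall b).symm⟩
          have h1 := Finite.card_le_one_iff_subsingleton.2 this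
          omega
      · rw [hML] at hd; omega
      · exfalso
        haveI : Fact (Nat.Prime 3) := ⟨Nat.prime_three⟩
        have hcyc : IsCyclic ↥L := isCyclic_of_prime_card hLc
        have hcen : L ≤ Subgroup.center ↥M := by
          let φ : ↥M →* MulAut ↥L := MulAut.conjNormal
          have hab : ∀ a b : MulAut ↥L, a * b = b * a := by
            obtain ⟨g, hg⟩ := hcyc.exists_generator
            intro a b
            obtain ⟨i, hi⟩ := hg (a g)
            obtain ⟨j, hj⟩ := hg (b g)
            refine MulEquiv.ext fun x => ?_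
            obtain ⟨k, rfl⟩ := hg x
            show a (b (g ^ k)) = b (a (g ^ k))
            rw [map_zpow, map_zpow, map_zpow, map_zpow]
            have h1 : a (b g) = b (a g) := by
              rw [← hi, ← hj]
              show a (g ^ j) = b (g ^ i)
              rw [map_zpow, map_zpow, ← hi, ← hj]
              show (g ^ i) ^ j = (g ^ j) ^ i
              rw [← zpow_mul, ← zpow_mul, mul_comm]
            rw [h1]
          have hk : commutator ↥M ≤ φ.ker := by
            rw [commutator_def, Subgroup.commutator_le]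
            intro a _ b _
            rw [MonoidHom.mem_ker, map_commutatorElement, commutatorElement_eq_one_iff_mul_comm]
            exact hab _ _
          intro x hx
          rw [Subgroup.mem_center_iff]
          intro y
          have h1 : φ y = 1 := hk (hMperf ▸ Subgroup.mem_top y)
          have h2 : y * x * y⁻¹ = x := congrArg Subtype.val
            (congrArg (fun e : MulAut ↥L => e ⟨x, hx⟩) h1)
          rwa [mul_inv_eq_iff_eq_mul] at h2
        have hZn : ((Subgroup.center ↥M).map M.subtype).Normal := inferInstance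
        have hZne : (Subgroup.center ↥M).map M.subtype ≠ ⊥ := fun h0 => by
          rw [Subgroup.map_eq_bot_iff_of_injective _ M.subtype_injective] at h0
          rw [h0, le_bot_iff] at hcen
          rw [hcen, Subgroup.card_bot] at hLc
          omega
        obtain ⟨a, ha, b, hb, hab⟩ := not_comm_normal hG P hirr hcore hB _ hZne
        obtain ⟨a', ha', rfl⟩ := ha
        obtain ⟨b', hb', rfl⟩ := hb
        exact hab (congrArg Subtype.val (Subgroup.mem_center_iff.1 hb' a'))
      · rw [hML] at hd; omega
    · have hl : Nat.card L = 1 := by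
        rcases Nat.lt_or_ge (Nat.card L) 2 with h2 | h2
        · omega
        · omega
      exact ⟨by rw [hML, hl], Subgroup.eq_bot_of_card_eq L hl⟩
  obtain ⟨hcM, hLb⟩ := hmain
  have hMs : IsSimpleGroup ↥M := by
    subst hLb
    exact ((QuotientGroup.quotientBot (G := ↥M)).isSimpleGroup_congr).1 hq
  have hCM : commutator G = M := by
    refine le_antisymm ?_ hMC
    have hidx : M.index = 3 := by
      have := M.card_mul_index
      rw [hcM, hG] at this
      omega
    have hcy : IsCyclic (G ⧸ M) := by
      haveI : Fact (Nat.Prime 3) := ⟨Nat.prime_three⟩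
      exact isCyclic_of_prime_card (p := 3) (by rw [← Subgroup.index_eq_card, hidx])
    rw [commutator_def, Subgroup.commutator_le]
    intro a _ b _
    rw [← QuotientGroup.eq_one_iff, ← QuotientGroup.mk'_apply M, map_commutatorElement,
      commutatorElement_eq_one_iff_mul_comm]
    obtain ⟨g, hg⟩ := hcy.exists_generator
    obtain ⟨i, hi⟩ := hg (QuotientGroup.mk' M a)
    obtain ⟨j, hj⟩ := hg (QuotientGroup.mk' M b)
    rw [← hi, ← hj]
    exact zpow_mul_comm g i j
  rw [hCM]
  exact ⟨hcM, hMs⟩

end H52.O1512
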