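import Mathlib

/-!
General finite group lemmas for the classification of the elements of a small Ree group.
-/

set_option autoImplicit false
set_option linter.unusedSectionVars false

namespace H52.Ree2

open scoped commutatorElement

variable {G : Type*} [Group G]

/-- The elements with property `P`, counted through representatives with property `Q`. -/
theorem card_fused [Finite G] (P Q : G → Prop) (N : Subgroup G) (hQP : ∀ x, Q x → P x)
    (hP : ∀ x, P x → ∃ g : G, Q (g⁻¹ * x * g)) (hconj : ∀ g x, P x → P (g * x * g⁻¹))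
    (hN : ∀ n ∈ N, ∀ x, Q x → Q (n * x * n⁻¹))
    (hF : ∀ g x, Q x → Q (g * x * g⁻¹) → g ∈ N) :
    Nat.card {x // P x} = N.index * Nat.card {x // Q x} := by
  rw [Subgroup.index_eq_card, ← Nat.card_prod]
  symm
  refine Nat.card_eq_of_bijective
    (fun p : (G ⧸ N) × {x // Q x} => ⟨p.1.out * p.2.1 * p.1.out⁻¹, hconj _ _ (hQP _ p.2.2)⟩) ⟨?_, ?_⟩
  · rintro ⟨c, x, hx⟩ ⟨d, y, hy⟩ h
    have h' : c.out * x * c.out⁻¹ = d.out * y * d.out⁻¹ := congrArg Subtype.val h
    have hcd : c = d := by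
      rw [← QuotientGroup.out_eq' c, ← QuotientGroup.out_eq' d, QuotientGroup.eq]
      refine hF _ y hy ?_
      rw [show c.out⁻¹ * d.out * y * (c.out⁻¹ * d.out)⁻¹ = c.out⁻¹ * (d.out * y * d.out⁻¹) * c.out by
        group, ← h', show c.out⁻¹ * (c.out * x * c.out⁻¹) * c.out = x by group]
      exact hx
    subst hcd
    exact Prod.ext rfl (Subtype.ext (mul_left_cancel (mul_right_cancel h')))
  · rintro ⟨x, hx⟩
    obtain ⟨g, hg⟩ := hP x hx
    obtain ⟨n, hn⟩ := QuotientGroup.mk_out_eq_mul N g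
    refine ⟨(QuotientGroup.mk g, ⟨(n : G)⁻¹ * (g⁻¹ * x * g) * (n : G)⁻¹⁻¹, hN _ (inv_mem n.2) _ hg⟩),
      Subtype.ext ?_⟩
    show _ * _ * _ = x
    rw [hn]; group

/-- Elements whose order is a power of a prime prime to the index are conjugate into the subgroup. -/
theorem exists_conj_mem [Finite G] {p : ℕ} [Fact p.Prime] (A : Subgroup G) (hp : ¬ p ∣ A.index)
    {x : G} {k : ℕ} (hx : orderOf x = p ^ k) : ∃ g : G, g⁻¹ * x * g ∈ A := by
  obtain ⟨Q⟩ : Nonempty (Sylow p ↥A) := inferInstance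
  have hpg : IsPGroup p ↥((Q : Subgroup ↥A).map A.subtype) := Q.2.map _
  have hidx : ¬ p ∣ ((Q : Subgroup ↥A).map A.subtype).index := by
    rw [Subgroup.index_map_of_injective _ (Subtype.val_injective), Subgroup.range_subtype]
    intro h
    rcases (Fact.out : p.Prime).dvd_mul.1 h with h | h
    · exact Q.not_dvd_index h
    · exact hp h
  let P := hpg.toSylow hidx
  have hxp : IsPGroup p ↥(Subgroup.zpowers x) := IsPGroup.of_card (n := k) (by rw [Nat.card_zpowers, hx])
  obtain ⟨R, hR⟩ := hxp.exists_le_sylow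
  obtain ⟨g, hg⟩ := MulAction.exists_smul_eq G P R
  refine ⟨g, ?_⟩
  have hxR := hR (Subgroup.mem_zpowers x)
  rw [← hg, Sylow.coe_subgroup_smul, Subgroup.mem_pointwise_smul_iff_inv_smul_mem] at hxR
  obtain ⟨a, -, ha⟩ := hxR
  rw [MulAut.smul_def, MulAut.inv_def, MulAut.conj_symm_apply] at ha
  rw [← ha]
  exact a.2

/-- Conjugation transports centralizers of elements. -/
theorem mem_centralizer_conj {g x y : G} :
    y ∈ Subgroup.centralizer {g * x * g⁻¹} ↔ g⁻¹ * y * g ∈ Subgroup.centralizer {x} := by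
  rw [Subgroup.mem_centralizer_singleton_iff, Subgroup.mem_centralizer_singleton_iff]
  constructor
  · intro h
    calc g⁻¹ * y * g * x = g⁻¹ * (y * (g * x * g⁻¹)) * g := by group
      _ = g⁻¹ * (g * x * g⁻¹ * y) * g := by rw [h]
      _ = _ := by group
  · intro h
    calc y * (g * x * g⁻¹) = g * (g⁻¹ * y * g * x) * g⁻¹ := by group
      _ = g * (x * (g⁻¹ * y * g)) * g⁻¹ := by rw [h]
      _ = _ := by group

theorem card_centralizer_conj (g x : G) :
    Nat.card ↥(Subgroup.centralizer {g * x * g⁻¹}) = Nat.card ↥(Subgroup.centralizer {x}) := by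
  have h : Subgroup.centralizer {g * x * g⁻¹} =
      (Subgroup.centralizer {x}).map (MulAut.conj g).toMonoidHom := by
    ext y
    rw [Subgroup.mem_map_equiv, MulAut.conj_symm_apply, mem_centralizer_conj]
  rw [h, Subgroup.card_map_of_injective (MulEquiv.injective _)]

/-- In a cyclic subgroup, subgroups are fixed by the normalizer. -/
theorem normalizer_le_of_cyclic [Finite G] {A B : Subgroup G} (hA : IsCyclic ↥A) (hB : B ≤ A) :
    Subgroup.normalizer (A : Set G) ≤ Subgroup.normalizer (B : Set G) := by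
  intro g hg
  have hle : ∀ y ∈ B, g * y * g⁻¹ ∈ B := by
    intro y hy
    have hyA : g * y * g⁻¹ ∈ A := (Subgroup.mem_normalizer_iff.1 hg y).1 (hB hy)
    have hord : orderOf (g * y * g⁻¹) = orderOf y := by
      rw [show g * y * g⁻¹ = MulAut.conj g y from rfl, MulEquiv.orderOf_eq]
    have hd : orderOf (⟨g * y * g⁻¹, hyA⟩ : ↥A) ∣ orderOf (⟨y, hB hy⟩ : ↥A) := by
      rw [← Subgroup.orderOf_coe, ← Subgroup.orderOf_coe, hord]
    have hmem : (⟨g * y * g⁻¹, hyA⟩ : ↥A) ∈ Subgroup.zpowers (⟨y, hB hy⟩ : ↥A) := by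
      letI : CommGroup ↥A := IsCyclic.commGroup
      set y' : ↥A := ⟨y, hB hy⟩
      have hle : Subgroup.zpowers y' ≤ (powMonoidHom (orderOf y') : ↥A →* ↥A).ker :=
        Subgroup.zpowers_le.2 (MonoidHom.mem_ker.2 (pow_orderOf_eq_one y'))
      have hge : Nat.card ↥((powMonoidHom (orderOf y') : ↥A →* ↥A).ker) ≤ Nat.card ↥(Subgroup.zpowers y') := by
        rw [IsCyclic.card_powMonoidHom_ker, Nat.card_zpowers]
        exact Nat.le_of_dvd (orderOf_pos y') (Nat.gcd_dvd_right _ _)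
      rw [Subgroup.eq_of_le_of_card_ge hle hge]
      exact MonoidHom.mem_ker.2 (orderOf_dvd_iff_pow_eq_one.1 hd)
    obtain ⟨n, hn⟩ := Subgroup.mem_zpowers_iff.1 hmem
    have := congrArg Subtype.val hn
    simp only [Subgroup.coe_zpow] at this
    rw [← this]
    exact zpow_mem hy n
  rw [Subgroup.mem_normalizer_iff]
  have hfin : Function.Surjective (fun y : ↥B => (⟨g * y * g⁻¹, hle y y.2⟩ : ↥B)) := by
    refine Finite.injective_iff_surjective.1 fun a b h => ?_
    exact Subtype.ext (mul_left_cancel (mul_right_cancel (congrArg Subtype.val h)))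
  intro y
  refine ⟨hle y, fun h => ?_⟩
  obtain ⟨⟨z, hz⟩, e⟩ := hfin ⟨_, h⟩
  have e' : g * z * g⁻¹ = g * y * g⁻¹ := congrArg Subtype.val e
  rwa [← mul_left_cancel (mul_right_cancel e')]

/-- A nontrivial solvable normal subgroup contains a nontrivial normal elementary abelian one. -/
theorem exists_elementary_normal [Finite G] (S R : Subgroup G) (hRS : R ≤ S)
    (hnorm : S ≤ Subgroup.normalizer (R : Set G)) (hsolv : Group.IsSolvable ↥R) (hR : R ≠ ⊥) :
    ∃ (p : ℕ) (M : Subgroup G), p.Prime ∧ M ≤ R ∧ M ≠ ⊥ ∧ S ≤ Subgroup.normalizer (M : Set G) ∧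
      (∀ x ∈ M, ∀ y ∈ M, x * y = y * x) ∧ ∀ x ∈ M, x ^ p = 1 := by
  -- the last nontrivial derived subgroup
  let D : ℕ → Subgroup G := fun k => (derivedSeries ↥R k).map R.subtype
  have hDnorm : ∀ k, S ≤ Subgroup.normalizer (D k : Set G) := by
    intro k g hg
    have hgR := hnorm hg
    let e : ↥R ≃* ↥R :=
      { toFun := fun r => ⟨g * r * g⁻¹, (Subgroup.mem_normalizer_iff.1 hgR r).1 r.2⟩
        invFun := fun r => ⟨g⁻¹ * r * g, (Subgroup.mem_normalizer_iff.1 hgR _).2 (by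
          rw [show g * (g⁻¹ * (r : G) * g) * g⁻¹ = r by group]; exact r.2)⟩
        left_inv := fun r => Subtype.ext (by show g⁻¹ * (g * r * g⁻¹) * g = r; group)
        right_inv := fun r => Subtype.ext (by show g * (g⁻¹ * r * g) * g⁻¹ = r; group)
        map_mul' := fun r s => Subtype.ext (by
          show g * (r * s) * g⁻¹ = g * r * g⁻¹ * (g * s * g⁻¹); group) }
    have he : (derivedSeries ↥R k).map e.toMonoidHom = derivedSeries ↥R k :=
      map_derivedSeries_eq (f := e.toMonoidHom) e.surjective k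
    rw [Subgroup.mem_normalizer_iff]
    intro y
    constructor
    · rintro ⟨r, hr, rfl⟩
      exact ⟨e r, by rw [SetLike.mem_coe, ← he]; exact ⟨r, hr, rfl⟩, rfl⟩
    · rintro ⟨r, hr, h⟩
      have hr' : r ∈ (derivedSeries ↥R k).map e.toMonoidHom := by rwa [he]
      obtain ⟨s, hs, rfl⟩ := hr'
      refine ⟨s, hs, ?_⟩
      have h' : g * (s : G) * g⁻¹ = g * y * g⁻¹ := h
      exact mul_left_cancel (mul_right_cancel h')
  obtain ⟨n, hn⟩ := (Group.isSolvable_def ↥R).1 hsolv
  classical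
  have hex : ∃ k, derivedSeries ↥R k = ⊥ := ⟨n, hn⟩
  set k0 := Nat.find hex with hk0
  have hk : k0 ≠ 0 := by
    intro h
    have h0 := Nat.find_spec hex
    rw [← hk0, h, derivedSeries_zero] at h0
    apply hR
    rw [eq_bot_iff]
    intro x hx
    have : (⟨x, hx⟩ : ↥R) ∈ (⊥ : Subgroup ↥R) := h0 ▸ Subgroup.mem_top _
    exact Subgroup.mem_bot.2 (congrArg Subtype.val (Subgroup.mem_bot.1 this))
  obtain ⟨k, hk'⟩ := Nat.exists_eq_succ_of_ne_zero hk
  have hbot : derivedSeries ↥R (k + 1) = ⊥ := by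
    have := Nat.find_spec hex
    rwa [← hk0, hk'] at this
  have hne : derivedSeries ↥R k ≠ ⊥ := Nat.find_min hex (by omega)
  have hcomm : ∀ a ∈ D k, ∀ b ∈ D k, a * b = b * a := by
    rintro _ ⟨a, ha, rfl⟩ _ ⟨b, hb, rfl⟩
    have : ⁅a, b⁆ ∈ derivedSeries ↥R (k + 1) := Subgroup.commutator_mem_commutator ha hb
    rw [hbot, Subgroup.mem_bot, commutatorElement_eq_one_iff_mul_comm] at this
    rw [← map_mul, ← map_mul, this]
  obtain ⟨a, ha, hane⟩ := (Subgroup.bot_or_exists_ne_one (derivedSeries ↥R k)).resolve_left hne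
  have hao : orderOf a ≠ 1 := fun h => hane (orderOf_eq_one_iff.1 h)
  obtain ⟨p, hp, hdvd⟩ := Nat.exists_prime_and_dvd hao
  have hp' : Fact p.Prime := ⟨hp⟩
  refine ⟨p, { carrier := {x | x ∈ D k ∧ x ^ p = 1}
               one_mem' := ⟨one_mem _, one_pow _⟩
               mul_mem' := fun {x y} hx hy => ⟨mul_mem hx.1 hy.1, by
                 rw [Commute.mul_pow (hcomm _ hx.1 _ hy.1), hx.2, hy.2, one_mul]⟩
               inv_mem' := fun {x} hx => ⟨inv_mem hx.1, by rw [inv_pow, hx.2, inv_one]⟩ },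
    hp, ?_, ?_, ?_, fun x hx y hy => hcomm x hx.1 y hy.1, fun x hx => hx.2⟩
  · rintro x ⟨⟨r, -, rfl⟩, -⟩; exact r.2
  · intro h
    have hmem : ((a ^ (orderOf a / p) : ↥R) : G) ∈ (⊥ : Subgroup G) :=
      h ▸ ⟨⟨_, pow_mem ha _, rfl⟩, by
        rw [← Subgroup.coe_pow, ← pow_mul, Nat.div_mul_cancel hdvd, pow_orderOf_eq_one]; rfl⟩
    rw [Subgroup.mem_bot, OneMemClass.coe_eq_one] at hmem
    have := orderOf_dvd_of_pow_eq_one hmem
    have hpos : 0 < orderOf a / p := Nat.div_pos (Nat.le_of_dvd (orderOf_pos a) hdvd) hp.pos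
    have := Nat.le_of_dvd hpos this
    have := Nat.div_lt_self (orderOf_pos a) hp.one_lt
    omega
  · intro g hg
    rw [Subgroup.mem_normalizer_iff]
    intro x
    have h1 := Subgroup.mem_normalizer_iff.1 (hDnorm k hg) x
    constructor
    · rintro ⟨hx1, hx2⟩
      exact ⟨h1.1 hx1, by rw [conj_pow, hx2, mul_one, mul_inv_cancel]⟩
    · rintro ⟨hx1, hx2⟩
      refine ⟨h1.2 hx1, ?_⟩
      rw [conj_pow] at hx2
      exact conj_eq_one_iff.1 hx2

end H52.Ree2
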