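import Cfsg.Agent.H52.ReeTorusAct

/-!
Three-point stabilisers of a small Ree group on the cosets of its Borel subgroup.
-/

set_option autoImplicit false
set_option linter.unusedSectionVars false

namespace H52.Ree2

open Cfsg.Lie

section general

variable {G X : Type*} [Group G] [MulAction G X]

theorem card_stab3_smul (g : G) (x y z : X) :
    Nat.card ↥(MulAction.stabilizer G (g • x) ⊓ MulAction.stabilizer G (g • y) ⊓
        MulAction.stabilizer G (g • z)) =
      Nat.card ↥(MulAction.stabilizer G x ⊓ MulAction.stabilizer G y ⊓ MulAction.stabilizer G z) := by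
  rw [MulAction.stabilizer_smul_eq_stabilizer_map_conj, MulAction.stabilizer_smul_eq_stabilizer_map_conj,
    MulAction.stabilizer_smul_eq_stabilizer_map_conj,
    ← Subgroup.map_inf _ _ _ (MulEquiv.injective (MulAut.conj g)),
    ← Subgroup.map_inf _ _ _ (MulEquiv.injective (MulAut.conj g))]
  exact Subgroup.card_map_of_injective (MulEquiv.injective (MulAut.conj g))

end general

variable {K : Type*} [Field K] [Fintype K] {m : ℕ} (hK : Fintype.card K = 3 ^ (2 * m + 1))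

/-- The Borel subgroup inside the group. -/
abbrev RBsub (K : Type*) [Field K] (m : ℕ) : Subgroup ↥(RG K m) := (RB K m).subgroupOf (RG K m)

/-- The reflection as an element of the group. -/
noncomputable def mR (hK : Fintype.card K = 3 ^ (2 * m + 1)) : ↥(RG K m) := ⟨mEl K, mEl_mem hK⟩

include hK

theorem neg_one_units : (-1 : Kˣ) ≠ 1 := by
  intro h
  have h2 : (2 : K) = 0 := by
    have h' : (-1 : K) = 1 := by simpa using congrArg Units.val h
    linear_combination -h'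
  have h3 := three_eq_zero hK
  exact one_ne_zero (show (1 : K) = 0 by linear_combination h3 - h2)

theorem mk_cases (g : ↥(RG K m)) :
    (QuotientGroup.mk g : ↥(RG K m) ⧸ RBsub K m) = QuotientGroup.mk 1 ∨
      ∃ u : ↥(RG K m), (u : GL chevG2.Idx K) ∈ RU K m ∧
        (QuotientGroup.mk g : ↥(RG K m) ⧸ RBsub K m) = QuotientGroup.mk (u * mR hK) := by
  rcases bruhat hK g.2 with h | ⟨b, hb, u, hu, e⟩
  · left
    rw [QuotientGroup.eq]
    simpa [Subgroup.mem_subgroupOf] using inv_mem h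
  · -- g⁻¹ = u⁻¹ m⁻¹ b⁻¹ lies in the big cell
    rcases bruhat hK (inv_mem g.2) with h' | ⟨b', hb', u', hu', e'⟩
    · left
      rw [QuotientGroup.eq]
      simpa [Subgroup.mem_subgroupOf] using h'
    · right
      refine ⟨⟨u'⁻¹, inv_mem (Subgroup.mem_inf.1 hu').2⟩, inv_mem hu', ?_⟩
      rw [QuotientGroup.eq, Subgroup.mem_subgroupOf]
      have hmm := H_le_B' hK (mm_mem_H hK)
      show (g : GL chevG2.Idx K)⁻¹ * (u'⁻¹ * mEl K) ∈ RB K m
      rw [e', show b' * mEl K * u' * (u'⁻¹ * mEl K) = b' * (mEl K * mEl K) by group]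
      exact mul_mem hb' hmm

theorem stab_one : MulAction.stabilizer ↥(RG K m) (QuotientGroup.mk 1 : ↥(RG K m) ⧸ RBsub K m) =
    RBsub K m := MulAction.stabilizer_quotient (RBsub K m)

theorem mem_stab {g z : ↥(RG K m)} :
    g ∈ MulAction.stabilizer ↥(RG K m) (QuotientGroup.mk z : ↥(RG K m) ⧸ RBsub K m) ↔
      (z : GL chevG2.Idx K)⁻¹ * g * z ∈ RB K m := by
  rw [MulAction.mem_stabilizer_iff, MulAction.Quotient.smul_mk, eq_comm, QuotientGroup.eq,
    Subgroup.mem_subgroupOf]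
  simp [mul_assoc]

theorem mem_stab_two {g : ↥(RG K m)}
    (h1 : g ∈ MulAction.stabilizer ↥(RG K m) (QuotientGroup.mk 1 : ↥(RG K m) ⧸ RBsub K m))
    (h2 : g ∈ MulAction.stabilizer ↥(RG K m) (QuotientGroup.mk (mR hK) : ↥(RG K m) ⧸ RBsub K m)) :
    (g : GL chevG2.Idx K) ∈ RH K m := by
  rw [mem_stab hK] at h1 h2
  simp only [OneMemClass.coe_one, inv_one, one_mul, mul_one] at h1
  obtain ⟨u, hu, h, hh, e⟩ := exists_UH hK h1
  have hmm := (Subgroup.mem_inf.1 (H_le_B' hK (mm_mem_H hK))).1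
  have hu1 : u = 1 := by
    refine m_U_m_inter_B hK hu ?_
    have hb : mEl K * (g : GL chevG2.Idx K) * (mEl K)⁻¹ ∈ chevG2.borelSubgroup K := by
      rw [show mEl K * (g : GL chevG2.Idx K) * (mEl K)⁻¹ =
        (mEl K * mEl K) * ((mEl K)⁻¹ * g * mEl K) * (mEl K * mEl K)⁻¹ by group]
      exact mul_mem (mul_mem hmm (Subgroup.mem_inf.1 h2).1) (inv_mem hmm)
    rw [show mEl K * u * (mEl K)⁻¹ = mEl K * (g : GL chevG2.Idx K) * (mEl K)⁻¹ *
      (mEl K * h * (mEl K)⁻¹)⁻¹ by rw [e]; group, m_conj_H hK hh, inv_inv]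
    exact mul_mem hb (Subgroup.mem_inf.1 (H_le_B' hK hh)).1
  rw [e, hu1, one_mul]
  exact hh

theorem mem_stab_third {g u : ↥(RG K m)} (hg : (g : GL chevG2.Idx K) ∈ RH K m)
    (hu : (u : GL chevG2.Idx K) ∈ RU K m) :
    g ∈ MulAction.stabilizer ↥(RG K m) (QuotientGroup.mk (u * mR hK) : ↥(RG K m) ⧸ RBsub K m) ↔
      (g : GL chevG2.Idx K) * u * (g : GL chevG2.Idx K)⁻¹ = u := by
  rw [mem_stab hK]
  simp only [Subgroup.coe_mul, mR]
  have hi : mEl K * (g : GL chevG2.Idx K) * (mEl K)⁻¹ = (g : GL chevG2.Idx K)⁻¹ := m_conj_H hK hg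
  have key : (mEl K)⁻¹ * (g : GL chevG2.Idx K) = (g : GL chevG2.Idx K)⁻¹ * (mEl K)⁻¹ := by
    rw [← hi]
    have := m_conj_H hK (inv_mem hg)
    rw [inv_inv] at this
    calc (mEl K)⁻¹ * (g : GL chevG2.Idx K) = (mEl K)⁻¹ * (mEl K * (g : GL chevG2.Idx K)⁻¹ * (mEl K)⁻¹) := by
          rw [this]
      _ = (g : GL chevG2.Idx K)⁻¹ * (mEl K)⁻¹ := by group
      _ = _ := by rw [hi]
  have eq : ((u : GL chevG2.Idx K) * mEl K)⁻¹ * g * ((u : GL chevG2.Idx K) * mEl K) =
      (((u : GL chevG2.Idx K) * mEl K)⁻¹ * (((g : GL chevG2.Idx K) * u * (g : GL chevG2.Idx K)⁻¹) * mEl K)) *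
        ((mEl K)⁻¹ * g * mEl K) := by group
  have hgB : (mEl K)⁻¹ * (g : GL chevG2.Idx K) * mEl K ∈ RB K m := by
    rw [key, inv_mul_cancel_right]
    exact inv_mem (H_le_B' hK hg)
  rw [eq]
  constructor
  · intro h
    refine (cell_unique hK hu (H_conj_U hK hg hu) ?_).symm
    exact (Subgroup.mem_inf.1 ((Subgroup.mul_mem_cancel_right _ hgB).1 h)).1
  · intro h
    rw [h, inv_mul_cancel, one_mul]
    exact hgB

theorem hA_neg_ne : hA hK (-1 : Kˣ) ≠ 1 := fun h =>
  neg_one_units hK ((hA_inj hK).1 (h.trans (hA_one hK).symm))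

theorem three_point :
    (∀ x y z : ↥(RG K m) ⧸ RBsub K m, x ≠ y → x ≠ z → y ≠ z →
        Nat.card ↥(MulAction.stabilizer ↥(RG K m) x ⊓ MulAction.stabilizer ↥(RG K m) y ⊓
          MulAction.stabilizer ↥(RG K m) z) ≤ 2) ∧
      ∃ x y z : ↥(RG K m) ⧸ RBsub K m, x ≠ y ∧ x ≠ z ∧ y ≠ z ∧
        Nat.card ↥(MulAction.stabilizer ↥(RG K m) x ⊓ MulAction.stabilizer ↥(RG K m) y ⊓
          MulAction.stabilizer ↥(RG K m) z) = 2 := by
  classical
  let jj : ↥(RG K m) := ⟨hA hK (-1), (Subgroup.mem_inf.1 (hA_mem hK _)).2⟩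
  have base : ∀ u : ↥(RG K m), (u : GL chevG2.Idx K) ∈ RU K m → u ≠ 1 →
      Nat.card ↥(MulAction.stabilizer ↥(RG K m) (QuotientGroup.mk 1 : ↥(RG K m) ⧸ RBsub K m) ⊓
        MulAction.stabilizer ↥(RG K m) (QuotientGroup.mk (mR hK) : ↥(RG K m) ⧸ RBsub K m) ⊓
        MulAction.stabilizer ↥(RG K m) (QuotientGroup.mk (u * mR hK) : ↥(RG K m) ⧸ RBsub K m)) ≤ 2 := by
    intro u hu hu1
    refine (Nat.card_mono (Set.toFinite ({1, jj} : Set ↥(RG K m))) ?_).trans ?_
    · intro g hg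
      obtain ⟨h12, h3⟩ := Subgroup.mem_inf.1 hg
      obtain ⟨h1, h2⟩ := Subgroup.mem_inf.1 h12
      have hH := mem_stab_two hK h1 h2
      obtain ⟨a, ha⟩ := exists_hA hK hH
      obtain ⟨t, v, w, hw⟩ := exists_uW hK hu
      have hne : ¬(t = 0 ∧ v = 0 ∧ w = 0) := fun ⟨e1, e2, e3⟩ =>
        hu1 (Subtype.ext (by rw [hw, e1, e2, e3, uW_zero hK]; rfl))
      have h3' := (mem_stab_third hK hH hu).1 h3
      rw [ha, hw] at h3'
      have h2a := congrArg Units.val (hA_centralize hK hne h3').1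
      simp only [Units.val_pow_eq_pow_val, Units.val_one, sq_eq_one_iff] at h2a
      rcases h2a with e | e
      · left; exact Subtype.ext (by rw [ha, show a = 1 from Units.ext e, hA_one hK]; rfl)
      · right; exact Subtype.ext (by rw [ha, show a = -1 from Units.ext (by simpa using e)])
    · calc Nat.card ↥({1, jj} : Set ↥(RG K m)) ≤ ({1, jj} : Finset ↥(RG K m)).card := by
            rw [Nat.card_coe_set_eq, ← Set.ncard_coe_finset]; simp
        _ ≤ 2 := Finset.card_le_two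
  refine ⟨fun x y z hxy hxz hyz => ?_, ?_⟩
  · obtain ⟨g, rfl⟩ := QuotientGroup.mk_surjective x
    obtain ⟨k, rfl⟩ := QuotientGroup.mk_surjective y
    obtain ⟨l, rfl⟩ := QuotientGroup.mk_surjective z
    rw [← card_stab3_smul g⁻¹]
    simp only [MulAction.Quotient.smul_mk, smul_eq_mul, inv_mul_cancel]
    rcases mk_cases hK (g⁻¹ * k) with h | ⟨u, hu, h⟩
    · exact absurd (MulAction.injective (α := ↥(RG K m)) g⁻¹
        (show (g⁻¹ : ↥(RG K m)) • (QuotientGroup.mk g : ↥(RG K m) ⧸ RBsub K m) = g⁻¹ • QuotientGroup.mk k by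
          simp only [MulAction.Quotient.smul_mk, smul_eq_mul, inv_mul_cancel, h])) hxy
    rw [h, ← card_stab3_smul u⁻¹]
    simp only [MulAction.Quotient.smul_mk, smul_eq_mul, inv_mul_cancel_left, mul_one]
    have hu1 : (QuotientGroup.mk u⁻¹ : ↥(RG K m) ⧸ RBsub K m) = QuotientGroup.mk 1 := by
      rw [QuotientGroup.eq, Subgroup.mem_subgroupOf]
      simpa using U_le_B hK hu
    rw [hu1]
    rcases mk_cases hK (u⁻¹ * (g⁻¹ * l)) with h' | ⟨v, hv, h'⟩
    · refine absurd (MulAction.injective (α := ↥(RG K m)) g⁻¹ (MulAction.injective (α := ↥(RG K m)) u⁻¹ ?_)) hxz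
      simp only [MulAction.Quotient.smul_mk, smul_eq_mul, inv_mul_cancel, mul_one, h', hu1]
    rw [h']
    refine base v hv ?_
    rintro rfl
    refine hyz (MulAction.injective (α := ↥(RG K m)) g⁻¹ (MulAction.injective (α := ↥(RG K m)) u⁻¹ ?_))
    have hk : (g⁻¹ : ↥(RG K m)) • (QuotientGroup.mk k : ↥(RG K m) ⧸ RBsub K m) =
        QuotientGroup.mk (u * mR hK) := by rw [MulAction.Quotient.smul_mk, smul_eq_mul]; exact h
    show (u⁻¹ : ↥(RG K m)) • ((g⁻¹ : ↥(RG K m)) • (QuotientGroup.mk k : ↥(RG K m) ⧸ RBsub K m)) =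
      u⁻¹ • (g⁻¹ • QuotientGroup.mk l)
    rw [hk]
    simp only [MulAction.Quotient.smul_mk, smul_eq_mul, inv_mul_cancel_left, h', one_mul]
  · let u0 : ↥(RG K m) := ⟨uW m 0 1 0, (Subgroup.mem_inf.1 (uW_mem_U hK _ _ _)).2⟩
    have hu0 : (u0 : GL chevG2.Idx K) ∈ RU K m := uW_mem_U hK _ _ _
    have hu1 : u0 ≠ 1 := fun h => by
      have := congrArg Subtype.val h
      simp only [u0, OneMemClass.coe_one, ← uW_zero (m := m) hK, uW_inj hK] at this
      exact one_ne_zero this.2.1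
    refine ⟨QuotientGroup.mk 1, QuotientGroup.mk (mR hK), QuotientGroup.mk (u0 * mR hK), ?_, ?_, ?_, ?_⟩
    · rw [ne_eq, QuotientGroup.eq, Subgroup.mem_subgroupOf]
      simpa [mR] using fun h => mEl_not_mem_B hK (Subgroup.mem_inf.1 h).1
    · rw [ne_eq, QuotientGroup.eq, Subgroup.mem_subgroupOf]
      simp only [inv_one, one_mul, Subgroup.coe_mul]
      intro h
      refine mEl_not_mem_B hK (Subgroup.mem_inf.1 (?_ : mEl K ∈ RB K m)).1
      simpa [mR] using mul_mem (inv_mem (U_le_B hK hu0)) h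
    · rw [ne_eq, QuotientGroup.eq, Subgroup.mem_subgroupOf]
      intro h
      refine hu1 (Subtype.ext ?_)
      have := cell_unique hK (one_mem (RU K m)) hu0 (by simpa [mR] using (Subgroup.mem_inf.1 h).1)
      simpa using this.symm
    · refine le_antisymm (base u0 hu0 hu1) ?_
      have hjH : (jj : GL chevG2.Idx K) ∈ RH K m := hA_mem hK _
      have hjmem : jj ∈ MulAction.stabilizer ↥(RG K m) (QuotientGroup.mk 1 : ↥(RG K m) ⧸ RBsub K m) ⊓
          MulAction.stabilizer ↥(RG K m) (QuotientGroup.mk (mR hK) : ↥(RG K m) ⧸ RBsub K m) ⊓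
          MulAction.stabilizer ↥(RG K m) (QuotientGroup.mk (u0 * mR hK) : ↥(RG K m) ⧸ RBsub K m) := by
        refine Subgroup.mem_inf.2 ⟨Subgroup.mem_inf.2 ⟨?_, ?_⟩, ?_⟩
        · rw [mem_stab hK]; simpa using H_le_B' hK hjH
        · rw [mem_stab hK]
          have e := m_conj_H hK (inv_mem hjH)
          have : ((mR hK : ↥(RG K m)) : GL chevG2.Idx K)⁻¹ * jj * (mR hK : ↥(RG K m)) =
              (jj : GL chevG2.Idx K)⁻¹ := by
            show (mEl K)⁻¹ * (jj : GL chevG2.Idx K) * mEl K = _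
            rw [inv_inv] at e
            conv_lhs => rw [← e]
            group
          rw [this]
          exact inv_mem (H_le_B' hK hjH)
        · rw [mem_stab_third hK hjH hu0]
          exact hA_neg_one_centralize hK 1
      have := (Subgroup.nontrivial_iff_exists_ne_one _).2
        ⟨jj, hjmem, fun h => hA_neg_ne hK (congrArg Subtype.val h)⟩
      exact Finite.one_lt_card

end H52.Ree2
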