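import Cfsg.Agent.H52.ReeSinger
import Cfsg.Agent.H52.ReePoints
import Cfsg.Agent.H39.SolubilizerUnipotent

/-!
The elements of a small Ree group by their orders, and the number of each kind.
-/

set_option autoImplicit false
set_option linter.unusedSectionVars false

namespace H52.Ree2

open Cfsg.Lie

theorem conj_pow_eq {G : Type*} [Group G] (g x : G) (n : ℕ) : (g * x * g⁻¹) ^ n = g * x ^ n * g⁻¹ :=
  conj_pow

theorem exists_prime_power_elem {G : Type*} [Group G] [Finite G] {x : G} {p : ℕ} (hd : p ∣ orderOf x) :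
    orderOf (x ^ (orderOf x / p)) = p := orderOf_pow_orderOf_div (orderOf_pos x).ne' hd

variable {K : Type*} [Field K] [Fintype K] {m : ℕ} (hK : Fintype.card K = 3 ^ (2 * m + 1))

include hK

theorem conj_eq_one' {g x : ↥(RG K m)} : g⁻¹ * x * g = 1 ↔ x = 1 := by
  rw [show g⁻¹ * x * g = g⁻¹ * x * g⁻¹⁻¹ by group, conj_eq_one_iff]

theorem card_RB : Nat.card ↥(RBsub K m) = (3 ^ (2 * m + 1)) ^ 3 * (3 ^ (2 * m + 1) - 1) := by
  rw [← card_U hK, ← card_H hK, ← Nat.card_prod,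
    Nat.card_congr (Subgroup.subgroupOfEquivOfLe (show RB K m ≤ RG K m from inf_le_right)).toEquiv]
  symm
  refine Nat.card_eq_of_bijective (fun p : ↥(RU K m) × ↥(RH K m) =>
    (⟨p.1.1 * p.2.1, Subgroup.mem_inf.2 ⟨mul_mem (Subgroup.mem_sup_left (Subgroup.mem_inf.1 p.1.2).1)
      (Subgroup.mem_sup_right (Subgroup.mem_inf.1 p.2.2).1),
      mul_mem (Subgroup.mem_inf.1 p.1.2).2 (Subgroup.mem_inf.1 p.2.2).2⟩⟩ : ↥(RB K m))) ⟨?_, ?_⟩
  · rintro ⟨⟨u, hu⟩, ⟨h, hh⟩⟩ ⟨⟨u', hu'⟩, ⟨h', hh'⟩⟩ e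
    have e' : u * h = u' * h' := congrArg Subtype.val e
    have hm : u'⁻¹ * u ∈ RU K m ⊓ RH K m := Subgroup.mem_inf.2 ⟨mul_mem (inv_mem hu') hu, by
      rw [show u'⁻¹ * u = h' * h⁻¹ by
        rw [eq_mul_inv_iff_mul_eq, mul_assoc, e', inv_mul_cancel_left]]
      exact mul_mem hh' (inv_mem hh)⟩
    rw [U_inf_H hK, Subgroup.mem_bot, inv_mul_eq_one] at hm
    subst hm
    rw [mul_right_inj] at e'
    subst e'
    rfl
  · rintro ⟨g, hg⟩
    obtain ⟨u, hu, h, hh, rfl⟩ := exists_UH hK hg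
    exact ⟨(⟨u, hu⟩, ⟨h, hh⟩), rfl⟩

theorem index_RB : (RBsub K m).index = (3 ^ (2 * m + 1)) ^ 3 + 1 := by
  have h := (RBsub K m).card_mul_index
  rw [card_RB hK, card_RG hK, ← mul_assoc] at h
  refine Nat.eq_of_mul_eq_mul_left ?_ h
  have : 3 ≤ 3 ^ (2 * m + 1) := Nat.le_self_pow (by omega) 3
  exact Nat.mul_pos (by positivity) (by omega)

theorem uW_nine {g : GL chevG2.Idx K} (hg : g ∈ RU K m) : g ^ 9 = 1 := by
  obtain ⟨t, u, v, rfl⟩ := exists_uW hK hg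
  have h : ∀ a : GL chevG2.Idx K, a ^ 3 = a * a * a := fun a => by rw [pow_succ, sq]
  rw [show 9 = 3 * 3 from rfl, pow_mul, h, h, uW_cube hK, (uW_sq_ne hK).2 rfl]

/-- Elements of order dividing 9 are conjugate into `U`. -/
theorem nine_conj_U {x : ↥(RG K m)} (hx : x ^ 9 = 1) :
    ∃ g : ↥(RG K m), ((g⁻¹ * x * g : ↥(RG K m)) : GL chevG2.Idx K) ∈ RU K m := by
  have : Fact (Nat.Prime 3) := ⟨Nat.prime_three⟩
  obtain ⟨P, hP⟩ := exists_sylow hK
  obtain ⟨k, -, hk⟩ := (Nat.dvd_prime_pow Nat.prime_three (i := orderOf x) (m := 2)).1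
    (orderOf_dvd_of_pow_eq_one hx)
  obtain ⟨g, hg⟩ := exists_conj_mem (P : Subgroup ↥(RG K m)) P.not_dvd_index (x := x) hk
  rw [hP, Subgroup.mem_subgroupOf] at hg
  exact ⟨g, hg⟩

theorem B_of_U_fusion (g x : ↥(RG K m)) (hx : (x : GL chevG2.Idx K) ∈ RU K m) (hx1 : x ≠ 1)
    (hgx : ((g * x * g⁻¹ : ↥(RG K m)) : GL chevG2.Idx K) ∈ RU K m) : g ∈ RBsub K m := by
  rw [Subgroup.mem_subgroupOf]
  refine fusion hK hx (fun e => hx1 (Subtype.ext e)) g.2 ?_
  rwa [← Subgroup.coe_inv, ← Subgroup.coe_mul, ← Subgroup.coe_mul]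

theorem count_three_part : Nat.card {x : ↥(RG K m) // orderOf x ∣ 9 ∧ orderOf x ≠ 1} =
    ((3 ^ (2 * m + 1)) ^ 3 + 1) * ((3 ^ (2 * m + 1)) ^ 3 - 1) := by
  classical
  let UG : Subgroup ↥(RG K m) := (RU K m).subgroupOf (RG K m)
  have e : Nat.card {x : ↥(RG K m) // x ∈ UG ∧ x ≠ 1} = (3 ^ (2 * m + 1)) ^ 3 - 1 := by
    have h1 : Nat.card ↥UG = (3 ^ (2 * m + 1)) ^ 3 :=
      (Nat.card_congr (Subgroup.subgroupOfEquivOfLe inf_le_right).toEquiv).trans (card_U hK)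
    letI : Fintype ↥UG := Fintype.ofFinite _
    rw [← h1, Nat.card_eq_fintype_card (α := ↥UG)]
    rw [← Nat.card_congr (Equiv.subtypeSubtypeEquivSubtypeInter (fun x => x ∈ UG) (fun x => x ≠ 1)),
      Nat.card_eq_fintype_card]
    have : Fintype.card {x : ↥UG // ¬ x = 1} = Fintype.card ↥UG - 1 := by
      rw [Fintype.card_subtype_compl, Fintype.card_subtype_eq]
    rw [← this]
    exact Fintype.card_congr (Equiv.subtypeEquivRight fun x => by simp)
  rw [← index_RB hK, ← e]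
  refine card_fused (fun x => orderOf x ∣ 9 ∧ orderOf x ≠ 1) (fun x => x ∈ UG ∧ x ≠ 1) (RBsub K m)
    (fun x hx => ⟨?_, fun h => hx.2 (orderOf_eq_one_iff.1 h)⟩) (fun x hx => ?_) (fun g x hx => ?_)
    (fun n hn x hx => ⟨?_, fun h => hx.2 (conj_eq_one_iff.1 h)⟩)
    (fun g x hx hgx => B_of_U_fusion hK g x hx.1 hx.2 hgx.1)
  · exact orderOf_dvd_of_pow_eq_one (Subtype.ext ((SubgroupClass.coe_pow _ _).trans (uW_nine hK hx.1)))
  · obtain ⟨g, hg⟩ := nine_conj_U hK (orderOf_dvd_iff_pow_eq_one.1 hx.1)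
    exact ⟨g, hg, fun h => hx.2 (orderOf_eq_one_iff.2 ((conj_eq_one' hK).1 h))⟩
  · rwa [show g * x * g⁻¹ = MulAut.conj g x by simp, MulEquiv.orderOf_eq]
  · rw [Subgroup.mem_subgroupOf, Subgroup.coe_mul, Subgroup.coe_mul, Subgroup.coe_inv]
    exact B_conj_U hK hn hx.1

theorem count_three : Nat.card {x : ↥(RG K m) // orderOf x = 3} =
    ((3 ^ (2 * m + 1)) ^ 3 + 1) * ((3 ^ (2 * m + 1)) ^ 2 - 1) := by
  classical
  rw [← index_RB hK, ← count_order_three hK]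
  have e : Nat.card {u : ↥(RU K m) // orderOf u = 3} =
      Nat.card {x : ↥(RG K m) // (x : GL chevG2.Idx K) ∈ RU K m ∧ orderOf x = 3} :=
    Nat.card_congr
      { toFun := fun u => ⟨⟨u.1.1, (Subgroup.mem_inf.1 u.1.2).2⟩, u.1.2, by
          rw [← Subgroup.orderOf_coe]; exact (Subgroup.orderOf_coe u.1).trans u.2⟩
        invFun := fun x => ⟨⟨x.1.1, x.2.1⟩, by
          rw [← Subgroup.orderOf_coe]; exact (Subgroup.orderOf_coe x.1).trans x.2.2⟩
        left_inv := fun _ => rfl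
        right_inv := fun _ => rfl }
  rw [e]
  refine card_fused _ _ (RBsub K m) (fun x hx => hx.2) (fun x hx => ?_) (fun g x hx => ?_)
    (fun n hn x hx => ⟨?_, ?_⟩)
    (fun g x hx hgx => B_of_U_fusion hK g x hx.1 (fun h => by simp [h] at hx) hgx.1)
  · obtain ⟨g, hg⟩ := nine_conj_U hK (orderOf_dvd_iff_pow_eq_one.1 (show orderOf x ∣ 9 by rw [hx]; norm_num))
    exact ⟨g, hg, by rw [orderOf_conj_inv hK, hx]⟩
  · rwa [show g * x * g⁻¹ = MulAut.conj g x by simp, MulEquiv.orderOf_eq]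
  · rw [Subgroup.coe_mul, Subgroup.coe_mul, Subgroup.coe_inv]
    exact B_conj_U hK hn hx.1
  · rw [show n * x * n⁻¹ = MulAut.conj n x by simp, MulEquiv.orderOf_eq]; exact hx.2

theorem count_psl_three : Nat.card {y : Matrix.ProjectiveSpecialLinearGroup (Fin 2) K // y ≠ 1 ∧ y ^ 3 = 1} =
    (3 ^ (2 * m + 1)) ^ 2 - 1 := by
  classical
  have := charP3 hK
  have : Fact (Nat.Prime 3) := ⟨Nat.prime_three⟩
  have hq3 : 3 ≤ 3 ^ (2 * m + 1) := Nat.le_self_pow (by omega) 3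
  set q := 3 ^ (2 * m + 1) with hq
  have hd : Nat.gcd 2 (Fintype.card K - 1) = 2 := H39.gcd_eq_two (odd_card hK)
  have hB : (H39.borelP : Subgroup (Matrix.ProjectiveSpecialLinearGroup (Fin 2) K)).index = q + 1 := by
    have h := (H39.borelP : Subgroup (Matrix.ProjectiveSpecialLinearGroup (Fin 2) K)).card_mul_index
    have h2 := H39.card_PSL2_mul (F := K)
    rw [H39.card_borelP, hd] at h
    rw [hd, hK] at h2
    rw [hK] at h
    obtain ⟨-, e, -⟩ := q_arith m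
    rw [← hq] at e
    rw [e, Nat.mul_div_cancel_left _ two_pos] at h
    have hqh : 0 < q * (2 * qh m) := Nat.mul_pos (by omega) (by omega)
    refine Nat.eq_of_mul_eq_mul_left hqh ?_
    calc q * (2 * qh m) * (H39.borelP : Subgroup (Matrix.ProjectiveSpecialLinearGroup (Fin 2) K)).index =
        2 * (q * qh m * (H39.borelP : Subgroup (Matrix.ProjectiveSpecialLinearGroup (Fin 2) K)).index) := by ring
      _ = q * (q ^ 2 - 1) := by rw [h, h2]
      _ = q * ((q + 1) * (q - 1)) := by rw [show q ^ 2 - 1 = (q + 1) * (q - 1) by simpa using Nat.sq_sub_sq q 1]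
      _ = _ := by rw [e]; ring
  have hQ : Nat.card {y : Matrix.ProjectiveSpecialLinearGroup (Fin 2) K // ∃ t : K, t ≠ 0 ∧ y = H39.transl t} = q - 1 := by
    rw [← hK, ← Fintype.card_units, ← Nat.card_eq_fintype_card (α := Kˣ)]
    symm
    refine Nat.card_eq_of_bijective (fun t => ⟨H39.transl (t : K), t, t.ne_zero, rfl⟩) ⟨fun a b h =>
      Units.ext (H39.transl_injective (congrArg Subtype.val h)), ?_⟩
    rintro ⟨y, t, ht, rfl⟩
    exact ⟨Units.mk0 t ht, rfl⟩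
  rw [show q ^ 2 - 1 = (q + 1) * (q - 1) by simpa using Nat.sq_sub_sq q 1, ← hB, ← hQ]
  have hconj : ∀ g y : Matrix.ProjectiveSpecialLinearGroup (Fin 2) K, y ≠ 1 ∧ y ^ 3 = 1 →
      g * y * g⁻¹ ≠ 1 ∧ (g * y * g⁻¹) ^ 3 = 1 := fun g y hy =>
    ⟨fun h => hy.1 (conj_eq_one_iff.1 h), by rw [conj_pow_eq, hy.2, mul_one, mul_inv_cancel]⟩
  refine card_fused _ _ H39.borelP (fun y hy => ?_) (fun y hy => ?_) hconj (fun n hn y hy => ?_)
    (fun g y hy hgy => ?_)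
  · obtain ⟨t, ht, rfl⟩ := hy
    exact ⟨H39.transl_ne_one ht, H39.transl_pow_char 3 t⟩
  · have hidx : ¬ 3 ∣ (H39.tor (H39.transl (1 : K))).index := by
      have h := (H39.tor (H39.transl (1 : K))).card_mul_index
      have h2 := H39.card_PSL2_mul (F := K)
      rw [H39.card_tor_transl, hK] at h
      rw [hd, hK, ← h, mul_left_comm] at h2
      have h3 := Nat.eq_of_mul_eq_mul_left (show 0 < q by omega) h2
      intro hdvd
      have h4 : 3 ∣ q ^ 2 - 1 := h3 ▸ dvd_mul_of_dvd_right hdvd 2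
      have h5 : 3 ∣ q ^ 2 := dvd_pow (dvd_pow_self 3 (by omega)) two_ne_zero
      have : 1 ≤ q ^ 2 := Nat.one_le_pow _ _ (by omega)
      omega
    obtain ⟨g, hg⟩ := exists_conj_mem (H39.tor (H39.transl (1 : K))) hidx (x := y) (k := 1)
      (by rw [pow_one]; exact orderOf_eq_prime hy.2 hy.1)
    obtain ⟨t, ht⟩ := (H39.tor_transl one_ne_zero).1 hg
    refine ⟨g, t, fun h0 => hy.1 ?_, ht⟩
    rw [h0, H39.transl_zero, show g⁻¹ * y * g = g⁻¹ * y * g⁻¹⁻¹ by group, conj_eq_one_iff] at ht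
    exact ht
  · obtain ⟨t, ht, rfl⟩ := hy
    exact ⟨_, fun h0 => H39.transl_ne_one ht (conj_eq_one_iff.1
      ((H39.conj_transl hn t).trans (by rw [h0, H39.transl_zero]))), H39.conj_transl hn t⟩
  · obtain ⟨t, ht, rfl⟩ := hy
    obtain ⟨s, -, hs⟩ := hgy
    exact H39.mem_borelP_of_conj ht hs

theorem index_centralizer_j : (Subgroup.centralizer {jG hK}).index = (3 ^ (2 * m + 1)) ^ 2 * qN m := by
  have h := (Subgroup.centralizer {jG hK}).card_mul_index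
  have hpos : 0 < Nat.card ↥(Subgroup.centralizer {jG hK}) := Nat.card_pos
  refine Nat.eq_of_mul_eq_mul_left hpos (h.trans ?_)
  rw [card_centralizer_j hK, qN_dvd_card hK]
  rw [show (3 ^ (2 * m + 1)) ^ 2 - 1 = (3 ^ (2 * m + 1) + 1) * (3 ^ (2 * m + 1) - 1) by
    simpa using Nat.sq_sub_sq (3 ^ (2 * m + 1)) 1]
  ring

theorem centralizer_j_mem {g : ↥(RG K m)} :
    g ∈ Subgroup.centralizer {jG hK} ↔ g * jG hK * g⁻¹ = jG hK := by
  rw [Subgroup.mem_centralizer_singleton_iff, mul_inv_eq_iff_eq_mul]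

theorem jG_sq : jG hK * jG hK = 1 := Subtype.ext (jR_sq hK)

theorem jG_order : orderOf (jG hK) = 2 := orderOf_eq_prime (by rw [sq]; exact jG_sq hK) (jG_ne hK)

theorem count_two (hm : 1 ≤ m) : Nat.card {x : ↥(RG K m) // orderOf x = 2} =
    (3 ^ (2 * m + 1)) ^ 2 * qN m := by
  rw [← index_centralizer_j hK, ← mul_one (Subgroup.centralizer {jG hK}).index]
  have : Nat.card {x : ↥(RG K m) // x = jG hK} = 1 := by simp
  rw [← this]
  refine card_fused _ _ _ (fun x hx => hx ▸ jG_order hK) (fun x hx => ?_) (fun g x hx => ?_)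
    (fun n hn x hx => by subst hx; exact (centralizer_j_mem hK).1 hn)
    (fun g x hx hgx => by subst hx; exact (centralizer_j_mem hK).2 hgx)
  · obtain ⟨g, hg⟩ := involution_conj hK hm (x := x) (fun h => by simp [h] at hx)
      (by rw [← sq, ← hx]; exact pow_orderOf_eq_one x)
    exact ⟨g, by rw [← hg]; group⟩
  · rwa [show g * x * g⁻¹ = MulAut.conj g x by simp, MulEquiv.orderOf_eq]

theorem eC_order_six {y : Matrix.ProjectiveSpecialLinearGroup (Fin 2) K} (hy : y ≠ 1) (hy3 : y ^ 3 = 1) :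
    orderOf (eC hK (Multiplicative.ofAdd 1, y)) = 6 ∧
      eC hK (Multiplicative.ofAdd 1, y) ^ 3 = jG hK := by
  obtain ⟨hinj, hj, -⟩ := eC_spec hK
  have ho : orderOf y = 3 := by
    have : Fact (Nat.Prime 3) := ⟨Nat.prime_three⟩
    exact orderOf_eq_prime hy3 hy
  refine ⟨?_, ?_⟩
  · rw [orderOf_injective _ hinj, Prod.orderOf_mk, ho, orderOf_ofAdd_eq_addOrderOf, ZMod.addOrderOf_one]
    rfl
  · rw [← map_pow, Prod.pow_mk, hy3, ← hj]
    congr 1

theorem six_cases {x : ↥(RG K m)} (hx : orderOf x = 6) (hx3 : x ^ 3 = jG hK) :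
    ∃ y : Matrix.ProjectiveSpecialLinearGroup (Fin 2) K, y ≠ 1 ∧ y ^ 3 = 1 ∧
      eC hK (Multiplicative.ofAdd 1, y) = x := by
  obtain ⟨hinj, hj, hr⟩ := eC_spec hK
  have hxC : x ∈ (eC hK).range := by
    rw [hr, Subgroup.mem_centralizer_singleton_iff, ← hx3, ← pow_succ, ← pow_succ']
  obtain ⟨⟨a, y⟩, rfl⟩ := hxC
  have e := hx3
  rw [← map_pow, ← hj] at e
  have e' := Prod.ext_iff.1 (hinj e)
  have ha : a = Multiplicative.ofAdd 1 := by
    have h1 : a ^ 3 = Multiplicative.ofAdd 1 := e'.1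
    rwa [pow_succ, sq, zmod_two_sq hK, one_mul] at h1
  subst ha
  refine ⟨y, fun hy => ?_, e'.2, rfl⟩
  subst hy
  rw [hj, jG_order hK] at hx
  omega

theorem count_six (hm : 1 ≤ m) : Nat.card {x : ↥(RG K m) // orderOf x = 6} =
    (3 ^ (2 * m + 1)) ^ 2 * qN m * ((3 ^ (2 * m + 1)) ^ 2 - 1) := by
  rw [← index_centralizer_j hK]
  have e : Nat.card {x : ↥(RG K m) // orderOf x = 6 ∧ x ^ 3 = jG hK} = (3 ^ (2 * m + 1)) ^ 2 - 1 := by
    rw [← count_psl_three hK]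
    symm
    refine Nat.card_eq_of_bijective
      (fun y => ⟨eC hK (Multiplicative.ofAdd 1, y.1), eC_order_six hK y.2.1 y.2.2⟩) ⟨fun a b h => ?_, ?_⟩
    · exact Subtype.ext (Prod.ext_iff.1 ((eC_spec hK).1 (congrArg Subtype.val h))).2
    · rintro ⟨x, hx, hx3⟩
      obtain ⟨y, h1, h2, rfl⟩ := six_cases hK hx hx3
      exact ⟨⟨y, h1, h2⟩, rfl⟩
  rw [← e]
  refine card_fused _ _ _ (fun x hx => hx.1) (fun x hx => ?_) (fun g x hx => ?_)
    (fun n hn x hx => ⟨?_, ?_⟩) (fun g x hx hgx => ?_)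
  · have h3 : orderOf (x ^ 3) = 2 := by rw [orderOf_pow, hx]; rfl
    obtain ⟨g, hg⟩ := involution_conj hK hm (x := x ^ 3) (fun h => by simp [h] at h3)
      (by rw [← sq, ← h3]; exact pow_orderOf_eq_one _)
    refine ⟨g, by rw [orderOf_conj_inv hK, hx], ?_⟩
    rw [show g⁻¹ * x * g = g⁻¹ * x * g⁻¹⁻¹ by group, conj_pow_eq, ← hg]; group
  · rwa [show g * x * g⁻¹ = MulAut.conj g x by simp, MulEquiv.orderOf_eq]
  · rw [show n * x * n⁻¹ = MulAut.conj n x by simp, MulEquiv.orderOf_eq]; exact hx.1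
  · rw [conj_pow_eq, hx.2]; exact (centralizer_j_mem hK).1 hn
  · have h := hgx.2
    rw [conj_pow_eq, hx.2] at h
    exact (centralizer_j_mem hK).2 h

theorem sq_ne_iff {x : ↥(RG K m)} : ¬ orderOf x ∣ 2 ↔ x * x ≠ 1 := by
  rw [orderOf_dvd_iff_pow_eq_one, sq]

set_option maxHeartbeats 1000000 in
/-- Elements of order dividing `q - 1`, not 2, are conjugate into `HG`. -/
theorem conj_HG {x : ↥(RG K m)} {s : ℕ} (hs : s.Prime) (hodd : Odd s) (hsq : s ∣ qh m) (hsx : s ∣ orderOf x) :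
    ∃ g, g⁻¹ * x * g ∈ HG K m := by
  obtain ⟨-, hq2, -⟩ := q_arith m
  have : Fact s.Prime := ⟨hs⟩
  have hidx : ¬ s ∣ (HG K m).index := by
    have hi := (HG K m).card_mul_index
    rw [(HG_cyclic hK).2, card_RG hK] at hi
    have hqpos : 0 < 3 ^ (2 * m + 1) - 1 := by
      have : 3 ≤ 3 ^ (2 * m + 1) := Nat.le_self_pow (by omega) 3
      omega
    have e : (HG K m).index = (3 ^ (2 * m + 1)) ^ 3 * ((3 ^ (2 * m + 1)) ^ 3 + 1) :=
      Nat.eq_of_mul_eq_mul_left hqpos (hi.trans (by ring))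
    rw [e]
    intro h
    have hq1 : ((3 ^ (2 * m + 1) : ℕ) : ZMod s) = 1 := by
      have : s ∣ 3 ^ (2 * m + 1) - 1 := hq2 ▸ dvd_mul_of_dvd_right hsq 2
      rw [← Nat.cast_one (R := ZMod s), ZMod.natCast_eq_natCast_iff]
      exact ((Nat.modEq_iff_dvd' (Nat.one_le_pow _ _ (by norm_num))).2 this).symm
    have h' := (ZMod.natCast_eq_zero_iff _ _).2 h
    generalize 3 ^ (2 * m + 1) = q0 at hq1 h'
    rw [Nat.cast_mul, Nat.cast_pow, Nat.cast_add, Nat.cast_pow, hq1, Nat.cast_one] at h'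
    norm_num at h'
    have : ((2 : ℕ) : ZMod s) = 0 := by exact_mod_cast h'
    have := (Nat.prime_dvd_prime_iff_eq hs Nat.prime_two).1 ((ZMod.natCast_eq_zero_iff _ _).1 this)
    subst this
    exact absurd hodd (by decide)
  obtain ⟨z, hz⟩ : ∃ z, z = x ^ (orderOf x / s) := ⟨_, rfl⟩
  have hzo : orderOf z = s := hz ▸ exists_prime_power_elem hsx
  have hzc : x * z = z * x := hz ▸ (Commute.self_pow x _).eq
  obtain ⟨g, hg⟩ := exists_conj_mem (HG K m) hidx (k := 1) (x := z) (by rw [hzo, pow_one])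
  have ho : orderOf (g⁻¹ * z * g) = s := by rw [orderOf_conj_inv hK, hzo]
  have hne : g⁻¹ * z * g ≠ 1 := fun h => hs.one_lt.ne' (by rw [← ho, h, orderOf_one])
  refine ⟨g, ?_⟩
  rw [← centralizer_HG hK hg (HG_sq_ne_of_odd hK hne hodd (ho ▸ pow_orderOf_eq_one _)),
    Subgroup.mem_centralizer_singleton_iff]
  calc g⁻¹ * x * g * (g⁻¹ * z * g) = g⁻¹ * (x * z) * g := by group
    _ = g⁻¹ * (z * x) * g := by rw [hzc]
    _ = _ := by group

/-- Elements whose order has a prime in `(q+1)/4` are conjugate into `L0`. -/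
theorem conj_L0 (hm : 1 ≤ m) {x : ↥(RG K m)} {s : ℕ} (hs : s.Prime) (hsq : s ∣ qp m) (hsx : s ∣ orderOf x) :
    ∃ g, g⁻¹ * x * g ∈ L0 hK := by
  set z := x ^ (orderOf x / s) with hz
  have hzo : orderOf z = s := exists_prime_power_elem hsx
  obtain ⟨g, hg⟩ := exists_conj_AT hK hm (t := z) (orderOf_dvd_iff_pow_eq_one.1 (hzo ▸ hsq))
  refine ⟨g, ?_⟩
  rw [← centralizer_AT hK hm hg (fun h => hs.one_lt.ne' (by
    rw [← hzo, (conj_eq_one' hK).1 h, orderOf_one])), Subgroup.mem_centralizer_singleton_iff]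
  calc g⁻¹ * x * g * (g⁻¹ * z * g) = g⁻¹ * (x * z) * g := by group
    _ = g⁻¹ * (z * x) * g := by rw [hz, (Commute.self_pow x _).eq]
    _ = _ := by group

theorem H_order {x g : ↥(RG K m)} (hg : g⁻¹ * x * g ∈ HG K m) : orderOf x ∣ 3 ^ (2 * m + 1) - 1 := by
  have := Subgroup.orderOf_dvd_natCard _ hg
  rwa [orderOf_conj_inv hK, (HG_cyclic hK).2] at this

theorem L_order {x g : ↥(RG K m)} (hg : g⁻¹ * x * g ∈ L0 hK) : orderOf x ∣ 2 * qp m := by
  rw [← orderOf_conj_inv hK g x, orderOf_dvd_iff_pow_eq_one]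
  exact L0_exp hK hg

theorem odd_prime_of_two_mul {n k : ℕ} (hn : n ∣ 2 * k) (h2 : ¬ n ∣ 2) :
    ∃ s, s.Prime ∧ s ∣ n ∧ s ∣ k := by
  have hg : n.gcd k ≠ 1 := fun h => h2 (Nat.Coprime.dvd_of_dvd_mul_right h hn)
  obtain ⟨s, hs, hd⟩ := Nat.exists_prime_and_dvd hg
  exact ⟨s, hs, hd.trans (Nat.gcd_dvd_left _ _), hd.trans (Nat.gcd_dvd_right _ _)⟩

theorem count_HL (hm : 1 ≤ m) :
    2 * (3 ^ (2 * m + 1) - 1) * Nat.card {x : ↥(RG K m) // orderOf x ∣ 3 ^ (2 * m + 1) - 1 ∧ ¬ orderOf x ∣ 2} =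
      (3 ^ (2 * m + 1) - 3) * Nat.card ↥(RG K m) ∧
    24 * qp m * Nat.card {x : ↥(RG K m) // orderOf x ∣ 2 * qp m ∧ ¬ orderOf x ∣ 2} =
      (3 ^ (2 * m + 1) - 3) * Nat.card ↥(RG K m) := by
  classical
  obtain ⟨hq4, hq2, hop, hoh, -⟩ := q_arith m
  have hq7 := qp_ge hm
  -- the number of elements of a subgroup with nontrivial square
  have hsub : ∀ (A : Subgroup ↥(RG K m)) (T : Finset ↥(RG K m)), (∀ x, x ∈ T ↔ x ∈ A ∧ x * x = 1) →
      Nat.card {x : ↥(RG K m) // x ∈ A ∧ ¬ orderOf x ∣ 2} = Nat.card ↥A - T.card := by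
    intro A T hT
    letI : Fintype ↥(RG K m) := Fintype.ofFinite _
    rw [Nat.card_eq_fintype_card, Nat.card_eq_fintype_card, Fintype.card_subtype, ← Fintype.card_subtype,
      Fintype.card_subtype, Fintype.card_subtype, ← Finset.card_sdiff_of_subset (fun x hx => by
        simpa using ((hT x).1 hx).1)]
    congr 1
    ext x
    simp only [Finset.mem_filter, Finset.mem_univ, true_and, Finset.mem_sdiff, hT, sq_ne_iff hK]
    tauto
  constructor
  · have hQ : Nat.card {x : ↥(RG K m) // x ∈ HG K m ∧ ¬ orderOf x ∣ 2} = 3 ^ (2 * m + 1) - 1 - 2 := by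
      rw [hsub (HG K m) {1, jG hK}, (HG_cyclic hK).2, Finset.card_pair (jG_ne hK).symm]
      intro x
      simp only [Finset.mem_insert, Finset.mem_singleton]
      constructor
      · rintro (rfl | rfl)
        · exact ⟨one_mem _, one_mul _⟩
        · exact ⟨Subgroup.mem_subgroupOf.2 (jR_mem hK |> fun h => by
            obtain ⟨h1, h2⟩ := Subgroup.mem_inf.1 h
            exact Subgroup.mem_inf.2 ⟨h1, h2⟩), jG_sq hK⟩
      · rintro ⟨h1, h2⟩
        rcases H_sq_one hK (Subgroup.mem_subgroupOf.1 h1) (congrArg Subtype.val h2) with e | e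
        · exact Or.inl (Subtype.ext e)
        · exact Or.inr (Subtype.ext e)
    have hfused : Nat.card {x : ↥(RG K m) // orderOf x ∣ 3 ^ (2 * m + 1) - 1 ∧ ¬ orderOf x ∣ 2} =
        (Subgroup.normalizer (HG K m : Set ↥(RG K m))).index *
          Nat.card {x : ↥(RG K m) // x ∈ HG K m ∧ ¬ orderOf x ∣ 2} := by
      refine card_fused _ _ _ (fun x hx => ⟨?_, hx.2⟩) (fun x hx => ?_) (fun g x hx => ?_)
        (fun n hn x hx => ⟨(Subgroup.mem_normalizer_iff.1 hn x).1 hx.1, ?_⟩)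
        (fun g x hx hgx => H_of_conj_mem hK hx.1 ((sq_ne_iff hK).1 hx.2) hgx.1)
      · exact (HG_cyclic hK).2 ▸ Subgroup.orderOf_dvd_natCard _ hx.1
      · obtain ⟨s, hs, hsx, hsq⟩ := odd_prime_of_two_mul hK (hq2 ▸ hx.1) hx.2
        obtain ⟨g, hg⟩ := conj_HG hK hs (hoh.of_dvd_nat hsq) hsq hsx
        exact ⟨g, hg, by rw [orderOf_conj_inv hK]; exact hx.2⟩
      · rwa [show g * x * g⁻¹ = MulAut.conj g x by simp, MulEquiv.orderOf_eq]
      · rw [show n * x * n⁻¹ = MulAut.conj n x by simp, MulEquiv.orderOf_eq]; exact hx.2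
    rw [hfused, hQ, ← card_normalizer_HG hK hm, ← mul_assoc, Subgroup.card_mul_index, mul_comm,
      show 3 ^ (2 * m + 1) - 1 - 2 = 3 ^ (2 * m + 1) - 3 by omega]
  · obtain ⟨k1, k2, k3, k4⟩ := kG_facts hK
    have hQ : Nat.card {x : ↥(RG K m) // x ∈ L0 hK ∧ ¬ orderOf x ∣ 2} = 3 ^ (2 * m + 1) - 3 := by
      rw [hsub (L0 hK) (VK hK : Set ↥(RG K m)).toFinset, L0_card hK]
      · rw [← Nat.card_eq_card_toFinset]
        simp only [SetLike.coe_sort_coe]
        rw [VK_card hK]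
        omega
      · intro x; rw [Set.mem_toFinset]; exact Iff.rfl
    have hfused : Nat.card {x : ↥(RG K m) // orderOf x ∣ 2 * qp m ∧ ¬ orderOf x ∣ 2} =
        (Subgroup.normalizer (AT hK : Set ↥(RG K m))).index *
          Nat.card {x : ↥(RG K m) // x ∈ L0 hK ∧ ¬ orderOf x ∣ 2} := by
      have hN := (normalizers_eq hK hm).1
      refine card_fused _ _ _ (fun x hx => ⟨?_, hx.2⟩) (fun x hx => ?_) (fun g x hx => ?_)
        (fun n hn x hx => ⟨?_, ?_⟩) (fun g x hx hgx => ?_)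
      · exact orderOf_dvd_of_pow_eq_one (L0_exp hK hx.1)
      · obtain ⟨s, hs, hsx, hsq⟩ := odd_prime_of_two_mul hK hx.1 hx.2
        obtain ⟨g, hg⟩ := conj_L0 hK hm hs hsq hsx
        exact ⟨g, hg, by rw [orderOf_conj_inv hK]; exact hx.2⟩
      · rwa [show g * x * g⁻¹ = MulAut.conj g x by simp, MulEquiv.orderOf_eq]
      · rw [hN] at hn; exact (Subgroup.mem_normalizer_iff.1 hn x).1 hx.1
      · rw [show n * x * n⁻¹ = MulAut.conj n x by simp, MulEquiv.orderOf_eq]; exact hx.2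
      · rw [hN]
        refine AT_conj_mem hK hm (t := x * x) ⟨mul_mem hx.1 hx.1, ?_⟩ ((sq_ne_iff hK).1 hx.2) ?_
        · rw [← sq, ← pow_mul]; exact L0_exp hK hx.1
        · rw [show g * (x * x) * g⁻¹ = g * x * g⁻¹ * (g * x * g⁻¹) by group]
          exact ⟨mul_mem hgx.1 hgx.1, by rw [← sq, ← pow_mul]; exact L0_exp hK hgx.1⟩
    rw [hfused, hQ, ← card_normalizer_AT hK hm, ← mul_assoc, Subgroup.card_mul_index, mul_comm]

/-- The orders of elements. -/
theorem order_cases (hm : 1 ≤ m) (x : ↥(RG K m)) :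
    orderOf x = 1 ∨ orderOf x = 2 ∨ (orderOf x ∣ 9 ∧ orderOf x ≠ 1) ∨ orderOf x = 6 ∨
      (orderOf x ∣ 3 ^ (2 * m + 1) - 1 ∧ ¬ orderOf x ∣ 2) ∨ (orderOf x ∣ 2 * qp m ∧ ¬ orderOf x ∣ 2) ∨
      (orderOf x ∣ qN m ∧ orderOf x ≠ 1) := by
  classical
  obtain ⟨hq4, hq2, hop, hoh, h3p, h3h, -, -⟩ := q_arith m
  by_cases h1 : orderOf x = 1
  · exact Or.inl h1
  by_cases h2 : orderOf x = 2
  · exact Or.inr (Or.inl h2)
  have hn2 : ¬ orderOf x ∣ 2 := fun h => by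
    rcases (Nat.dvd_prime Nat.prime_two).1 h with e | e
    · exact h1 e
    · exact h2 e
  by_cases hN : ∃ p, p.Prime ∧ p ∣ orderOf x ∧ p ∣ qN m
  · obtain ⟨p, hp, hpx, hpN⟩ := hN
    have h := (centralizer_prime hK hm hp hpN (exists_prime_power_elem hpx)).2
    have hx : x ∈ Subgroup.centralizer {x ^ (orderOf x / p)} :=
      Subgroup.mem_centralizer_singleton_iff.2 (Commute.self_pow x _).eq
    exact Or.inr (Or.inr (Or.inr (Or.inr (Or.inr (Or.inr
      ⟨(Subgroup.orderOf_dvd_natCard _ hx).trans h, h1⟩)))))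
  by_cases hH : ∃ s, s.Prime ∧ s ∣ orderOf x ∧ s ∣ qh m
  · obtain ⟨s, hs, hsx, hsq⟩ := hH
    obtain ⟨g, hg⟩ := conj_HG hK hs (hoh.of_dvd_nat hsq) hsq hsx
    exact Or.inr (Or.inr (Or.inr (Or.inr (Or.inl ⟨H_order hK hg, hn2⟩))))
  by_cases hL : ∃ s, s.Prime ∧ s ∣ orderOf x ∧ s ∣ qp m
  · obtain ⟨s, hs, hsx, hsq⟩ := hL
    obtain ⟨g, hg⟩ := conj_L0 hK hm hs hsq hsx
    exact Or.inr (Or.inr (Or.inr (Or.inr (Or.inr (Or.inl ⟨L_order hK hg, hn2⟩)))))
  push Not at hN hH hL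
  have hprimes : ∀ s, s.Prime → s ∣ orderOf x → s = 2 ∨ s = 3 := by
    intro s hs hsx
    by_contra hne
    push Not at hne
    have hd := hsx.trans (orderOf_dvd_natCard x)
    rw [qN_dvd_card hK, hq4, hq2] at hd
    have e2 : ¬ s ∣ 2 := fun h => hne.1 ((Nat.prime_dvd_prime_iff_eq hs Nat.prime_two).1 h)
    have e4 : ¬ s ∣ 4 := fun h => e2 (hs.dvd_of_dvd_pow (show s ∣ 2 ^ 2 from h))
    rcases hs.dvd_mul.1 hd with h | h
    · rcases hs.dvd_mul.1 h with h | h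
      · rcases hs.dvd_mul.1 h with h | h
        · exact hne.2 ((Nat.prime_dvd_prime_iff_eq hs Nat.prime_three).1 (hs.dvd_of_dvd_pow (hs.dvd_of_dvd_pow h)))
        · exact hH s hs hsx ((hs.dvd_mul.1 h).resolve_left e2)
      · exact hL s hs hsx ((hs.dvd_mul.1 h).resolve_left e4)
    · exact hN s hs hsx h
  by_cases heven : 2 ∣ orderOf x
  · -- inside the centraliser of an involution
    right; right; right; left
    obtain ⟨hinj, hj, hr⟩ := eC_spec hK
    have := charP3 hK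
    have : Fact (Nat.Prime 3) := ⟨Nat.prime_three⟩
    set z := x ^ (orderOf x / 2) with hz
    have hzo : orderOf z = 2 := exists_prime_power_elem heven
    obtain ⟨g, hg⟩ := involution_conj hK hm (x := z) (fun h => by simp [h] at hzo)
      (by rw [← sq, ← hzo]; exact pow_orderOf_eq_one z)
    have hmem : g⁻¹ * x * g ∈ (eC hK).range := by
      rw [hr, Subgroup.mem_centralizer_singleton_iff, show jG hK = g⁻¹ * z * g by rw [← hg]; group]
      calc g⁻¹ * x * g * (g⁻¹ * z * g) = g⁻¹ * (x * z) * g := by group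
        _ = g⁻¹ * (z * x) * g := by rw [hz, (Commute.self_pow x _).eq]
        _ = _ := by group
    obtain ⟨⟨a, y⟩, hy⟩ := hmem
    have ho : orderOf x = Nat.lcm (orderOf a) (orderOf y) := by
      rw [← orderOf_conj_inv hK g x, ← hy, orderOf_injective _ hinj, Prod.orderOf_mk]
    have ha : orderOf a ∣ 2 := orderOf_dvd_of_pow_eq_one (by rw [sq]; exact zmod_two_sq hK a)
    have hy3 : y ^ 3 = 1 := by
      by_contra h3
      have hss := H39.orderOf_dvd_of_ss 3 h3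
      rw [H39.gcd_eq_two (odd_card hK), hK, hq4, hq2] at hss
      rw [Nat.mul_div_cancel_left _ two_pos, show 4 * qp m / 2 = 2 * qp m by omega] at hss
      have hy2 : orderOf y ∣ 2 := by
        by_contra hy2
        rcases hss with h | h
        · obtain ⟨s, hs, hsy, hsq⟩ := odd_prime_of_two_mul hK h hy2
          exact hL s hs (ho ▸ hsy.trans (Nat.dvd_lcm_right _ _)) hsq
        · obtain ⟨s, hs, hsy⟩ := Nat.exists_prime_and_dvd (show orderOf y ≠ 1 from fun e => hy2 (by rw [e]; norm_num))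
          exact hH s hs (ho ▸ hsy.trans (Nat.dvd_lcm_right _ _)) (hsy.trans h)
      exact hn2 (ho ▸ Nat.lcm_dvd ha hy2)
    have h6 : orderOf x ∣ 6 :=
      ho ▸ Nat.lcm_dvd (ha.trans (by norm_num)) ((orderOf_dvd_of_pow_eq_one hy3).trans (by norm_num))
    generalize orderOf x = d at h6 hn2 heven
    have h7 := Nat.le_of_dvd (by norm_num) h6
    interval_cases d <;> omega
  · right; right; left
    refine ⟨?_, h1⟩
    have : Fact (Nat.Prime 3) := ⟨Nat.prime_three⟩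
    have hpow : orderOf x = 3 ^ (orderOf x).primeFactorsList.length :=
      Nat.eq_prime_pow_of_unique_prime_dvd (orderOf_pos x).ne' fun {d} hd hdx =>
        (hprimes d hd hdx).resolve_left (fun e => heven (e ▸ hdx))
    obtain ⟨P, hP⟩ := exists_sylow hK
    obtain ⟨g, hg⟩ := exists_conj_mem (P : Subgroup ↥(RG K m)) P.not_dvd_index hpow
    rw [hP, Subgroup.mem_subgroupOf] at hg
    rw [← orderOf_conj_inv hK g x]
    exact orderOf_dvd_of_pow_eq_one (Subtype.ext ((SubgroupClass.coe_pow _ _).trans (uW_nine hK hg)))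

set_option maxHeartbeats 2000000 in
theorem count_qN (hm : 1 ≤ m) :
    3 * qN m * Nat.card {x : ↥(RG K m) // orderOf x ∣ qN m ∧ orderOf x ≠ 1} =
      3 ^ (2 * m + 1) * (3 ^ (2 * m + 1) - 2) * Nat.card ↥(RG K m) := by
  classical
  letI : Fintype ↥(RG K m) := Fintype.ofFinite _
  obtain ⟨hq4, hq2, hop, hoh, h3p, h3h, hco, -⟩ := q_arith m
  have hcopN : ∀ n k, n ∣ qN m → n ∣ k → k ∣ (3 ^ (2 * m + 1)) ^ 3 * (3 ^ (2 * m + 1) - 1) * (3 ^ (2 * m + 1) + 1) →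
      n = 1 := fun n k h1 h2 h3 => Nat.eq_one_of_dvd_coprimes (qN_coprime m) h1 (h2.trans h3)
  have h9 : ∀ k, ¬ 3 ∣ k → Nat.Coprime 9 k := fun k hk =>
    Nat.Coprime.pow_left 2 (Nat.prime_three.coprime_iff_not_dvd.2 hk)
  have h3q1 : ¬ 3 ∣ 3 ^ (2 * m + 1) - 1 := fun h => by
    rw [hq2] at h; exact h3h ((Nat.Coprime.dvd_of_dvd_mul_left (by norm_num) h))
  have h32p : ¬ 3 ∣ 2 * qp m := fun h => h3p (Nat.Coprime.dvd_of_dvd_mul_left (by norm_num) h)
  have hq6 : 9 ∣ (3 ^ (2 * m + 1)) ^ 3 :=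
    ⟨3 ^ ((2 * m + 1) * 3 - 2), by rw [show 9 = 3 ^ 2 from rfl, ← pow_add, ← pow_mul]; congr 1; omega⟩
  have hcases := order_cases hK hm
  set n : ↥(RG K m) → ℕ := orderOf
  -- exactly one kind for each element
  have hone : ∀ x, (if n x = 1 then 1 else 0) + (if n x = 2 then 1 else 0) +
      (if n x ∣ 9 ∧ n x ≠ 1 then 1 else 0) + (if n x = 6 then 1 else 0) +
      (if n x ∣ 3 ^ (2 * m + 1) - 1 ∧ ¬ n x ∣ 2 then 1 else 0) +
      (if n x ∣ 2 * qp m ∧ ¬ n x ∣ 2 then 1 else 0) +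
      (if n x ∣ qN m ∧ n x ≠ 1 then 1 else 0) = 1 := by
    intro x
    have a9H : n x ∣ 9 → n x ∣ 3 ^ (2 * m + 1) - 1 → n x = 1 := fun h h' => Nat.eq_one_of_dvd_coprimes (h9 _ h3q1) h h'
    have a9L : n x ∣ 9 → n x ∣ 2 * qp m → n x = 1 := fun h h' => Nat.eq_one_of_dvd_coprimes (h9 _ h32p) h h'
    have a9N : n x ∣ 9 → n x ∣ qN m → n x = 1 := fun h h' =>
      hcopN _ _ h' h (hq6.trans ((dvd_mul_right _ _).trans (dvd_mul_right _ _)))
    have aHN : n x ∣ 3 ^ (2 * m + 1) - 1 → n x ∣ qN m → n x = 1 := fun h h' =>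
      hcopN _ _ h' h ((dvd_mul_left _ _).trans (dvd_mul_right _ _))
    have aLN : n x ∣ 2 * qp m → n x ∣ qN m → n x = 1 := fun h h' =>
      hcopN _ _ h' h ((show 2 * qp m ∣ 3 ^ (2 * m + 1) + 1 by rw [hq4]; exact ⟨2, by ring⟩).trans (dvd_mul_left _ _))
    have aHL : n x ∣ 3 ^ (2 * m + 1) - 1 → n x ∣ 2 * qp m → n x ∣ 2 := fun h h' => by
      have := Nat.dvd_gcd h h'
      rwa [hq2, Nat.gcd_mul_left, Nat.Coprime.gcd_eq_one hco.symm, mul_one] at this
    have b2N : n x = 2 → ¬ n x ∣ qN m := fun e h => by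
      rw [e] at h; exact (qN_odd m).not_two_dvd_nat h
    have b6H : n x = 6 → ¬ n x ∣ 3 ^ (2 * m + 1) - 1 := fun e h => by
      rw [e] at h; exact h3q1 ((show 3 ∣ 6 by norm_num).trans h)
    have b6L : n x = 6 → ¬ n x ∣ 2 * qp m := fun e h => by
      rw [e] at h; exact h32p ((show 3 ∣ 6 by norm_num).trans h)
    have b6N : n x = 6 → ¬ n x ∣ qN m := fun e h => by
      rw [e] at h; exact (qN_odd m).not_two_dvd_nat ((show 2 ∣ 6 by norm_num).trans h)
    have b29 : n x = 2 → ¬ n x ∣ 9 := fun e h => by rw [e] at h; omega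
    have b69 : n x = 6 → ¬ n x ∣ 9 := fun e h => by rw [e] at h; omega
    have b22 : n x = 2 → n x ∣ 2 := fun e => by rw [e]
    have b12 : n x = 1 → n x ∣ 2 := fun e => by rw [e]; norm_num
    rcases hcases x with h | h | ⟨h, h'⟩ | h | ⟨h, h'⟩ | ⟨h, h'⟩ | ⟨h, h'⟩
    · simp [h]
    · simp [h, (show ¬ (2 : ℕ) ∣ 9 by norm_num), (qN_odd m).not_two_dvd_nat]
    · have i2 : n x ≠ 2 := fun e => b29 e h
      have i6 : n x ≠ 6 := fun e => b69 e h
      simp [h, h', i2, i6, show ¬ n x ∣ 3 ^ (2 * m + 1) - 1 from fun e => h' (a9H h e),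
        show ¬ n x ∣ 2 * qp m from fun e => h' (a9L h e), show ¬ n x ∣ qN m from fun e => h' (a9N h e)]
    · simp [h, (show ¬ (6 : ℕ) ∣ 9 by norm_num), show ¬ (6 : ℕ) ∣ 3 ^ (2 * m + 1) - 1 from h ▸ b6H h,
        show ¬ (6 : ℕ) ∣ 2 * qp m from h ▸ b6L h, show ¬ (6 : ℕ) ∣ qN m from h ▸ b6N h]
    · have i1 : n x ≠ 1 := fun e => h' (b12 e)
      have i2 : n x ≠ 2 := fun e => h' (b22 e)
      have i6 : n x ≠ 6 := fun e => b6H e h
      simp [h, h', i1, i2, i6, show ¬ n x ∣ 9 from fun e => i1 (a9H e h),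
        show ¬ n x ∣ 2 * qp m from fun e => h' (aHL h e), show ¬ n x ∣ qN m from fun e => i1 (aHN h e)]
    · have i1 : n x ≠ 1 := fun e => h' (b12 e)
      have i2 : n x ≠ 2 := fun e => h' (b22 e)
      have i6 : n x ≠ 6 := fun e => b6L e h
      simp [h, h', i1, i2, i6, show ¬ n x ∣ 9 from fun e => i1 (a9L e h),
        show ¬ n x ∣ 3 ^ (2 * m + 1) - 1 from fun e => h' (aHL e h), show ¬ n x ∣ qN m from fun e => i1 (aLN h e)]
    · have i2 : n x ≠ 2 := fun e => b2N e h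
      have i6 : n x ≠ 6 := fun e => b6N e h
      simp [h, h', i2, i6, show ¬ n x ∣ 9 from fun e => h' (a9N e h),
        show ¬ n x ∣ 3 ^ (2 * m + 1) - 1 from fun e => h' (aHN e h), show ¬ n x ∣ 2 * qp m from fun e => h' (aLN e h)]
  have hsum := congrArg (fun f => ∑ x : ↥(RG K m), f x) (funext hone : _ = fun _ => 1)
  simp only [Finset.sum_add_distrib, ← Finset.card_filter, ← Fintype.card_subtype, ← Nat.card_eq_fintype_card,
    Finset.sum_const, Finset.card_univ, smul_eq_mul, mul_one] at hsum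
  have e1 : Nat.card {x : ↥(RG K m) // n x = 1} = 1 := by
    rw [Nat.card_congr (Equiv.subtypeEquivRight fun x => orderOf_eq_one_iff)]
    simp
  obtain ⟨eH, eL⟩ := count_HL hK hm
  rw [e1, count_two hK hm, count_three_part hK, count_six hK hm] at hsum
  have hG := qN_dvd_card hK
  obtain ⟨hN1, -⟩ := qN_eq m
  set q := 3 ^ (2 * m + 1) with hq
  have hq3 : 27 ≤ q := le_trans (by norm_num) (Nat.pow_le_pow_right (by norm_num : 0 < 3) (show 3 ≤ 2 * m + 1 by omega))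
  have hq32 : 1 ≤ q ^ 3 := Nat.one_le_pow _ _ (by omega)
  have hq22 : 1 ≤ q ^ 2 := Nat.one_le_pow _ _ (by omega)
  set NH := Nat.card {x : ↥(RG K m) // n x ∣ q - 1 ∧ ¬ n x ∣ 2}
  set NL := Nat.card {x : ↥(RG K m) // n x ∣ 2 * qp m ∧ ¬ n x ∣ 2}
  set NX := Nat.card {x : ↥(RG K m) // n x ∣ qN m ∧ n x ≠ 1}
  set G := Nat.card ↥(RG K m)
  generalize qN m = N0 at hN1 hG hsum hcopN ⊢
  generalize qp m = P at eL hq4
  have eH' : 2 * ((q : ℤ) - 1) * NH = ((q : ℤ) - 3) * G := by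
    have := congrArg (fun k : ℕ => (k : ℤ)) eH
    push_cast [Nat.cast_sub (show 1 ≤ q by omega), Nat.cast_sub (show 3 ≤ q by omega)] at this
    linarith
  have eL' : 6 * ((q : ℤ) + 1) * NL = ((q : ℤ) - 3) * G := by
    have := congrArg (fun k : ℕ => (k : ℤ)) eL
    push_cast [Nat.cast_sub (show 3 ≤ q by omega)] at this
    have h4 : ((q : ℤ) + 1) = 4 * (P : ℤ) := by exact_mod_cast hq4
    rw [h4]; linarith
  have hs' := congrArg (fun k : ℕ => (k : ℤ)) hsum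
  push_cast [Nat.cast_sub hq32, Nat.cast_sub hq22] at hs'
  have hG' := congrArg (fun k : ℕ => (k : ℤ)) hG
  push_cast [Nat.cast_sub (show 1 ≤ q by omega)] at hG'
  have hN' : (N0 : ℤ) = (q : ℤ) ^ 2 - q + 1 := by
    have := congrArg (fun k : ℕ => (k : ℤ)) hN1
    push_cast at this
    linarith
  have goal' : 3 * (N0 : ℤ) * NX = (q : ℤ) * ((q : ℤ) - 2) * G := by
    have hne : ((q : ℤ) ^ 2 - 1) * 2 ≠ 0 := by
      have : (27 : ℤ) ≤ q := by exact_mod_cast hq3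
      nlinarith
    apply mul_left_cancel₀ hne
    rw [hN'] at hs' hG' ⊢
    linear_combination (6 * ((q : ℤ) ^ 2 - 1) * ((q : ℤ) ^ 2 - q + 1)) * hs' -
      (3 * ((q : ℤ) + 1) * ((q : ℤ) ^ 2 - q + 1)) * eH' - (((q : ℤ) - 1) * ((q : ℤ) ^ 2 - q + 1)) * eL' +
      (6 * (q : ℤ) ^ 3 + 6 * (q : ℤ) * ((q : ℤ) ^ 2 - q + 1)) * hG'
  have : ((3 * N0 * NX : ℕ) : ℤ) = ((q * (q - 2) * G : ℕ) : ℤ) := by
    push_cast [Nat.cast_sub (show 2 ≤ q by omega)]
    exact goal'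
  exact_mod_cast this

end H52.Ree2
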