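import Cfsg.Agent.H52.ReeTorusAct
import Cfsg.Agent.H52.RankOne
import Cfsg.Agent.H37.Card

/-!
The centraliser of an involution in a small Ree group: `Z₂ × PSL₂(q)`.
-/

set_option autoImplicit false
set_option linter.unusedSectionVars false

namespace H52.Ree2

open Cfsg.Lie

theorem pair_commute_roots :
    (∀ r ∈ [g2ab, g2mab], ∀ s ∈ [g2aaab, g2maaab],
      r < chevG2.nroots ∧ s < chevG2.nroots ∧ s ≠ r ∧ s ≠ chevG2.neg r ∧ chevG2.commTerms r s = []) ∧
    chevG2.neg g2ab = g2mab ∧ chevG2.neg g2aaab = g2maaab ∧ g2ab < chevG2.nroots ∧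
    g2aaab < chevG2.nroots := by
  decide +kernel

variable {K : Type*} [Field K] [Fintype K] {m : ℕ} (hK : Fintype.card K = 3 ^ (2 * m + 1))

/-- The power map `x ↦ x ^ 3 ^ m`. -/
noncomputable def frobE {m : ℕ} (hK : Fintype.card K = 3 ^ (2 * m + 1)) : K →+* K :=
  haveI := H54.Ree.charP_three hK
  haveI : ExpChar K 3 := ExpChar.prime (by norm_num)
  iterateFrobenius K 3 m

include hK

theorem frobE_apply (x : K) : frobE hK x = x ^ 3 ^ m := by
  rw [frobE, iterateFrobenius_def]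

theorem uW_pair (u : K) : uW m 0 u 0 = rt chevG2 g2ab (u ^ 3 ^ m) * rt chevG2 g2aaab u := by
  apply Units.ext
  rw [uW, checkedG2.coe_wordRt, Units.val_mul, checkedG2.coe_rt, checkedG2.coe_rt,
    H54.Ree.pairWord_U (three_eq_zero hK) (by positivity) u]

theorem vW_pair (u : K) : wordRt chevG2 (reeWordV (3 ^ m) 0 u 0) =
    rt chevG2 g2mab ((-u) ^ 3 ^ m) * rt chevG2 g2maaab (-u) := by
  apply Units.ext
  rw [checkedG2.coe_wordRt, Units.val_mul, checkedG2.coe_rt, checkedG2.coe_rt,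
    H54.Ree.pairWord_V (three_eq_zero hK) (by positivity) u, Odd.neg_pow (Odd.pow (by decide))]

theorem mEl_pair : mEl K = uW m 0 1 0 * wordRt chevG2 (reeWordV (3 ^ m) 0 1 0) * uW m 0 1 0 := by
  have he : 3 ^ m ≠ 0 := by positivity
  simp [mEl, mConst, uW, wordRt, reeWordU, reeWordV_eq,
    zero_pow he, mul_assoc, g2a, g2b, g2ab, g2aab, g2aaab, g2aaabb]

/-- The homomorphism from `SL₂(q)` into the centraliser of an involution. -/
theorem exists_sl2 : ∃ φ : Matrix.SpecialLinearGroup (Fin 2) K →* GL chevG2.Idx K,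
    (∀ g, φ g ∈ RG K m) ∧
    ∀ (g : Matrix.SpecialLinearGroup (Fin 2) K) (t : K),
      ((g : Matrix (Fin 2) (Fin 2) K) = !![1, t; 0, 1] → φ g = uW m 0 t 0) ∧
      ((g : Matrix (Fin 2) (Fin 2) K) = !![1, 0; t, 1] →
        φ g = wordRt chevG2 (reeWordV (3 ^ m) 0 (-t) 0)) := by
  obtain ⟨hc, n1, n2, hr1, hr2⟩ := pair_commute_roots
  obtain ⟨φ1, hm1, hφ1⟩ := (checkedG2.rankOneRel (F := K) hr1).exists_hom
  obtain ⟨φ2, hm2, hφ2⟩ := (checkedG2.rankOneRel (F := K) hr2).exists_hom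
  rw [n1] at hφ1 hm1
  rw [n2] at hφ2 hm2
  have hcomm : ∀ a b, Commute (φ1 a) (φ2 b) := by
    intro a b
    have h0 : ∀ r ∈ [g2ab, g2mab], ∀ s ∈ [g2aaab, g2maaab], ∀ t u : K,
        Commute (rt chevG2 r t) (rt chevG2 s u) := by
      intro r hr s hs t u
      obtain ⟨h1, h2, h3, h4, h5⟩ := hc r hr s hs
      have := checkedG2.comm_rt h1 h2 h3 h4 t u
      rw [ChevalleyDatum.commWord, h5] at this
      simpa [wordRt, Commute, SemiconjBy] using this.symm
    have h1 : Subgroup.closure (Set.range (fun t : K => rt chevG2 g2aaab t) ∪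
        Set.range (fun t : K => rt chevG2 g2maaab t)) ≤
        Subgroup.centralizer ({φ1 a} : Set (GL chevG2.Idx K)) := by
      rw [Subgroup.closure_le]
      intro z hz
      rw [SetLike.mem_coe, Subgroup.mem_centralizer_singleton_iff]
      have h2 : Subgroup.closure (Set.range (fun t : K => rt chevG2 g2ab t) ∪
          Set.range (fun t : K => rt chevG2 g2mab t)) ≤
          Subgroup.centralizer ({z} : Set (GL chevG2.Idx K)) := by
        rw [Subgroup.closure_le]
        rcases hz with ⟨u, rfl⟩ | ⟨u, rfl⟩ <;> rintro _ (⟨t, rfl⟩ | ⟨t, rfl⟩) <;>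
          rw [SetLike.mem_coe, Subgroup.mem_centralizer_singleton_iff] <;>
          exact (h0 _ (by simp) _ (by simp) t u).eq
      exact (Subgroup.mem_centralizer_singleton_iff.1 (h2 (hm1 a))).symm
    exact (Subgroup.mem_centralizer_singleton_iff.1 (h1 (hm2 b))).symm
  let F := Matrix.SpecialLinearGroup.map (n := Fin 2) (frobE hK)
  let φ : Matrix.SpecialLinearGroup (Fin 2) K →* GL chevG2.Idx K :=
    { toFun := fun g => φ1 (F g) * φ2 g
      map_one' := by rw [map_one F, map_one, map_one, one_mul]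
      map_mul' := fun a b => by
        rw [map_mul F, map_mul, map_mul]
        exact (hcomm (F b) a).mul_mul_mul_comm (φ1 (F a)) (φ2 b) }
  have hup : ∀ (g : Matrix.SpecialLinearGroup (Fin 2) K) (t : K),
      (g : Matrix (Fin 2) (Fin 2) K) = !![1, t; 0, 1] → φ g = uW m 0 t 0 := by
    intro g t hg
    have hF : ((F g : Matrix.SpecialLinearGroup (Fin 2) K) : Matrix (Fin 2) (Fin 2) K) =
        !![1, t ^ 3 ^ m; 0, 1] := by
      simp only [F, Matrix.SpecialLinearGroup.map_apply_coe, RingHom.mapMatrix_apply, hg]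
      ext i j
      fin_cases i <;> fin_cases j <;> simp [frobE_apply hK, Matrix.map_apply]
    show φ1 (F g) * φ2 g = _
    rw [(hφ1 (F g) _).1 hF, (hφ2 g t).1 hg, uW_pair hK]
  have hlow : ∀ (g : Matrix.SpecialLinearGroup (Fin 2) K) (t : K),
      (g : Matrix (Fin 2) (Fin 2) K) = !![1, 0; t, 1] →
        φ g = wordRt chevG2 (reeWordV (3 ^ m) 0 (-t) 0) := by
    intro g t hg
    have hF : ((F g : Matrix.SpecialLinearGroup (Fin 2) K) : Matrix (Fin 2) (Fin 2) K) =
        !![1, 0; t ^ 3 ^ m, 1] := by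
      simp only [F, Matrix.SpecialLinearGroup.map_apply_coe, RingHom.mapMatrix_apply, hg]
      ext i j
      fin_cases i <;> fin_cases j <;> simp [frobE_apply hK, Matrix.map_apply]
    show φ1 (F g) * φ2 g = _
    rw [(hφ1 (F g) _).2 hF, (hφ2 g t).2 hg, vW_pair hK, neg_neg]
  refine ⟨φ, fun g => ?_, fun g t => ⟨hup g t, hlow g t⟩⟩
  have hgen : g ∈ (RG K m).comap φ := by
    by_cases hc' : g.1 1 0 = 0
    · -- write `g` through elementary matrices
      set a := g.1 0 0 with ha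
      set b := g.1 0 1 with hb
      set d := g.1 1 1 with hd
      have hdet : a * d = 1 := by
        have := g.2
        rw [Matrix.det_fin_two, hc'] at this
        linear_combination this
      let X : K → Matrix.SpecialLinearGroup (Fin 2) K := fun t =>
        ⟨!![1, t; 0, 1], by simp [Matrix.det_fin_two]⟩
      let Y : K → Matrix.SpecialLinearGroup (Fin 2) K := fun t =>
        ⟨!![1, 0; t, 1], by simp [Matrix.det_fin_two]⟩
      have e : g = X a * Y (-d) * X a * (X (-1) * Y 1 * X (-1)) * X (b * d) := by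
        apply Subtype.ext
        show g.1 = !![1, a; 0, 1] * !![1, 0; -d, 1] * !![1, a; 0, 1] *
          (!![1, -1; 0, 1] * !![1, 0; 1, 1] * !![1, -1; 0, 1]) * !![1, b * d; 0, 1]
        ext i j
        fin_cases i <;> fin_cases j <;>
          simp [Matrix.mul_apply, Fin.sum_univ_two, hc', ← ha, ← hb, ← hd] <;>
          grind
      have hX : ∀ t, φ (X t) ∈ RG K m := fun t => by rw [hup _ t rfl]; exact wordU_mem hK _ _ _
      have hY : ∀ t, φ (Y t) ∈ RG K m := fun t => by rw [hlow _ t rfl]; exact wordV_mem hK _ _ _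
      rw [e]
      simp only [Subgroup.mem_comap, map_mul]
      exact mul_mem (mul_mem (mul_mem (mul_mem (hX _) (hY _)) (hX _))
        (mul_mem (mul_mem (hX _) (hY _)) (hX _))) (hX _)
    · set a := g.1 0 0 with ha
      set c := g.1 1 0 with hcd
      set d := g.1 1 1 with hd
      let X : K → Matrix.SpecialLinearGroup (Fin 2) K := fun t =>
        ⟨!![1, t; 0, 1], by simp [Matrix.det_fin_two]⟩
      let Y : K → Matrix.SpecialLinearGroup (Fin 2) K := fun t =>
        ⟨!![1, 0; t, 1], by simp [Matrix.det_fin_two]⟩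
      have e : g = X ((a - 1) / c) * Y c * X ((d - 1) / c) := by
        have h2 := g.2
        rw [Matrix.det_fin_two] at h2
        apply Subtype.ext
        show g.1 = !![1, (a - 1) / c; 0, 1] * !![1, 0; c, 1] * !![1, (d - 1) / c; 0, 1]
        ext i j
        fin_cases i <;> fin_cases j <;>
          simp [Matrix.mul_apply, Fin.sum_univ_two, ← ha, ← hcd, ← hd] <;>
          grind
      have hX : ∀ t, φ (X t) ∈ RG K m := fun t => by rw [hup _ t rfl]; exact wordU_mem hK _ _ _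
      have hY : ∀ t, φ (Y t) ∈ RG K m := fun t => by rw [hlow _ t rfl]; exact wordV_mem hK _ _ _
      rw [e]
      simp only [Subgroup.mem_comap, map_mul]
      exact mul_mem (mul_mem (hX _) (hY _)) (hX _)
  exact hgen

/-- The diagonal involution. -/
noncomputable def jR {m : ℕ} (hK : Fintype.card K = 3 ^ (2 * m + 1)) : GL chevG2.Idx K := hA hK (-1)

theorem jR_conj_uW (t u v : K) : jR hK * uW m t u v * (jR hK)⁻¹ = uW m (-t) u (-v) := by
  have hodd : Odd (3 ^ (m + 1)) := (show Odd 3 by decide).pow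
  have he : Even (3 + 3 ^ (m + 1)) := (show Odd 3 by decide).add_odd hodd
  have ho : Odd (3 + 2 * 3 ^ (m + 1)) := (show Odd 3 by decide).add_even (even_two_mul _)
  rw [jR, hA_conj hK]
  simp [hodd.neg_one_pow, he.neg_one_pow, ho.neg_one_pow]

theorem neg_eq_self {x : K} (h : -x = x) : x = 0 := by
  have h3 := three_eq_zero hK
  linear_combination x * h3 + h

theorem H_commute {h k : GL chevG2.Idx K} (hh : h ∈ RH K m) (hk : k ∈ RH K m) : h * k = k * h := by
  obtain ⟨a, rfl⟩ := exists_hA hK hh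
  obtain ⟨b, rfl⟩ := exists_hA hK hk
  rw [← hA_mul hK, ← hA_mul hK, mul_comm]

theorem mem_B_centralize {g : GL chevG2.Idx K} (hg : g ∈ RB K m)
    (hc : jR hK * g = g * jR hK) : ∃ u : K, ∃ h ∈ RH K m, g = uW m 0 u 0 * h := by
  obtain ⟨x, hx, h, hh, rfl⟩ := exists_UH hK hg
  obtain ⟨t, u, v, rfl⟩ := exists_uW hK hx
  have hj : jR hK ∈ RH K m := hA_mem hK _
  have e : jR hK * uW m t u v * (jR hK)⁻¹ = uW m t u v := by
    rw [mul_inv_eq_iff_eq_mul]
    apply mul_right_cancel (b := h)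
    rw [mul_assoc, hc, mul_assoc, mul_assoc, H_commute hK hh hj]
  rw [jR_conj_uW hK, uW_inj hK] at e
  refine ⟨u, h, hh, ?_⟩
  rw [neg_eq_self hK e.1, neg_eq_self hK e.2.2]

theorem m_commute_j : jR hK * mEl K = mEl K * jR hK := by
  have h := m_conj_H hK (hA_mem hK (-1))
  have hj : (hA hK (-1))⁻¹ = hA hK (-1) := by
    rw [inv_eq_iff_mul_eq_one, ← hA_mul hK, neg_mul_neg, one_mul, hA_one hK]
  rw [hj, mul_inv_eq_iff_eq_mul] at h
  exact h.symm

theorem mem_centralize {g : GL chevG2.Idx K} (hg : g ∈ RG K m) (hc : jR hK * g = g * jR hK) :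
    (∃ u : K, ∃ h ∈ RH K m, g = uW m 0 u 0 * h) ∨
      ∃ u : K, ∃ h ∈ RH K m, ∃ u' : K, g = uW m 0 u 0 * h * mEl K * uW m 0 u' 0 := by
  rcases bruhat hK hg with h | ⟨b, hb, x, hx, rfl⟩
  · exact Or.inl (mem_B_centralize hK h hc)
  right
  have hj : jR hK ∈ RH K m := hA_mem hK _
  have hjB := H_le_B' hK hj
  have hx' : jR hK * x * (jR hK)⁻¹ ∈ RU K m := H_conj_U hK hj hx
  have hm : jR hK * mEl K * (jR hK)⁻¹ = mEl K := by rw [m_commute_j hK, mul_inv_cancel_right]
  have hb' : jR hK * b * (jR hK)⁻¹ ∈ RB K m := mul_mem (mul_mem hjB hb) (inv_mem hjB)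
  have e : (jR hK * b * (jR hK)⁻¹) * mEl K * (jR hK * x * (jR hK)⁻¹) = b * mEl K * x := by
    calc (jR hK * b * (jR hK)⁻¹) * mEl K * (jR hK * x * (jR hK)⁻¹)
        = (jR hK * b * (jR hK)⁻¹) * (jR hK * mEl K * (jR hK)⁻¹) * (jR hK * x * (jR hK)⁻¹) := by rw [hm]
      _ = jR hK * (b * mEl K * x) * (jR hK)⁻¹ := by group
      _ = _ := by rw [hc, mul_inv_cancel_right]
  have hxeq : jR hK * x * (jR hK)⁻¹ = x := by
    refine mul_inv_eq_one.1 (m_U_m_inter_B hK (mul_mem hx' (inv_mem hx)) ?_)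
    rw [show mEl K * ((jR hK * x * (jR hK)⁻¹) * x⁻¹) * (mEl K)⁻¹ =
      (jR hK * b * (jR hK)⁻¹)⁻¹ * ((jR hK * b * (jR hK)⁻¹) * mEl K * (jR hK * x * (jR hK)⁻¹)) *
        x⁻¹ * (mEl K)⁻¹ by group, e,
      show (jR hK * b * (jR hK)⁻¹)⁻¹ * (b * mEl K * x) * x⁻¹ * (mEl K)⁻¹ =
        (jR hK * b * (jR hK)⁻¹)⁻¹ * b by group]
    exact (Subgroup.mem_inf.1 (mul_mem (inv_mem hb') hb)).1
  have hbc : jR hK * b = b * jR hK := by
    rw [hxeq] at e
    exact mul_inv_eq_iff_eq_mul.1 (mul_right_cancel (mul_right_cancel e))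
  obtain ⟨u, h, hh, rfl⟩ := mem_B_centralize hK hb hbc
  obtain ⟨t, u', v, rfl⟩ := exists_uW hK hx
  rw [jR_conj_uW hK, uW_inj hK] at hxeq
  exact ⟨u, h, hh, u', by rw [neg_eq_self hK hxeq.1, neg_eq_self hK hxeq.2.2]⟩

theorem j_commute_cell (u u' : K) {h : GL chevG2.Idx K} (hh : h ∈ RH K m) :
    jR hK * (uW m 0 u 0 * h) = uW m 0 u 0 * h * jR hK ∧
    jR hK * (uW m 0 u 0 * h * mEl K * uW m 0 u' 0) = uW m 0 u 0 * h * mEl K * uW m 0 u' 0 * jR hK := by
  have hu : ∀ u : K, jR hK * uW m 0 u 0 = uW m 0 u 0 * jR hK := fun u => by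
    have := jR_conj_uW hK 0 u 0
    rwa [neg_zero, mul_inv_eq_iff_eq_mul] at this
  have h1 : Commute (jR hK) (uW m 0 u 0 * h) := Commute.mul_right (hu u) (H_commute hK (hA_mem hK _) hh)
  exact ⟨h1, (h1.mul_right (m_commute_j hK)).mul_right (hu u')⟩

end H52.Ree2
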