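import Cfsg.Agent.H52.ReeInv

/-!
`C(j) ≅ Z₂ × PSL₂(q)` in a small Ree group and the Sylow 2-subgroups.
-/

set_option autoImplicit false
set_option linter.unusedSectionVars false

namespace H52.Ree2

open Cfsg.Lie

variable {K : Type*} [Field K]

/-- Upper unitriangular. -/
def sX (t : K) : Matrix.SpecialLinearGroup (Fin 2) K :=
  ⟨!![1, t; 0, 1], by simp [Matrix.det_fin_two]⟩

/-- Lower unitriangular. -/
def sY (t : K) : Matrix.SpecialLinearGroup (Fin 2) K :=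
  ⟨!![1, 0; t, 1], by simp [Matrix.det_fin_two]⟩

/-- The reflection. -/
def sW : Matrix.SpecialLinearGroup (Fin 2) K :=
  ⟨!![0, 1; -1, 0], by simp [Matrix.det_fin_two]⟩

/-- Diagonal. -/
def sD (a : Kˣ) : Matrix.SpecialLinearGroup (Fin 2) K :=
  ⟨!![(a : K), 0; 0, ((a⁻¹ : Kˣ) : K)], by simp [Matrix.det_fin_two]⟩

theorem sW_eq : (sW : Matrix.SpecialLinearGroup (Fin 2) K) = sX 1 * sY (-1) * sX 1 := by
  apply Subtype.ext
  show !![(0 : K), 1; -1, 0] = !![1, 1; 0, 1] * !![1, 0; -1, 1] * !![1, 1; 0, 1]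
  ext i j
  fin_cases i <;> fin_cases j <;> simp [Matrix.mul_apply, Fin.sum_univ_two]

theorem sY_eq (t : K) : sY t = sW * sX (-t) * sW⁻¹ := by
  rw [eq_mul_inv_iff_mul_eq]
  apply Subtype.ext
  show !![(1 : K), 0; t, 1] * !![0, 1; -1, 0] = !![0, 1; -1, 0] * !![1, -t; 0, 1]
  ext i j
  fin_cases i <;> fin_cases j <;> simp [Matrix.mul_apply, Fin.sum_univ_two]

theorem sD_conj_sX (a : Kˣ) (t : K) : sD a * sX t = sX ((a : K) ^ 2 * t) * sD a := by
  apply Subtype.ext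
  show !![(a : K), 0; 0, ((a⁻¹ : Kˣ) : K)] * !![1, t; 0, 1] =
    !![1, (a : K) ^ 2 * t; 0, 1] * !![(a : K), 0; 0, ((a⁻¹ : Kˣ) : K)]
  ext i j
  fin_cases i <;> fin_cases j <;> simp [Matrix.mul_apply, Fin.sum_univ_two] <;> field_simp

theorem sW_sD (a : Kˣ) : sW * sD a = sD a⁻¹ * sW := by
  apply Subtype.ext
  show !![(0 : K), 1; -1, 0] * !![(a : K), 0; 0, ((a⁻¹ : Kˣ) : K)] =
    !![((a⁻¹ : Kˣ) : K), 0; 0, ((a⁻¹⁻¹ : Kˣ) : K)] * !![0, 1; -1, 0]
  ext i j
  fin_cases i <;> fin_cases j <;> simp [Matrix.mul_apply, Fin.sum_univ_two]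

theorem sl2_cases (g : Matrix.SpecialLinearGroup (Fin 2) K) :
    (∃ a t, g = sD a * sX t) ∨ ∃ a s t, g = sX s * (sD a * sW) * sX t := by
  have hdet := g.2
  rw [Matrix.det_fin_two] at hdet
  by_cases hc : g.1 1 0 = 0
  · left
    rw [hc, mul_zero, sub_zero] at hdet
    have ha : g.1 0 0 ≠ 0 := left_ne_zero_of_mul (by rw [hdet]; exact one_ne_zero)
    refine ⟨Units.mk0 _ ha, g.1 0 1 / g.1 0 0, Subtype.ext ?_⟩
    show g.1 = !![g.1 0 0, 0; 0, (((Units.mk0 _ ha)⁻¹ : Kˣ) : K)] * !![1, g.1 0 1 / g.1 0 0; 0, 1]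
    ext i j
    fin_cases i <;> fin_cases j <;> simp [Matrix.mul_apply, Fin.sum_univ_two, hc] <;> field_simp
    linear_combination hdet
  · right
    have hne : -(g.1 1 0)⁻¹ ≠ 0 := by simp [hc]
    refine ⟨Units.mk0 _ hne, g.1 0 0 / g.1 1 0, g.1 1 1 / g.1 1 0, Subtype.ext ?_⟩
    show g.1 = !![1, g.1 0 0 / g.1 1 0; 0, 1] *
      (!![-(g.1 1 0)⁻¹, 0; 0, (((Units.mk0 _ hne)⁻¹ : Kˣ) : K)] * !![0, 1; -1, 0]) *
      !![1, g.1 1 1 / g.1 1 0; 0, 1]
    ext i j
    fin_cases i <;> fin_cases j <;> simp [Matrix.mul_apply, Fin.sum_univ_two] <;> field_simp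
    linear_combination -hdet

theorem mem_center_sl2 {g : Matrix.SpecialLinearGroup (Fin 2) K} :
    g ∈ Subgroup.center (Matrix.SpecialLinearGroup (Fin 2) K) ↔ ∃ a : Kˣ, a ^ 2 = 1 ∧ g = sD a := by
  rw [Matrix.SpecialLinearGroup.mem_center_iff, Fintype.card_fin]
  constructor
  · rintro ⟨r, hr, hrg⟩
    have hr0 : r ≠ 0 := fun h => by simp [h] at hr
    have hinv : r⁻¹ = r := by
      field_simp
      linear_combination -hr
    refine ⟨Units.mk0 r hr0, Units.ext hr, Subtype.ext ?_⟩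
    show g.1 = !![r, 0; 0, (((Units.mk0 r hr0)⁻¹ : Kˣ) : K)]
    rw [← hrg]
    ext i j
    fin_cases i <;> fin_cases j <;> simp [hinv]
  · rintro ⟨a, ha, rfl⟩
    refine ⟨a, by simpa using congrArg Units.val ha, ?_⟩
    have hinv : a⁻¹ = a := by rw [inv_eq_iff_mul_eq_one, ← sq, ha]
    show Matrix.scalar (Fin 2) (a : K) = !![(a : K), 0; 0, ((a⁻¹ : Kˣ) : K)]
    rw [hinv]
    ext i j
    fin_cases i <;> fin_cases j <;> simp

theorem mmCert : H54.WR.eqMat 3 chevG2 (H54.WR.wordP 3 chevG2 (constP (mConst ++ mConst)))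
    (H54.WR.wordP 3 chevG2 (constP [])) = true := by
  decide +kernel

theorem mEl_sq (h3 : (3 : K) = 0) : mEl K * mEl K = 1 := by
  have h := const_eq (K := K) h3 mmCert
  rw [List.map_append] at h
  rw [mEl]
  unfold wordRt at h ⊢
  rw [List.map_append, List.prod_append] at h
  simpa using h

variable [Fintype K] {m : ℕ} (hK : Fintype.card K = 3 ^ (2 * m + 1))
include hK

theorem neg_one_ne' : (-1 : Kˣ) ≠ 1 := fun h => by
  have h' : (-1 : K) = 1 := by simpa using congrArg Units.val h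
  have h3 := three_eq_zero hK
  exact one_ne_zero (show (1 : K) = 0 by linear_combination h3 + h')

theorem jR_mem : jR hK ∈ RH K m := hA_mem hK _

theorem jR_sq : jR hK * jR hK = 1 := by
  rw [jR, ← hA_mul hK, neg_mul_neg, one_mul, hA_one hK]

theorem H_sq_one {h : GL chevG2.Idx K} (hh : h ∈ RH K m) (h2 : h * h = 1) : h = 1 ∨ h = jR hK := by
  obtain ⟨b, rfl⟩ := exists_hA hK hh
  rw [← hA_mul hK, ← sq, ← hA_one hK, hA_inj hK] at h2
  have := congrArg Units.val h2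
  simp only [Units.val_pow_eq_pow_val, Units.val_one, sq_eq_one_iff] at this
  rcases this with e | e
  · left; rw [show b = 1 from Units.ext e, hA_one hK]
  · right; rw [jR, show b = -1 from Units.ext (by simpa using e)]

theorem sl2_facts (φ : Matrix.SpecialLinearGroup (Fin 2) K →* GL chevG2.Idx K)
    (hG : ∀ g, φ g ∈ RG K m) (hX : ∀ t, φ (sX t) = uW m 0 t 0) (hW : φ sW = mEl K) :
    (∀ g, jR hK * φ g = φ g * jR hK) ∧ (∀ a : Kˣ, φ (sD a) ∈ RH K m) ∧
      (∀ g, g ∈ φ.ker ↔ g ∈ Subgroup.center (Matrix.SpecialLinearGroup (Fin 2) K)) ∧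
      (∀ g, φ g ≠ jR hK) := by
  have hXU : ∀ t, φ (sX t) ∈ RU K m := fun t => by rw [hX]; exact uW_mem_U hK _ _ _
  have hact : ∀ (a : Kˣ) t, φ (sD a) * uW m 0 t 0 * (φ (sD a))⁻¹ = uW m 0 ((a : K) ^ 2 * t) 0 := by
    intro a t
    rw [← hX, ← hX, ← map_mul, sD_conj_sX, map_mul, mul_inv_cancel_right]
  have hone : uW m (0 : K) 1 0 ≠ 1 := fun h => by
    rw [← uW_zero (m := m) hK, uW_inj hK] at h; exact one_ne_zero h.2.1
  have hDB : ∀ a : Kˣ, φ (sD a) ∈ RB K m := fun a =>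
    fusion hK (uW_mem_U hK 0 1 0) hone (hG _) (by rw [hact]; exact uW_mem_U hK _ _ _)
  have hD : ∀ a : Kˣ, φ (sD a) ∈ RH K m := by
    intro a
    obtain ⟨x, hx, h, hh, e⟩ := exists_UH hK (hDB a)
    have h1 : mEl K * φ (sD a) * (mEl K)⁻¹ = φ (sD a⁻¹) := by
      rw [← hW, ← map_mul, sW_sD, map_mul, mul_inv_cancel_right]
    have hx1 : x = 1 := by
      refine m_U_m_inter_B hK hx ?_
      rw [show mEl K * x * (mEl K)⁻¹ = (mEl K * φ (sD a) * (mEl K)⁻¹) * (mEl K * h * (mEl K)⁻¹)⁻¹ by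
        rw [e]; group, h1, m_conj_H hK hh, inv_inv]
      exact mul_mem (Subgroup.mem_inf.1 (hDB _)).1 (Subgroup.mem_inf.1 (H_le_B' hK hh)).1
    rw [e, hx1, one_mul]
    exact hh
  have hcomm : ∀ g, jR hK * φ g = φ g * jR hK := by
    intro g
    have h1 : ∀ t, Commute (jR hK) (φ (sX t)) := fun t => by
      have := jR_conj_uW hK 0 t 0
      rw [neg_zero, mul_inv_eq_iff_eq_mul] at this
      rw [hX]; exact this
    have h2 : Commute (jR hK) (φ sW) := by rw [hW]; exact m_commute_j hK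
    have h3 : ∀ a, Commute (jR hK) (φ (sD a)) := fun a => H_commute hK (jR_mem hK) (hD a)
    rcases sl2_cases g with ⟨a, t, rfl⟩ | ⟨a, s, t, rfl⟩
    · rw [map_mul]; exact ((h3 a).mul_right (h1 t)).eq
    · simp only [map_mul]; exact (((h1 s).mul_right ((h3 a).mul_right h2)).mul_right (h1 t)).eq
  have hbig : ∀ (a : Kˣ) (s t : K), φ (sX s * (sD a * sW) * sX t) ∉ RB K m := by
    intro a s t h
    apply mEl_not_mem_B hK
    have h' : φ (sD a * sW) ∈ RB K m := by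
      rw [show φ (sD a * sW) = (φ (sX s))⁻¹ * φ (sX s * (sD a * sW) * sX t) * (φ (sX t))⁻¹ by
        simp only [map_mul]; group]
      exact mul_mem (mul_mem (inv_mem (U_le_B hK (hXU s))) h) (inv_mem (U_le_B hK (hXU t)))
    rw [map_mul, hW, Subgroup.mul_mem_cancel_left _ (H_le_B' hK (hD a))] at h'
    exact (Subgroup.mem_inf.1 h').1
  have hsplit : ∀ (a : Kˣ) (t : K) {h : GL chevG2.Idx K}, h ∈ RH K m → φ (sD a * sX t) = h →
      t = 0 ∧ φ (sD a) = h := by
    intro a t h hh e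
    rw [map_mul] at e
    have : φ (sX t) ∈ RU K m ⊓ RH K m := Subgroup.mem_inf.2
      ⟨hXU t, by rw [show φ (sX t) = (φ (sD a))⁻¹ * h by rw [← e, inv_mul_cancel_left]]
                 exact mul_mem (inv_mem (hD a)) hh⟩
    rw [U_inf_H hK, Subgroup.mem_bot] at this
    rw [this, mul_one] at e
    rw [hX, ← uW_zero (m := m) hK, uW_inj hK] at this
    exact ⟨this.2.1, e⟩
  have hsq : ∀ (a : Kˣ) {h : GL chevG2.Idx K}, φ (sD a) = h →
      h * uW m 0 1 0 * h⁻¹ = uW m 0 1 0 → a ^ 2 = 1 := by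
    intro a h e hc
    rw [← e, hact, uW_inj hK, mul_one] at hc
    exact Units.ext (by simpa using hc.2.1)
  have hcenter : ∀ a : Kˣ, a ^ 2 = 1 → φ (sD a) = 1 := by
    intro a ha
    have e := congrArg Units.val ha
    simp only [Units.val_pow_eq_pow_val, Units.val_one, sq_eq_one_iff] at e
    rcases e with e | e
    · rw [show a = 1 from Units.ext e,
        show sD (1 : Kˣ) = 1 from Subtype.ext (by simp [sD, Matrix.one_fin_two]), map_one]
    · rw [show sD a = sW * sW from Subtype.ext (by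
        show !![(a : K), 0; 0, ((a⁻¹ : Kˣ) : K)] = !![(0 : K), 1; -1, 0] * !![0, 1; -1, 0]
        rw [Units.val_inv_eq_inv_val, e, inv_neg_one]
        ext i j
        fin_cases i <;> fin_cases j <;> simp [Matrix.mul_apply, Fin.sum_univ_two]),
        map_mul, hW, mEl_sq (three_eq_zero hK)]
  refine ⟨hcomm, hD, fun g => ?_, fun g => ?_⟩
  · constructor
    · intro hg
      rw [MonoidHom.mem_ker] at hg
      rcases sl2_cases g with ⟨a, t, rfl⟩ | ⟨a, s, t, rfl⟩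
      · obtain ⟨rfl, e⟩ := hsplit a t (one_mem _) hg
        refine mem_center_sl2.2 ⟨a, hsq a e (by simp), ?_⟩
        rw [show sX (0 : K) = 1 from Subtype.ext (by simp [sX, Matrix.one_fin_two]), mul_one]
      · exact absurd (hg ▸ one_mem _) (hbig a s t)
    · intro hg
      obtain ⟨a, ha, rfl⟩ := mem_center_sl2.1 hg
      exact MonoidHom.mem_ker.2 (hcenter a ha)
  · intro hg
    rcases sl2_cases g with ⟨a, t, rfl⟩ | ⟨a, s, t, rfl⟩
    · obtain ⟨-, e⟩ := hsplit a t (jR_mem hK) hg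
      have h1 := hcenter a (hsq a e (hA_neg_one_centralize hK 1))
      rw [e] at h1
      exact neg_one_ne' hK ((hA_inj hK).1 (h1.trans (hA_one hK).symm))
    · exact hbig a s t (hg ▸ H_le_B' hK (jR_mem hK))

theorem exists_centralizer_iso : ∃ e : Multiplicative (ZMod 2) × Matrix.ProjectiveSpecialLinearGroup (Fin 2) K ≃*
    ↥(Subgroup.centralizer ({⟨jR hK, (Subgroup.mem_inf.1 (jR_mem hK)).2⟩} : Set ↥(RG K m))),
    ((e (Multiplicative.ofAdd 1, 1) : ↥(RG K m)) : GL chevG2.Idx K) = jR hK := by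
  obtain ⟨φ, hG, hφ⟩ := exists_sl2 hK
  have hX : ∀ t, φ (sX t) = uW m 0 t 0 := fun t => (hφ _ t).1 rfl
  have hW : φ sW = mEl K := by
    rw [sW_eq, map_mul, map_mul, hX, (hφ (sY (-1)) (-1)).2 rfl, neg_neg, ← mEl_pair hK]
  obtain ⟨hcomm, hD, hker, hne⟩ := sl2_facts hK φ hG hX hW
  set j : ↥(RG K m) := ⟨jR hK, (Subgroup.mem_inf.1 (jR_mem hK)).2⟩ with hj
  set C := Subgroup.centralizer ({j} : Set ↥(RG K m)) with hC
  have hmem : ∀ g : ↥(RG K m), g ∈ C ↔ jR hK * g = g * jR hK := fun g => by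
    rw [hC, Subgroup.mem_centralizer_singleton_iff, Subtype.ext_iff]
    exact eq_comm
  let φC : Matrix.SpecialLinearGroup (Fin 2) K →* ↥C :=
    { toFun := fun g => ⟨⟨φ g, hG g⟩, (hmem _).2 (hcomm g)⟩
      map_one' := Subtype.ext (Subtype.ext (map_one φ))
      map_mul' := fun a b => Subtype.ext (Subtype.ext (map_mul φ a b)) }
  let φP : Matrix.ProjectiveSpecialLinearGroup (Fin 2) K →* ↥C :=
    QuotientGroup.lift _ φC fun g hg => by
      rw [MonoidHom.mem_ker]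
      exact Subtype.ext (Subtype.ext (MonoidHom.mem_ker.1 ((hker g).2 hg)))
  let jC : ↥C := ⟨j, (hmem j).2 rfl⟩
  have hj2 : jC * jC = 1 := Subtype.ext (Subtype.ext (jR_sq hK))
  have hj1 : jC ≠ 1 := fun h => hne 1 (by rw [map_one]; exact (congrArg (fun z : ↥C => (z : ↥(RG K m)).1) h).symm)
  have hord : orderOf jC = 2 := orderOf_eq_prime (by rw [sq]; exact hj2) hj1
  let z : Multiplicative (ZMod 2) →* ↥C :=
    (Subgroup.zpowers jC).subtype.comp (mulEquivOfPrimeCardEq (p := 2) (G := Multiplicative (ZMod 2))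
      (G' := ↥(Subgroup.zpowers jC)) (by simp) (by rw [Nat.card_zpowers, hord])).toMonoidHom
  have hz : ∀ a, z a = 1 ∨ z a = jC := fun a => by
    have hmem : z a ∈ Subgroup.zpowers jC := Subtype.prop _
    obtain ⟨n, hn⟩ := Subgroup.mem_zpowers_iff.1 hmem
    rcases Int.even_or_odd n with ⟨k, hk⟩ | ⟨k, hk⟩
    · left; rw [← hn, hk, ← two_mul, zpow_mul, zpow_two, hj2, one_zpow]
    · right; rw [← hn, hk, zpow_add, zpow_mul, zpow_two, hj2, one_zpow, one_mul, zpow_one]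
  have hzinj : Function.Injective z := fun a b h =>
    (mulEquivOfPrimeCardEq (p := 2) (G := Multiplicative (ZMod 2))
      (G' := ↥(Subgroup.zpowers jC)) (by simp) (by rw [Nat.card_zpowers, hord])).injective (Subtype.ext h)
  have hzsurj : ∃ a, z a = jC := by
    obtain ⟨a, ha⟩ := (mulEquivOfPrimeCardEq (p := 2) (G := Multiplicative (ZMod 2))
      (G' := ↥(Subgroup.zpowers jC)) (by simp) (by rw [Nat.card_zpowers, hord])).surjective
      ⟨jC, Subgroup.mem_zpowers _⟩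
    exact ⟨a, congrArg Subtype.val ha⟩
  have hcz : ∀ a p, Commute (z a) (φP p) := by
    intro a p
    rcases hz a with e | e <;> rw [e]
    · exact Commute.one_left _
    · exact Subtype.ext (Subtype.ext ((hmem _).1 (φP p).2))
  let Ψ := MonoidHom.noncommCoprod z φP hcz
  have hval1 : ((Ψ (Multiplicative.ofAdd 1, 1) : ↥(RG K m)) : GL chevG2.Idx K) = jR hK := by
    obtain ⟨z0, hz0⟩ := hzsurj
    have h0 : z0 = Multiplicative.ofAdd 1 := by
      have h2 : ∀ a : ZMod 2, a = 0 ∨ a = 1 := by decide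
      rcases h2 (Multiplicative.toAdd z0) with h | h
      · exfalso
        rw [show z0 = 1 from Multiplicative.toAdd.injective (h.trans toAdd_one.symm), map_one] at hz0
        exact hj1 hz0.symm
      · rw [← h, ofAdd_toAdd]
    rw [MonoidHom.noncommCoprod_apply, map_one φP, mul_one, ← h0, hz0]
  refine ⟨MulEquiv.ofBijective Ψ ⟨?_, ?_⟩, hval1⟩
  · rw [← MonoidHom.ker_eq_bot_iff, Subgroup.eq_bot_iff_forall]
    rintro ⟨a, p⟩ hap
    rw [MonoidHom.mem_ker, MonoidHom.noncommCoprod_apply] at hap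
    obtain ⟨g, rfl⟩ := QuotientGroup.mk_surjective p
    have hval : φP (QuotientGroup.mk g) = φC g := rfl
    rw [hval] at hap
    rcases hz a with e | e
    · rw [e, one_mul] at hap
      have hg : g ∈ φ.ker := MonoidHom.mem_ker.2 (congrArg (fun z : ↥C => (z : ↥(RG K m)).1) hap)
      exact Prod.ext (hzinj (e.trans (map_one z).symm)) ((QuotientGroup.eq_one_iff g).2 ((hker g).1 hg))
    · rw [e] at hap
      refine absurd ?_ (hne g)
      have h := congrArg (fun z : ↥C => (z : ↥(RG K m)).1) hap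
      calc φ g = jR hK * jR hK * φ g := by rw [jR_sq hK, one_mul]
        _ = jR hK := by rw [mul_assoc]; exact (mul_eq_left).2 h
  · rintro ⟨⟨g, hg⟩, hgC⟩
    obtain ⟨z0, hz0⟩ := hzsurj
    have hrX : ∀ (u : K) (h : uW m 0 u 0 ∈ RG K m) h', (⟨⟨_, h⟩, h'⟩ : ↥C) ∈ Ψ.range := fun u h h' =>
      ⟨(1, QuotientGroup.mk (sX u)), by
        rw [MonoidHom.noncommCoprod_apply, map_one, one_mul]
        exact Subtype.ext (Subtype.ext (hX u))⟩
    have hrH : ∀ (h : GL chevG2.Idx K) (hh : h ∈ RG K m) h', h ∈ RH K m → (⟨⟨h, hh⟩, h'⟩ : ↥C) ∈ Ψ.range := by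
      intro h hh h' hH
      obtain ⟨b, rfl⟩ := exists_hA hK hH
      obtain ⟨k, hk⟩ : Even (3 + 3 ^ (m + 1)) :=
        (show Odd 3 by decide).add_odd (show Odd 3 by decide).pow
      have e : hA hK b * uW m 0 1 0 * (hA hK b)⁻¹ = φ (sD (b ^ k)) * uW m 0 1 0 * (φ (sD (b ^ k)))⁻¹ := by
        rw [hA_conj hK, ← hX, ← map_mul, sD_conj_sX, map_mul, mul_inv_cancel_right, hX,
          uW_inj hK, hk]
        refine ⟨mul_zero _, ?_, mul_zero _⟩
        rw [Units.val_pow_eq_pow_val, ← pow_mul, mul_two, mul_one]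
      have hd : (φ (sD (b ^ k)))⁻¹ * hA hK b ∈ RH K m := mul_mem (inv_mem (hD _)) hH
      have hone : uW m (0 : K) 1 0 ≠ 1 := fun h => by
        rw [← uW_zero (m := m) hK, uW_inj hK] at h; exact one_ne_zero h.2.1
      have := H_centralize_sq hK hd (uW_mem_U hK 0 1 0) hone (by
        calc (φ (sD (b ^ k)))⁻¹ * hA hK b * uW m 0 1 0 * ((φ (sD (b ^ k)))⁻¹ * hA hK b)⁻¹
            = (φ (sD (b ^ k)))⁻¹ * (hA hK b * uW m 0 1 0 * (hA hK b)⁻¹) * φ (sD (b ^ k)) := by group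
          _ = _ := by rw [e]; group)
      rcases H_sq_one hK hd this with h1 | h1
      · refine ⟨(1, QuotientGroup.mk (sD (b ^ k))), ?_⟩
        rw [MonoidHom.noncommCoprod_apply, map_one, one_mul]
        exact Subtype.ext (Subtype.ext (inv_mul_eq_one.1 h1))
      · refine ⟨(z0, QuotientGroup.mk (sD (b ^ k))), ?_⟩
        rw [MonoidHom.noncommCoprod_apply, hz0]
        refine Subtype.ext (Subtype.ext ?_)
        show jR hK * φ (sD (b ^ k)) = hA hK b
        rw [H_commute hK (jR_mem hK) (hD _), ← h1, mul_inv_cancel_left]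
    have hXC : ∀ u : K, ∃ h : uW m 0 u 0 ∈ RG K m, (⟨_, h⟩ : ↥(RG K m)) ∈ C := fun u =>
      ⟨(Subgroup.mem_inf.1 (uW_mem_U hK 0 u 0)).2, (hmem _).2 (show jR hK * uW m 0 u 0 = uW m 0 u 0 * jR hK by rw [← hX]; exact hcomm _)⟩
    have hHC : ∀ h, h ∈ RH K m → ∃ hh : h ∈ RG K m, (⟨h, hh⟩ : ↥(RG K m)) ∈ C := fun h hH =>
      ⟨(Subgroup.mem_inf.1 hH).2, (hmem _).2 (H_commute hK (jR_mem hK) hH)⟩
    rcases mem_centralize hK hg ((hmem _).1 hgC) with ⟨u, h, hh, e⟩ | ⟨u, h, hh, u', e⟩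
    · obtain ⟨a1, a2⟩ := hXC u
      obtain ⟨b1, b2⟩ := hHC h hh
      obtain ⟨x, hx⟩ := mul_mem (hrX u a1 a2) (hrH h b1 b2 hh)
      exact ⟨x, hx.trans (Subtype.ext (Subtype.ext e.symm))⟩
    · obtain ⟨a1, a2⟩ := hXC u
      obtain ⟨b1, b2⟩ := hHC h hh
      obtain ⟨c1, c2⟩ := hXC u'
      have hm : (⟨⟨mEl K, mEl_mem hK⟩, (hmem _).2 (m_commute_j hK)⟩ : ↥C) ∈ Ψ.range :=
        ⟨(1, QuotientGroup.mk sW), by
          rw [MonoidHom.noncommCoprod_apply, map_one, one_mul]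
          exact Subtype.ext (Subtype.ext hW)⟩
      obtain ⟨x, hx⟩ := mul_mem (mul_mem (mul_mem (hrX u a1 a2) (hrH h b1 b2 hh)) hm) (hrX u' c1 c2)
      exact ⟨x, hx.trans (Subtype.ext (Subtype.ext e.symm))⟩

theorem centralizer_iso {a : ↥(RG K m)} (haH : (a : GL chevG2.Idx K) ∈ chevG2.diagonalSubgroup K)
    (ha1 : a ≠ 1) (ha2 : a * a = 1) :
    Nonempty (↥(Subgroup.centralizer {a}) ≃* Multiplicative (ZMod 2) × Matrix.ProjectiveSpecialLinearGroup (Fin 2) K) := by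
  rcases H_sq_one hK (Subgroup.mem_inf.2 ⟨haH, a.2⟩) (congrArg Subtype.val ha2) with h | h
  · exact absurd (Subtype.ext h) ha1
  · obtain ⟨e, -⟩ := exists_centralizer_iso hK
    rw [show a = ⟨jR hK, (Subgroup.mem_inf.1 (jR_mem hK)).2⟩ from Subtype.ext h]
    exact ⟨e.symm⟩

end H52.Ree2
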