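import Cfsg.Agent.H52.ReeTorusCent
import Cfsg.Agent.H52.ReeSylow
import Cfsg.Agent.H39.InvolTor

/-!
Klein four groups and the tori of order `q + 1` of a small Ree group.
-/

set_option autoImplicit false
set_option linter.unusedSectionVars false

namespace H52.Ree2

open Cfsg.Lie

variable {K : Type*} [Field K] [Fintype K] {m : ℕ} (hK : Fintype.card K = 3 ^ (2 * m + 1))

/-- `(q + 1) / 4`. -/
abbrev qp (m : ℕ) : ℕ := (3 ^ (2 * m + 1) + 1) / 4

/-- `(q - 1) / 2`. -/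
abbrev qh (m : ℕ) : ℕ := (3 ^ (2 * m + 1) - 1) / 2

theorem q_arith (m : ℕ) : 3 ^ (2 * m + 1) + 1 = 4 * qp m ∧ 3 ^ (2 * m + 1) - 1 = 2 * qh m ∧
    Odd (qp m) ∧ Odd (qh m) ∧ ¬ 3 ∣ qp m ∧ ¬ 3 ∣ qh m ∧ Nat.Coprime (qp m) (qh m) ∧ 3 ^ (2 * m + 1) % 4 = 3 := by
  set q := 3 ^ (2 * m + 1) with hq
  have h8 : q % 8 = 3 := by
    rw [hq, pow_succ, pow_mul, Nat.mul_mod, Nat.pow_mod]
    norm_num
  have h3 : q % 3 = 0 := by rw [hq, pow_succ, Nat.mul_mod_left]
  obtain ⟨s, hs⟩ : ∃ s, q = 24 * s + 3 := ⟨q / 24, by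
    have : q % 24 = 3 := by
      generalize q = x at h8 h3
      omega
    omega⟩
  have e1 : qp m = 6 * s + 1 := by simp only [qp, ← hq, hs]; omega
  have e2 : qh m = 12 * s + 1 := by simp only [qh, ← hq, hs]; omega
  refine ⟨by rw [hs, e1]; omega, by rw [hs, e2]; omega, ⟨3 * s, by rw [e1]; ring⟩,
    ⟨6 * s, by rw [e2]; ring⟩, by rw [e1]; omega, by rw [e2]; omega, ?_, by rw [hs]; omega⟩
  apply Nat.coprime_of_dvd
  intro k hk h1 h2
  rw [e1] at h1
  rw [e2] at h2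
  have h1' : k ∣ 1 := by
    have := Nat.dvd_sub (dvd_mul_of_dvd_right h1 2) h2
    rwa [show 2 * (6 * s + 1) - (12 * s + 1) = 1 by omega] at this
  exact hk.not_dvd_one h1'

theorem qp_ge (hm : 1 ≤ m) : 7 ≤ qp m := by
  have h : 3 ^ 3 ≤ 3 ^ (2 * m + 1) := Nat.pow_le_pow_right (by norm_num) (by omega)
  simp only [qp]; omega

include hK

theorem charP3 : CharP K 3 := H54.Ree.charP_three hK

theorem odd_card : Odd (Fintype.card K) := by rw [hK]; exact (show Odd 3 by decide).pow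

theorem tor_invol_card {t : Matrix.ProjectiveSpecialLinearGroup (Fin 2) K} (ht : orderOf t = 2) :
    Nat.card (H39.tor t) = 2 * qp m := by
  have := charP3 hK
  have : Fact (Nat.Prime 3) := ⟨Nat.prime_three⟩
  obtain ⟨h1, -, -, -, -, -, -, h4⟩ := q_arith m
  rw [H39.card_tor_invol 3 (odd_card hK) ht, hK, H39.evenHalf, if_neg (by omega)]
  omega

theorem psl_qp {y : Matrix.ProjectiveSpecialLinearGroup (Fin 2) K} (hy : y ^ qp m = 1) (hy1 : y ≠ 1) :
    y ^ 3 ≠ 1 ∧ Nat.card (H39.tor y) = 2 * qp m ∧ Subgroup.centralizer {y} = H39.tor y := by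
  have := charP3 hK
  have : Fact (Nat.Prime 3) := ⟨Nat.prime_three⟩
  obtain ⟨h1, h2, ho, -, h3p, -, hco, -⟩ := q_arith m
  have hd : orderOf y ∣ qp m := orderOf_dvd_of_pow_eq_one hy
  have hy3 : y ^ 3 ≠ 1 := fun h => by
    have := orderOf_eq_prime h hy1
    exact h3p (this ▸ hd)
  have hy2 : y * y ≠ 1 := fun h => by
    have := orderOf_eq_prime (p := 2) (by rw [sq]; exact h) hy1
    exact ho.not_two_dvd_nat (this ▸ hd)
  refine ⟨hy3, ?_, ?_⟩
  · rcases (H39.tor_trichotomy 3 hy3).1 with e | e <;>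
      rw [H39.gcd_eq_two (odd_card hK), hK] at e
    · rw [e]; omega
    · exfalso
      have hdvd := Subgroup.orderOf_dvd_natCard _ (H39.self_mem_tor y)
      rw [e] at hdvd
      have := Nat.eq_one_of_dvd_coprimes hco hd hdvd
      exact hy1 (orderOf_eq_one_iff.1 this)
  · ext g
    rw [Subgroup.mem_centralizer_singleton_iff]
    constructor
    · intro h
      have hN : g ∈ Subgroup.normalizer (H39.tor y : Set (Matrix.ProjectiveSpecialLinearGroup (Fin 2) K)) := by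
        have e : H39.tor (g * y * g⁻¹) = (H39.tor y).map (MulAut.conj g).toMonoidHom := H39.tor_conj g y
        rw [h, mul_inv_cancel_right] at e
        rw [Subgroup.mem_normalizer_iff]
        intro z
        conv_rhs => rw [e, Subgroup.mem_map_equiv, MulAut.conj_symm_apply,
          show g⁻¹ * (g * z * g⁻¹) * g = z by group]
      by_contra hgT
      obtain ⟨-, -, hinv⟩ := H39.normalizer_outside 3 hy3 hN hgT
      have e := hinv y (H39.self_mem_tor y)
      rw [h, mul_inv_cancel_right] at e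
      exact hy2 (inv_eq_iff_mul_eq_one.1 e.symm)
    · intro hg
      exact (H39.tor_comm hy1 hg (H39.self_mem_tor y)).eq

theorem zmod_two_sq (a : Multiplicative (ZMod 2)) : a * a = 1 := by
  revert a; decide

theorem zmod_two_odd {a : Multiplicative (ZMod 2)} {k : ℕ} (hk : Odd k) (h : a ^ k = 1) : a = 1 := by
  obtain ⟨s, rfl⟩ := hk
  rwa [pow_succ, pow_mul, sq, zmod_two_sq hK, one_pow, one_mul] at h

theorem B_pow_mem_U {b : GL chevG2.Idx K} (hb : b ∈ RB K m) :
    b ^ (3 ^ (2 * m + 1) - 1) ∈ RU K m := by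
  obtain ⟨u, hu, h, hh, rfl⟩ := exists_UH hK hb
  have key : ∀ n : ℕ, ∃ v ∈ RU K m, (u * h) ^ n = v * h ^ n := by
    intro n
    induction n with
    | zero => exact ⟨1, one_mem _, by simp⟩
    | succ n ih =>
      obtain ⟨v, hv, e⟩ := ih
      refine ⟨v * (h ^ n * u * (h ^ n)⁻¹), mul_mem hv (H_conj_U hK (pow_mem hh n) hu), ?_⟩
      rw [pow_succ, e, pow_succ]; group
  obtain ⟨v, hv, e⟩ := key (3 ^ (2 * m + 1) - 1)
  have h1 : (⟨h, hh⟩ : ↥(RH K m)) ^ (3 ^ (2 * m + 1) - 1) = 1 := by rw [← card_H hK]; exact pow_card_eq_one'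
  have h1' : h ^ (3 ^ (2 * m + 1) - 1) = 1 := congrArg Subtype.val h1
  rw [e, h1', mul_one]; exact hv

theorem qp_not_commute_three {t x : ↥(RG K m)} (ht : t ^ qp m = 1) (ht1 : t ≠ 1) (hx : orderOf x = 3)
    (hc : t * x = x * t) : False := by
  obtain ⟨h1, h2, ho, -, h3p, -, hco, -⟩ := q_arith m
  obtain ⟨P, hP⟩ := exists_sylow hK
  have : Fact (Nat.Prime 3) := ⟨Nat.prime_three⟩
  obtain ⟨g, hg⟩ := exists_conj_mem (P : Subgroup ↥(RG K m)) P.not_dvd_index (x := x) (k := 1) (by rw [hx, pow_one])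
  rw [hP, Subgroup.mem_subgroupOf] at hg
  have hne : ((g⁻¹ * x * g : ↥(RG K m)) : GL chevG2.Idx K) ≠ 1 := by
    intro e
    have e' : g⁻¹ * x * g = 1 := Subtype.ext e
    have : x = 1 := by rwa [show g⁻¹ * x * g = g⁻¹ * x * g⁻¹⁻¹ by group, conj_eq_one_iff] at e'
    rw [this, orderOf_one] at hx; omega
  have hB : ((g⁻¹ * t * g : ↥(RG K m)) : GL chevG2.Idx K) ∈ RB K m := by
    refine fusion hK hg hne (g⁻¹ * t * g).2 ?_
    rw [← Subgroup.coe_inv, ← Subgroup.coe_mul, ← Subgroup.coe_mul,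
      show g⁻¹ * t * g * (g⁻¹ * x * g) * (g⁻¹ * t * g)⁻¹ = g⁻¹ * (t * x * t⁻¹) * g by group, hc,
      mul_inv_cancel_right]
    exact hg
  have hU := B_pow_mem_U hK hB
  have h3 : (⟨_, hU⟩ : ↥(RU K m)) ^ ((3 ^ (2 * m + 1)) ^ 3) = 1 := by rw [← card_U hK]; exact pow_card_eq_one'
  have h3' := congrArg Subtype.val h3
  simp only [SubgroupClass.coe_pow, OneMemClass.coe_one] at h3'
  rw [← pow_mul] at h3'
  rw [← SubgroupClass.coe_pow, OneMemClass.coe_eq_one] at h3'
  have hgt : orderOf (g⁻¹ * t * g) = orderOf t := by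
    rw [show g⁻¹ * t * g = MulAut.conj g⁻¹ t by simp, MulEquiv.orderOf_eq]
  have hd1 := orderOf_dvd_of_pow_eq_one h3'
  rw [hgt] at hd1
  have hd2 := orderOf_dvd_of_pow_eq_one ht
  apply ht1
  rw [← orderOf_eq_one_iff]
  have hcop : Nat.Coprime (qp m) ((3 ^ (2 * m + 1) - 1) * (3 ^ (2 * m + 1)) ^ 3) := by
    rw [h2]
    refine Nat.Coprime.mul_right (Nat.Coprime.mul_right ?_ hco) (Nat.Coprime.pow_right _ (Nat.Coprime.pow_right _ ?_))
    · exact Nat.coprime_two_right.2 ho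
    · exact ((Nat.prime_three.coprime_iff_not_dvd).2 h3p).symm
  exact Nat.eq_one_of_dvd_coprimes hcop hd2 hd1

theorem jG_ne : jG hK ≠ 1 := fun h =>
  neg_one_ne' hK ((hA_inj hK).1 ((congrArg Subtype.val h).trans (hA_one hK).symm))

theorem inf_centralizer_j {t : ↥(RG K m)} (ht : t ^ qp m = 1) (ht1 : t ≠ 1)
    (hc : t * jG hK = jG hK * t) :
    Nat.card ↥(Subgroup.centralizer {t} ⊓ Subgroup.centralizer {jG hK}) = 3 ^ (2 * m + 1) + 1 ∧
    (∀ x ∈ Subgroup.centralizer {t} ⊓ Subgroup.centralizer {jG hK},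
      ∀ y ∈ Subgroup.centralizer {t} ⊓ Subgroup.centralizer {jG hK}, x * y = y * x) := by
  obtain ⟨E0, hE, hj, hr⟩ := exists_E0 hK
  obtain ⟨h1, -, ho, -, -, -, -, -⟩ := q_arith m
  have htC : t ∈ E0.range := by rw [hr]; exact Subgroup.mem_centralizer_singleton_iff.2 hc
  obtain ⟨⟨a, p⟩, rfl⟩ := htC
  have e := hE (show E0 ((a, p) ^ qp m) = E0 1 by rw [map_pow, map_one, ht])
  have ha : a = 1 := zmod_two_odd hK ho (congrArg Prod.fst e)
  subst ha
  have hp : p ^ qp m = 1 := congrArg Prod.snd e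
  have hp1 : p ≠ 1 := fun h => ht1 (by rw [h]; exact map_one E0)
  obtain ⟨-, hcard, hcent⟩ := psl_qp hK hp hp1
  have heq : Subgroup.centralizer {E0 (1, p)} ⊓ Subgroup.centralizer {jG hK} =
      (Subgroup.prod ⊤ (H39.tor p)).map E0 := by
    ext x
    rw [Subgroup.mem_inf, Subgroup.mem_centralizer_singleton_iff, ← hr, Subgroup.mem_map]
    constructor
    · rintro ⟨h, ⟨b, y⟩, rfl⟩
      rw [← map_mul, ← map_mul] at h
      refine ⟨(b, y), Subgroup.mem_prod.2 ⟨trivial, ?_⟩, rfl⟩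
      rw [← hcent, Subgroup.mem_centralizer_singleton_iff]
      exact congrArg Prod.snd (hE h)
    · rintro ⟨⟨b, y⟩, hy, rfl⟩
      refine ⟨?_, ⟨_, rfl⟩⟩
      rw [← map_mul, ← map_mul, Prod.mk_mul_mk, Prod.mk_mul_mk, mul_one, one_mul,
        (H39.tor_comm hp1 (Subgroup.mem_prod.1 hy).2 (H39.self_mem_tor p)).eq]
  refine ⟨?_, ?_⟩
  · rw [heq, Subgroup.card_map_of_injective hE,
      Nat.card_congr (Subgroup.prodEquiv ⊤ (H39.tor p)).toEquiv, Nat.card_prod, Subgroup.card_top,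
      hcard, h1, show Nat.card (Multiplicative (ZMod 2)) = 2 by simp]
    ring
  · rw [heq]
    rintro _ ⟨⟨b, y⟩, hy, rfl⟩ _ ⟨⟨b', y'⟩, hy', rfl⟩
    rw [← map_mul, ← map_mul, Prod.mk_mul_mk, Prod.mk_mul_mk, mul_comm b b',
      (H39.tor_comm hp1 (Subgroup.mem_prod.1 hy).2 (Subgroup.mem_prod.1 hy').2).eq]

theorem inf_centralizer_invol (hm : 1 ≤ m) {t i : ↥(RG K m)} (ht : t ^ qp m = 1) (ht1 : t ≠ 1)
    (hi1 : i ≠ 1) (hi2 : i * i = 1) (hc : t * i = i * t) :
    Nat.card ↥(Subgroup.centralizer {t} ⊓ Subgroup.centralizer {i}) = 3 ^ (2 * m + 1) + 1 ∧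
    (∀ x ∈ Subgroup.centralizer {t} ⊓ Subgroup.centralizer {i},
      ∀ y ∈ Subgroup.centralizer {t} ⊓ Subgroup.centralizer {i}, x * y = y * x) := by
  obtain ⟨g, hg⟩ := involution_conj hK hm hi1 hi2
  have ht' : (g⁻¹ * t * g) ^ qp m = 1 := by
    rw [show g⁻¹ * t * g = MulAut.conj g⁻¹ t by simp, ← map_pow, ht, map_one]
  have ht1' : g⁻¹ * t * g ≠ 1 := by
    rw [show g⁻¹ * t * g = g⁻¹ * t * g⁻¹⁻¹ by group, ne_eq, conj_eq_one_iff]; exact ht1
  have hc' : g⁻¹ * t * g * jG hK = jG hK * (g⁻¹ * t * g) := by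
    calc g⁻¹ * t * g * jG hK = g⁻¹ * (t * (g * jG hK * g⁻¹)) * g := by group
      _ = g⁻¹ * (g * jG hK * g⁻¹ * t) * g := by rw [hg, hc]
      _ = _ := by group
  obtain ⟨hcard, hcomm⟩ := inf_centralizer_j hK ht' ht1' hc'
  have hmem : ∀ x, x ∈ Subgroup.centralizer {t} ⊓ Subgroup.centralizer {i} ↔
      g⁻¹ * x * g ∈ Subgroup.centralizer {g⁻¹ * t * g} ⊓ Subgroup.centralizer {jG hK} := by
    intro x
    rw [Subgroup.mem_inf, Subgroup.mem_inf, ← hg, mem_centralizer_conj]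
    conv_lhs => rw [show t = g * (g⁻¹ * t * g) * g⁻¹ by group, mem_centralizer_conj]
  refine ⟨?_, fun x hx y hy => ?_⟩
  · rw [← hcard]
    exact Nat.card_congr
      { toFun := fun x => ⟨g⁻¹ * x * g, (hmem x).1 x.2⟩
        invFun := fun x => ⟨g * x * g⁻¹, (hmem _).2 (by
          rw [show g⁻¹ * (g * (x : ↥(RG K m)) * g⁻¹) * g = x by group]; exact x.2)⟩
        left_inv := fun x => Subtype.ext (by show g * (g⁻¹ * x * g) * g⁻¹ = _; group)
        right_inv := fun x => Subtype.ext (by show g⁻¹ * (g * x * g⁻¹) * g = _; group) }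
  · have h := hcomm _ ((hmem x).1 hx) _ ((hmem y).1 hy)
    calc x * y = g * (g⁻¹ * x * g * (g⁻¹ * y * g)) * g⁻¹ := by group
      _ = g * (g⁻¹ * y * g * (g⁻¹ * x * g)) * g⁻¹ := by rw [h]
      _ = y * x := by group

theorem two_group_sq {Q : Subgroup ↥(RG K m)} (hQ : IsPGroup 2 ↥Q) {x : ↥(RG K m)} (hx : x ∈ Q) :
    x * x = 1 := by
  obtain ⟨S, hS⟩ := hQ.exists_le_sylow
  exact (sylow_two_elementary hK S).2 x (hS hx)

theorem two_group_comm {Q : Subgroup ↥(RG K m)} (hQ : IsPGroup 2 ↥Q) {x y : ↥(RG K m)} (hx : x ∈ Q)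
    (hy : y ∈ Q) : x * y = y * x := by
  have hinv : ∀ z ∈ Q, z⁻¹ = z := fun z hz => inv_eq_of_mul_eq_one_right (two_group_sq hK hQ hz)
  have := hinv _ (mul_mem hx hy)
  rwa [mul_inv_rev, hinv x hx, hinv y hy, eq_comm] at this

set_option maxHeartbeats 2000000 in
/-- The centralizer of an element of order dividing `(q+1)/4` in `C(j)`. -/
theorem centralizer_qp (hm : 1 ≤ m) {t : ↥(RG K m)} (ht : t ^ qp m = 1) (ht1 : t ≠ 1)
    (hc : t * jG hK = jG hK * t) :
    Subgroup.centralizer {t} ≤ Subgroup.centralizer {jG hK} := by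
  classical
  obtain ⟨hq4, -, ho, -, h3p, -, -, -⟩ := q_arith m
  set C := Subgroup.centralizer {t} with hC
  set L := C ⊓ Subgroup.centralizer {jG hK} with hL
  obtain ⟨hLc, hLab⟩ := inf_centralizer_j hK ht ht1 hc
  have hjC : jG hK ∈ C := Subgroup.mem_centralizer_singleton_iff.2 hc.symm
  have hjne : jG hK ≠ 1 := jG_ne hK
  have hj2 : jG hK * jG hK = 1 := Subtype.ext (jR_sq hK)
  have : Fact (Nat.Prime 2) := ⟨Nat.prime_two⟩
  have hzj : IsPGroup 2 ↥(Subgroup.zpowers (⟨jG hK, hjC⟩ : ↥C)) := IsPGroup.of_card (n := 1) (by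
    rw [Nat.card_zpowers, pow_one, ← Subgroup.orderOf_coe]
    exact orderOf_eq_prime (by rw [sq]; exact hj2) hjne)
  obtain ⟨P, hP⟩ := hzj.exists_le_sylow
  have hjP : (⟨jG hK, hjC⟩ : ↥C) ∈ (P : Subgroup ↥C) := hP (Subgroup.mem_zpowers _)
  set Q := (P : Subgroup ↥C).map C.subtype with hQ
  have hQp : IsPGroup 2 ↥Q := P.2.map _
  have hQmem : ∀ x : ↥C, x ∈ (P : Subgroup ↥C) → (x : ↥(RG K m)) ∈ Q := fun x hx => ⟨x, hx, rfl⟩
  have hPcomm : ∀ x ∈ (P : Subgroup ↥C), ∀ y ∈ (P : Subgroup ↥C), x * y = y * x := fun x hx y hy =>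
    Subtype.ext (two_group_comm hK hQp (hQmem x hx) (hQmem y hy))
  have hPsq : ∀ x ∈ (P : Subgroup ↥C), x * x = 1 := fun x hx =>
    Subtype.ext (two_group_sq hK hQp (hQmem x hx))
  have hQL : Q ≤ L := by
    rintro _ ⟨x, hx, rfl⟩
    exact Subgroup.mem_inf.2 ⟨x.2, Subgroup.mem_centralizer_singleton_iff.2
      (two_group_comm hK hQp (hQmem x hx) (hQmem _ hjP))⟩
  have hQc : Nat.card ↥Q = Nat.card ↥(P : Subgroup ↥C) :=
    Subgroup.card_map_of_injective (Subtype.val_injective)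
  -- the order of the Sylow subgroup
  have hPc : Nat.card ↥(P : Subgroup ↥C) = 4 := by
    obtain ⟨k, hk⟩ := P.2.exists_card_eq
    have hdvd : Nat.card ↥(P : Subgroup ↥C) ∣ 4 * qp m := by
      rw [← hQc, ← hq4, ← hLc]; exact Subgroup.card_dvd_of_le hQL
    have h4C : 4 ∣ Nat.card ↥(P : Subgroup ↥C) := by
      have h4 : 4 ∣ Nat.card ↥C := dvd_trans ⟨qp m, hLc.trans hq4⟩ (Subgroup.card_dvd_of_le inf_le_left)
      rw [← (P : Subgroup ↥C).card_mul_index] at h4
      exact Nat.Coprime.dvd_of_dvd_mul_right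
        (Nat.Coprime.pow_left 2 (Nat.prime_two.coprime_iff_not_dvd.2 P.not_dvd_index)) h4
    rw [hk] at hdvd h4C ⊢
    have h2 : 2 ^ k ∣ 4 := (Nat.Coprime.pow_left k
      (Nat.prime_two.coprime_iff_not_dvd.2 ho.not_two_dvd_nat)).dvd_of_dvd_mul_right hdvd
    exact Nat.dvd_antisymm h2 h4C
  -- every involution of `P` has the same centraliser in `C`
  have hsame : ∀ i ∈ (P : Subgroup ↥C), i ≠ 1 → C ⊓ Subgroup.centralizer {(i : ↥(RG K m))} = L := by
    intro i hi hi1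
    have hiL : (i : ↥(RG K m)) ∈ L := hQL (hQmem i hi)
    have hle : L ≤ C ⊓ Subgroup.centralizer {(i : ↥(RG K m))} := fun x hx => Subgroup.mem_inf.2
      ⟨(Subgroup.mem_inf.1 hx).1, Subgroup.mem_centralizer_singleton_iff.2 (hLab x hx _ hiL)⟩
    have hci := (inf_centralizer_invol hK hm ht ht1 (fun h => hi1 (Subtype.ext h))
      (congrArg Subtype.val (hPsq i hi)) (Subgroup.mem_centralizer_singleton_iff.1 i.2).symm).1
    exact (Subgroup.eq_of_le_of_card_ge hle (by rw [hci, hLc])).symm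
  -- Burnside's transfer
  have h3C : ¬ 3 ∣ Nat.card ↥C := by
    intro h
    have : Fact (Nat.Prime 3) := ⟨Nat.prime_three⟩
    obtain ⟨x, hx⟩ := exists_prime_orderOf_dvd_card' (G := ↥C) 3 h
    exact qp_not_commute_three hK ht ht1 (by rw [Subgroup.orderOf_coe]; exact hx)
      (Subgroup.mem_centralizer_singleton_iff.1 x.2).symm
  have hN : Subgroup.normalizer ((P : Subgroup ↥C) : Set ↥C) ≤ Subgroup.centralizer ((P : Subgroup ↥C) : Set ↥C) := by
    intro n hn
    rw [Subgroup.mem_centralizer_iff]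
    -- action on the three involutions
    set X := {x : ↥(P : Subgroup ↥C) // x ≠ 1}
    have hX : Nat.card X = 3 := by
      have h := hPc
      rw [Nat.card_eq_fintype_card] at h
      rw [Nat.card_eq_fintype_card, Fintype.card_subtype_compl, Fintype.card_subtype_eq, h]
    let f : ↥(Subgroup.normalizer ((P : Subgroup ↥C) : Set ↥C)) →* Equiv.Perm X :=
      { toFun := fun g =>
          { toFun := fun x => ⟨⟨(g : ↥C) * x.1 * (g : ↥C)⁻¹, (Subgroup.mem_normalizer_iff.1 g.2 _).1 x.1.2⟩,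
              fun h => x.2 (Subtype.ext (conj_eq_one_iff.1 (congrArg Subtype.val h)))⟩
            invFun := fun x => ⟨⟨(g : ↥C)⁻¹ * x.1 * (g : ↥C), (Subgroup.mem_normalizer_iff.1 g.2 _).2 (by
                rw [show (g : ↥C) * ((g : ↥C)⁻¹ * x.1 * g) * (g : ↥C)⁻¹ = x.1 by group]; exact x.1.2)⟩,
              fun h => x.2 (by
                have e : (g : ↥C)⁻¹ * x.1 * g = 1 := congrArg Subtype.val h
                rw [show (g : ↥C)⁻¹ * x.1 * g = (g : ↥C)⁻¹ * x.1 * (g : ↥C)⁻¹⁻¹ by group,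
                  conj_eq_one_iff] at e
                exact Subtype.ext e)⟩
            left_inv := fun x => Subtype.ext (Subtype.ext (by
              show (g : ↥C)⁻¹ * ((g : ↥C) * x.1 * (g : ↥C)⁻¹) * g = x.1; group))
            right_inv := fun x => Subtype.ext (Subtype.ext (by
              show (g : ↥C) * ((g : ↥C)⁻¹ * x.1 * (g : ↥C)) * (g : ↥C)⁻¹ = x.1; group)) }
        map_one' := Equiv.ext fun x => Subtype.ext (Subtype.ext (by simp))
        map_mul' := fun a b => Equiv.ext fun x => Subtype.ext (Subtype.ext (by simp [mul_assoc])) }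
    have hfix : ∀ (g : ↥(Subgroup.normalizer ((P : Subgroup ↥C) : Set ↥C))), f g = 1 →
        ∀ y ∈ (P : Subgroup ↥C), y * g = g * y := by
      intro g hg y hy
      by_cases hy1 : y = 1
      · rw [hy1, one_mul, mul_one]
      · have := congrArg (fun σ : Equiv.Perm X => ((σ ⟨⟨y, hy⟩, fun h => hy1 (congrArg Subtype.val h)⟩).1 : ↥C)) hg
        exact (mul_inv_eq_iff_eq_mul.1 this).symm
    set n' : ↥(Subgroup.normalizer ((P : Subgroup ↥C) : Set ↥C)) := ⟨n, hn⟩
    -- `f n'` squares to one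
    have h6 : f n' ^ 6 = 1 := by
      have := pow_card_eq_one' (x := f n')
      rwa [Nat.card_perm, hX] at this
    have hd6 : orderOf (f n') ∣ 6 := orderOf_dvd_of_pow_eq_one h6
    have hdn : orderOf (f n') ∣ Nat.card ↥C := (orderOf_map_dvd f n').trans
      (by rw [← Subgroup.orderOf_coe]; exact orderOf_dvd_natCard _)
    have hd2 : orderOf (f n') ∣ 2 := by
      refine Nat.Coprime.dvd_of_dvd_mul_right (k := orderOf (f n')) (n := 3) ?_ (m := 2) (by simpa using hd6)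
      exact ((Nat.prime_three.coprime_iff_not_dvd).2 fun h => h3C (h.trans hdn)).symm
    -- the 2-part of `n` lies in `P`
    intro y hy
    have hfn : f n' = 1 := by
      obtain ⟨a, o, hodd, e⟩ := Nat.exists_eq_two_pow_mul_odd (orderOf_pos n).ne'
      have hz : IsPGroup 2 ↥(Subgroup.zpowers (n ^ o)) := IsPGroup.of_card (n := a) (by
        rw [Nat.card_zpowers, orderOf_pow, e, Nat.gcd_eq_right (dvd_mul_left _ _),
          Nat.mul_div_cancel _ hodd.pos])
      have hmemP : n ^ o ∈ (P : Subgroup ↥C) := by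
        have hle : Subgroup.zpowers (n ^ o) ≤ Subgroup.normalizer ((P : Subgroup ↥C) : Set ↥C) :=
          Subgroup.zpowers_le.2 (pow_mem hn o)
        have hsup := IsPGroup.to_sup_of_normal_right' hz P.2 hle
        exact (P.3 hsup le_sup_right).le (Subgroup.mem_sup_left (Subgroup.mem_zpowers _))
      have h1 : f (n' ^ o) = 1 := Equiv.ext fun x => Subtype.ext (Subtype.ext (by
        show n ^ o * x.1 * (n ^ o)⁻¹ = x.1
        rw [hPcomm _ hmemP _ x.1.2, mul_inv_cancel_right]))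
      rw [map_pow] at h1
      obtain ⟨s, hs⟩ := hodd
      rwa [hs, pow_succ, pow_mul, orderOf_dvd_iff_pow_eq_one.1 hd2, one_pow, one_mul] at h1
    exact hfix n' hfn y hy
  set M := (MonoidHom.transferSylow P hN).ker with hM
  have hcompl := MonoidHom.ker_transferSylow_isComplement' P hN
  have hModd : Odd (Nat.card ↥M) := by
    have h1 := hcompl.card_mul
    have h2 := (P : Subgroup ↥C).card_mul_index
    have hidx := P.not_dvd_index
    rw [← h2, mul_comm, Nat.mul_right_inj (by rw [hPc]; norm_num)] at h1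
    rw [h1, ← Nat.not_even_iff_odd]
    exact fun he => hidx he.two_dvd
  obtain ⟨k, hk⟩ := hModd
  have hsqrt : ∀ x ∈ M, (x ^ (k + 1)) * (x ^ (k + 1)) = x := fun x hx => by
    rw [← pow_add, show k + 1 + (k + 1) = (2 * k + 1) + 1 by ring, pow_succ, ← hk]
    have : (⟨x, hx⟩ : ↥M) ^ Nat.card ↥M = 1 := pow_card_eq_one'
    rw [show x ^ Nat.card ↥M = 1 from congrArg Subtype.val this, one_mul]
  have hnorm : ∀ (g : ↥C), ∀ x ∈ M, g * x * g⁻¹ ∈ M := fun g x hx => (MonoidHom.normal_ker _).conj_mem x hx g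
  -- three involutions
  obtain ⟨i1, hi1P, hi11, i2, hi2P, hi21, h12⟩ : ∃ i1 ∈ (P : Subgroup ↥C), i1 ≠ 1 ∧
      ∃ i2 ∈ (P : Subgroup ↥C), i2 ≠ 1 ∧ i1 ≠ i2 := by
    have h3 : 1 < ((Finset.univ : Finset ↥(P : Subgroup ↥C)).erase 1).card := by
      rw [Finset.card_erase_of_mem (Finset.mem_univ _), Finset.card_univ, ← Nat.card_eq_fintype_card, hPc]
      norm_num
    obtain ⟨a, ha, b, hb, hab⟩ := Finset.one_lt_card.1 h3
    exact ⟨a, a.2, fun h => (Finset.mem_erase.1 ha).1 (Subtype.ext h), b, b.2,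
      fun h => (Finset.mem_erase.1 hb).1 (Subtype.ext h), fun h => hab (Subtype.ext h)⟩
  have hinv : ∀ i ∈ (P : Subgroup ↥C), i⁻¹ = i := fun i hi => inv_eq_of_mul_eq_one_right (hPsq i hi)
  have hi12 : i1 * i2 = i2 * i1 := hPcomm _ hi1P _ hi2P
  -- elements of `M` centralised by one involution are centralised by all
  have hfixall : ∀ i ∈ (P : Subgroup ↥C), i ≠ 1 → ∀ i' ∈ (P : Subgroup ↥C), ∀ x : ↥C,
      i * x * i = x → i' * x * i' = x := by
    intro i hi hine i' hi' x hx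
    have hx' : i * x = x * i := by
      calc i * x = (i * x * i) * i := by rw [mul_assoc _ i i, hPsq i hi, mul_one]
        _ = x * i := by rw [hx]
    have hxL : (x : ↥(RG K m)) ∈ L := by
      rw [← hsame i hi hine]
      exact Subgroup.mem_inf.2 ⟨x.2, Subgroup.mem_centralizer_singleton_iff.2 (congrArg Subtype.val hx').symm⟩
    have := hLab _ hxL _ (hQL (hQmem i' hi'))
    have : x * i' = i' * x := Subtype.ext this
    rw [← this, mul_assoc, hPsq i' hi', mul_one]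
  -- nothing in `M` is inverted by `i1`
  have hI1 : ∀ x ∈ M, i1 * x * i1 = x⁻¹ → x = 1 := by
    intro x hx hx1
    set w := (i2 * x * i2)⁻¹ * x with hw
    have hwM : w ∈ M := mul_mem (inv_mem (by
      have := hnorm i2 x hx
      rwa [hinv _ hi2P] at this)) hx
    have hw2 : i2 * w * i2 = w⁻¹ := by
      rw [hw]
      simp only [mul_inv_rev, inv_inv, hinv _ hi2P, mul_assoc]
      rw [← mul_assoc i2 i2, hPsq _ hi2P, one_mul]
    set z := w ^ (k + 1) with hz
    have hz2 : i2 * z * i2 = z⁻¹ := by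
      rw [hz, ← inv_pow, ← hw2]
      conv_lhs => rw [show i2 * w ^ (k + 1) * i2 = i2 * w ^ (k + 1) * i2⁻¹ by rw [hinv _ hi2P]]
      rw [← conj_pow, hinv _ hi2P]
    set a := x * z⁻¹ with ha
    have hzz : z * z = w := hsqrt w hwM
    have ha2 : i2 * a * i2 = a := by
      calc i2 * a * i2 = (i2 * x * i2) * (i2 * z * i2)⁻¹ := by
            simp only [ha, mul_inv_rev, hinv _ hi2P, mul_assoc]
            rw [← mul_assoc i2 i2 (z⁻¹ * i2), hPsq _ hi2P, one_mul]
        _ = (i2 * x * i2) * z := by rw [hz2, inv_inv]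
        _ = (i2 * x * i2) * ((z * z) * z⁻¹) := by group
        _ = (i2 * x * i2) * (((i2 * x * i2)⁻¹ * x) * z⁻¹) := by rw [hzz]
        _ = a := by rw [ha]; group
    have hzM : z ∈ M := pow_mem hwM _
    have haM : a ∈ M := mul_mem hx (inv_mem hzM)
    have ha1 : i1 * a * i1 = a := hfixall i2 hi2P hi21 i1 hi1P a ha2
    set z1 := i1 * z * i1 with hz1
    have e1 : a * z1 = z⁻¹ * a⁻¹ := by
      calc a * z1 = (i1 * a * i1) * (i1 * z * i1) := by rw [ha1, hz1]
        _ = i1 * (a * z) * i1 := by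
            simp only [mul_assoc]; rw [← mul_assoc i1 i1 (z * i1), hPsq _ hi1P, one_mul]
        _ = x⁻¹ := by rw [ha, inv_mul_cancel_right, hx1]
        _ = z⁻¹ * a⁻¹ := by rw [ha]; group
    have e2 : a * z1⁻¹ = z * a⁻¹ := by
      have hz12 : i2 * z1 * i2 = z1⁻¹ := by
        calc i2 * z1 * i2 = i1 * (i2 * z * i2) * i1 := by
              rw [hz1]; simp only [mul_assoc]
              rw [← mul_assoc i2 i1 (z * (i1 * i2)), ← hi12, mul_assoc, hi12]
          _ = z1⁻¹ := by rw [hz2, hz1]; simp only [mul_inv_rev, hinv _ hi1P, mul_assoc]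
      have hainv : i2 * a⁻¹ * i2 = a⁻¹ := by
        conv_rhs => rw [← ha2]
        simp only [mul_inv_rev, hinv _ hi2P, mul_assoc]
      calc a * z1⁻¹ = (i2 * a * i2) * (i2 * z1 * i2) := by rw [ha2, hz12]
        _ = i2 * (a * z1) * i2 := by
            simp only [mul_assoc]; rw [← mul_assoc i2 i2 (z1 * i2), hPsq _ hi2P, one_mul]
        _ = i2 * (z⁻¹ * a⁻¹) * i2 := by rw [e1]
        _ = (i2 * z * i2)⁻¹ * (i2 * a⁻¹ * i2) := by
            simp only [mul_inv_rev, hinv _ hi2P, mul_assoc]; rw [← mul_assoc i2 i2, hPsq _ hi2P, one_mul]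
        _ = z * a⁻¹ := by rw [hz2, inv_inv, hainv]
    have e3 : z * (a * a)⁻¹ * z⁻¹ = a * a := by
      have hz1a : z1 = a⁻¹ * z⁻¹ * a⁻¹ := by rw [mul_assoc, ← e1, inv_mul_cancel_left]
      have hz1b : z1⁻¹ = a⁻¹ * z * a⁻¹ := by rw [mul_assoc, ← e2, inv_mul_cancel_left]
      have h := mul_inv_cancel z1
      rw [hz1b, hz1a] at h
      -- a⁻¹ z⁻¹ a⁻² z a⁻¹ = 1
      have h2 : (a * a)⁻¹ * z = z * (a * a) := by
        calc (a * a)⁻¹ * z = z * a * (a⁻¹ * z⁻¹ * a⁻¹ * (a⁻¹ * z * a⁻¹)) * a := by group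
          _ = z * (a * a) := by rw [h]; group
      have h3 : z * (a * a) * z⁻¹ = (a * a)⁻¹ := by rw [← h2, mul_inv_cancel_right]
      calc z * (a * a)⁻¹ * z⁻¹ = (z * (a * a) * z⁻¹)⁻¹ := by simp only [mul_inv_rev, inv_inv, mul_assoc]
        _ = a * a := by rw [h3, inv_inv]
    -- so `z` centralises `a²`
    have hzc : z * (a * a) = (a * a) * z := by
      have h4 : z * z * (a * a) * (z * z)⁻¹ = a * a := by
        calc z * z * (a * a) * (z * z)⁻¹ = z * (z * (a * a) * z⁻¹) * z⁻¹ := by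
              simp only [mul_inv_rev, mul_assoc]
          _ = z * (z * (a * a)⁻¹ * z⁻¹)⁻¹ * z⁻¹ := by simp only [mul_inv_rev, inv_inv, mul_assoc]
          _ = _ := by rw [e3, e3]
      have hc2 : Commute (z * z) (a * a) := mul_inv_eq_iff_eq_mul.1 h4
      have := hc2.pow_left (k + 1)
      rw [← sq, ← pow_mul, show 2 * (k + 1) = (2 * k + 1) + 1 by ring, pow_succ, ← hk] at this
      have h1 : (⟨z, hzM⟩ : ↥M) ^ Nat.card ↥M = 1 := pow_card_eq_one'
      rw [show z ^ Nat.card ↥M = 1 from congrArg Subtype.val h1, one_mul] at this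
      exact this.eq
    have e4 : (a * a)⁻¹ = a * a := by
      calc (a * a)⁻¹ = (z * (a * a) * z⁻¹)⁻¹ := by rw [hzc, mul_inv_cancel_right]
        _ = z * (a * a)⁻¹ * z⁻¹ := by simp only [mul_inv_rev, inv_inv, mul_assoc]
        _ = a * a := e3
    have ha_one : a = 1 := by
      rw [inv_eq_iff_mul_eq_one] at e4
      have h4 : (⟨a, haM⟩ : ↥M) ^ 4 = 1 := Subtype.ext (by
        show a ^ 4 = 1
        rw [show (4 : ℕ) = 2 + 2 from rfl, pow_add, sq]; exact e4)
      have hd := orderOf_dvd_of_pow_eq_one h4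
      have hd' : orderOf (⟨a, haM⟩ : ↥M) ∣ Nat.card ↥M := orderOf_dvd_natCard _
      have hcop : Nat.Coprime 4 (Nat.card ↥M) := by
        rw [show (4 : ℕ) = 2 ^ 2 from rfl]
        exact Nat.Coprime.pow_left _ (Nat.coprime_two_left.2 ⟨k, hk⟩)
      have := Nat.eq_one_of_dvd_coprimes hcop hd hd'
      exact congrArg Subtype.val (orderOf_eq_one_iff.1 this)
    rw [ha, mul_inv_eq_one] at ha_one
    have hxinv : i2 * x * i2 = x⁻¹ := by rw [ha_one]; exact hz2
    have h3P := mul_mem hi1P hi2P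
    have h3ne : i1 * i2 ≠ 1 := fun h => h12 (by rw [← hinv _ hi2P]; exact mul_eq_one_iff_eq_inv.1 h)
    have h3fix : (i1 * i2) * x * (i1 * i2) = x := by
      calc (i1 * i2) * x * (i1 * i2) = i1 * (i2 * x * i2) * i1 := by
            rw [hi12]; simp only [mul_assoc]; rw [← mul_assoc i2 i1 (x * _), ← hi12]
            simp only [mul_assoc]
        _ = (i1 * x * i1)⁻¹ := by rw [hxinv]; simp only [mul_inv_rev, hinv _ hi1P, mul_assoc]
        _ = x := by rw [hx1, inv_inv]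
    have hx' := hfixall _ h3P h3ne i1 hi1P x h3fix
    rw [hx1] at hx'
    have h2 : (⟨x, hx⟩ : ↥M) ^ 2 = 1 := Subtype.ext (by
      show x ^ 2 = 1
      rw [sq]; nth_rewrite 1 [← hx']; exact inv_mul_cancel x)
    have hd := orderOf_dvd_of_pow_eq_one h2
    have := Nat.eq_one_of_dvd_coprimes (Nat.coprime_two_left.2 ⟨k, hk⟩) hd (orderOf_dvd_natCard _)
    exact congrArg Subtype.val (orderOf_eq_one_iff.1 this)
  have hMfix : ∀ y ∈ M, i1 * y * i1 = y := by
    intro y hy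
    have h := hI1 ((i1 * y * i1)⁻¹ * y) (mul_mem (inv_mem (by
      have := hnorm i1 y hy
      rwa [hinv _ hi1P] at this)) hy) (by
        simp only [mul_inv_rev, inv_inv, hinv _ hi1P, mul_assoc]
        rw [← mul_assoc i1 i1, hPsq _ hi1P, one_mul])
    exact inv_mul_eq_one.1 h
  -- conclusion
  intro c hcC
  have htop := hcompl.sup_eq_top
  have hle : M ⊔ (P : Subgroup ↥C) ≤ L.subgroupOf C := by
    refine sup_le (fun y hy => ?_) (fun y hy => hQL (hQmem y hy))
    rw [Subgroup.mem_subgroupOf, ← hsame i1 hi1P hi11]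
    refine Subgroup.mem_inf.2 ⟨y.2, Subgroup.mem_centralizer_singleton_iff.2 ?_⟩
    have e : y * i1 = i1 * y := by
      calc y * i1 = (i1 * y * i1) * i1 := by rw [hMfix y hy]
        _ = i1 * y := by rw [mul_assoc, hPsq _ hi1P, mul_one]
    exact congrArg Subtype.val e
  exact (Subgroup.mem_inf.1 (hle (htop ▸ Subgroup.mem_top (⟨c, hcC⟩ : ↥C)))).2

end H52.Ree2
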