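import Cfsg.Agent.H52.ReeKlein

/-!
The cyclic subgroup of order `(q + 1)/4` of a small Ree group, its centraliser and its normaliser.
-/

set_option autoImplicit false
set_option linter.unusedSectionVars false

namespace H52.Ree2

open Cfsg.Lie

variable {K : Type*} [Field K] [Fintype K] {m : ℕ} (hK : Fintype.card K = 3 ^ (2 * m + 1))

/-- The chosen embedding of `Z₂ × PSL₂(q)` onto `C(j)`. -/
noncomputable def eC (hK : Fintype.card K = 3 ^ (2 * m + 1)) :
    Multiplicative (ZMod 2) × Matrix.ProjectiveSpecialLinearGroup (Fin 2) K →* ↥(RG K m) :=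
  (exists_E0 hK).choose

/-- The involution of `PSL₂`. -/
noncomputable def pw (K : Type*) [Field K] : Matrix.ProjectiveSpecialLinearGroup (Fin 2) K :=
  QuotientGroup.mk sW

/-- The abelian subgroup of order `q + 1`. -/
noncomputable def L0 (hK : Fintype.card K = 3 ^ (2 * m + 1)) : Subgroup ↥(RG K m) :=
  (Subgroup.prod ⊤ (H39.tor (pw K))).map (eC hK)

include hK

theorem eC_spec : Function.Injective (eC hK) ∧ eC hK (Multiplicative.ofAdd 1, 1) = jG hK ∧
    (eC hK).range = Subgroup.centralizer {jG hK} := (exists_E0 hK).choose_spec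

theorem pw_order : orderOf (pw K) = 2 := by
  have h3 := three_eq_zero hK
  refine orderOf_eq_prime ?_ ?_
  · rw [pw, ← fV_w h3, ← map_pow, show ((Multiplicative.ofAdd (1 : ZMod 2), (1 : Multiplicative (ZMod 2))) ^ 2) = 1
      from Prod.ext (by rw [Prod.pow_fst, sq]; exact zmod_two_sq hK _) (by simp), map_one]
  · intro e
    exact d8_facts.2.1 (fV_injective h3 (by rw [fV_w h3, map_one]; exact e))

theorem pw_ne : pw K ≠ 1 := fun e => by
  have := pw_order hK
  rw [e, orderOf_one] at this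
  omega

theorem pw_ss : pw K ^ 3 ≠ 1 := by
  intro e
  have h := orderOf_dvd_of_pow_eq_one e
  rw [pw_order hK] at h
  norm_num at h

theorem L0_card : Nat.card ↥(L0 hK) = 4 * qp m := by
  rw [L0, Subgroup.card_map_of_injective (eC_spec hK).1,
    Nat.card_congr (Subgroup.prodEquiv ⊤ (H39.tor (pw K))).toEquiv, Nat.card_prod, Subgroup.card_top,
    tor_invol_card hK (pw_order hK), show Nat.card (Multiplicative (ZMod 2)) = 2 by simp]
  ring

theorem L0_comm {x y : ↥(RG K m)} (hx : x ∈ L0 hK) (hy : y ∈ L0 hK) : x * y = y * x := by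
  obtain ⟨⟨a, p⟩, hp, rfl⟩ := hx
  obtain ⟨⟨b, q⟩, hq, rfl⟩ := hy
  rw [← map_mul, ← map_mul, Prod.mk_mul_mk, Prod.mk_mul_mk, mul_comm a b,
    (H39.tor_comm (pw_ne hK) (Subgroup.mem_prod.1 hp).2 (Subgroup.mem_prod.1 hq).2).eq]

theorem L0_exp {x : ↥(RG K m)} (hx : x ∈ L0 hK) : x ^ (2 * qp m) = 1 := by
  obtain ⟨⟨a, p⟩, hp, rfl⟩ := hx
  rw [← map_pow, show ((a, p) : Multiplicative (ZMod 2) × _) ^ (2 * qp m) = 1 from Prod.ext
    (by simp only [Prod.pow_fst, Prod.fst_one]; rw [pow_mul, sq, zmod_two_sq hK, one_pow])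
    (by
      simp only [Prod.pow_snd, Prod.snd_one]
      rw [← tor_invol_card hK (pw_order hK)]
      exact congrArg Subtype.val (pow_card_eq_one' (x := (⟨p, (Subgroup.mem_prod.1 hp).2⟩ : ↥(H39.tor (pw K)))))),
    map_one]

/-- The cyclic subgroup of order `(q + 1)/4`. -/
noncomputable def AT (hK : Fintype.card K = 3 ^ (2 * m + 1)) : Subgroup ↥(RG K m) where
  carrier := {x | x ∈ L0 hK ∧ x ^ qp m = 1}
  one_mem' := ⟨one_mem _, one_pow _⟩
  mul_mem' := fun {x y} hx hy => ⟨mul_mem hx.1 hy.1, by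
    rw [Commute.mul_pow (L0_comm hK hx.1 hy.1), hx.2, hy.2, one_mul]⟩
  inv_mem' := fun {x} hx => ⟨inv_mem hx.1, by rw [inv_pow, hx.2, inv_one]⟩

theorem AT_cyclic : IsCyclic ↥(AT hK) ∧ Nat.card ↥(AT hK) = qp m := by
  classical
  have := charP3 hK
  have : Fact (Nat.Prime 3) := ⟨Nat.prime_three⟩
  have : IsCyclic ↥(H39.tor (pw K)) := H39.tor_isCyclic 3 (pw_ss hK)
  obtain ⟨c, hc⟩ := IsCyclic.exists_ofOrder_eq_natCard (α := ↥(H39.tor (pw K)))
  rw [tor_invol_card hK (pw_order hK)] at hc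
  obtain ⟨-, -, ho, -, -, -, -, -⟩ := q_arith m
  have hcmem : ((1 : Multiplicative (ZMod 2)), ((c ^ 2 : ↥(H39.tor (pw K))) : Matrix.ProjectiveSpecialLinearGroup (Fin 2) K)) ∈
      Subgroup.prod ⊤ (H39.tor (pw K)) := Subgroup.mem_prod.2 ⟨trivial, (c ^ 2).2⟩
  set x0 : ↥(RG K m) := eC hK (1, ((c ^ 2 : ↥(H39.tor (pw K))) : Matrix.ProjectiveSpecialLinearGroup (Fin 2) K)) with hx0
  have hord : orderOf x0 = qp m := by
    rw [hx0, orderOf_injective _ (eC_spec hK).1, Prod.orderOf_mk, orderOf_one, Nat.lcm_one_left,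
      Subgroup.orderOf_coe, orderOf_pow, hc, Nat.gcd_mul_right_left, Nat.mul_div_cancel_left _ two_pos]
  have hle : Subgroup.zpowers x0 ≤ AT hK := by
    rw [Subgroup.zpowers_le]
    exact ⟨⟨_, hcmem, rfl⟩, orderOf_dvd_iff_pow_eq_one.1 (dvd_of_eq hord)⟩
  have hinj : Nat.card ↥(AT hK) ≤ qp m := by
    have : IsCyclic ↥(H39.tor (pw K)) := H39.tor_isCyclic 3 (pw_ss hK)
    letI : CommGroup ↥(H39.tor (pw K)) := IsCyclic.commGroup
    have h1 : Nat.card ↥((powMonoidHom (qp m) : ↥(H39.tor (pw K)) →* ↥(H39.tor (pw K))).ker) = qp m := by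
      rw [IsCyclic.card_powMonoidHom_ker, tor_invol_card hK (pw_order hK)]
      exact Nat.gcd_eq_right (dvd_mul_left _ _)
    conv_rhs => rw [← h1]
    choose z hz hzx using fun x : ↥(AT hK) => (show (x : ↥(RG K m)) ∈ L0 hK from x.2.1)
    have hpow : ∀ x : ↥(AT hK), z x ^ qp m = 1 := fun x => (eC_spec hK).1 (by
      rw [map_pow, hzx, map_one]; exact x.2.2)
    refine Nat.card_le_card_of_injective (fun x => ⟨⟨(z x).2, (Subgroup.mem_prod.1 (hz x)).2⟩,
      MonoidHom.mem_ker.2 (Subtype.ext (congrArg Prod.snd (hpow x)))⟩) ?_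
    intro x y h
    have h2 : (z x).2 = (z y).2 := congrArg (fun w => ((w.1 : ↥(H39.tor (pw K))) : Matrix.ProjectiveSpecialLinearGroup (Fin 2) K)) h
    have h1 : (z x).1 = (z y).1 :=
      (zmod_two_odd hK ho (congrArg Prod.fst (hpow x))).trans (zmod_two_odd hK ho (congrArg Prod.fst (hpow y))).symm
    exact Subtype.ext (by rw [← hzx x, ← hzx y, Prod.ext h1 h2])
  have heq := Subgroup.eq_of_le_of_card_ge hle (by rw [Nat.card_zpowers, hord]; exact hinj)
  rw [← heq]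
  exact ⟨inferInstance, by rw [Nat.card_zpowers, hord]⟩

theorem jG_mem_L0 : jG hK ∈ L0 hK :=
  ⟨(Multiplicative.ofAdd 1, 1), Subgroup.mem_prod.2 ⟨trivial, one_mem _⟩, (eC_spec hK).2.1⟩

theorem centralizer_AT (hm : 1 ≤ m) {t : ↥(RG K m)} (ht : t ∈ AT hK) (ht1 : t ≠ 1) :
    Subgroup.centralizer {t} = L0 hK := by
  have hc := L0_comm hK ht.1 (jG_mem_L0 hK)
  have hle : L0 hK ≤ Subgroup.centralizer {t} := fun x hx =>
    Subgroup.mem_centralizer_singleton_iff.2 (L0_comm hK hx ht.1)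
  have hge := centralizer_qp hK hm ht.2 ht1 hc
  have hcard := (inf_centralizer_j hK ht.2 ht1 hc).1
  rw [inf_eq_left.2 hge] at hcard
  exact (Subgroup.eq_of_le_of_card_ge hle (by rw [hcard, L0_card hK, (q_arith m).1])).symm

theorem centralizer_L0 (hm : 1 ≤ m) {x : ↥(RG K m)} (hx : x ∈ L0 hK) (hx2 : x * x ≠ 1) :
    Subgroup.centralizer {x} = L0 hK := by
  refine le_antisymm ?_ fun y hy => Subgroup.mem_centralizer_singleton_iff.2 (L0_comm hK hy hx)
  have h2 : x * x ∈ AT hK := ⟨mul_mem hx hx, by rw [← sq, ← pow_mul]; exact L0_exp hK hx⟩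
  rw [← centralizer_AT hK hm h2 hx2]
  intro y hy
  rw [Subgroup.mem_centralizer_singleton_iff] at hy ⊢
  exact (Commute.mul_right hy hy).eq

theorem AT_index_coprime {p : ℕ} (hp : p.Prime) (hd : p ∣ qp m) : ¬ p ∣ (AT hK).index := by
  obtain ⟨h1, h2, ho, -, h3p, -, hco, -⟩ := q_arith m
  intro hi
  have := (AT hK).card_mul_index
  set q := 3 ^ (2 * m + 1) with hq
  have hN : q ^ 3 + 1 = 4 * qp m * (q ^ 2 - q + 1) := by
    rw [← h1]
    have : q ≤ q ^ 2 := Nat.le_self_pow (by norm_num) q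
    zify [this]
    ring
  rw [(AT_cyclic hK).2, card_ree hK, ← hq, hN, h2,
    show q ^ 3 * (2 * qh m) * (4 * qp m * (q ^ 2 - q + 1)) = qp m * (q ^ 3 * (2 * qh m) * 4 * (q ^ 2 - q + 1)) by ring,
    Nat.mul_right_inj (by rintro e; rw [e] at ho; exact absurd ho (by decide))] at this
  rw [this] at hi
  have hp2 : p ≠ 2 := fun e => ho.not_two_dvd_nat (e ▸ hd)
  have hp3 : p ≠ 3 := fun e => h3p (e ▸ hd)
  rcases hp.dvd_mul.1 hi with h | h
  rcases hp.dvd_mul.1 h with h | h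
  rcases hp.dvd_mul.1 h with h | h
  · rw [hq, ← pow_mul] at h
    exact hp3 ((Nat.prime_dvd_prime_iff_eq hp Nat.prime_three).1 (hp.dvd_of_dvd_pow h))
  · rcases hp.dvd_mul.1 h with h | h
    · exact hp2 ((Nat.prime_dvd_prime_iff_eq hp Nat.prime_two).1 h)
    · exact hp.not_dvd_one (Nat.eq_one_of_dvd_coprimes hco hd h ▸ dvd_rfl)
  · exact hp2 ((Nat.prime_dvd_prime_iff_eq hp Nat.prime_two).1 (hp.dvd_of_dvd_pow (show p ∣ 2 ^ 2 from h)))
  · have hq1 : p ∣ q + 1 := h1 ▸ dvd_mul_of_dvd_right hd 4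
    have h3 : p ∣ 3 := by
      have hle : q ≤ q ^ 2 := Nat.le_self_pow (by norm_num) q
      have hz : (p : ℤ) ∣ ((q : ℤ) + 1) := by exact_mod_cast hq1
      have hz' : (p : ℤ) ∣ ((q : ℤ) ^ 2 - q + 1) := by
        have := Int.natCast_dvd_natCast.2 h
        push_cast [Nat.cast_sub hle] at this
        exact this
      have h3' : (p : ℤ) ∣ 3 := by
        have := dvd_sub hz' (dvd_mul_of_dvd_left hz ((q : ℤ) - 2))
        rwa [show ((q : ℤ) ^ 2 - q + 1) - ((q : ℤ) + 1) * ((q : ℤ) - 2) = 3 by ring] at this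
      exact_mod_cast h3'
    exact hp3 ((Nat.prime_dvd_prime_iff_eq hp Nat.prime_three).1 h3)

theorem exists_conj_AT (hm : 1 ≤ m) {t : ↥(RG K m)} (ht : t ^ qp m = 1) :
    ∃ g, g⁻¹ * t * g ∈ AT hK := by
  by_cases ht1 : t = 1
  · exact ⟨1, by simp [ht1, one_mem]⟩
  obtain ⟨p, hp, hd⟩ := Nat.exists_prime_and_dvd (n := orderOf t) (fun e => ht1 (orderOf_eq_one_iff.1 e))
  have : Fact p.Prime := ⟨hp⟩
  have hd' : p ∣ qp m := hd.trans (orderOf_dvd_of_pow_eq_one ht)
  have ho : orderOf (t ^ (orderOf t / p)) = p ^ 1 := by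
    rw [pow_one, orderOf_pow_of_dvd (by
      exact (Nat.div_pos (Nat.le_of_dvd (orderOf_pos t) hd) hp.pos).ne') (Nat.div_dvd_of_dvd hd),
      Nat.div_div_self hd (orderOf_pos t).ne']
  obtain ⟨g, hg⟩ := exists_conj_mem (AT hK) (AT_index_coprime hK hp hd') ho
  have hne : g⁻¹ * t ^ (orderOf t / p) * g ≠ 1 := by
    rw [show g⁻¹ * t ^ (orderOf t / p) * g = g⁻¹ * t ^ (orderOf t / p) * g⁻¹⁻¹ by group, ne_eq, conj_eq_one_iff]
    intro e
    rw [e, orderOf_one, pow_one] at ho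
    exact hp.one_lt.ne ho
  refine ⟨g, ?_, ?_⟩
  · show g⁻¹ * t * g ∈ L0 hK
    rw [← centralizer_AT hK hm hg hne, Subgroup.mem_centralizer_singleton_iff]
    calc g⁻¹ * t * g * (g⁻¹ * t ^ (orderOf t / p) * g) = g⁻¹ * (t * t ^ (orderOf t / p)) * g := by group
      _ = g⁻¹ * (t ^ (orderOf t / p) * t) * g := by rw [← pow_succ, ← pow_succ']
      _ = _ := by group
  · show (g⁻¹ * t * g) ^ qp m = 1
    rw [show g⁻¹ * t * g = MulAut.conj g⁻¹ t by simp, ← map_pow, ht, map_one]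

/-- The second involution of the standard Klein four group. -/
noncomputable def kG (hK : Fintype.card K = 3 ^ (2 * m + 1)) : ↥(RG K m) := eC hK (1, pw K)

theorem L0_invol {x : ↥(RG K m)} (hx : x ∈ L0 hK) (hx2 : x * x = 1) :
    x = 1 ∨ x = jG hK ∨ x = kG hK ∨ x = jG hK * kG hK := by
  obtain ⟨hinj, hj, -⟩ := eC_spec hK
  obtain ⟨⟨a, p⟩, hp, rfl⟩ := hx
  have := charP3 hK
  have : Fact (Nat.Prime 3) := ⟨Nat.prime_three⟩
  have e := congrArg Prod.snd (hinj (hx2.trans (map_one (eC hK)).symm |> (map_mul (eC hK) _ _).trans))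
  have hp' : p = 1 ∨ p = pw K := by
    by_cases h : p = 1
    · exact Or.inl h
    · right
      have ho : orderOf p = 2 := orderOf_eq_prime (by rw [sq]; exact e) h
      exact H39.tor_invol_unique 3 (pw_ss hK) (Subgroup.mem_prod.1 hp).2 (H39.self_mem_tor _) ho (pw_order hK)
  have ha : a = 1 ∨ a = Multiplicative.ofAdd 1 := by
    have h2 : ∀ b : Multiplicative (ZMod 2), b = 1 ∨ b = Multiplicative.ofAdd 1 := by decide
    exact h2 a
  rcases ha with rfl | rfl <;> rcases hp' with rfl | rfl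
  · exact Or.inl (map_one _)
  · exact Or.inr (Or.inr (Or.inl rfl))
  · exact Or.inr (Or.inl hj)
  · refine Or.inr (Or.inr (Or.inr ?_))
    rw [← hj, kG, ← map_mul, Prod.mk_mul_mk, mul_one, one_mul]

theorem kG_facts : kG hK ∈ L0 hK ∧ kG hK * kG hK = 1 ∧ kG hK ≠ 1 ∧ kG hK ≠ jG hK := by
  obtain ⟨hinj, hj, -⟩ := eC_spec hK
  refine ⟨⟨_, Subgroup.mem_prod.2 ⟨trivial, H39.self_mem_tor _⟩, rfl⟩, ?_, fun e => ?_, fun e => ?_⟩
  · rw [kG, ← map_mul, Prod.mk_mul_mk, mul_one, ← sq]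
    have := pow_orderOf_eq_one (pw K)
    rw [pw_order hK] at this
    rw [this]; exact map_one _
  · exact pw_ne hK (congrArg Prod.snd (hinj (e.trans (map_one _).symm)))
  · rw [← hj] at e
    exact pw_ne hK (congrArg Prod.snd (hinj e))

/-- All Klein four groups are conjugate. -/
theorem klein_conj (hm : 1 ≤ m) {i k : ↥(RG K m)} (hi : i ≠ 1) (hi2 : i * i = 1) (hk : k ≠ 1)
    (hk2 : k * k = 1) (hik : i * k = k * i) (hne : i ≠ k) :
    ∃ g, g * i * g⁻¹ = jG hK ∧ g * k * g⁻¹ ∈ L0 hK := by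
  obtain ⟨g, hg⟩ := involution_conj hK hm hi hi2
  obtain ⟨hinj, hj, hr⟩ := eC_spec hK
  have := charP3 hK
  have : Fact (Nat.Prime 3) := ⟨Nat.prime_three⟩
  have hkC : g⁻¹ * k * g ∈ (eC hK).range := by
    rw [hr, Subgroup.mem_centralizer_singleton_iff]
    calc g⁻¹ * k * g * jG hK = g⁻¹ * (k * (g * jG hK * g⁻¹)) * g := by group
      _ = g⁻¹ * (g * jG hK * g⁻¹ * k) * g := by rw [hg, hik]
      _ = _ := by group
  obtain ⟨⟨a, p⟩, hap⟩ := hkC
  have hpp : p * p = 1 := by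
    have h : g⁻¹ * k * g * (g⁻¹ * k * g) = 1 := by
      rw [show g⁻¹ * k * g * (g⁻¹ * k * g) = g⁻¹ * (k * k) * g by group, hk2]; group
    rw [← hap, ← map_mul] at h
    exact congrArg Prod.snd (hinj (h.trans (map_one _).symm))
  have hp1 : p ≠ 1 := by
    rintro rfl
    have h2 : ∀ b : Multiplicative (ZMod 2), b = 1 ∨ b = Multiplicative.ofAdd 1 := by decide
    rcases h2 a with rfl | rfl
    · apply hk
      calc k = g * (g⁻¹ * k * g) * g⁻¹ := by group
        _ = 1 := by rw [← hap, show ((1 : Multiplicative (ZMod 2)), (1 : Matrix.ProjectiveSpecialLinearGroup (Fin 2) K)) = 1 from rfl, map_one]; group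
    · apply hne
      calc i = g * jG hK * g⁻¹ := hg.symm
        _ = g * (g⁻¹ * k * g) * g⁻¹ := by rw [← hj, hap]
        _ = k := by group
  obtain ⟨d, hd⟩ := isConj_iff.1 (H39.invol_isConj 3 (orderOf_eq_prime (by rw [sq]; exact hpp) hp1) (pw_order hK))
  refine ⟨eC hK (1, d) * g⁻¹, ?_, ?_⟩
  · rw [← hg, show eC hK (1, d) * g⁻¹ * (g * jG hK * g⁻¹) * (eC hK (1, d) * g⁻¹)⁻¹ =
      eC hK (1, d) * jG hK * (eC hK (1, d))⁻¹ by group, ← hj, ← map_inv, ← map_mul, ← map_mul]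
    congr 1
    exact Prod.ext (by simp) (by simp)
  · rw [show eC hK (1, d) * g⁻¹ * k * (eC hK (1, d) * g⁻¹)⁻¹ =
      eC hK (1, d) * (g⁻¹ * k * g) * (eC hK (1, d))⁻¹ by group, ← hap, ← map_inv, ← map_mul, ← map_mul]
    refine ⟨_, Subgroup.mem_prod.2 ⟨trivial, ?_⟩, rfl⟩
    show d * p * d⁻¹ ∈ _
    rw [hd]; exact H39.self_mem_tor _

theorem AT_conj_mem (hm : 1 ≤ m) {g t : ↥(RG K m)} (ht : t ∈ AT hK) (ht1 : t ≠ 1)
    (hgt : g * t * g⁻¹ ∈ AT hK) : g ∈ Subgroup.normalizer (L0 hK : Set ↥(RG K m)) := by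
  have e1 := centralizer_AT hK hm ht ht1
  have e2 := centralizer_AT hK hm hgt (fun h => ht1 (conj_eq_one_iff.1 h))
  rw [Subgroup.mem_normalizer_iff]
  intro x
  rw [← e1]
  conv_rhs => rw [e1, ← e2, mem_centralizer_conj, show g⁻¹ * (g * x * g⁻¹) * g = x by group]

theorem AT_exists_ne (hm : 1 ≤ m) : ∃ t ∈ AT hK, t ≠ 1 := by
  refine (Subgroup.bot_or_exists_ne_one (AT hK)).resolve_left fun h => ?_
  have := (AT_cyclic hK).2
  rw [h, Subgroup.card_bot] at this
  have := qp_ge hm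
  omega

theorem L0_normalizer_le_AT :
    Subgroup.normalizer (L0 hK : Set ↥(RG K m)) ≤ Subgroup.normalizer (AT hK : Set ↥(RG K m)) := by
  intro g hg
  rw [Subgroup.mem_normalizer_iff] at hg ⊢
  intro x
  have hp : (g * x * g⁻¹) ^ qp m = g * x ^ qp m * g⁻¹ := conj_pow
  constructor
  · rintro ⟨h1, h2⟩; exact ⟨(hg x).1 h1, by rw [hp, h2, mul_one, mul_inv_cancel]⟩
  · rintro ⟨h1, h2⟩; exact ⟨(hg x).2 h1, conj_eq_one_iff.1 (hp ▸ h2)⟩

theorem normalizer_AT_sub (hm : 1 ≤ m) {A₀ : Subgroup ↥(RG K m)} (hle : A₀ ≤ AT hK) (hne : A₀ ≠ ⊥) :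
    Subgroup.normalizer (A₀ : Set ↥(RG K m)) = Subgroup.normalizer (L0 hK : Set ↥(RG K m)) := by
  refine le_antisymm (fun g hg => ?_)
    ((L0_normalizer_le_AT hK).trans (normalizer_le_of_cyclic (AT_cyclic hK).1 hle))
  obtain ⟨x, hx, hx1⟩ := (Subgroup.bot_or_exists_ne_one A₀).resolve_left hne
  exact AT_conj_mem hK hm (hle hx) hx1 (hle ((Subgroup.mem_normalizer_iff.1 hg x).1 hx))

/-- The standard Klein four group. -/
noncomputable def VK (hK : Fintype.card K = 3 ^ (2 * m + 1)) : Subgroup ↥(RG K m) where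
  carrier := {x | x ∈ L0 hK ∧ x * x = 1}
  one_mem' := ⟨one_mem _, one_mul _⟩
  mul_mem' := fun {x y} hx hy => ⟨mul_mem hx.1 hy.1, by
    rw [mul_assoc, ← mul_assoc y, L0_comm hK hy.1 hx.1, mul_assoc, ← mul_assoc x x, hx.2, one_mul, hy.2]⟩
  inv_mem' := fun {x} hx => ⟨inv_mem hx.1, by rw [← mul_inv_rev, hx.2, inv_one]⟩

theorem VK_card : Nat.card ↥(VK hK) = 4 := by
  classical
  obtain ⟨k1, k2, k3, k4⟩ := kG_facts hK
  have hj : jG hK ∈ VK hK := ⟨jG_mem_L0 hK, Subtype.ext (jR_sq hK)⟩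
  have hset : (VK hK : Set ↥(RG K m)) = ↑({1, jG hK, kG hK, jG hK * kG hK} : Finset ↥(RG K m)) := by
    ext x
    simp only [Finset.coe_insert, Finset.coe_singleton, Set.mem_insert_iff, Set.mem_singleton_iff, SetLike.mem_coe]
    constructor
    · rintro ⟨h1, h2⟩; exact L0_invol hK h1 h2
    · rintro (rfl | rfl | rfl | rfl)
      · exact one_mem _
      · exact hj
      · exact ⟨k1, k2⟩
      · exact mul_mem hj ⟨k1, k2⟩
  rw [show Nat.card ↥(VK hK) = Nat.card ↥(VK hK : Set ↥(RG K m)) from rfl, hset, Nat.card_coe_set_eq,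
    Set.ncard_coe_finset]
  · have hjk : jG hK * kG hK ≠ 1 := fun h => k4 (by
      calc kG hK = (jG hK)⁻¹ := eq_inv_of_mul_eq_one_right h
        _ = jG hK := inv_eq_of_mul_eq_one_right hj.2)
    rw [Finset.card_insert_of_notMem, Finset.card_insert_of_notMem, Finset.card_insert_of_notMem,
      Finset.card_singleton]
    · simp only [Finset.mem_singleton]; exact fun h => jG_ne hK (mul_eq_right.1 h.symm)
    · simp only [Finset.mem_insert, Finset.mem_singleton]
      push Not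
      exact ⟨fun h => k4 h.symm, fun h => k3 (mul_eq_left.1 h.symm)⟩
    · simp only [Finset.mem_insert, Finset.mem_singleton]
      push Not
      exact ⟨fun h => jG_ne hK h.symm, fun h => k3 h.symm, fun h => hjk h.symm⟩

theorem centralizer_VK : Subgroup.centralizer {jG hK} ⊓ Subgroup.centralizer {kG hK} =
    (Subgroup.prod ⊤ (Subgroup.centralizer {pw K})).map (eC hK) := by
  obtain ⟨hinj, hj, hr⟩ := eC_spec hK
  ext x
  rw [Subgroup.mem_inf, ← hr, Subgroup.mem_map]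
  constructor
  · rintro ⟨⟨⟨a, y⟩, rfl⟩, hk⟩
    rw [Subgroup.mem_centralizer_singleton_iff, kG, ← map_mul, ← map_mul] at hk
    exact ⟨(a, y), Subgroup.mem_prod.2 ⟨trivial,
      Subgroup.mem_centralizer_singleton_iff.2 (congrArg Prod.snd (hinj hk))⟩, rfl⟩
  · rintro ⟨⟨a, y⟩, hy, rfl⟩
    refine ⟨⟨_, rfl⟩, ?_⟩
    rw [Subgroup.mem_centralizer_singleton_iff, kG, ← map_mul, ← map_mul, Prod.mk_mul_mk, Prod.mk_mul_mk,
      mul_one, one_mul, Subgroup.mem_centralizer_singleton_iff.1 (Subgroup.mem_prod.1 hy).2]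

theorem card_centralizer_VK :
    Nat.card ↥(Subgroup.centralizer {jG hK} ⊓ Subgroup.centralizer {kG hK}) = 8 * qp m := by
  have := charP3 hK
  have : Fact (Nat.Prime 3) := ⟨Nat.prime_three⟩
  obtain ⟨h1, -, -, -, -, -, -, h4⟩ := q_arith m
  rw [centralizer_VK hK, Subgroup.card_map_of_injective (eC_spec hK).1,
    Nat.card_congr (Subgroup.prodEquiv ⊤ (Subgroup.centralizer {pw K})).toEquiv, Nat.card_prod,
    Subgroup.card_top, H39.card_centralizer_invol 3 (odd_card hK) (pw_order hK), hK,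
    H39.evenHalf, if_neg (by omega), show Nat.card (Multiplicative (ZMod 2)) = 2 by simp]
  omega

theorem centralizer_VK_odd {x : ↥(RG K m)}
    (hx : x ∈ Subgroup.centralizer {jG hK} ⊓ Subgroup.centralizer {kG hK}) (hq : x ^ qp m = 1) :
    x ∈ AT hK := by
  have := charP3 hK
  have : Fact (Nat.Prime 3) := ⟨Nat.prime_three⟩
  obtain ⟨-, -, ho, -, -, -, -, -⟩ := q_arith m
  refine ⟨?_, hq⟩
  rw [centralizer_VK hK] at hx
  obtain ⟨⟨a, y⟩, hy, rfl⟩ := hx
  refine ⟨_, Subgroup.mem_prod.2 ⟨trivial, ?_⟩, rfl⟩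
  have hyq : y ^ qp m = 1 := congrArg Prod.snd ((eC_spec hK).1 (show eC hK ((a, y) ^ qp m) = eC hK 1 by
    rw [map_pow, map_one]; exact hq))
  show y ∈ H39.tor (pw K)
  by_contra hT
  have hN : y ∈ Subgroup.normalizer (H39.tor (pw K) : Set (Matrix.ProjectiveSpecialLinearGroup (Fin 2) K)) := by
    rw [← H39.centralizer_invol 3 (odd_card hK) (pw_order hK)]; exact (Subgroup.mem_prod.1 hy).2
  obtain ⟨h2, h3, -⟩ := H39.normalizer_outside 3 (pw_ss hK) hN hT
  obtain ⟨s, hs⟩ := ho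
  rw [hs, pow_succ, pow_mul, h2, one_pow, one_mul] at hyq
  exact h3 hyq

theorem normalizer_VK_le : Subgroup.normalizer (VK hK : Set ↥(RG K m)) ≤
    Subgroup.normalizer (AT hK : Set ↥(RG K m)) := by
  intro g hg
  have hV := Subgroup.mem_normalizer_iff.1 hg
  have hC : ∀ x, (∀ y ∈ VK hK, x * y = y * x) → x ∈ Subgroup.centralizer {jG hK} ⊓ Subgroup.centralizer {kG hK} :=
    fun x hx => Subgroup.mem_inf.2
      ⟨Subgroup.mem_centralizer_singleton_iff.2 (hx _ ⟨jG_mem_L0 hK, Subtype.ext (jR_sq hK)⟩),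
        Subgroup.mem_centralizer_singleton_iff.2 (hx _ ⟨(kG_facts hK).1, (kG_facts hK).2.1⟩)⟩
  have key : ∀ g : ↥(RG K m), (∀ y, y ∈ VK hK → g⁻¹ * y * g ∈ VK hK) → ∀ x ∈ AT hK, g * x * g⁻¹ ∈ AT hK := by
    intro g hg x hx
    refine centralizer_VK_odd hK (hC _ fun y hy => ?_) (by rw [conj_pow, hx.2, mul_one, mul_inv_cancel])
    have h := L0_comm hK hx.1 (hg y hy).1
    calc g * x * g⁻¹ * y = g * (x * (g⁻¹ * y * g)) * g⁻¹ := by group
      _ = g * (g⁻¹ * y * g * x) * g⁻¹ := by rw [h]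
      _ = _ := by group
  rw [Subgroup.mem_normalizer_iff]
  intro x
  constructor
  · exact key g (fun y hy => (hV _).2 (by rw [show g * (g⁻¹ * y * g) * g⁻¹ = y by group]; exact hy)) x
  · intro hx
    have := key g⁻¹ (fun y hy => by rw [inv_inv]; exact (hV y).1 hy) _ hx
    rwa [show g⁻¹ * (g * x * g⁻¹) * g⁻¹⁻¹ = x by group] at this

theorem normalizer_L0_le : Subgroup.normalizer (L0 hK : Set ↥(RG K m)) ≤
    Subgroup.normalizer (VK hK : Set ↥(RG K m)) := by
  intro g hg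
  rw [Subgroup.mem_normalizer_iff] at hg ⊢
  intro x
  have hp : g * x * g⁻¹ * (g * x * g⁻¹) = g * (x * x) * g⁻¹ := by group
  constructor
  · rintro ⟨h1, h2⟩; exact ⟨(hg x).1 h1, by rw [hp, h2, mul_one, mul_inv_cancel]⟩
  · rintro ⟨h1, h2⟩; exact ⟨(hg x).2 h1, conj_eq_one_iff.1 (hp ▸ h2)⟩

theorem normalizers_eq (hm : 1 ≤ m) :
    Subgroup.normalizer (AT hK : Set ↥(RG K m)) = Subgroup.normalizer (L0 hK : Set ↥(RG K m)) ∧
    Subgroup.normalizer (VK hK : Set ↥(RG K m)) = Subgroup.normalizer (L0 hK : Set ↥(RG K m)) := by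
  obtain ⟨t, ht, ht1⟩ := AT_exists_ne hK hm
  have h1 : Subgroup.normalizer (AT hK : Set ↥(RG K m)) = Subgroup.normalizer (L0 hK : Set ↥(RG K m)) :=
    normalizer_AT_sub hK hm le_rfl (fun h => ht1 (Subgroup.mem_bot.1 (h ▸ ht)))
  exact ⟨h1, le_antisymm ((normalizer_VK_le hK).trans h1.le) (normalizer_L0_le hK)⟩

set_option maxHeartbeats 2000000 in
theorem card_normalizer_AT (hm : 1 ≤ m) :
    Nat.card ↥(Subgroup.normalizer (AT hK : Set ↥(RG K m))) = 24 * qp m := by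
  classical
  obtain ⟨e1, e2⟩ := normalizers_eq hK hm
  rw [e1, ← e2]
  obtain ⟨h1, -, ho, -, h3p, -, -, -⟩ := q_arith m
  obtain ⟨hinj, hj, hr⟩ := eC_spec hK
  set N := Subgroup.normalizer (VK hK : Set ↥(RG K m))
  letI : Fintype ↥(VK hK) := Fintype.ofFinite _
  set X := {x : ↥(VK hK) // x ≠ 1}
  have hX : Nat.card X = 3 := by
    have h := VK_card hK
    rw [Nat.card_eq_fintype_card] at h
    rw [Nat.card_eq_fintype_card, Fintype.card_subtype_compl, Fintype.card_subtype_eq, h]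
  let f : ↥N →* Equiv.Perm X :=
    { toFun := fun g =>
        { toFun := fun x => ⟨⟨(g : ↥(RG K m)) * x.1 * (g : ↥(RG K m))⁻¹, (Subgroup.mem_normalizer_iff.1 g.2 _).1 x.1.2⟩,
            fun h => x.2 (Subtype.ext (conj_eq_one_iff.1 (congrArg Subtype.val h)))⟩
          invFun := fun x => ⟨⟨(g : ↥(RG K m))⁻¹ * x.1 * (g : ↥(RG K m)), (Subgroup.mem_normalizer_iff.1 g.2 _).2 (by
              rw [show (g : ↥(RG K m)) * ((g : ↥(RG K m))⁻¹ * x.1 * g) * (g : ↥(RG K m))⁻¹ = x.1 by group]; exact x.1.2)⟩,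
            fun h => x.2 (by
              have e : (g : ↥(RG K m))⁻¹ * x.1 * g = 1 := congrArg Subtype.val h
              rw [show (g : ↥(RG K m))⁻¹ * x.1 * g = (g : ↥(RG K m))⁻¹ * x.1 * (g : ↥(RG K m))⁻¹⁻¹ by group,
                conj_eq_one_iff] at e
              exact Subtype.ext e)⟩
          left_inv := fun x => Subtype.ext (Subtype.ext (by
            show (g : ↥(RG K m))⁻¹ * ((g : ↥(RG K m)) * x.1 * (g : ↥(RG K m))⁻¹) * g = x.1; group))
          right_inv := fun x => Subtype.ext (Subtype.ext (by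
            show (g : ↥(RG K m)) * ((g : ↥(RG K m))⁻¹ * x.1 * (g : ↥(RG K m))) * (g : ↥(RG K m))⁻¹ = x.1; group)) }
      map_one' := Equiv.ext fun x => Subtype.ext (Subtype.ext (by simp))
      map_mul' := fun a b => Equiv.ext fun x => Subtype.ext (Subtype.ext (by simp [mul_assoc])) }
  have happ : ∀ (g : ↥N) (x : X), ((f g x).1 : ↥(RG K m)) = (g : ↥(RG K m)) * x.1 * (g : ↥(RG K m))⁻¹ :=
    fun g x => rfl
  have hjV : jG hK ∈ VK hK := ⟨jG_mem_L0 hK, Subtype.ext (jR_sq hK)⟩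
  have hkV : kG hK ∈ VK hK := ⟨(kG_facts hK).1, (kG_facts hK).2.1⟩
  -- the kernel
  have hker : f.ker.map N.subtype = Subgroup.centralizer {jG hK} ⊓ Subgroup.centralizer {kG hK} := by
    ext x
    constructor
    · rintro ⟨g, hg, rfl⟩
      rw [SetLike.mem_coe, MonoidHom.mem_ker] at hg
      refine Subgroup.mem_inf.2 ⟨?_, ?_⟩ <;> rw [Subgroup.mem_centralizer_singleton_iff]
      · have := congrArg (fun σ : Equiv.Perm X =>
          ((σ ⟨⟨jG hK, hjV⟩, fun h => jG_ne hK (congrArg Subtype.val h)⟩).1 : ↥(RG K m))) hg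
        exact mul_inv_eq_iff_eq_mul.1 this
      · have := congrArg (fun σ : Equiv.Perm X =>
          ((σ ⟨⟨kG hK, hkV⟩, fun h => (kG_facts hK).2.2.1 (congrArg Subtype.val h)⟩).1 : ↥(RG K m))) hg
        exact mul_inv_eq_iff_eq_mul.1 this
    · intro hx
      obtain ⟨hxj, hxk⟩ := Subgroup.mem_inf.1 hx
      rw [Subgroup.mem_centralizer_singleton_iff] at hxj hxk
      have hfix : ∀ y ∈ VK hK, x * y * x⁻¹ = y := by
        intro y hy
        rw [mul_inv_eq_iff_eq_mul]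
        rcases L0_invol hK hy.1 hy.2 with rfl | rfl | rfl | rfl
        · rw [mul_one, one_mul]
        · exact hxj
        · exact hxk
        · exact (Commute.mul_right hxj hxk).eq
      have hxN : x ∈ N := by
        rw [Subgroup.mem_normalizer_iff]
        intro y
        refine ⟨fun hy => by rw [hfix y hy]; exact hy, fun hy => ?_⟩
        have := hfix _ hy
        rwa [← mul_left_cancel (mul_right_cancel this)]
      exact ⟨⟨x, hxN⟩, MonoidHom.mem_ker.2 (Equiv.ext fun y => Subtype.ext (Subtype.ext (hfix _ y.1.2))), rfl⟩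
  have hkerc : Nat.card ↥f.ker = 8 * qp m := by
    rw [← card_centralizer_VK hK, ← hker, Subgroup.card_map_of_injective N.subtype_injective]
  -- an element of order three
  have h3 := three_eq_zero hK
  set w := eC hK (1, QuotientGroup.mk sW) with hw
  set μ := eC hK (1, QuotientGroup.mk (sM h3)) with hμ
  set E := eC hK (1, QuotientGroup.mk (sE K)) with hE
  obtain ⟨c1, c2⟩ := sE_conj h3
  have hEw : E * w * E⁻¹ = μ := by
    rw [mul_inv_eq_iff_eq_mul, hE, hw, hμ, ← map_mul, ← map_mul, Prod.mk_mul_mk, Prod.mk_mul_mk,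
      ← QuotientGroup.mk_mul, c1, QuotientGroup.mk_mul]
  have hEμ : E * μ * E⁻¹ = w * μ := by
    rw [mul_inv_eq_iff_eq_mul, hE, hw, hμ, ← map_mul, ← map_mul, ← map_mul, Prod.mk_mul_mk, Prod.mk_mul_mk,
      Prod.mk_mul_mk, ← QuotientGroup.mk_mul, c2, QuotientGroup.mk_mul, QuotientGroup.mk_mul, one_mul]
    simp
  have hp := fV_injective h3
  have hsq : ∀ v, eC hK (1, fV h3 v) * eC hK (1, fV h3 v) = 1 := fun v => by
    rw [← map_mul, Prod.mk_mul_mk, one_mul, ← map_mul, show v * v = 1 from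
      Prod.ext (zmod_two_sq hK _) (zmod_two_sq hK _), map_one]
    exact map_one _
  have hw' : w = eC hK (1, fV h3 (Multiplicative.ofAdd 1, 1)) := by rw [fV_w h3]
  have hμ' : μ = eC hK (1, fV h3 (1, Multiplicative.ofAdd 1)) := by rw [fV_m h3]
  have hw1 : w ≠ 1 := fun h => d8_facts.2.1 (hp (by
    rw [fV_w h3, map_one]; exact congrArg Prod.snd (hinj (h.trans (map_one _).symm))))
  have hμ1 : μ ≠ 1 := fun h => d8_facts.2.2.1 (hp (by
    rw [fV_m h3, map_one]; exact congrArg Prod.snd (hinj (h.trans (map_one _).symm))))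
  have hwμ : w ≠ μ := fun h => by
    have := congrArg Prod.snd (hinj (hw'.symm.trans (h.trans hμ')))
    exact d8_facts.2.2.2.1 (Prod.ext rfl (hp this))
  have hcomm : w * μ = μ * w := by rw [hw', hμ', ← map_mul, ← map_mul, Prod.mk_mul_mk, Prod.mk_mul_mk,
    ← map_mul, ← map_mul, mul_comm (Multiplicative.ofAdd (1 : ZMod 2), (1 : Multiplicative (ZMod 2)))]
  obtain ⟨g, hgw, hgμ⟩ := klein_conj hK hm hw1 (hw' ▸ hsq _) hμ1 (hμ' ▸ hsq _) hcomm hwμ
  have hgμV : g * μ * g⁻¹ ∈ VK hK := ⟨hgμ, by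
    rw [show g * μ * g⁻¹ * (g * μ * g⁻¹) = g * (μ * μ) * g⁻¹ by group, show μ * μ = 1 from hμ' ▸ hsq _, mul_one, mul_inv_cancel]⟩
  have hgμ1 : g * μ * g⁻¹ ≠ 1 := fun h => hμ1 (conj_eq_one_iff.1 h)
  have hgμj : g * μ * g⁻¹ ≠ jG hK := fun h => hwμ (by
    rw [← hgw] at h; exact (mul_left_cancel (mul_right_cancel h)).symm)
  set E' := g * E * g⁻¹ with hE'
  have hEj : E' * jG hK * E'⁻¹ = g * μ * g⁻¹ := by rw [← hgw, ← hEw, hE']; group
  have hEμ' : E' * (g * μ * g⁻¹) * E'⁻¹ = jG hK * (g * μ * g⁻¹) := by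
    rw [← hgw, show g * w * g⁻¹ * (g * μ * g⁻¹) = g * (w * μ) * g⁻¹ by group, ← hEμ, hE']; group
  have hE'V : ∀ y ∈ VK hK, E' * y * E'⁻¹ ∈ VK hK := by
    set Y := (Subgroup.zpowers (jG hK) ⊔ Subgroup.zpowers (g * μ * g⁻¹))
    have hYle : Y ≤ VK hK := sup_le (Subgroup.zpowers_le.2 hjV) (Subgroup.zpowers_le.2 hgμV)
    have hY : VK hK ≤ Y := by
      intro y hy
      have hk : kG hK ∈ Y := by
        rcases L0_invol hK hgμV.1 hgμV.2 with h | h | h | h
        · exact absurd h hgμ1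
        · exact absurd h hgμj
        · rw [← h]; exact Subgroup.mem_sup_right (Subgroup.mem_zpowers _)
        · have : kG hK = jG hK * (g * μ * g⁻¹) := by
            rw [h, ← mul_assoc, show jG hK * jG hK = 1 from hjV.2, one_mul]
          rw [this]; exact mul_mem (Subgroup.mem_sup_left (Subgroup.mem_zpowers _)) (Subgroup.mem_sup_right (Subgroup.mem_zpowers _))
      have hjY : jG hK ∈ Y := Subgroup.mem_sup_left (Subgroup.mem_zpowers _)
      rcases L0_invol hK hy.1 hy.2 with rfl | rfl | rfl | rfl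
      · exact one_mem _
      · exact hjY
      · exact hk
      · exact mul_mem hjY hk
    intro y hy
    have : Y ≤ (VK hK).comap (MulAut.conj E').toMonoidHom := sup_le
      (Subgroup.zpowers_le.2 (show E' * jG hK * E'⁻¹ ∈ VK hK by rw [hEj]; exact hgμV))
      (Subgroup.zpowers_le.2 (show E' * (g * μ * g⁻¹) * E'⁻¹ ∈ VK hK by rw [hEμ']; exact mul_mem hjV hgμV))
    exact this (hY hy)
  have hE'N : E' ∈ N := by
    rw [Subgroup.mem_normalizer_iff]
    intro y
    refine ⟨hE'V y, fun h => ?_⟩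
    have hs : Function.Surjective (fun y : ↥(VK hK) => (⟨E' * y * E'⁻¹, hE'V y y.2⟩ : ↥(VK hK))) :=
      Finite.injective_iff_surjective.1 fun a b h =>
        Subtype.ext (mul_left_cancel (mul_right_cancel (congrArg Subtype.val h)))
    obtain ⟨z, hz⟩ := hs ⟨_, h⟩
    rw [← mul_left_cancel (mul_right_cancel (congrArg Subtype.val hz))]
    exact z.2
  have hE3 : E' ^ 3 = 1 := by
    rw [hE', conj_pow, hE, ← map_pow, Prod.pow_mk, one_pow, ← QuotientGroup.mk_pow,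
      show sE K ^ 3 = 1 from ?_, QuotientGroup.mk_one, show ((1 : Multiplicative (ZMod 2)),
        (1 : Matrix.ProjectiveSpecialLinearGroup (Fin 2) K)) = 1 from rfl, map_one, mul_one, mul_inv_cancel]
    apply Subtype.ext
    show !![(0 : K), 1; -1, -1] ^ 3 = 1
    rw [pow_succ, pow_two]
    ext i j
    fin_cases i <;> fin_cases j <;> simp [Matrix.mul_apply, Fin.sum_univ_two]
  have hfE : f ⟨E', hE'N⟩ ≠ 1 := by
    intro h
    have := congrArg (fun σ : Equiv.Perm X =>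
      ((σ ⟨⟨jG hK, hjV⟩, fun h => jG_ne hK (congrArg Subtype.val h)⟩).1 : ↥(RG K m))) h
    exact hgμj (hEj.symm.trans this)
  have hord : orderOf (f ⟨E', hE'N⟩) = 3 := by
    have : Fact (Nat.Prime 3) := ⟨Nat.prime_three⟩
    refine orderOf_eq_prime ?_ hfE
    rw [← map_pow, show (⟨E', hE'N⟩ : ↥N) ^ 3 = 1 from Subtype.ext hE3, map_one]
  have h3d : 3 ∣ Nat.card ↥f.range :=
    hord ▸ Subgroup.orderOf_dvd_natCard _ ⟨_, rfl⟩
  have h6 : Nat.card ↥f.range ∣ 6 := by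
    have := Subgroup.card_subgroup_dvd_card f.range
    rwa [Nat.card_perm, hX] at this
  have htot : Nat.card ↥N = 8 * qp m * Nat.card ↥f.range := by
    have := f.ker.card_mul_index
    rw [Subgroup.index_ker, hkerc] at this
    exact this.symm
  have h16 : ¬ 16 ∣ Nat.card ↥N := by
    intro h
    obtain ⟨o, hodd, hG⟩ := card_two_part hK
    obtain ⟨c, hc⟩ := hG ▸ h.trans N.card_subgroup_dvd_card
    exact hodd.not_two_dvd_nat ⟨c, by omega⟩
  have h3 : Nat.card ↥f.range = 3 := by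
    obtain ⟨c, hc⟩ := h3d
    have hle := Nat.le_of_dvd (by norm_num) h6
    have hne : c ≠ 2 := fun e => h16 ⟨3 * qp m, by rw [htot, hc, e]; ring⟩
    have : 0 < Nat.card ↥f.range := Nat.card_pos
    omega
  rw [htot, h3]; ring

end H52.Ree2
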