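import Cfsg.Agent.H52.ReeTori
import Cfsg.Agent.H76.CoverLift
import Cfsg.Agent.H97.Schur

/-!
Stem extensions of the small Ree groups are trivial.
-/

set_option autoImplicit false
set_option linter.unusedSectionVars false

namespace H52.Ree2

open Cfsg.Lie
open scoped commutatorElement

theorem mem_center_of_map {Γ G : Type*} [Group Γ] [Group G] {π : Γ →* G} (hc : π.ker ≤ Subgroup.center Γ)
    {c : Γ} (h : π c = 1) (g : Γ) : g * c = c * g :=
  Subgroup.mem_center_iff.1 (hc h) g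

section Generic

variable {F M : Type*} [Field F] [CommGroup M] (B : F → F → M)
  (hl : ∀ a a' b, B (a + a') b = B a b * B a' b) (hr : ∀ a b b', B a (b + b') = B a b * B a b')

include hl hr

theorem biadd_zero_left (b : F) : B 0 b = 1 := by
  have := hl 0 0 b
  rwa [add_zero, left_eq_mul] at this

theorem biadd_zero_right (a : F) : B a 0 = 1 := by
  have := hr a 0 0
  rwa [add_zero, left_eq_mul] at this

theorem biadd_neg_right (a b : F) : B a (-b) = (B a b)⁻¹ := by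
  refine (inv_eq_of_mul_eq_one_right ?_).symm
  rw [← hr, add_neg_cancel, biadd_zero_right B hl hr]

theorem biadd_neg_neg (a b : F) : B (-a) (-b) = B a b := by
  have h : ∀ a b, B (-a) b = (B a b)⁻¹ := fun a b => (inv_eq_of_mul_eq_one_right (by
    rw [← hl, add_neg_cancel, biadd_zero_left B hl hr])).symm
  rw [h, biadd_neg_right B hl hr, inv_inv]

/-- A biadditive map negated by a symmetry vanishes in odd characteristic. -/
theorem biadd_vanish_sign (h3 : (3 : F) = 0) (hneg : ∀ a b, B a (-b) = B a b) (a b : F) : B a b = 1 := by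
  have h1 : B a b * B a b = 1 := by
    have h := biadd_neg_right B hl hr a b
    rw [hneg] at h
    nth_rw 2 [h]
    exact mul_inv_cancel _
  have h2 : B a b * B a b * B a b = 1 := by
    rw [← hr, ← hr, show b + b + b = 0 by linear_combination b * h3, biadd_zero_right B hl hr]
  rwa [h1, one_mul] at h2

/-- An invariant biadditive map vanishes unless the weight is additive after inversion. -/
theorem biadd_vanish (μ : F → F) (hμ : ∀ k, k ≠ 0 → μ k ≠ 0) (h1 : μ 1 = 1)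
    (hinv : ∀ k, k ≠ 0 → ∀ a b, B (k * a) (μ k * b) = B a b) (x : F)
    (hx : x ≠ 0) (hx1 : 1 + x ≠ 0) (hj : (μ (1 + x))⁻¹ ≠ 1 + (μ x)⁻¹) (a b : F) : B a b = 1 := by
  have hh : ∀ a, a ≠ 0 → ∀ b, B a b = B 1 (b * (μ a)⁻¹) := fun a ha b => by
    have := hinv a ha 1 (b * (μ a)⁻¹)
    rwa [mul_one, mul_comm b, mul_inv_cancel_left₀ (hμ a ha), mul_comm (μ a)⁻¹] at this
  have key : ∀ b, B 1 b = 1 := by
    intro b
    obtain ⟨u, rfl⟩ : ∃ u, b = u * (μ (1 + x))⁻¹ - (u + u * (μ x)⁻¹) :=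
      ⟨b / ((μ (1 + x))⁻¹ - (1 + (μ x)⁻¹)), (div_mul_cancel₀ b (sub_ne_zero.2 hj)).symm.trans (by ring)⟩
    have e : B 1 (u * (μ (1 + x))⁻¹) = B 1 (u + u * (μ x)⁻¹) := by
      rw [← hh _ hx1, hl, hh x hx, hr]
    rw [sub_eq_add_neg, hr, biadd_neg_right B hl hr, e, mul_inv_cancel]
  by_cases ha : a = 0
  · rw [ha, biadd_zero_left B hl hr]
  · rw [hh a ha, key]

end Generic

variable {K : Type*} [Field K] [Fintype K] {m : ℕ} (hK : Fintype.card K = 3 ^ (2 * m + 1))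

/-- `u(t,u,v)` inside the Ree group. -/
noncomputable def uR (hK : Fintype.card K = 3 ^ (2 * m + 1)) (t u v : K) : ↥(RG K m) :=
  ⟨uW m t u v, (Subgroup.mem_inf.1 (uW_mem_U hK t u v)).2⟩

/-- The torus inside the Ree group. -/
noncomputable def hR (hK : Fintype.card K = 3 ^ (2 * m + 1)) (a : Kˣ) : ↥(RG K m) :=
  ⟨hA hK a, (Subgroup.mem_inf.1 (hA_mem hK a)).2⟩

include hK

theorem uR_mul (t u v t' u' v' : K) : uR hK t u v * uR hK t' u' v' =
    uR hK (t + t') (u + u' - t * t' ^ (3 ^ (m + 1)))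
      (v + v' - u * t' + t * t' ^ (3 ^ (m + 1)) * t' - t ^ 2 * t' ^ (3 ^ (m + 1))) :=
  Subtype.ext (uW_mul hK t u v t' u' v')

theorem uR_zero : uR hK (0 : K) 0 0 = 1 := Subtype.ext (uW_zero hK)

theorem uR_mul_zero (t u v u' v' : K) : uR hK t u v * uR hK 0 u' v' = uR hK t (u + u') (v + v') := by
  rw [uR_mul hK, zero_pow (by positivity : 3 ^ (m + 1) ≠ 0)]
  congr 1 <;> ring

theorem uR_central (t u v v' : K) : uR hK t u v * uR hK 0 0 v' = uR hK 0 0 v' * uR hK t u v := by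
  rw [uR_mul_zero hK, uR_mul hK]
  congr 1 <;> ring

theorem hR_conj (a : Kˣ) (t u v : K) : hR hK a * uR hK t u v * (hR hK a)⁻¹ =
    uR hK ((a : K) ^ (3 ^ (m + 1)) * t) ((a : K) ^ (3 + 3 ^ (m + 1)) * u)
      ((a : K) ^ (3 + 2 * 3 ^ (m + 1)) * v) := Subtype.ext (hA_conj hK a t u v)

theorem pow_bij {n : ℕ} (hn : ∀ a : Kˣ, a ^ n = 1 → a = 1) {x : K} (hx : x ≠ 0) :
    ∃ k : Kˣ, (k : K) ^ n = x := by
  have hinj : Function.Injective (powMonoidHom n : Kˣ →* Kˣ) := by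
    rw [← MonoidHom.ker_eq_bot_iff, eq_bot_iff]
    exact fun a ha => Subgroup.mem_bot.2 (hn a ha)
  obtain ⟨k, hk⟩ := Finite.surjective_of_injective hinj (Units.mk0 x hx)
  exact ⟨k, by rw [← Units.val_pow_eq_pow_val]; exact congrArg Units.val hk⟩

theorem pow_square {x : K} (hx : x ≠ 0) :
    ∃ k : Kˣ, (k : K) ^ (3 + 3 ^ (m + 1)) = x ∨ (k : K) ^ (3 + 3 ^ (m + 1)) = -x := by
  classical
  have h3 := three_eq_zero hK
  let f : Kˣ →* Kˣ := powMonoidHom (3 + 3 ^ (m + 1))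
  have he : Even (3 + 3 ^ (m + 1)) := (show Odd 3 by decide).add_odd (show Odd 3 by decide).pow
  obtain ⟨c, hc⟩ := he
  have hne : (-1 : Kˣ) ≠ 1 := neg_one_units hK
  have hker : Nat.card f.ker ≤ 2 := by
    have : ∀ a : ↥f.ker, a.1 = 1 ∨ a.1 = -1 := fun a => by
      have h := units_pow_u hK a.2
      rw [Units.ext_iff, Units.val_pow_eq_pow_val, Units.val_one, sq_eq_one_iff] at h
      rcases h with h | h
      · exact Or.inl (Units.ext h)
      · exact Or.inr (Units.ext h)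
    refine le_trans (Nat.card_le_card_of_injective
      (fun a : ↥f.ker => (⟨a.1, by simpa using this a⟩ : ({1, -1} : Finset Kˣ))) ?_) ?_
    · intro a b h; exact Subtype.ext (congrArg (fun z => z.1) h)
    · rw [Nat.card_eq_fintype_card, Fintype.card_coe]; exact Finset.card_le_two
  have hneg : (-1 : Kˣ) ∉ f.range := by
    rintro ⟨a, ha⟩
    have h2 : (a ^ c) ^ 2 = -1 := by rw [← pow_mul, mul_two, ← hc]; exact ha
    obtain ⟨-, hq2, -, hoh, -, -, -, -⟩ := q_arith m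
    have h4 : (a ^ c) ^ (2 * qh m) = 1 := by
      rw [← hq2, ← hK, ← Fintype.card_units]; exact pow_card_eq_one
    rw [pow_mul, h2, hoh.neg_one_pow] at h4
    exact hne h4
  have hidx : f.range.index ≤ 2 := by
    have h1 := f.ker.card_mul_index
    rw [Subgroup.index_ker] at h1
    have h2 := f.range.card_mul_index
    have hpos : 0 < Nat.card f.range := Nat.card_pos
    have : Nat.card f.range * f.range.index = Nat.card f.range * Nat.card f.ker := by
      rw [h2, mul_comm, h1]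
    rw [Nat.eq_of_mul_eq_mul_left hpos this]
    exact hker
  set u := Units.mk0 x hx
  by_cases hu : u ∈ f.range
  · obtain ⟨k, hk⟩ := hu
    exact ⟨k, Or.inl (by rw [← Units.val_pow_eq_pow_val]; exact congrArg Units.val hk)⟩
  · have h2 : f.range.index = 2 := by
      have h0 : f.range.index ≠ 0 := Subgroup.index_ne_zero_of_finite
      have h1 : f.range.index ≠ 1 := fun h => hu (by rw [Subgroup.index_eq_one.1 h]; trivial)
      omega
    obtain ⟨k, hk⟩ : -u ∈ f.range := by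
      rw [show -u = -1 * u by rw [neg_one_mul], Subgroup.mul_mem_iff_of_index_two h2]
      exact iff_of_false hneg hu
    exact ⟨k, Or.inr (by rw [← Units.val_pow_eq_pow_val]; exact congrArg Units.val hk)⟩

theorem exists_good_id (hm : 1 ≤ m) : ∃ x : K, x ≠ 0 ∧ 1 + x ≠ 0 ∧ (1 + x)⁻¹ ≠ 1 + x⁻¹ := by
  classical
  obtain ⟨x, -, hx⟩ := Finset.exists_mem_notMem_of_card_lt_card (s := ({0, 1, -1} : Finset K))
    (t := (Finset.univ : Finset K)) (by
      rw [Finset.card_univ, hK]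
      refine lt_of_le_of_lt Finset.card_le_three ?_
      have : 3 ^ 3 ≤ 3 ^ (2 * m + 1) := Nat.pow_le_pow_right (by norm_num) (by omega)
      omega)
  simp only [Finset.mem_insert, Finset.mem_singleton, not_or] at hx
  have h1 : 1 + x ≠ 0 := fun h => hx.2.2 (by linear_combination h)
  refine ⟨x, hx.1, h1, fun h => hx.2.1 ?_⟩
  have h0 := hx.1
  field_simp at h
  have h' : (x - 1) ^ 2 = 0 := by linear_combination -h - x * three_eq_zero hK
  exact sub_eq_zero.1 (pow_eq_zero_iff two_ne_zero |>.1 h')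

theorem exists_good_weight (hm : 1 ≤ m) : ∃ x : K, x ≠ 0 ∧ 1 + x ≠ 0 ∧
    ((1 + x) ^ (3 ^ (m + 1) + 2))⁻¹ ≠ 1 + (x ^ (3 ^ (m + 1) + 2))⁻¹ := by
  classical
  set N := 3 ^ (m + 1) + 2 with hN
  let P : Polynomial K := (1 + Polynomial.X) ^ N * Polynomial.X ^ N + (1 + Polynomial.X) ^ N - Polynomial.X ^ N
  have hP : P ≠ 0 := fun h => by
    have := congrArg (Polynomial.eval 0) h
    simp [P, hN] at this
  have hd : P.natDegree ≤ 2 * N := by
    simp only [P]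
    compute_degree <;> omega
  have hq : 2 * N + 2 < 3 ^ (2 * m + 1) := by
    have h1 : 3 ^ (m + 1) * 3 ≤ 3 ^ (2 * m + 1) := by
      rw [← pow_succ]; exact Nat.pow_le_pow_right (by norm_num) (by omega)
    have h2 : 9 ≤ 3 ^ (m + 1) := le_trans (by norm_num) (Nat.pow_le_pow_right (by norm_num : 0 < 3) (show 2 ≤ m + 1 by omega))
    omega
  obtain ⟨x, -, hx⟩ := Finset.exists_mem_notMem_of_card_lt_card (s := ({0, -1} : Finset K) ∪ P.roots.toFinset)
    (t := (Finset.univ : Finset K)) (by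
      rw [Finset.card_univ, hK]
      refine lt_of_le_of_lt (Finset.card_union_le _ _) ?_
      have h1 : ({0, -1} : Finset K).card ≤ 2 := Finset.card_le_two
      have h2 := (Multiset.toFinset_card_le P.roots).trans (Polynomial.card_roots' P)
      omega)
  simp only [Finset.mem_union, Finset.mem_insert, Finset.mem_singleton, Multiset.mem_toFinset,
    Polynomial.mem_roots hP, Polynomial.IsRoot.def, not_or] at hx
  have h1 : 1 + x ≠ 0 := fun h => hx.1.2 (by linear_combination h)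
  refine ⟨x, hx.1.1, h1, fun h => hx.2 ?_⟩
  simp only [P, Polynomial.eval_sub, Polynomial.eval_add, Polynomial.eval_mul, Polynomial.eval_pow,
    Polynomial.eval_one, Polynomial.eval_X]
  have a := pow_ne_zero N h1
  have b := pow_ne_zero N hx.1.1
  field_simp at h
  linear_combination -h

section Extension

variable {Γ : Type*} [Group Γ] (π : Γ →* ↥(RG K m)) (hs : Function.Surjective π) (hc : π.ker ≤ Subgroup.center Γ)

include hs hc

/-- Lifts of commuting involutions commute. -/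
theorem invol_lifts_commute (hm : 1 ≤ m) {E : Subgroup ↥(RG K m)} (hE : Nat.card ↥E = 8)
    (hEs : ∀ x ∈ E, x * x = 1) {x y : Γ} (hx : π x ∈ E) (hy : π y ∈ E) : Commute x y := by
  classical
  choose s hs' using hs
  have hEc : ∀ a ∈ E, ∀ b ∈ E, a * b = b * a := fun a ha b hb => by
    have hinv : ∀ z ∈ E, z⁻¹ = z := fun z hz => inv_eq_of_mul_eq_one_right (hEs z hz)
    have := hinv _ (mul_mem ha hb)
    rwa [mul_inv_rev, hinv a ha, hinv b hb, eq_comm] at this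
  have hval : ∀ i k : ↥(RG K m), i ≠ 1 → i * i = 1 → k ≠ 1 → k * k = 1 → i * k = k * i → i ≠ k →
      ⁅s i, s k⁆ = ⁅s (jG hK), s (kG hK)⁆ := by
    intro i k hi hi2 hk hk2 hik hne
    obtain ⟨g, hgi, hgk⟩ := klein_conj hK hm hi hi2 hk hk2 hik hne
    have hker : π ⁅s i, s k⁆ = 1 := by
      rw [map_commutatorElement, hs', hs', commutatorElement_eq_one_iff_mul_comm]; exact hik
    have e : ⁅s i, s k⁆ = ⁅s (g * i * g⁻¹), s (g * k * g⁻¹)⁆ := by
      rw [H76.Cover.comm_congr π hc (x := s (g * i * g⁻¹)) (x' := s g * s i * (s g)⁻¹)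
        (y := s (g * k * g⁻¹)) (y' := s g * s k * (s g)⁻¹) (by simp [hs']) (by simp [hs']),
        ← conjugate_commutatorElement, mem_center_of_map hc hker (s g), mul_inv_cancel_right]
    rw [e, hgi]
    have hk2' : g * k * g⁻¹ * (g * k * g⁻¹) = 1 := by
      rw [show g * k * g⁻¹ * (g * k * g⁻¹) = g * (k * k) * g⁻¹ by group, hk2]; group
    rcases L0_invol hK hgk hk2' with h | h | h | h
    · exact absurd (conj_eq_one_iff.1 h) hk
    · exact absurd (mul_left_cancel (mul_right_cancel (hgi.trans h.symm))) hne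
    · rw [h]
    · rw [h, H76.Cover.comm_congr π hc (x := s (jG hK)) (x' := s (jG hK)) (y := s (jG hK * kG hK))
        (y' := s (jG hK) * s (kG hK)) rfl (by simp [hs']),
        commutatorElement_mul_right_eq_mul_conj, commutatorElement_self, one_mul]
      have hker' : π ⁅s (jG hK), s (kG hK)⁆ = 1 := by
        rw [map_commutatorElement, hs', hs', commutatorElement_eq_one_iff_mul_comm]
        exact L0_comm hK (jG_mem_L0 hK) (kG_facts hK).1
      rw [mem_center_of_map hc hker' (s (jG hK)), mul_inv_cancel_right]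
  -- three independent involutions
  obtain ⟨a, ha, b, hb, c, hcE, ha1, hb1, hab, hc1, hca, hcb, hcab⟩ : ∃ a ∈ E, ∃ b ∈ E, ∃ c ∈ E,
      a ≠ 1 ∧ b ≠ 1 ∧ a ≠ b ∧ c ≠ 1 ∧ c ≠ a ∧ c ≠ b ∧ c ≠ a * b := by
    letI : Fintype ↥(RG K m) := Fintype.ofFinite _
    have hcard : (E : Set ↥(RG K m)).toFinset.card = 8 := by
      rw [← Nat.card_eq_card_toFinset]; exact hE
    obtain ⟨a, ha, ha'⟩ := Finset.exists_mem_notMem_of_card_lt_card (s := ({1} : Finset ↥(RG K m)))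
      (t := (E : Set ↥(RG K m)).toFinset) (by rw [hcard, Finset.card_singleton]; norm_num)
    obtain ⟨b, hb, hb'⟩ := Finset.exists_mem_notMem_of_card_lt_card (s := ({1, a} : Finset ↥(RG K m)))
      (t := (E : Set ↥(RG K m)).toFinset) (lt_of_le_of_lt Finset.card_le_two (by rw [hcard]; norm_num))
    obtain ⟨c, hc, hc'⟩ := Finset.exists_mem_notMem_of_card_lt_card (s := ({1, a, b, a * b} : Finset ↥(RG K m)))
      (t := (E : Set ↥(RG K m)).toFinset) (lt_of_le_of_lt Finset.card_le_four (by rw [hcard]; norm_num))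
    simp only [Finset.mem_insert, Finset.mem_singleton, not_or, Set.mem_toFinset, SetLike.mem_coe] at *
    exact ⟨a, ha, b, hb, c, hc, ha', hb'.1, fun e => hb'.2 e.symm, hc'.1, hc'.2.1, hc'.2.2.1, hc'.2.2.2⟩
  have hz0 : ⁅s (jG hK), s (kG hK)⁆ = 1 := by
    set z0 := ⁅s (jG hK), s (kG hK)⁆
    have hbc1 : b * c ≠ 1 := fun e => hcb (by
      rw [← inv_eq_of_mul_eq_one_right e, inv_eq_of_mul_eq_one_right (hEs b hb)])
    have habc : a ≠ b * c := fun e => hcab (by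
      rw [hEc a ha b hb, e, ← mul_assoc, hEs b hb, one_mul])
    have e1 := hval a b ha1 (hEs a ha) hb1 (hEs b hb) (hEc a ha b hb) hab
    have e2 := hval a c ha1 (hEs a ha) hc1 (hEs c hcE) (hEc a ha c hcE) hca.symm
    have e3 := hval a (b * c) ha1 (hEs a ha) hbc1 (hEs _ (mul_mem hb hcE)) (hEc a ha _ (mul_mem hb hcE)) habc
    have hker : π z0 = 1 := by
      rw [map_commutatorElement, hs', hs', commutatorElement_eq_one_iff_mul_comm]
      exact L0_comm hK (jG_mem_L0 hK) (kG_facts hK).1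
    rw [H76.Cover.comm_congr π hc (x := s a) (x' := s a) (y := s (b * c)) (y' := s b * s c) rfl (by simp [hs']),
      commutatorElement_mul_right_eq_mul_conj, e1, e2, mul_assoc z0,
      mem_center_of_map hc hker (s b), ← mul_assoc, mul_inv_cancel_right] at e3
    exact mul_eq_left.1 e3
  refine commutatorElement_eq_one_iff_commute.1 ?_
  rw [H76.Cover.comm_congr π hc (hs' (π x)).symm (hs' (π y)).symm]
  have hs1 : ∀ u v, π u = 1 → ⁅u, v⁆ = (1 : Γ) ∧ ⁅v, u⁆ = 1 := fun u v hu =>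
    ⟨commutatorElement_eq_one_iff_mul_comm.2 (mem_center_of_map hc hu v).symm,
      commutatorElement_eq_one_iff_mul_comm.2 (mem_center_of_map hc hu v)⟩
  by_cases h1 : π x = 1
  · rw [h1]; exact (hs1 _ _ (hs' 1)).1
  by_cases h2 : π y = 1
  · rw [h2]; exact (hs1 _ _ (hs' 1)).2
  by_cases h3 : π x = π y
  · rw [h3, commutatorElement_self]
  · rw [hval _ _ h1 (hEs _ hx) h2 (hEs _ hy) (hEc _ hx _ hy) h3, hz0]

set_option maxHeartbeats 2000000 in
open scoped IsMulCommutative in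
/-- Above the Sylow 3-subgroup the derived subgroup meets the kernel in elements of order prime to 3. -/
theorem pow_eq_one_of_mem (hm : 1 ≤ m) [Finite Γ] {z : Γ} (hzK : π z = 1)
    (hz : z ∈ ⁅((RU K m).subgroupOf (RG K m)).comap π, ((RU K m).subgroupOf (RG K m)).comap π⁆) :
    z ^ (Nat.card Kˣ) = 1 := by
  classical
  rw [Nat.card_eq_fintype_card]
  have h3 := three_eq_zero hK
  choose s hs' using hs
  set L : K → K → K → Γ := fun t u v => s (uR hK t u v) with hL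
  have hπL : ∀ t u v, π (L t u v) = uR hK t u v := fun t u v => hs' _
  set d : Kˣ → Γ := fun k => s (hR hK k) with hd
  have hπd : ∀ k, π (d k) = hR hK k := fun k => hs' _
  have congr2 : ∀ {x x' y y' : Γ}, π x = π x' → π y = π y' → ⁅x, y⁆ = ⁅x', y'⁆ :=
    fun hx hy => H76.Cover.comm_congr π hc hx hy
  have hconj : ∀ (k : Kˣ) (t u v t' u' v' : K), d k * ⁅L t u v, L t' u' v'⁆ * (d k)⁻¹ =
      ⁅L ((k : K) ^ (3 ^ (m + 1)) * t) ((k : K) ^ (3 + 3 ^ (m + 1)) * u) ((k : K) ^ (3 + 2 * 3 ^ (m + 1)) * v),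
       L ((k : K) ^ (3 ^ (m + 1)) * t') ((k : K) ^ (3 + 3 ^ (m + 1)) * u') ((k : K) ^ (3 + 2 * 3 ^ (m + 1)) * v')⁆ := by
    intro k t u v t' u' v'
    rw [conjugate_commutatorElement]
    exact congr2 (by simp only [map_mul, map_inv, hπd, hπL, hR_conj hK])
      (by simp only [map_mul, map_inv, hπd, hπL, hR_conj hK])
  have hcentral : ∀ {x : Γ}, π x = 1 → ∀ g, g * x * g⁻¹ = x := fun hx g => by
    rw [mem_center_of_map hc hx g, mul_inv_cancel_right]
  have hodd : Odd (3 ^ (m + 1)) := (show Odd 3 by decide).pow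
  have hneg : ((-1 : Kˣ) : K) ^ (3 ^ (m + 1)) = -1 ∧ ((-1 : Kˣ) : K) ^ (3 + 3 ^ (m + 1)) = 1 ∧
      ((-1 : Kˣ) : K) ^ (3 + 2 * 3 ^ (m + 1)) = -1 := by
    refine ⟨by simp [hodd.neg_one_pow], ?_, ?_⟩
    · simp [((show Odd 3 by decide).add_odd hodd).neg_one_pow]
    · simp [((show Odd 3 by decide).add_even (even_two_mul _)).neg_one_pow]
  obtain ⟨xi, hxi0, hxi1, hxi⟩ := exists_good_id hK hm
  obtain ⟨xw, hxw0, hxw1, hxw⟩ := exists_good_weight hK hm
  -- pairs inside the normal abelian subgroup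
  have hvv : ∀ a b, ⁅L 0 0 a, L 0 0 b⁆ = 1 := by
    have hk : ∀ a b, ⁅L 0 0 a, L 0 0 b⁆ ∈ π.ker := fun a b => by
      rw [MonoidHom.mem_ker, map_commutatorElement, hπL, hπL, commutatorElement_eq_one_iff_mul_comm]
      exact uR_central hK _ _ _ _
    haveI : IsMulCommutative π.ker := ⟨⟨fun x y => Subtype.ext (mem_center_of_map hc y.2 x.1)⟩⟩
    let B : K → K → π.ker := fun a b => ⟨_, hk a b⟩
    have hl : ∀ a a' b, B (a + a') b = B a b * B a' b := fun a a' b => Subtype.ext (by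
      show ⁅L 0 0 (a + a'), L 0 0 b⁆ = ⁅L 0 0 a, L 0 0 b⁆ * ⁅L 0 0 a', L 0 0 b⁆
      rw [congr2 (x := L 0 0 (a + a')) (x' := L 0 0 a' * L 0 0 a) (y := L 0 0 b) (y' := L 0 0 b)
        (by rw [map_mul, hπL, hπL, hπL, uR_mul_zero hK, add_zero, add_comm a' a]) rfl,
        commutatorElement_mul_left_eq_conj_mul, hcentral (hk a b)])
    have hr : ∀ a b b', B a (b + b') = B a b * B a b' := fun a b b' => Subtype.ext (by
      show ⁅L 0 0 a, L 0 0 (b + b')⁆ = ⁅L 0 0 a, L 0 0 b⁆ * ⁅L 0 0 a, L 0 0 b'⁆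
      rw [congr2 (x := L 0 0 a) (x' := L 0 0 a) (y := L 0 0 (b + b')) (y' := L 0 0 b * L 0 0 b') rfl
        (by rw [map_mul, hπL, hπL, hπL, uR_mul_zero hK, add_zero]),
        commutatorElement_mul_right_eq_mul_conj, mul_assoc ⁅L 0 0 a, L 0 0 b⁆, mul_assoc ⁅L 0 0 a, L 0 0 b⁆,
        hcentral (hk a b')])
    intro a b
    refine congrArg Subtype.val (biadd_vanish B hl hr id (fun k h => h) rfl ?_ xi hxi0 hxi1 hxi a b)
    intro x hx a b
    obtain ⟨k, rfl⟩ := pow_bij hK (n := 3 + 2 * 3 ^ (m + 1)) (fun a => units_pow_v hK) hx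
    refine Subtype.ext (Eq.trans ?_ (hcentral (hk a b) (d k)))
    rw [hconj]
    simp [B, mul_zero]
  have huv : ∀ a b, ⁅L 0 a 0, L 0 0 b⁆ = 1 := by
    have hk : ∀ a b, ⁅L 0 a 0, L 0 0 b⁆ ∈ π.ker := fun a b => by
      rw [MonoidHom.mem_ker, map_commutatorElement, hπL, hπL, commutatorElement_eq_one_iff_mul_comm]
      exact uR_central hK _ _ _ _
    haveI : IsMulCommutative π.ker := ⟨⟨fun x y => Subtype.ext (mem_center_of_map hc y.2 x.1)⟩⟩
    let B : K → K → π.ker := fun a b => ⟨_, hk a b⟩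
    have hl : ∀ a a' b, B (a + a') b = B a b * B a' b := fun a a' b => Subtype.ext (by
      show ⁅L 0 (a + a') 0, L 0 0 b⁆ = ⁅L 0 a 0, L 0 0 b⁆ * ⁅L 0 a' 0, L 0 0 b⁆
      rw [congr2 (x := L 0 (a + a') 0) (x' := L 0 a' 0 * L 0 a 0) (y := L 0 0 b) (y' := L 0 0 b)
        (by rw [map_mul, hπL, hπL, hπL, uR_mul_zero hK, add_zero, add_comm a' a]) rfl,
        commutatorElement_mul_left_eq_conj_mul, hcentral (hk a b)])
    have hr : ∀ a b b', B a (b + b') = B a b * B a b' := fun a b b' => Subtype.ext (by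
      show ⁅L 0 a 0, L 0 0 (b + b')⁆ = ⁅L 0 a 0, L 0 0 b⁆ * ⁅L 0 a 0, L 0 0 b'⁆
      rw [congr2 (x := L 0 a 0) (x' := L 0 a 0) (y := L 0 0 (b + b')) (y' := L 0 0 b * L 0 0 b') rfl
        (by rw [map_mul, hπL, hπL, hπL, uR_mul_zero hK, add_zero]),
        commutatorElement_mul_right_eq_mul_conj, mul_assoc ⁅L 0 a 0, L 0 0 b⁆, mul_assoc ⁅L 0 a 0, L 0 0 b⁆,
        hcentral (hk a b')])
    intro a b
    refine congrArg Subtype.val (biadd_vanish_sign B hl hr h3 (fun a b => ?_) a b)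
    refine Subtype.ext (Eq.trans ?_ (hcentral (hk a b) (d (-1))))
    rw [hconj, hneg.1, hneg.2.1, hneg.2.2]
    simp [B]
  have huu : ∀ a b, ⁅L 0 a 0, L 0 b 0⁆ = 1 := by
    have hk : ∀ a b, ⁅L 0 a 0, L 0 b 0⁆ ∈ π.ker := fun a b => by
      rw [MonoidHom.mem_ker, map_commutatorElement, hπL, hπL, commutatorElement_eq_one_iff_mul_comm,
        uR_mul_zero hK, uR_mul_zero hK, add_comm a]
    haveI : IsMulCommutative π.ker := ⟨⟨fun x y => Subtype.ext (mem_center_of_map hc y.2 x.1)⟩⟩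
    let B : K → K → π.ker := fun a b => ⟨_, hk a b⟩
    have hl : ∀ a a' b, B (a + a') b = B a b * B a' b := fun a a' b => Subtype.ext (by
      show ⁅L 0 (a + a') 0, L 0 b 0⁆ = ⁅L 0 a 0, L 0 b 0⁆ * ⁅L 0 a' 0, L 0 b 0⁆
      rw [congr2 (x := L 0 (a + a') 0) (x' := L 0 a' 0 * L 0 a 0) (y := L 0 b 0) (y' := L 0 b 0)
        (by rw [map_mul, hπL, hπL, hπL, uR_mul_zero hK, add_zero, add_comm a' a]) rfl,
        commutatorElement_mul_left_eq_conj_mul, hcentral (hk a b)])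
    have hr : ∀ a b b', B a (b + b') = B a b * B a b' := fun a b b' => Subtype.ext (by
      show ⁅L 0 a 0, L 0 (b + b') 0⁆ = ⁅L 0 a 0, L 0 b 0⁆ * ⁅L 0 a 0, L 0 b' 0⁆
      rw [congr2 (x := L 0 a 0) (x' := L 0 a 0) (y := L 0 (b + b') 0) (y' := L 0 b 0 * L 0 b' 0) rfl
        (by rw [map_mul, hπL, hπL, hπL, uR_mul_zero hK, add_zero]),
        commutatorElement_mul_right_eq_mul_conj, mul_assoc ⁅L 0 a 0, L 0 b 0⁆, mul_assoc ⁅L 0 a 0, L 0 b 0⁆,
        hcentral (hk a b')])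
    intro a b
    refine congrArg Subtype.val (biadd_vanish B hl hr id (fun k h => h) rfl ?_ xi hxi0 hxi1 hxi a b)
    intro x hx a b
    obtain ⟨k, hk' | hk'⟩ := pow_square hK hx
    · refine Subtype.ext (Eq.trans ?_ (hcentral (hk a b) (d k)))
      rw [hconj, hk']
      simp [B]
    · rw [← biadd_neg_neg B hl hr]
      refine Subtype.ext (Eq.trans ?_ (hcentral (hk a b) (d k)))
      rw [hconj, hk']
      simp [B]
  -- the abelian subgroup
  let A : Subgroup Γ :=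
    { carrier := {g | ∃ u v, π g = uR hK 0 u v}
      one_mem' := ⟨0, 0, by rw [map_one, uR_zero hK]⟩
      mul_mem' := by
        rintro g h ⟨u, v, hg⟩ ⟨u', v', hh⟩
        exact ⟨u + u', v + v', by rw [map_mul, hg, hh, uR_mul_zero hK]⟩
      inv_mem' := by
        rintro g ⟨u, v, hg⟩
        refine ⟨-u, -v, ?_⟩
        rw [map_inv, hg, inv_eq_iff_mul_eq_one, uR_mul_zero hK, add_neg_cancel, add_neg_cancel, uR_zero hK] }
  have hdecA : ∀ {g : Γ} {u v : K}, π g = uR hK 0 u v → π g = π (L 0 u 0 * L 0 0 v) := fun h => by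
    rw [h, map_mul, hπL, hπL, uR_mul_zero hK, add_zero, zero_add]
  have hcv : ∀ u a, Commute (L 0 u 0) (L 0 0 a) := fun u a => commutatorElement_eq_one_iff_commute.1 (huv u a)
  have hcu : ∀ u a, Commute (L 0 u 0) (L 0 a 0) := fun u a => commutatorElement_eq_one_iff_commute.1 (huu u a)
  have hcw : ∀ u a, Commute (L 0 0 u) (L 0 0 a) := fun u a => commutatorElement_eq_one_iff_commute.1 (hvv u a)
  haveI hAc : IsMulCommutative A := ⟨⟨fun g h => by
    obtain ⟨u, v, hg⟩ := g.2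
    obtain ⟨u', v', hh⟩ := h.2
    apply Subtype.ext
    refine commutatorElement_eq_one_iff_commute.1 ?_
    rw [congr2 (hdecA hg) (hdecA hh), commutatorElement_eq_one_iff_commute]
    exact ((hcu u u').mul_right (hcv u v')).mul_left (((hcv u' v).symm).mul_right (hcw v v'))⟩⟩
  have hAcomm : ∀ g ∈ A, ∀ h ∈ A, Commute g h := fun g hg h hh =>
    congrArg Subtype.val (hAc.is_comm.comm ⟨g, hg⟩ ⟨h, hh⟩)
  have htv : ∀ t b, ⁅L t 0 0, L 0 0 b⁆ = 1 := by
    have hk : ∀ a b, ⁅L a 0 0, L 0 0 b⁆ ∈ π.ker := fun a b => by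
      rw [MonoidHom.mem_ker, map_commutatorElement, hπL, hπL, commutatorElement_eq_one_iff_mul_comm]
      exact uR_central hK _ _ _ _
    haveI : IsMulCommutative π.ker := ⟨⟨fun x y => Subtype.ext (mem_center_of_map hc y.2 x.1)⟩⟩
    let B : K → K → π.ker := fun a b => ⟨_, hk a b⟩
    have hl : ∀ a a' b, B (a + a') b = B a b * B a' b := fun a a' b => Subtype.ext (by
      show ⁅L (a + a') 0 0, L 0 0 b⁆ = ⁅L a 0 0, L 0 0 b⁆ * ⁅L a' 0 0, L 0 0 b⁆
      obtain ⟨u0, v0, h0⟩ : ∃ u0 v0, uR hK (a + a') 0 0 = uR hK a' 0 0 * uR hK a 0 0 * uR hK 0 u0 v0 :=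
        ⟨a' * a ^ (3 ^ (m + 1)), -(a' * a ^ (3 ^ (m + 1)) * a - a' ^ 2 * a ^ (3 ^ (m + 1))), by
          rw [uR_mul hK a', uR_mul_zero hK]; congr 1 <;> ring⟩
      rw [congr2 (x := L (a + a') 0 0) (x' := L a' 0 0 * L a 0 0 * L 0 u0 v0) (y := L 0 0 b) (y' := L 0 0 b)
        (by rw [map_mul, map_mul, hπL, hπL, hπL, hπL, h0]) rfl,
        commutatorElement_mul_left_eq_conj_mul (L a' 0 0 * L a 0 0),
        commutatorElement_eq_one_iff_commute.2 (hAcomm _ ⟨u0, v0, hπL _ _ _⟩ _ ⟨0, b, hπL _ _ _⟩),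
        mul_one, mul_inv_cancel, one_mul, commutatorElement_mul_left_eq_conj_mul, hcentral (hk a b)])
    have hr : ∀ a b b', B a (b + b') = B a b * B a b' := fun a b b' => Subtype.ext (by
      show ⁅L a 0 0, L 0 0 (b + b')⁆ = ⁅L a 0 0, L 0 0 b⁆ * ⁅L a 0 0, L 0 0 b'⁆
      rw [congr2 (x := L a 0 0) (x' := L a 0 0) (y := L 0 0 (b + b')) (y' := L 0 0 b * L 0 0 b') rfl
        (by rw [map_mul, hπL, hπL, hπL, uR_mul_zero hK, add_zero]),
        commutatorElement_mul_right_eq_mul_conj, mul_assoc ⁅L a 0 0, L 0 0 b⁆, mul_assoc ⁅L a 0 0, L 0 0 b⁆,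
        hcentral (hk a b')])
    intro a b
    refine congrArg Subtype.val (biadd_vanish B hl hr (fun x => x ^ (3 ^ (m + 1) + 2))
      (fun k h => pow_ne_zero _ h) (one_pow _) ?_ xw hxw0 hxw1 hxw a b)
    intro x hx a b
    obtain ⟨k, rfl⟩ := pow_bij hK (n := 3 ^ (m + 1)) (fun a => units_pow_r_one hK) hx
    refine Subtype.ext (Eq.trans ?_ (hcentral (hk a b) (d k)))
    rw [hconj]
    have e : ((k : K) ^ 3 ^ (m + 1)) ^ (3 ^ (m + 1) + 2) = (k : K) ^ (3 + 2 * 3 ^ (m + 1)) := by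
      rw [pow_add, pow_r_r hK, ← pow_mul, ← pow_add]
      congr 1; ring
    simp only [B, mul_zero, e]
  -- lifts of the centre are central
  have hC : ∀ {g x : Γ} {t u v w : K}, π g = uR hK t u v → π x = uR hK 0 0 w → g * x * g⁻¹ = x := by
    intro g x t u v w hg hx
    rw [mul_inv_eq_iff_eq_mul]
    refine commutatorElement_eq_one_iff_mul_comm.1 ?_
    rw [congr2 (x := g) (x' := L t 0 0 * L 0 u v) (y := x) (y' := L 0 0 w)
      (by rw [hg, map_mul, hπL, hπL, uR_mul_zero hK, zero_add, zero_add]) (hx.trans (hπL _ _ _).symm),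
      commutatorElement_mul_left_eq_conj_mul, htv,
      commutatorElement_eq_one_iff_commute.2 (hAcomm _ ⟨u, v, hπL _ _ _⟩ _ ⟨0, w, hπL _ _ _⟩)]
    simp
  -- averaging over the torus
  have hφm : ∀ (k : Kˣ) (g : A), d k * g * (d k)⁻¹ ∈ A := fun k g => by
    obtain ⟨u, v, hg⟩ := g.2
    refine ⟨(k : K) ^ (3 + 3 ^ (m + 1)) * u, (k : K) ^ (3 + 2 * 3 ^ (m + 1)) * v, ?_⟩
    rw [map_mul, map_mul, map_inv, hπd, hg, hR_conj hK, mul_zero]
  let φ : Kˣ → (A →* A) := fun k => MonoidHom.mk' (fun g => ⟨d k * g * (d k)⁻¹, hφm k g⟩)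
    (fun g h => Subtype.ext (by simp [mul_assoc]))
  let Nf : A →* A := ∏ k : Kˣ, φ k
  have hNf : ∀ g : A, Nf g = ∏ k : Kˣ, φ k g := fun g => MonoidHom.finsetProd_apply _ _ _
  have hAt : ∀ {x y : Γ} {t u v t' u' v' : K}, π x = uR hK t u v → π y = uR hK t' u' v' →
      ⁅x, y⁆ ∈ A := by
    intro x y t u v t' u' v' hx hy
    obtain ⟨a, b, c, habc⟩ : ∃ a b c, π (x * y) = uR hK a b c ∧ a = t + t' :=
      ⟨_, _, _, by rw [map_mul, hx, hy, uR_mul hK], rfl⟩
    obtain ⟨a', b', c', ha'⟩ : ∃ a' b' c', π (y * x) = uR hK a' b' c' ∧ a' = t' + t :=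
      ⟨_, _, _, by rw [map_mul, hx, hy, uR_mul hK], rfl⟩
    rw [show ⁅x, y⁆ = x * y * (y * x)⁻¹ by rw [commutatorElement_def]; group]
    have h0 : uR hK a b c = uR hK a' b' c' * (uR hK 0 (b - b') (c - c')) := by
      rw [uR_mul_zero hK, habc.2, ha'.2, add_comm t' t]; congr 1 <;> ring
    have h1 : uR hK a' b' c' * uR hK 0 (b - b') (c - c') * (uR hK a' b' c')⁻¹ ∈
        (Subgroup.map π A) := by
      obtain ⟨p, q, hpq⟩ : ∃ p q, uR hK a' b' c' * uR hK 0 (b - b') (c - c') =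
          uR hK 0 p q * uR hK a' b' c' := by
        refine ⟨b - b', c - c' + (b - b') * a', ?_⟩
        rw [uR_mul_zero hK, uR_mul hK]
        congr 1 <;> ring
      rw [hpq, mul_inv_cancel_right]
      exact ⟨L 0 p q, ⟨p, q, hπL _ _ _⟩, hπL _ _ _⟩
    obtain ⟨w, ⟨p, q, hw⟩, hwe⟩ := h1
    refine ⟨p, q, ?_⟩
    rw [map_mul, map_inv, habc.1, ha'.1, h0, ← hwe, hw]
  let γ : K → K → A := fun t u => ⟨⁅L t 0 0, L 0 u 0⁆, hAt (hπL _ _ _) (hπL _ _ _)⟩
  have hπγ : ∀ t u, ∃ w, π (γ t u : Γ) = uR hK 0 0 w := by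
    intro t u
    refine ⟨u * t, ?_⟩
    show π ⁅L t 0 0, L 0 u 0⁆ = _
    rw [map_commutatorElement, hπL, hπL, commutatorElement_def, mul_inv_eq_iff_eq_mul, mul_inv_eq_iff_eq_mul,
      uR_mul_zero hK, mul_assoc, uR_mul hK (0 : K) u 0 t 0 0, uR_mul hK (0 : K) 0]
    congr 1 <;> ring
  have hγc : ∀ {g : Γ} {t u v : K}, π g = uR hK t u v → ∀ a b, g * (γ a b : Γ) * g⁻¹ = γ a b := by
    intro g t u v hg a b
    obtain ⟨w, hw⟩ := hπγ a b
    exact hC hg hw
  have hγl : ∀ a a' b, γ (a + a') b = γ a b * γ a' b := fun a a' b => Subtype.ext (by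
    show ⁅L (a + a') 0 0, L 0 b 0⁆ = ⁅L a 0 0, L 0 b 0⁆ * ⁅L a' 0 0, L 0 b 0⁆
    obtain ⟨u0, v0, h0⟩ : ∃ u0 v0, uR hK (a + a') 0 0 = uR hK a' 0 0 * uR hK a 0 0 * uR hK 0 u0 v0 :=
      ⟨a' * a ^ (3 ^ (m + 1)), -(a' * a ^ (3 ^ (m + 1)) * a - a' ^ 2 * a ^ (3 ^ (m + 1))), by
        rw [uR_mul hK a', uR_mul_zero hK]; congr 1 <;> ring⟩
    rw [congr2 (x := L (a + a') 0 0) (x' := L a' 0 0 * L a 0 0 * L 0 u0 v0) (y := L 0 b 0) (y' := L 0 b 0)
      (by rw [map_mul, map_mul, hπL, hπL, hπL, hπL, h0]) rfl,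
      commutatorElement_mul_left_eq_conj_mul (L a' 0 0 * L a 0 0),
      commutatorElement_eq_one_iff_commute.2 (hAcomm _ ⟨u0, v0, hπL _ _ _⟩ _ ⟨b, 0, hπL _ _ _⟩),
      mul_one, mul_inv_cancel, one_mul, commutatorElement_mul_left_eq_conj_mul]
    exact congrArg (· * ⁅L a' 0 0, L 0 b 0⁆) (hγc (hπL a' 0 0) a b))
  have hγr : ∀ a b b', γ a (b + b') = γ a b * γ a b' := fun a b b' => Subtype.ext (by
    show ⁅L a 0 0, L 0 (b + b') 0⁆ = ⁅L a 0 0, L 0 b 0⁆ * ⁅L a 0 0, L 0 b' 0⁆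
    rw [congr2 (x := L a 0 0) (x' := L a 0 0) (y := L 0 (b + b') 0) (y' := L 0 b 0 * L 0 b' 0) rfl
      (by rw [map_mul, hπL, hπL, hπL, uR_mul_zero hK, add_zero]),
      commutatorElement_mul_right_eq_mul_conj, mul_assoc ⁅L a 0 0, L 0 b 0⁆, mul_assoc ⁅L a 0 0, L 0 b 0⁆]
    exact congrArg (⁅L a 0 0, L 0 b 0⁆ * ·) (hγc (hπL 0 b 0) a b'))
  have hφγ : ∀ k a b, φ k (γ a b) = γ ((k : K) ^ (3 ^ (m + 1)) * a) ((k : K) ^ (3 + 3 ^ (m + 1)) * b) := by
    intro k a b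
    apply Subtype.ext
    show d k * ⁅L a 0 0, L 0 b 0⁆ * (d k)⁻¹ = _
    rw [hconj]
    simp [γ]
  have hNγ : ∀ a b, Nf (γ a b) = 1 := by
    intro a b
    refine biadd_vanish_sign (fun a b => Nf (γ a b)) (fun a a' b => by simp only [hγl, map_mul])
      (fun a b b' => by simp only [hγr, map_mul]) h3 (fun a b => ?_) a b
    have hflip : Nf (γ (-a) b) = Nf (γ a b) := by
      rw [hNf, hNf]
      refine Fintype.prod_equiv (Equiv.mulRight (-1 : Kˣ)) _ _ fun l => ?_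
      show φ l (γ (-a) b) = φ (l * -1) (γ a b)
      rw [hφγ, hφγ, Units.val_mul, mul_pow, mul_pow, hneg.1, hneg.2.1]
      congr 1 <;> ring
    show Nf (γ a (-b)) = Nf (γ a b)
    have e1 := biadd_neg_neg (fun a b => Nf (γ a b)) (fun a a' b => by simp only [hγl, map_mul])
      (fun a b b' => by simp only [hγr, map_mul]) (-a) b
    simp only [neg_neg] at e1
    rw [e1, hflip]
  -- conjugation inside the Sylow preimage is invisible after averaging
  have hγA : ∀ (t : K) {e : Γ} (he : e ∈ A), ∀ {g : Γ} (u v : K) (hg : π g = uR hK t u v),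
      ∀ hge : g * e * g⁻¹ ∈ A, Nf ⟨g * e * g⁻¹, hge⟩ = Nf ⟨e, he⟩ := by
    intro t e he g u v hg hge
    obtain ⟨p, q, hp⟩ := id he
    have e1 : ⁅g, e⁆ = (γ t p : Γ) := by
      rw [congr2 (x := g) (x' := L t 0 0 * L 0 u v) (y := e) (y' := L 0 p 0 * L 0 0 q)
        (by rw [hg, map_mul, hπL, hπL, uR_mul_zero hK, zero_add, zero_add]) (hdecA hp),
        commutatorElement_mul_left_eq_conj_mul, commutatorElement_eq_one_iff_commute.2
          (hAcomm _ ⟨u, v, hπL _ _ _⟩ _ (mul_mem ⟨p, 0, hπL _ _ _⟩ ⟨0, q, hπL _ _ _⟩)),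
        mul_one, mul_inv_cancel, one_mul, commutatorElement_mul_right_eq_mul_conj, htv]
      simp [γ]
    have e2 : (⟨g * e * g⁻¹, hge⟩ : A) = γ t p * ⟨e, he⟩ := Subtype.ext (by
      show g * e * g⁻¹ = (γ t p : Γ) * e
      rw [← e1, commutatorElement_def]; group)
    rw [e2, map_mul, hNγ, one_mul]
  -- commutators of lifts
  have hQ : ∀ {x : Γ}, x ∈ ((RU K m).subgroupOf (RG K m)).comap π → ∃ t u v, π x = uR hK t u v := by
    intro x hx
    rw [Subgroup.mem_comap, Subgroup.mem_subgroupOf] at hx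
    obtain ⟨t, u, v, h⟩ := exists_uW hK hx
    exact ⟨t, u, v, Subtype.ext h⟩
  let c : K → K → A := fun t t' => ⟨⁅L t 0 0, L t' 0 0⁆, hAt (hπL _ _ _) (hπL _ _ _)⟩
  have hNprod : ∀ {x x' y : Γ} {t u v t' u' v' t'' u'' v'' : K} (hx : π x = uR hK t u v)
      (hx' : π x' = uR hK t' u' v') (hy : π y = uR hK t'' u'' v'') (h : ⁅x * x', y⁆ ∈ A),
      Nf ⟨⁅x * x', y⁆, h⟩ = Nf ⟨⁅x', y⁆, hAt hx' hy⟩ * Nf ⟨⁅x, y⁆, hAt hx hy⟩ := by
    intro x x' y t u v t' u' v' t'' u'' v'' hx hx' hy h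
    have hmem : x * ⁅x', y⁆ * x⁻¹ ∈ A := by
      have e : x * ⁅x', y⁆ * x⁻¹ = ⁅x * x', y⁆ * ⁅x, y⁆⁻¹ := by
        rw [commutatorElement_mul_left_eq_conj_mul, mul_inv_cancel_right]
      rw [e]; exact mul_mem h (inv_mem (hAt hx hy))
    have e : (⟨⁅x * x', y⁆, h⟩ : A) = ⟨_, hmem⟩ * ⟨⁅x, y⁆, hAt hx hy⟩ :=
      Subtype.ext (commutatorElement_mul_left_eq_conj_mul _ _ _)
    rw [e, map_mul, hγA t (hAt hx' hy) u v hx hmem]
  have hswap : ∀ {x y : Γ} (h : ⁅x, y⁆ ∈ A) (h' : ⁅y, x⁆ ∈ A), Nf ⟨⁅x, y⁆, h⟩ = (Nf ⟨⁅y, x⁆, h'⟩)⁻¹ := by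
    intro x y h h'
    rw [← map_inv]
    congr 1
    exact Subtype.ext (commutatorElement_inv y x).symm
  have hNA : ∀ {x e : Γ} {t u v : K} (hx : π x = uR hK t u v) (he : e ∈ A) (h : ⁅x, e⁆ ∈ A),
      Nf ⟨⁅x, e⁆, h⟩ = 1 := by
    intro x e t u v hx he h
    have hmem : x * e * x⁻¹ ∈ A := by
      have e' : x * e * x⁻¹ = ⁅x, e⁆ * e := by rw [commutatorElement_def]; group
      rw [e']; exact mul_mem h he
    have e' : (⟨⁅x, e⁆, h⟩ : A) = ⟨_, hmem⟩ * (⟨e, he⟩ : A)⁻¹ := Subtype.ext (by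
      show ⁅x, e⁆ = x * e * x⁻¹ * e⁻¹
      rw [commutatorElement_def])
    rw [e', map_mul, map_inv, hγA t he u v hx hmem, mul_inv_cancel]
  have hcl : ∀ a a' b, Nf (c (a + a') b) = Nf (c a b) * Nf (c a' b) := by
    intro a a' b
    obtain ⟨u0, v0, h0⟩ : ∃ u0 v0, uR hK (a + a') 0 0 = uR hK a' 0 0 * uR hK a 0 0 * uR hK 0 u0 v0 :=
      ⟨a' * a ^ (3 ^ (m + 1)), -(a' * a ^ (3 ^ (m + 1)) * a - a' ^ 2 * a ^ (3 ^ (m + 1))), by
        rw [uR_mul hK a', uR_mul_zero hK]; congr 1 <;> ring⟩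
    have hπp : π (L a' 0 0 * L a 0 0) = uR hK (a' + a) (0 + 0 - a' * a ^ (3 ^ (m + 1)))
        (0 + 0 - 0 * a + a' * a ^ (3 ^ (m + 1)) * a - a' ^ 2 * a ^ (3 ^ (m + 1))) := by
      rw [map_mul, hπL, hπL, uR_mul hK]
    have hec : (c (a + a') b : Γ) = ⁅L a' 0 0 * L a 0 0 * L 0 u0 v0, L b 0 0⁆ :=
      congr2 (by rw [map_mul, map_mul, hπL, hπL, hπL, hπL, h0]) rfl
    have hmem : ⁅L a' 0 0 * L a 0 0 * L 0 u0 v0, L b 0 0⁆ ∈ A := hec ▸ (c (a + a') b).2
    rw [show c (a + a') b = ⟨_, hmem⟩ from Subtype.ext hec,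
      hNprod hπp (hπL 0 u0 v0) (hπL b 0 0) hmem,
      hswap (x := L 0 u0 v0) _ (hAt (hπL b 0 0) (hπL 0 u0 v0)), hNA (hπL b 0 0) ⟨u0, v0, hπL _ _ _⟩,
      inv_one, one_mul]
    exact hNprod (hπL a' 0 0) (hπL a 0 0) (hπL b 0 0) _
  have hcs : ∀ a b, Nf (c a b) = (Nf (c b a))⁻¹ := fun a b => hswap (c a b).2 (c b a).2
  have hcr : ∀ a b b', Nf (c a (b + b')) = Nf (c a b) * Nf (c a b') := fun a b b' => by
    rw [hcs a, hcl, mul_inv, ← hcs, ← hcs]
  have hφc : ∀ k a b, φ k (c a b) = c ((k : K) ^ (3 ^ (m + 1)) * a) ((k : K) ^ (3 ^ (m + 1)) * b) := by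
    intro k a b
    apply Subtype.ext
    show d k * ⁅L a 0 0, L b 0 0⁆ * (d k)⁻¹ = _
    rw [hconj]
    simp [c]
  have hNc : ∀ a b, Nf (c a b) = 1 := by
    intro a b
    refine biadd_vanish (fun a b => Nf (c a b)) hcl hcr id (fun k h => h) rfl ?_ xi hxi0 hxi1 hxi a b
    intro x hx a b
    obtain ⟨k, rfl⟩ := pow_bij hK (n := 3 ^ (m + 1)) (fun a => units_pow_r_one hK) hx
    simp only [id, hNf]
    refine Fintype.prod_equiv (Equiv.mulRight k) _ _ fun l => ?_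
    show φ l (c _ _) = φ (l * k) (c a b)
    rw [hφc, hφc, Units.val_mul, mul_pow, mul_assoc, mul_assoc]
  -- all of the derived subgroup
  have hE : ⁅((RU K m).subgroupOf (RG K m)).comap π, ((RU K m).subgroupOf (RG K m)).comap π⁆ ≤
      Nf.ker.map A.subtype := by
    refine Subgroup.commutator_le.2 fun g hg g' hg' => ?_
    obtain ⟨t, u, v, hx⟩ := hQ hg
    obtain ⟨t', u', v', hy⟩ := hQ hg'
    refine ⟨⟨⁅g, g'⁆, hAt hx hy⟩, ?_, rfl⟩
    show Nf _ = 1
    have e : ⁅g, g'⁆ = ⁅L t 0 0 * L 0 u v, g'⁆ :=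
      congr2 (by rw [hx, map_mul, hπL, hπL, uR_mul_zero hK, zero_add, zero_add]) rfl
    have hmem : ⁅L t 0 0 * L 0 u v, g'⁆ ∈ A := e ▸ hAt hx hy
    rw [show (⟨⁅g, g'⁆, hAt hx hy⟩ : A) = ⟨_, hmem⟩ from Subtype.ext e, hNprod (hπL t 0 0) (hπL 0 u v) hy hmem,
      hswap _ (hAt hy (hπL 0 u v)), hNA hy ⟨u, v, hπL _ _ _⟩, inv_one, one_mul,
      hswap _ (hAt hy (hπL t 0 0))]
    have e' : ⁅g', L t 0 0⁆ = ⁅L t' 0 0 * L 0 u' v', L t 0 0⁆ :=
      congr2 (by rw [hy, map_mul, hπL, hπL, uR_mul_zero hK, zero_add, zero_add]) rfl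
    have hmem' : ⁅L t' 0 0 * L 0 u' v', L t 0 0⁆ ∈ A := e' ▸ hAt hy (hπL t 0 0)
    rw [show (⟨⁅g', L t 0 0⁆, hAt hy (hπL t 0 0)⟩ : A) = ⟨_, hmem'⟩ from Subtype.ext e',
      hNprod (hπL t' 0 0) (hπL 0 u' v') (hπL t 0 0) hmem',
      hswap _ (hAt (hπL t 0 0) (hπL 0 u' v')), hNA (hπL t 0 0) ⟨u', v', hπL _ _ _⟩, inv_one, one_mul,
      show (⟨⁅L t' 0 0, L t 0 0⁆, _⟩ : A) = c t' t from rfl, hNc, inv_one]
  obtain ⟨⟨z', hz'A⟩, hN, rfl⟩ := hE hz
  replace hN : Nf ⟨z', hz'A⟩ = 1 := hN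
  have hfix : ∀ k : Kˣ, φ k ⟨z', hz'A⟩ = ⟨z', hz'A⟩ := fun k => Subtype.ext (by
    show d k * z' * (d k)⁻¹ = z'
    exact hcentral hzK (d k))
  rw [hNf] at hN
  simp only [hfix, Finset.prod_const, Finset.card_univ] at hN
  exact congrArg Subtype.val hN

/-- Stem extensions are trivial. -/
theorem stem_ker_bot (hm : 1 ≤ m) [Finite Γ] (hσ : Cfsg.IsStemExtension π) : π.ker = ⊥ := by
  refine H97.ker_eq_bot_of_sylow hσ ?_
  intro p hp P z hzP hzK hzd
  by_cases hp2 : p = 2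
  · subst hp2
    obtain ⟨E, hE⟩ := (P.isPGroup'.map π).exists_le_sylow
    obtain ⟨h8, hsq⟩ := sylow_two_elementary hK E
    exact congrArg Subtype.val (H97.commutator_trivial_of_comm
      (fun a b : P => Subtype.ext (invol_lifts_commute hK π hs hc hm h8 hsq
        (hE ⟨a, a.2, rfl⟩) (hE ⟨b, b.2, rfl⟩))) hzd)
  by_cases hp3 : p = 3
  · subst hp3
    obtain ⟨Q, hQ⟩ := (P.isPGroup'.map π).exists_le_sylow
    obtain ⟨P0, hP0⟩ := exists_sylow hK
    obtain ⟨g, hg⟩ := MulAction.exists_smul_eq ↥(RG K m) Q P0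
    obtain ⟨g, rfl⟩ := hs g
    have hmap : (P : Subgroup Γ).map (MulAut.conj g).toMonoidHom ≤ ((RU K m).subgroupOf (RG K m)).comap π := by
      rintro _ ⟨x, hx, rfl⟩
      rw [Subgroup.mem_comap, ← hP0, ← hg, Sylow.coe_subgroup_smul]
      exact Subgroup.mem_pointwise_smul_iff_inv_smul_mem.2 (by
        simpa [MulAut.smul_def, MulAut.conj_apply, mul_assoc] using hQ ⟨x, hx, rfl⟩)
    have hzc : z ∈ ⁅(P : Subgroup Γ), (P : Subgroup Γ)⁆ := by
      rw [← Subgroup.map_subtype_commutator]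
      exact ⟨_, hzd, rfl⟩
    have hmem : z ∈ ⁅((RU K m).subgroupOf (RG K m)).comap π, ((RU K m).subgroupOf (RG K m)).comap π⁆ := by
      refine Subgroup.commutator_mono hmap hmap ?_
      rw [← Subgroup.map_commutator]
      refine ⟨z, hzc, ?_⟩
      show g * z * g⁻¹ = z
      rw [Subgroup.mem_center_iff.1 (hc hzK) g, mul_inv_cancel_right]
    have h1 := pow_eq_one_of_mem hK π hs hc hm hzK hmem
    obtain ⟨e, he⟩ := P.isPGroup' ⟨z, hzP⟩
    have h2 : z ^ 3 ^ e = 1 := congrArg Subtype.val he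
    rw [← orderOf_eq_one_iff]
    refine Nat.eq_one_of_dvd_coprimes (Nat.Coprime.pow_left e ?_) (orderOf_dvd_of_pow_eq_one h2)
      (orderOf_dvd_of_pow_eq_one h1)
    rw [Nat.card_units, Nat.card_eq_fintype_card, hK, Nat.prime_three.coprime_iff_not_dvd]
    have h := three_not_dvd hK
    exact fun h' => h (dvd_mul_of_dvd_left h' _)
  have hp5 : 3 < p := by have := hp.out.two_le; omega
  obtain ⟨Q, hQ⟩ := (P.isPGroup'.map π).exists_le_sylow
  have hQc : IsCyclic ↥(Q : Subgroup ↥(RG K m)) := by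
    by_cases hd : p ∣ Nat.card ↥(RG K m)
    · obtain ⟨T, n, k, hT, hpn, -⟩ := prime_cases hK hm hp.out hp5 hd
      exact hT.sylow_cyclic hpn Q
    · have : Nat.card ↥(Q : Subgroup ↥(RG K m)) = 1 := by
        rw [Sylow.card_eq_multiplicity, Nat.factorization_eq_zero_of_not_dvd hd, pow_zero]
      have := (Nat.card_eq_one_iff_unique.1 this).1
      infer_instance
  obtain ⟨⟨c, hcQ⟩, hgen⟩ := IsCyclic.exists_generator (α := ↥(Q : Subgroup ↥(RG K m)))
  obtain ⟨c', rfl⟩ := hs c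
  have mem : ∀ x : P, π x ∈ Subgroup.zpowers (π c') := fun x => by
    obtain ⟨k, hk⟩ := Subgroup.mem_zpowers_iff.1 (hgen ⟨π x, hQ (Subgroup.mem_map_of_mem π x.2)⟩)
    exact Subgroup.mem_zpowers_iff.2 ⟨k, congrArg Subtype.val hk⟩
  exact congrArg Subtype.val (H97.commutator_trivial_of_comm
    (fun a b : P => Subtype.ext (H97.commute_of_map_cyclic hc c' (mem a) (mem b))) hzd)

end Extension

end H52.Ree2
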