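import Cfsg.Agent.H52.ReeTori

/-!
Element orders in a small Ree group and their frequencies.
-/

set_option autoImplicit false
set_option linter.unusedSectionVars false

namespace H52.Ree2

open Cfsg.Lie

variable {K : Type*} [Field K] [Fintype K] {m : ℕ} (hK : Fintype.card K = 3 ^ (2 * m + 1))

include hK

theorem count_nine : Nat.card {x : ↥(RG K m) // orderOf x = 9} =
    (3 ^ (2 * m + 1)) ^ 2 * (3 ^ (2 * m + 1) - 1) * ((3 ^ (2 * m + 1)) ^ 3 + 1) := by
  classical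
  letI : Fintype ↥(RG K m) := Fintype.ofFinite _
  have hall := count_three_part hK
  have h3 := count_three hK
  simp only [Nat.card_eq_fintype_card, Fintype.card_subtype] at hall h3 ⊢
  have e : (Finset.univ.filter fun x : ↥(RG K m) => orderOf x ∣ 9 ∧ orderOf x ≠ 1) =
      (Finset.univ.filter fun x : ↥(RG K m) => orderOf x = 9) ∪
        (Finset.univ.filter fun x : ↥(RG K m) => orderOf x = 3) := by
    ext x
    simp only [Finset.mem_union, Finset.mem_filter, Finset.mem_univ, true_and]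
    constructor
    · rintro ⟨h, h1⟩
      obtain ⟨k, hk, hk'⟩ := (Nat.dvd_prime_pow Nat.prime_three (i := orderOf x) (m := 2)).1 h
      interval_cases k <;> omega
    · rintro (h | h) <;> rw [h] <;> norm_num
  rw [e, Finset.card_union_of_disjoint (Finset.disjoint_filter.2 fun x _ h h' => by omega), h3] at hall
  generalize hq : 3 ^ (2 * m + 1) = q at *
  have hq3 : 3 ≤ q := hq ▸ Nat.le_self_pow (by omega) 3
  have a : q ^ 3 - 1 = q ^ 2 * (q - 1) + (q ^ 2 - 1) := by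
    obtain ⟨d, rfl⟩ : ∃ d, q = d + 1 := ⟨q - 1, by omega⟩
    rw [Nat.add_sub_cancel, show (d + 1) ^ 3 = (d + 1) ^ 2 * d + (d + 1) ^ 2 by ring,
      Nat.add_sub_assoc (Nat.one_le_pow _ _ (by omega))]
  rw [a, Nat.mul_add, Nat.add_right_cancel_iff] at hall
  rw [hall]; ring

theorem HG_order_count {i : ℕ} (hm : 1 ≤ m) (hi : 2 < i) (hd : i ∣ 3 ^ (2 * m + 1) - 1) :
    2 * Nat.card {x : ↥(RG K m) // orderOf x = i} =
      i.totient * (3 ^ (2 * m + 1)) ^ 3 * ((3 ^ (2 * m + 1)) ^ 3 + 1) := by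
  obtain ⟨-, hq2, -, hoh, -⟩ := q_arith m
  have hi2 : ¬ i ∣ 2 := fun h => by have := Nat.le_of_dvd two_pos h; omega
  have hfused : Nat.card {x : ↥(RG K m) // orderOf x = i} =
      (Subgroup.normalizer (HG K m : Set ↥(RG K m))).index *
        Nat.card {x // x ∈ HG K m ∧ orderOf x = i} := by
    refine card_fused _ _ _ (fun x hx => hx.2) (fun x hx => ?_) (fun g x hx => ?_)
      (fun c hc x hx => ⟨(Subgroup.mem_normalizer_iff.1 hc x).1 hx.1, ?_⟩)
      (fun g x hx hgx => H_of_conj_mem hK hx.1 ((sq_ne_iff hK).1 (by rw [hx.2]; exact hi2)) hgx.1)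
    · obtain ⟨s, hs, hsx, hsq⟩ := odd_prime_of_two_mul hK (hq2 ▸ hd) hi2
      obtain ⟨g, hg⟩ := conj_HG hK hs (hoh.of_dvd_nat hsq) hsq (hx.symm ▸ hsx)
      exact ⟨g, hg, by rw [orderOf_conj_inv hK, hx]⟩
    · rwa [show g * x * g⁻¹ = MulAut.conj g x by simp, MulEquiv.orderOf_eq]
    · rw [show c * x * c⁻¹ = MulAut.conj c x by simp, MulEquiv.orderOf_eq]; exact hx.2
  rw [cyclic_count (HG_cyclic hK).1 ((HG_cyclic hK).2.symm ▸ hd)] at hfused
  have h := (Subgroup.normalizer (HG K m : Set ↥(RG K m))).card_mul_index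
  rw [card_normalizer_HG hK hm, card_RG hK] at h
  have hqpos : 0 < 3 ^ (2 * m + 1) - 1 := by
    have : 3 ≤ 3 ^ (2 * m + 1) := Nat.le_self_pow (by omega) 3
    omega
  rw [hfused]
  apply Nat.eq_of_mul_eq_mul_left hqpos
  generalize (Subgroup.normalizer (HG K m : Set ↥(RG K m))).index = I at h
  generalize 3 ^ (2 * m + 1) = q at *
  calc (q - 1) * (2 * (I * i.totient)) = 2 * (q - 1) * I * i.totient := by ring
    _ = _ := by rw [h]; ring

/-- In `L0`, the elements of order `2i`. -/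
theorem L0_count_double {i : ℕ} (hi : 1 < i) (hd : i ∣ qp m) :
    Nat.card {x // x ∈ L0 hK ∧ orderOf x = 2 * i} = 3 * i.totient := by
  classical
  obtain ⟨hq4, -, hop, -⟩ := q_arith m
  have hodd : Odd i := hop.of_dvd_nat hd
  obtain ⟨s, hs⟩ := hodd
  rw [← cyclic_count (AT_cyclic hK).1 ((AT_cyclic hK).2.symm ▸ hd),
    show 3 = Nat.card {v // v ∈ VK hK ∧ v ≠ 1} by
      letI : Fintype ↥(VK hK) := Fintype.ofFinite _
      rw [← Nat.card_congr (Equiv.subtypeSubtypeEquivSubtypeInter (fun x => x ∈ VK hK) (fun x => x ≠ 1))]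
      have h := VK_card hK
      rw [Nat.card_eq_fintype_card] at h
      have : Fintype.card {x : ↥(VK hK) // ¬ x = 1} = 3 := by
        rw [Fintype.card_subtype_compl, Fintype.card_subtype_eq, h]
      rw [← this, Nat.card_eq_fintype_card]
      exact Fintype.card_congr (Equiv.subtypeEquivRight fun x => by simp),
    ← Nat.card_prod]
  symm
  have hcomm : ∀ v a, v ∈ VK hK → a ∈ AT hK → Commute v a := fun v a hv ha => L0_comm hK hv.1 ha.1
  have hmain : ∀ v a, v ∈ VK hK → v ≠ 1 → a ∈ AT hK → orderOf a = i →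
      orderOf (v * a) = 2 * i ∧ (v * a) ^ i = v := by
    intro v a hv hv1 ha hai
    have hv2 : orderOf v = 2 := orderOf_eq_prime (by rw [sq]; exact hv.2) hv1
    refine ⟨?_, ?_⟩
    · rw [(hcomm v a hv ha).orderOf_mul_eq_mul_orderOf_of_coprime
        (by rw [hv2, hai, hs]; exact (Nat.coprime_two_left).2 ⟨s, rfl⟩), hv2, hai]
    · rw [(hcomm v a hv ha).mul_pow, ← hai, pow_orderOf_eq_one, mul_one, hai, hs, pow_succ, pow_mul, sq, hv.2,
        one_pow, one_mul]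
  refine Nat.card_eq_of_bijective (fun p => ⟨p.1.1 * p.2.1, mul_mem p.1.2.1.1 p.2.2.1.1,
    (hmain _ _ p.1.2.1 p.1.2.2 p.2.2.1 p.2.2.2).1⟩) ⟨?_, ?_⟩
  · rintro ⟨⟨v, hv⟩, ⟨a, ha⟩⟩ ⟨⟨v', hv'⟩, ⟨a', ha'⟩⟩ h
    have e : v * a = v' * a' := congrArg Subtype.val h
    have ev : v = v' := by
      rw [← (hmain v a hv.1 hv.2 ha.1 ha.2).2, ← (hmain v' a' hv'.1 hv'.2 ha'.1 ha'.2).2, e]
    subst ev
    rw [mul_right_inj] at e
    subst e
    rfl
  · rintro ⟨x, hx, hxo⟩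
    have h2i : x ^ (2 * i) = 1 := hxo ▸ pow_orderOf_eq_one x
    refine ⟨(⟨x ^ i, ⟨pow_mem hx i, ?_⟩, ?_⟩, ⟨x ^ (i + 1), ⟨pow_mem hx _, ?_⟩, ?_⟩), Subtype.ext ?_⟩
    · rw [← pow_add, ← two_mul, h2i]
    · intro h
      have := Nat.le_of_dvd (by omega) (orderOf_dvd_of_pow_eq_one h)
      omega
    · rw [← pow_mul, ← orderOf_dvd_iff_pow_eq_one, hxo]
      obtain ⟨c, hc⟩ := hd
      exact ⟨(s + 1) * c, by rw [hc, hs]; ring⟩
    · rw [orderOf_pow, hxo, hs]
      have hg : Nat.gcd (2 * (2 * s + 1)) (2 * s + 1 + 1) = 2 := by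
        rw [show 2 * s + 1 + 1 = 2 * (s + 1) by ring, Nat.gcd_mul_left, show 2 * s + 1 = s + (s + 1) by ring,
          Nat.gcd_add_self_left]
        simp
      rw [hg, Nat.mul_div_cancel_left _ two_pos]
    · show x ^ i * x ^ (i + 1) = x
      rw [← pow_add, show i + (i + 1) = 2 * i + 1 by ring, pow_succ, h2i, one_mul]

theorem L_order_count {i : ℕ} (hm : 1 ≤ m) (hi : 1 < i) (hd : i ∣ qp m) :
    6 * Nat.card {x : ↥(RG K m) // orderOf x = i} =
      i.totient * (3 ^ (2 * m + 1)) ^ 3 * (3 ^ (2 * m + 1) - 1) * qN m ∧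
    2 * Nat.card {x : ↥(RG K m) // orderOf x = 2 * i} =
      i.totient * (3 ^ (2 * m + 1)) ^ 3 * (3 ^ (2 * m + 1) - 1) * qN m := by
  obtain ⟨hq4, -, hop, -⟩ := q_arith m
  have hpos : 0 < 3 ^ (2 * m + 1) + 1 := by omega
  have hG := qN_dvd_card hK
  have hT := torus_AT hK hm
  have h1 := hT.count hi hd
  have hN := (normalizers_eq hK hm).1
  have hfused : Nat.card {x : ↥(RG K m) // orderOf x = 2 * i} =
      (Subgroup.normalizer (AT hK : Set ↥(RG K m))).index *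
        Nat.card {x // x ∈ L0 hK ∧ orderOf x = 2 * i} := by
    have hi2 : ¬ (2 * i) ∣ 2 := fun h => by have := Nat.le_of_dvd two_pos h; omega
    refine card_fused _ _ _ (fun x hx => hx.2) (fun x hx => ?_) (fun g x hx => ?_)
      (fun c hc x hx => ⟨?_, ?_⟩) (fun g x hx hgx => ?_)
    · obtain ⟨s, hs, hsx, hsq⟩ := odd_prime_of_two_mul hK (Nat.mul_dvd_mul_left 2 hd) hi2
      obtain ⟨g, hg⟩ := conj_L0 hK hm hs hsq (hx.symm ▸ hsx)
      exact ⟨g, hg, by rw [orderOf_conj_inv hK, hx]⟩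
    · rwa [show g * x * g⁻¹ = MulAut.conj g x by simp, MulEquiv.orderOf_eq]
    · rw [hN] at hc; exact (Subgroup.mem_normalizer_iff.1 hc x).1 hx.1
    · rw [show c * x * c⁻¹ = MulAut.conj c x by simp, MulEquiv.orderOf_eq]; exact hx.2
    · rw [hN]
      refine AT_conj_mem hK hm (t := x * x) ⟨mul_mem hx.1 hx.1, ?_⟩
        ((sq_ne_iff hK).1 (by rw [hx.2]; exact hi2)) ?_
      · rw [← sq, ← pow_mul]; exact L0_exp hK hx.1
      · rw [show g * (x * x) * g⁻¹ = g * x * g⁻¹ * (g * x * g⁻¹) by group]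
        exact ⟨mul_mem hgx.1 hgx.1, by rw [← sq, ← pow_mul]; exact L0_exp hK hgx.1⟩
  rw [L0_count_double hK hi hd] at hfused
  have h2 := (Subgroup.normalizer (AT hK : Set ↥(RG K m))).card_mul_index
  rw [hT.cardN] at h2
  rw [hG] at h1 h2
  rw [hfused]
  constructor
  · apply Nat.eq_of_mul_eq_mul_left hpos
    generalize qN m = N at *
    calc (3 ^ (2 * m + 1) + 1) * (6 * Nat.card {x : ↥(RG K m) // orderOf x = i}) =
        6 * (3 ^ (2 * m + 1) + 1) * Nat.card {x : ↥(RG K m) // orderOf x = i} := by ring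
      _ = _ := by rw [h1]; ring
  · apply Nat.eq_of_mul_eq_mul_left hpos
    generalize (Subgroup.normalizer (AT hK : Set ↥(RG K m))).index = I at h2
    generalize qN m = N at *
    calc (3 ^ (2 * m + 1) + 1) * (2 * (I * (3 * i.totient))) = 6 * (3 ^ (2 * m + 1) + 1) * I * i.totient := by ring
      _ = _ := by rw [h2]; ring

theorem pm_order_count (hm : 1 ≤ m) {i n n' : ℕ} (hi : 1 < i) (hd : i ∣ n)
    (hT : ∃ T : Subgroup ↥(RG K m), IsTorus T n (6 * n)) (hmul : n * n' = qN m) :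
    6 * Nat.card {x : ↥(RG K m) // orderOf x = i} =
      i.totient * (3 ^ (2 * m + 1)) ^ 3 * ((3 ^ (2 * m + 1)) ^ 2 - 1) * n' := by
  obtain ⟨T, hT⟩ := hT
  have h1 := hT.count hi hd
  rw [qN_dvd_card hK, ← hmul] at h1
  have hn : 0 < n := Nat.pos_of_ne_zero fun h => by
    have := qN_odd m
    rw [← hmul, h, zero_mul] at this
    exact absurd this (by decide)
  apply Nat.eq_of_mul_eq_mul_left hn
  have hsq : (3 ^ (2 * m + 1)) ^ 2 - 1 = (3 ^ (2 * m + 1) + 1) * (3 ^ (2 * m + 1) - 1) := by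
    simpa using Nat.sq_sub_sq (3 ^ (2 * m + 1)) 1
  rw [hsq]
  generalize 3 ^ (2 * m + 1) = q at *
  calc n * (6 * Nat.card {x : ↥(RG K m) // orderOf x = i}) =
      6 * n * Nat.card {x : ↥(RG K m) // orderOf x = i} := by ring
    _ = _ := by rw [h1]; ring

theorem half_succ : (3 ^ (2 * m + 1) + 1) / 2 = 2 * qp m := by
  rw [(q_arith m).1]; omega

/-- The spectrum. -/
theorem orders (hm : 1 ≤ m) (d : ℕ) : (∃ g : ↥(RG K m), orderOf g = d) ↔
    (d ∣ 6 ∨ d ∣ 9 ∨ d ∣ 3 ^ (2 * m + 1) - 1 ∨ d ∣ 2 * qp m ∨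
      d ∣ 3 ^ (2 * m + 1) - rr m + 1 ∨ d ∣ 3 ^ (2 * m + 1) + rr m + 1) := by
  constructor
  · rintro ⟨x, rfl⟩
    rcases order_cases hK hm x with h | h | h | h | h | h | h
    · exact Or.inl (h ▸ one_dvd _)
    · exact Or.inl (h ▸ by norm_num)
    · exact Or.inr (Or.inl h.1)
    · exact Or.inl (h ▸ dvd_rfl)
    · exact Or.inr (Or.inr (Or.inl h.1))
    · exact Or.inr (Or.inr (Or.inr (Or.inl h.1)))
    · obtain ⟨g₁, g₂, h₁, h₁', h₂, h₂', hc₁, hc₂, -, -, hcov⟩ := exists_tori hK hm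
      rcases hcov x (orderOf_dvd_iff_pow_eq_one.1 h.1) (fun e => h.2 (orderOf_eq_one_iff.2 e)) with hx | hx
      · exact Or.inr (Or.inr (Or.inr (Or.inr (Or.inl (hc₁ ▸ (inClass_qN hK hm h₁ h₁' hx).1)))))
      · exact Or.inr (Or.inr (Or.inr (Or.inr (Or.inr (hc₂ ▸ (inClass_qN hK hm h₂ h₂' hx).1)))))
  · intro hd
    have hdiv : ∀ (x : ↥(RG K m)), d ∣ orderOf x → ∃ g : ↥(RG K m), orderOf g = d := fun x h =>
      ⟨x ^ (orderOf x / d), orderOf_pow_orderOf_div (orderOf_pos x).ne' h⟩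
    have hcyc : ∀ (T : Subgroup ↥(RG K m)) (n : ℕ), IsCyclic ↥T → Nat.card ↥T = n → d ∣ n →
        ∃ g : ↥(RG K m), orderOf g = d := fun T n hT hn h => by
      have := hT
      obtain ⟨x, hx⟩ := IsCyclic.exists_ofOrder_eq_natCard (α := ↥T)
      exact hdiv x (by rwa [Subgroup.orderOf_coe, hx, hn])
    have hex : ∀ c : ℕ, (0 < Nat.card {x : ↥(RG K m) // orderOf x = c}) → d ∣ c →
        ∃ g : ↥(RG K m), orderOf g = d := fun c h hc => by
      obtain ⟨⟨x, hx⟩⟩ := (Nat.card_pos_iff.1 h).1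
      exact hdiv x (hx ▸ hc)
    have hq3 : 3 ≤ 3 ^ (2 * m + 1) := Nat.le_self_pow (by omega) 3
    obtain ⟨⟨T₁, h₁⟩, ⟨T₂, h₂⟩⟩ := exists_torus_pm hK hm
    rcases hd with h | h | h | h | h | h
    · refine hex 6 ?_ h
      rw [count_six hK hm]
      have : 1 < (3 ^ (2 * m + 1)) ^ 2 := Nat.one_lt_pow (by norm_num) (by omega)
      exact Nat.mul_pos (Nat.mul_pos (by omega) (Nat.succ_pos _)) (by omega)
    · refine hex 9 ?_ h
      rw [count_nine hK]
      exact Nat.mul_pos (Nat.mul_pos (by positivity) (by omega)) (by positivity)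
    · exact hcyc _ _ (HG_cyclic hK).1 (HG_cyclic hK).2 h
    · have := (AT_cyclic hK).1
      obtain ⟨a, ha⟩ := IsCyclic.exists_ofOrder_eq_natCard (α := ↥(AT hK))
      rw [← Subgroup.orderOf_coe, (AT_cyclic hK).2] at ha
      obtain ⟨k1, k2, k3, -⟩ := kG_facts hK
      refine hdiv (kG hK * (a : ↥(RG K m))) ?_
      have hk : orderOf (kG hK) = 2 := orderOf_eq_prime (by rw [sq]; exact k2) k3
      rw [(show Commute (kG hK) (a : ↥(RG K m)) from L0_comm hK k1 a.2.1).orderOf_mul_eq_mul_orderOf_of_coprime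
        (by rw [hk, ha]; exact Nat.coprime_two_left.2 (q_arith m).2.2.1), hk, ha]
      exact h
    · exact hcyc T₁ _ h₁.cyclic h₁.card h
    · exact hcyc T₂ _ h₂.cyclic h₂.card h

end H52.Ree2
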