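import Cfsg.Agent.H52.ReeTorusAct

/-!
The smallest faithful complex representation of a small Ree group: at least `q² - q + 1`.
-/

set_option autoImplicit false
set_option linter.unusedSectionVars false

namespace H52.Ree2

open Cfsg.Lie

section abelian

variable {A : Type*} [AddCommGroup A] [Fintype A] [DecidableEq A] {V : Type*} [AddCommGroup V]
  [Module ℂ V] (π : A → (V →ₗ[ℂ] V)) (h0 : π 0 = 1) (hadd : ∀ a b, π (a + b) = π a * π b)
include h0 hadd

/-- A nonzero joint eigenvector whose character is not trivial at `z`. -/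
theorem exists_eigen {z : A} (hz : π z ≠ 1) :
    ∃ (χ : AddChar A ℂ) (w : V), w ≠ 0 ∧ (∀ a, π a w = χ a • w) ∧ χ z ≠ 1 := by
  classical
  by_contra hc
  push Not at hc
  apply hz
  let E : AddChar A ℂ → V → V := fun χ v => ∑ a : A, χ (-a) • π a v
  have hE : ∀ χ v b, π b (E χ v) = χ b • E χ v := by
    intro χ v b
    simp only [E, map_sum, map_smul, Finset.smul_sum, smul_smul]
    refine Fintype.sum_equiv (Equiv.addLeft b) _ _ fun a => ?_
    simp only [Equiv.coe_addLeft, hadd, Module.End.mul_apply]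
    rw [← AddChar.map_add_eq_mul, neg_add, add_neg_cancel_left]
  have hsum : ∀ v, ∑ χ : AddChar A ℂ, E χ v = (Fintype.card A : ℂ) • v := by
    intro v
    simp only [E]
    rw [Finset.sum_comm]
    simp only [← Finset.sum_smul, AddChar.sum_apply_eq_ite, neg_eq_zero, ite_smul, zero_smul,
      Finset.sum_ite_eq', Finset.mem_univ, if_true]
    rw [h0, Module.End.one_apply]
  apply LinearMap.ext
  intro v
  have e : π z ((Fintype.card A : ℂ) • v) = (Fintype.card A : ℂ) • v := by
    rw [← hsum, map_sum]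
    refine Finset.sum_congr rfl fun χ _ => ?_
    by_cases hw : E χ v = 0
    · rw [hw, map_zero]
    · rw [hE, hc χ (E χ v) hw (hE χ v), one_smul]
  rw [map_smul] at e
  exact smul_right_injective V (Nat.cast_ne_zero.2 Fintype.card_ne_zero) e

/-- Joint eigenvectors with different characters are independent. -/
theorem linearIndependent_eigen {ι : Type*} [Fintype ι] (c : ι → AddChar A ℂ) (hc : Function.Injective c)
    (w : ι → V) (hw0 : ∀ i, w i ≠ 0) (hw : ∀ i a, π a (w i) = c i a • w i) :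
    LinearIndependent ℂ w := by
  classical
  rw [Fintype.linearIndependent_iff]
  intro g hg i
  let P : V →ₗ[ℂ] V := ∑ a : A, c i (-a) • π a
  have hP : ∀ j, P (w j) = if j = i then (Fintype.card A : ℂ) • w j else 0 := by
    intro j
    simp only [P, LinearMap.coe_sum, Finset.sum_apply, LinearMap.smul_apply, hw, smul_smul,
      ← Finset.sum_smul]
    have e : ∀ a, c i (-a) * c j a = (c j / c i) a := fun a => by
      rw [AddChar.div_apply', AddChar.map_neg_eq_inv, div_eq_mul_inv, mul_comm]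
    simp only [e]
    split_ifs with h
    · subst h; simp
    · rw [AddChar.sum_eq_zero_iff_ne_zero.2, zero_smul]
      intro he
      exact h (hc (div_eq_one.1 (by rw [← AddChar.one_eq_zero] at he; exact he)))
  have e := congrArg P hg
  simp only [map_sum, map_smul, hP, smul_ite, smul_zero, Finset.sum_ite_eq', Finset.mem_univ, if_true,
    map_zero, smul_eq_zero, Nat.cast_eq_zero, Fintype.card_ne_zero, hw0 i, or_self, or_false] at e
  exact e

end abelian

variable {K : Type*} [Field K] [Fintype K] {m : ℕ} (hK : Fintype.card K = 3 ^ (2 * m + 1))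

/-- An element `u(t,u,v)` in the group. -/
noncomputable def uG (hK : Fintype.card K = 3 ^ (2 * m + 1)) (t u v : K) : ↥(RG K m) :=
  ⟨uW m t u v, (Subgroup.mem_inf.1 (uW_mem_U hK t u v)).2⟩

/-- A torus element in the group. -/
noncomputable def hG (hK : Fintype.card K = 3 ^ (2 * m + 1)) (a : Kˣ) : ↥(RG K m) :=
  ⟨hA hK a, (Subgroup.mem_inf.1 (hA_mem hK a)).2⟩

include hK

theorem char_scale_eq {ψ : AddChar K ℂ} (hψ : ∃ v, ψ v ≠ 1) {c d : K} (h : ∀ v, ψ (c * v) = ψ (d * v)) :
    c = d := by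
  by_contra hne
  obtain ⟨v, hv⟩ := hψ
  apply hv
  have e := h ((c - d)⁻¹ * v)
  have : v = c * ((c - d)⁻¹ * v) + -(d * ((c - d)⁻¹ * v)) := by
    field_simp [sub_ne_zero.2 hne]
    ring
  rw [this, AddChar.map_add_eq_mul, e, ← AddChar.map_add_eq_mul, add_neg_cancel, AddChar.map_zero_eq_one]

theorem card_pairs [DecidableEq K] : Fintype.card (Kˣ × K) = 3 ^ (2 * m + 1) * (3 ^ (2 * m + 1) - 1) := by
  rw [Fintype.card_prod, Fintype.card_units, hK, mul_comm]

theorem degree_bound (hm : 1 ≤ m) {k : ℕ} (ρ : Representation ℂ ↥(RG K m) (Fin k → ℂ))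
    (hirr : ρ.IsIrreducible) (hk : 2 ≤ k) :
    (3 ^ (2 * m + 1)) ^ 2 - 3 ^ (2 * m + 1) + 1 ≤ k := by
  classical
  obtain ⟨hs, -⟩ := simple hK hm
  -- faithful
  have hinj : Function.Injective ρ := by
    rw [← MonoidHom.ker_eq_bot_iff]
    rcases (MonoidHom.normal_ker ρ).eq_bot_or_eq_top with h | h
    · exact h
    exfalso
    have htriv : ∀ g, ρ g = 1 := fun g => MonoidHom.mem_ker.1 (h ▸ Subgroup.mem_top g)
    have := hirr
    let i0 : Fin k := ⟨0, by omega⟩
    let σ : Subrepresentation ρ :=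
      { toSubmodule := Submodule.span ℂ {Pi.single i0 (1 : ℂ)}
        apply_mem_toSubmodule := fun g v hv => by rw [htriv g]; exact hv }
    have hsne : σ.toSubmodule ≠ ⊥ := by
      simp [σ, Submodule.span_singleton_eq_bot, Pi.single_eq_zero_iff]
    rcases IsSimpleOrder.eq_bot_or_eq_top σ with h' | h'
    · exact hsne (by rw [h']; rfl)
    · have e : σ.toSubmodule = ⊤ := by rw [h']; rfl
      have hfr := congrArg (fun S : Submodule ℂ (Fin k → ℂ) => Module.finrank ℂ S) e
      simp only [σ, finrank_top, Module.finrank_fin_fun] at hfr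
      rw [finrank_span_singleton (by simp [Pi.single_eq_zero_iff])] at hfr
      omega
  -- the abelian group `U'`
  let π : K × K → ((Fin k → ℂ) →ₗ[ℂ] (Fin k → ℂ)) := fun x => ρ (uG hK 0 x.1 x.2)
  have h0 : π 0 = 1 := by
    show ρ (uG hK 0 0 0) = 1
    rw [show uG hK 0 0 0 = 1 from Subtype.ext (uW_zero hK), map_one]
  have hadd : ∀ a b, π (a + b) = π a * π b := fun a b => by
    show ρ (uG hK 0 (a.1 + b.1) (a.2 + b.2)) = ρ (uG hK 0 a.1 a.2) * ρ (uG hK 0 b.1 b.2)
    rw [← map_mul]
    congr 1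
    apply Subtype.ext
    show uW m 0 (a.1 + b.1) (a.2 + b.2) = uW m 0 a.1 a.2 * uW m 0 b.1 b.2
    rw [uW_mul hK, uW_inj hK]
    simp
  have hz : π (0, 1) ≠ 1 := by
    intro h
    have := hinj (show ρ (uG hK 0 0 1) = ρ 1 by rw [map_one]; exact h)
    have e := congrArg Subtype.val this
    simp only [uG, OneMemClass.coe_one, ← uW_zero (m := m) hK, uW_inj hK] at e
    exact one_ne_zero e.2.2
  obtain ⟨χ, w0, hw0, hw, hχ⟩ := exists_eigen π h0 hadd hz
  let ψ : AddChar K ℂ := χ.compAddMonoidHom (AddMonoidHom.inr K K)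
  have hψ : ∃ v, ψ v ≠ 1 := ⟨1, hχ⟩
  set r := 3 ^ (m + 1) with hr
  -- the orbit
  let g : Kˣ × K → ↥(RG K m) := fun i => hG hK i.1 * uG hK i.2 0 0
  let φ : Kˣ × K → K × K →+ K × K := fun i =>
    { toFun := fun x => ((((i.1⁻¹ : Kˣ) : K)) ^ (3 + r) * x.1,
        (((i.1⁻¹ : Kˣ) : K)) ^ (3 + 2 * r) * x.2 - (((i.1⁻¹ : Kˣ) : K)) ^ (3 + r) * x.1 * i.2)
      map_zero' := by simp
      map_add' := fun x y => by ext <;> simp <;> ring }
  have hconj : ∀ i x, g i * uG hK 0 (φ i x).1 (φ i x).2 = uG hK 0 x.1 x.2 * g i := by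
    rintro ⟨a, t⟩ ⟨u, v⟩
    apply Subtype.ext
    set b : K := ((a⁻¹ : Kˣ) : K) with hb
    show hA hK a * uW m t 0 0 * uW m 0 (b ^ (3 + r) * u) (b ^ (3 + 2 * r) * v - b ^ (3 + r) * u * t) =
      uW m 0 u v * (hA hK a * uW m t 0 0)
    have e1 : uW m t 0 0 * uW m 0 (b ^ (3 + r) * u) (b ^ (3 + 2 * r) * v - b ^ (3 + r) * u * t) =
        uW m 0 (b ^ (3 + r) * u) (b ^ (3 + 2 * r) * v) * uW m t 0 0 := by
      have hne : r ≠ 0 := by positivity
      rw [uW_mul hK, uW_mul hK, uW_inj hK, ← hr]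
      simp [zero_pow hne]
    have e2 : hA hK a * uW m 0 (b ^ (3 + r) * u) (b ^ (3 + 2 * r) * v) = uW m 0 u v * hA hK a := by
      have h := hA_conj hK a 0 (b ^ (3 + r) * u) (b ^ (3 + 2 * r) * v)
      rw [← hr, mul_zero, ← mul_assoc, ← mul_assoc, ← mul_pow, ← mul_pow,
        show (a : K) * b = 1 by rw [hb, ← Units.val_mul, mul_inv_cancel, Units.val_one],
        one_pow, one_pow, one_mul, one_mul] at h
      rw [← h, inv_mul_cancel_right]
    rw [mul_assoc, e1, ← mul_assoc, e2, mul_assoc]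
  let c : Kˣ × K → AddChar (K × K) ℂ := fun i => χ.compAddMonoidHom (φ i)
  let w : Kˣ × K → (Fin k → ℂ) := fun i => ρ (g i) w0
  have hweig : ∀ i x, π x (w i) = c i x • w i := by
    intro i x
    show ρ (uG hK 0 x.1 x.2) (ρ (g i) w0) = χ (φ i x) • ρ (g i) w0
    rw [← Module.End.mul_apply, ← map_mul, ← hconj, map_mul, Module.End.mul_apply,
      show ρ (uG hK 0 (φ i x).1 (φ i x).2) w0 = χ (φ i x) • w0 from hw (φ i x), map_smul]
  have hw_ne : ∀ i, w i ≠ 0 := by
    intro i h
    apply hw0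
    have : ρ (g i)⁻¹ (w i) = 0 := by rw [h, map_zero]
    rwa [← Module.End.mul_apply, ← map_mul, inv_mul_cancel, map_one, Module.End.one_apply] at this
  have hcinj : Function.Injective c := by
    rintro ⟨a, t⟩ ⟨a', t'⟩ h
    have hv : ∀ v, ψ (((a⁻¹ : Kˣ) : K) ^ (3 + 2 * r) * v) = ψ (((a'⁻¹ : Kˣ) : K) ^ (3 + 2 * r) * v) := by
      intro v
      have := DFunLike.congr_fun h (0, v)
      simpa [c, φ, ψ] using this
    have ha : a = a' := by
      have e := char_scale_eq hK hψ hv
      rw [← Units.val_pow_eq_pow_val, ← Units.val_pow_eq_pow_val, Units.val_inj] at e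
      have e' : (a⁻¹ * a'⁻¹⁻¹) ^ (3 + 2 * r) = 1 := by rw [mul_pow, e, inv_pow a'⁻¹, mul_inv_cancel]
      have := units_pow_v hK e'
      rwa [inv_inv, inv_mul_eq_one] at this
    subst ha
    refine Prod.ext rfl ?_
    set b : K := ((a⁻¹ : Kˣ) : K) with hb
    have hu : ∀ u, ψ (-(b ^ (3 + r) * t) * u) = ψ (-(b ^ (3 + r) * t') * u) := by
      intro u
      have := DFunLike.congr_fun h (u, 0)
      simp only [c, φ, AddChar.compAddMonoidHom_apply, AddMonoidHom.coe_mk, ZeroHom.coe_mk, mul_zero,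
        zero_sub] at this
      have e : ∀ s : K, ((b ^ (3 + r) * u, -(b ^ (3 + r) * u * s)) : K × K) =
          (b ^ (3 + r) * u, 0) + (0, -(b ^ (3 + r) * s) * u) := fun s => by
        rw [Prod.mk_add_mk, add_zero, zero_add]; congr 1; ring
      rw [e, e, AddChar.map_add_eq_mul, AddChar.map_add_eq_mul] at this
      refine mul_left_cancel₀ ?_ this
      intro h0
      have h1 := AddChar.map_add_eq_mul χ (b ^ (3 + r) * u, (0 : K)) (-(b ^ (3 + r) * u, (0 : K)))
      rw [add_neg_cancel, AddChar.map_zero_eq_one, h0, zero_mul] at h1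
      exact one_ne_zero h1
    have e := char_scale_eq hK hψ hu
    rw [neg_inj] at e
    exact mul_left_cancel₀ (pow_ne_zero _ (Units.ne_zero _)) e
  have hli := linearIndependent_eigen π h0 hadd c hcinj w hw_ne hweig
  have hle := hli.fintype_card_le_finrank
  rw [card_pairs hK, Module.finrank_fin_fun] at hle
  set q := 3 ^ (2 * m + 1) with hq
  have hqq : q * (q - 1) = q ^ 2 - q := by rw [Nat.mul_sub, sq, mul_one]
  rcases Nat.lt_or_ge (q * (q - 1)) k with hlt | hge
  · show q ^ 2 - q + 1 ≤ k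
    rw [← hqq]; exact hlt
  exfalso
  have hkq : Fintype.card (Kˣ × K) = k := (card_pairs hK).trans (le_antisymm hle hge)
  -- the involution `h(-1)` permutes the basis without fixed points: determinant `-1`
  have hne : Nonempty (Kˣ × K) := ⟨(1, 0)⟩
  let B := basisOfLinearIndependentOfCardEqFinrank hli (by rw [hkq, Module.finrank_fin_fun])
  let σ : Equiv.Perm (Kˣ × K) := Equiv.prodCongr (Equiv.mulLeft (-1 : Kˣ)) (Equiv.refl K)
  have hBj : ∀ i, ρ (hG hK (-1)) (B i) = B (σ i) := by
    intro i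
    rw [coe_basisOfLinearIndependentOfCardEqFinrank]
    show ρ (hG hK (-1)) (ρ (g i) w0) = ρ (g (σ i)) w0
    rw [← Module.End.mul_apply, ← map_mul]
    congr 2
    show hG hK (-1) * (hG hK i.1 * uG hK i.2 0 0) = hG hK (-1 * i.1) * uG hK i.2 0 0
    rw [← mul_assoc]
    congr 1
    exact Subtype.ext (hA_mul hK _ _).symm
  have hdet : LinearMap.det (ρ (hG hK (-1))) = ((σ⁻¹ : Equiv.Perm _).sign : ℤ) := by
    rw [← LinearMap.det_toMatrix B,
      show LinearMap.toMatrix B B (ρ (hG hK (-1))) = Equiv.Perm.permMatrix ℂ σ⁻¹ from ?_,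
      Matrix.det_permutation]
    ext i j
    rw [LinearMap.toMatrix_apply, hBj, B.repr_self, Finsupp.single_apply, Equiv.Perm.permMatrix,
      PEquiv.toMatrix_apply]
    simp [eq_comm, Equiv.eq_symm_apply]
  -- perfectness kills the determinant
  have hdet1 : LinearMap.det (ρ (hG hK (-1))) = 1 := by
    let d : ↥(RG K m) →* ℂˣ := ((LinearMap.det).comp ρ).toHomUnits
    have hmem : hG hK (-1) ∈ d.ker :=
      Abelianization.commutator_subset_ker d (by rw [perfect hK hm]; trivial)
    simpa [d] using congrArg Units.val (MonoidHom.mem_ker.1 hmem)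
  have hinv : σ⁻¹ = σ := by
    rw [inv_eq_iff_mul_eq_one]
    ext i <;> simp [σ]
  have hfix : ∀ i, σ i ≠ i := by
    intro i h
    have h1 : -1 * i.1 = i.1 := congrArg Prod.fst h
    have h2 : (-1 : Kˣ) = 1 := mul_eq_right.1 h1
    have h' : (-1 : K) = 1 := by simpa using congrArg Units.val h2
    have h3 := three_eq_zero hK
    exact one_ne_zero (show (1 : K) = 0 by linear_combination h3 + h')
  have hsq : σ ^ 2 = 1 := by rw [sq]; exact inv_eq_iff_mul_eq_one.1 hinv
  have hsign : σ.sign = (-1 : ℤˣ) ^ (k + k / 2) := by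
    have hne1 : σ ≠ 1 := fun h => hfix hne.some (by rw [h]; rfl)
    have : Fact (Nat.Prime 2) := ⟨Nat.prime_two⟩
    obtain ⟨n, hn⟩ := Equiv.Perm.cycleType_prime_order (σ := σ)
      (by rw [orderOf_eq_prime hsq hne1]; exact Nat.prime_two)
    rw [orderOf_eq_prime hsq hne1] at hn
    have hsup : σ.support.card = k := by
      rw [show σ.support = Finset.univ from Finset.eq_univ_of_forall fun i =>
        Equiv.Perm.mem_support.2 (hfix i), Finset.card_univ, hkq]
    have hs := σ.sum_cycleType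
    rw [hsup, hn, Multiset.sum_replicate, smul_eq_mul] at hs
    rw [Equiv.Perm.sign_of_cycleType, hn, Multiset.sum_replicate, Multiset.card_replicate, smul_eq_mul, hs]
    congr 2
    omega
  have hodd : Odd (k + k / 2) := by
    rw [card_pairs hK] at hkq
    have h8 : q % 8 = 3 := by
      rw [hq, pow_succ, pow_mul, Nat.mul_mod, Nat.pow_mod]
      norm_num
    have hk' : k = q * (q - 1) := hkq.symm
    obtain ⟨s, hs⟩ : ∃ s, q = 8 * s + 3 := ⟨q / 8, by omega⟩
    have hval : k = 2 * ((8 * s + 3) * (4 * s + 1)) := by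
      rw [hk', hs, show 8 * s + 3 - 1 = 2 * (4 * s + 1) by omega]; ring
    rw [hval, Nat.mul_div_cancel_left _ (by norm_num : 0 < 2)]
    refine (even_two_mul _).add_odd (Odd.mul ?_ ?_)
    · exact ⟨4 * s + 1, by ring⟩
    · exact ⟨2 * s, by ring⟩
  rw [hinv, hsign, hodd.neg_one_pow] at hdet
  rw [hdet1] at hdet
  norm_num at hdet

end H52.Ree2
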