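import Mathlib

/-!
Elements of prime order acting in dimension seven with six Galois conjugate eigenvalues.
-/

set_option autoImplicit false
set_option linter.unusedSectionVars false

namespace H52.Ree2

open Matrix
open scoped Classical

variable {K : Type*} [Field K] [Fintype K]

local notation "L" => AlgebraicClosure K

/-- A matrix over `K` acting on vectors over the algebraic closure. -/
noncomputable def actL (X : GL (Fin 7) K) : (Fin 7 → L) →ₗ[L] (Fin 7 → L) :=
  Matrix.mulVecLin ((X : Matrix (Fin 7) (Fin 7) K).map (algebraMap K L))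

theorem actL_mul (X Y : GL (Fin 7) K) (v : Fin 7 → L) : actL (X * Y) v = actL X (actL Y v) := by
  simp only [actL, Matrix.mulVecLin_apply, Units.val_mul, Matrix.map_mul, Matrix.mulVec_mulVec]

theorem actL_one (v : Fin 7 → L) : actL (1 : GL (Fin 7) K) v = v := by
  simp [actL, Matrix.map_one]

theorem actL_ext {X Y : GL (Fin 7) K} (h : ∀ v, actL X v = actL Y v) : X = Y := by
  have e := Matrix.ext_of_mulVec_single (M := (X : Matrix (Fin 7) (Fin 7) K).map (algebraMap K L))
    (N := (Y : Matrix (Fin 7) (Fin 7) K).map (algebraMap K L)) fun i => h _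
  exact Units.ext (Matrix.map_injective (algebraMap K L).injective e)

/-- The Frobenius of `K` on vectors. -/
noncomputable def sigL (v : Fin 7 → L) : Fin 7 → L := fun i => v i ^ Fintype.card K

theorem sigL_eq (v : Fin 7 → L) : sigL v = (FiniteField.frobeniusAlgHom K L) ∘ v := by
  funext i
  simp [sigL, FiniteField.coe_frobeniusAlgHom]

theorem sigL_act (X : GL (Fin 7) K) (v : Fin 7 → L) : sigL (actL X v) = actL X (sigL v) := by
  funext i
  rw [sigL_eq, sigL_eq]
  simp only [actL, Matrix.mulVecLin_apply, Function.comp_apply, Matrix.mulVec, dotProduct, map_sum, map_mul,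
    Matrix.map_apply, AlgHom.commutes]

theorem sigL_smul (c : L) (v : Fin 7 → L) : sigL (c • v) = c ^ Fintype.card K • sigL v := by
  funext i; simp [sigL, mul_pow]

theorem sigL_injective : Function.Injective (sigL : (Fin 7 → L) → (Fin 7 → L)) := by
  intro u v h
  rw [sigL_eq, sigL_eq] at h
  funext i
  exact (FiniteField.frobeniusAlgHom K L).toRingHom.injective (congrFun h i)

theorem sigL_zero : sigL (0 : Fin 7 → L) = 0 := by
  funext i; simp [sigL, Fintype.card_ne_zero]

theorem sigL_iter_eigen {X : GL (Fin 7) K} {a : L} {v : Fin 7 → L} (h : actL X v = a • v) (i : ℕ) :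
    actL X (sigL^[i] v) = a ^ Fintype.card K ^ i • sigL^[i] v := by
  induction i with
  | zero => simpa using h
  | succ i ih =>
    rw [Function.iterate_succ_apply', ← sigL_act, ih, sigL_smul, ← pow_mul, ← pow_succ]

theorem sigL_iter_ne {v : Fin 7 → L} (h : v ≠ 0) (i : ℕ) : sigL^[i] v ≠ 0 := by
  induction i with
  | zero => exact h
  | succ i ih =>
    rw [Function.iterate_succ_apply']
    exact fun e => ih (sigL_injective (e.trans sigL_zero.symm))

theorem sigL_iter_smul (c : L) (v : Fin 7 → L) (i : ℕ) :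
    sigL^[i] (c • v) = c ^ Fintype.card K ^ i • sigL^[i] v := by
  induction i with
  | zero => simp
  | succ i ih => rw [Function.iterate_succ_apply', ih, sigL_smul, ← pow_mul, ← pow_succ, Function.iterate_succ_apply']

variable {g : GL (Fin 7) K} {p : ℕ}

theorem actL_pow_eigen {a : L} {v : Fin 7 → L} (h : actL g v = a • v) (n : ℕ) :
    actL (g ^ n) v = a ^ n • v := by
  induction n with
  | zero => simp [actL_one]
  | succ n ih => rw [pow_succ, actL_mul, h, map_smul, ih, smul_smul, ← pow_succ']

/-- The projection to an eigenspace, times `p`. -/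
noncomputable def projL (g : GL (Fin 7) K) (p : ℕ) (b : L) : (Fin 7 → L) →ₗ[L] (Fin 7 → L) :=
  ∑ k ∈ Finset.range p, (b⁻¹) ^ k • actL (g ^ k)

variable (hp : p.Prime) (hg : g ^ p = 1) (hpK : (p : AlgebraicClosure K) ≠ 0)
include hp hg hpK

theorem projL_eigen {b c : L} (hb : b ^ p = 1) (hc : c ^ p = 1) {v : Fin 7 → L} (h : actL g v = c • v) :
    projL g p b v = if b = c then (p : L) • v else 0 := by
  classical
  have e : projL g p b v = (∑ k ∈ Finset.range p, (b⁻¹ * c) ^ k) • v := by
    rw [projL, LinearMap.sum_apply, Finset.sum_smul]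
    refine Finset.sum_congr rfl fun k _ => ?_
    rw [LinearMap.smul_apply, actL_pow_eigen h, smul_smul, mul_pow]
  have hb0 : b ≠ 0 := fun h0 => by simp [h0, zero_pow hp.ne_zero] at hb
  rw [e]
  split_ifs with hbc
  · subst hbc; simp [inv_mul_cancel₀ hb0]
  · have hne : b⁻¹ * c ≠ 1 := fun h1 => hbc (inv_mul_eq_one₀ hb0 |>.1 h1)
    rw [geom_sum_eq hne, mul_pow, inv_pow, hb, hc, inv_one, one_mul, sub_self, zero_div, zero_smul]

theorem projL_mem {b : L} (hb : b ^ p = 1) (v : Fin 7 → L) : actL g (projL g p b v) = b • projL g p b v := by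
  have hb0 : b ≠ 0 := fun h0 => by simp [h0, zero_pow hp.ne_zero] at hb
  simp only [projL, LinearMap.sum_apply, map_sum, LinearMap.smul_apply, map_smul, ← actL_mul, ← pow_succ',
    Finset.smul_sum, smul_smul]
  set F : ℕ → (Fin 7 → L) := fun k => (b * b⁻¹ ^ k) • actL (g ^ k) v with hF
  have h1 : ∀ k, b⁻¹ ^ k • actL (g ^ (k + 1)) v = F (k + 1) := fun k => by
    simp only [hF, pow_succ']
    rw [← mul_assoc, mul_inv_cancel₀ hb0, one_mul]
  simp only [h1]
  have h0 : F p = F 0 := by simp [hF, hg, inv_pow, hb]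
  have e2 : ∑ k ∈ Finset.range p, F (k + 1) + F 0 = ∑ k ∈ Finset.range p, F k + F p := by
    rw [← Finset.sum_range_succ' F p, ← Finset.sum_range_succ F p]
  rw [h0] at e2
  exact add_right_cancel e2

theorem exists_primitive : ∃ ζ : L, IsPrimitiveRoot ζ p := by
  haveI : NeZero (p : L) := ⟨hpK⟩
  exact HasEnoughRootsOfUnity.exists_primitiveRoot L p

theorem projL_sum {ζ : L} (hζ : IsPrimitiveRoot ζ p) (v : Fin 7 → L) :
    ∑ j ∈ Finset.range p, projL g p (ζ ^ j) v = (p : L) • v := by
  simp only [projL, LinearMap.sum_apply, LinearMap.smul_apply]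
  rw [Finset.sum_comm]
  simp only [← Finset.sum_smul]
  rw [Finset.sum_eq_single 0]
  · simp [actL_one]
  · intro k hk hk0
    have hsum : ∑ j ∈ Finset.range p, ((ζ ^ j)⁻¹) ^ k = 0 := by
      have hne : (ζ⁻¹) ^ k ≠ 1 := by
        intro h
        rw [inv_pow, inv_eq_one] at h
        exact hk0 (Nat.eq_zero_of_dvd_of_lt (hζ.dvd_of_pow_eq_one k h) (Finset.mem_range.1 hk))
      have e : ∀ j, ((ζ ^ j)⁻¹) ^ k = ((ζ⁻¹) ^ k) ^ j := fun j => by
        rw [inv_pow, ← pow_mul, inv_pow, inv_pow, ← pow_mul, mul_comm]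
      simp only [e]
      rw [geom_sum_eq hne, ← pow_mul, mul_comm, pow_mul, inv_pow, hζ.pow_eq_one, inv_one, one_pow, sub_self,
        zero_div]
    rw [hsum, zero_smul]
  · intro h; exact absurd (Finset.mem_range.2 hp.pos) h

theorem eigen_family_card {ι : Type*} [Fintype ι] {κ : Type*} [Fintype κ] [DecidableEq κ] (b : κ → L)
    (hb : Function.Injective b) (hbp : ∀ k, b k ^ p = 1) (w : κ → ι → (Fin 7 → L))
    (hw : ∀ k i, actL g (w k i) = b k • w k i) (hli : ∀ k, LinearIndependent L (w k)) :
    Fintype.card κ * Fintype.card ι ≤ 7 := by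
  have h : LinearIndependent L (fun ki : κ × ι => w ki.1 ki.2) := by
    rw [Fintype.linearIndependent_iff]
    intro c hc ⟨k, i⟩
    have e := congrArg (projL g p (b k)) hc
    simp only [map_sum, map_smul, map_zero, projL_eigen hp hg hpK (hbp k) (hbp _) (hw _ _), smul_ite,
      smul_zero, Fintype.sum_prod_type] at e
    rw [Finset.sum_eq_single k (fun k' _ hne => by
      simp [show b k ≠ b k' from fun h => hne (hb h).symm]) (fun h => absurd (Finset.mem_univ _) h)] at e
    simp only [if_true, smul_smul] at e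
    have := Fintype.linearIndependent_iff.1 (hli k) (fun i => c (k, i) * (p : L)) (by simpa [smul_smul] using e) i
    exact (mul_eq_zero.1 this).resolve_right hpK
  have := h.fintype_card_le_finrank
  rwa [Fintype.card_prod, Module.finrank_fintype_fun_eq_card, Fintype.card_fin] at this

variable (hord : ∀ d : ℕ, 1 ≤ d → d ≤ 5 → ((Fintype.card K : ZMod p)) ^ d ≠ 1)
  (hsix : ((Fintype.card K : ZMod p)) ^ 6 = 1)
include hord hsix

omit hg hpK in
theorem orbit_injective {a : L} (ha : orderOf a = p) {i j : ℕ} (hi : i < 6) (hj : j < 6)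
    (h : a ^ Fintype.card K ^ i = a ^ Fintype.card K ^ j) : i = j := by
  have : Fact p.Prime := ⟨hp⟩
  by_contra hne
  wlog hlt : i < j generalizing i j
  · exact this hj hi h.symm (Ne.symm hne) (by omega)
  have h1 : ((Fintype.card K : ZMod p)) ^ i = (Fintype.card K : ZMod p) ^ j := by
    have := (isOfFinOrder_iff_pow_eq_one.2 ⟨p, hp.pos, ha ▸ pow_orderOf_eq_one a⟩).pow_eq_pow_iff_modEq.1 h
    rw [ha] at this
    have := (ZMod.natCast_eq_natCast_iff _ _ _).2 this
    push_cast at this
    exact this
  have hq : (Fintype.card K : ZMod p) ≠ 0 := fun h0 => by simp [h0] at hsix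
  refine hord (j - i) (by omega) (by omega) ?_
  apply mul_left_cancel₀ (pow_ne_zero i hq)
  rw [← pow_add, mul_one, Nat.add_sub_cancel' hlt.le, h1]

/-- Structure of the eigenvectors. -/
theorem eigen_struct (hg1 : g ≠ 1) : ∃ (a : L) (v0 : Fin 7 → L), orderOf a = p ∧ v0 ≠ 0 ∧
    actL g v0 = a • v0 ∧
    (∀ (b : L) (u : Fin 7 → L), b ^ p = 1 → b ≠ 1 → u ≠ 0 → actL g u = b • u →
      ∃ i < 6, b = a ^ Fintype.card K ^ i ∧ ∃ c : L, u = c • sigL^[i] v0) ∧
    ∀ u u' : Fin 7 → L, actL g u = u → actL g u' = u' → u ≠ 0 → ∃ c : L, u' = c • u := by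
  classical
  have : Fact p.Prime := ⟨hp⟩
  obtain ⟨ζ, hζ⟩ := exists_primitive hp hg hpK
  have hζp : ∀ j : ℕ, (ζ ^ j) ^ p = 1 := fun j => by
    rw [← pow_mul, mul_comm, pow_mul, hζ.pow_eq_one, one_pow]
  obtain ⟨a, v0, hap, ha1, hv0, hv⟩ : ∃ (a : L) (v : Fin 7 → L), a ^ p = 1 ∧ a ≠ 1 ∧ v ≠ 0 ∧ actL g v = a • v := by
    by_contra hcon
    push Not at hcon
    apply hg1
    apply actL_ext
    intro v
    rw [actL_one]
    have hz : ∀ j ∈ Finset.range p, j ≠ 0 → projL g p (ζ ^ j) v = 0 := by
      intro j hj hj0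
      by_contra hne
      refine hcon (ζ ^ j) (projL g p (ζ ^ j) v) (hζp j) ?_ hne (projL_mem hp hg hpK (hζp j) v)
      exact fun h => hj0 (Nat.eq_zero_of_dvd_of_lt (hζ.dvd_of_pow_eq_one j h) (Finset.mem_range.1 hj))
    have hs := projL_sum hp hg hpK hζ v
    rw [Finset.sum_eq_single 0 hz (fun h => absurd (Finset.mem_range.2 hp.pos) h), pow_zero] at hs
    have := projL_mem hp hg hpK (one_pow p) v
    rw [hs, map_smul, one_smul] at this
    exact smul_right_injective (Fin 7 → L) hpK this
  have ha : orderOf a = p := orderOf_eq_prime hap ha1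
  set w : Fin 6 → (Fin 7 → L) := fun i => sigL^[i.val] v0 with hw
  set e : Fin 6 → L := fun i => a ^ Fintype.card K ^ i.val with he
  have hew : ∀ i, actL g (w i) = e i • w i := fun i => sigL_iter_eigen hv i.val
  have hep : ∀ i, e i ^ p = 1 := fun i => by rw [he]; simp only; rw [← pow_mul, mul_comm, pow_mul, hap, one_pow]
  have he1 : ∀ i, e i ≠ 1 := fun i h => by
    have h1 := orderOf_dvd_of_pow_eq_one h
    rw [ha] at h1
    have h2 : ((Fintype.card K : ZMod p)) ^ i.val = 0 := by
      rw [← Nat.cast_pow]; exact (ZMod.natCast_eq_zero_iff _ _).2 h1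
    have hq : (Fintype.card K : ZMod p) ≠ 0 := fun h0 => by simp [h0] at hsix
    exact pow_ne_zero _ hq h2
  have heinj : Function.Injective e := fun i j h => Fin.ext (orbit_injective hp hord hsix ha i.2 j.2 h)
  have h67 : ∀ (b : Fin 7 → L), Function.Injective b → (∀ k, b k ^ p = 1) →
      ∀ (z : Fin 7 → Fin 2 → (Fin 7 → L)), (∀ k i, actL g (z k i) = b k • z k i) →
      (∀ k, LinearIndependent L (z k)) → False := fun b hb hbp z hz hli => by
    have := eigen_family_card hp hg hpK b hb hbp z hz hli
    simp at this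
  refine ⟨a, v0, ha, hv0, hv, fun b u hb hb1 hu hbu => ?_, fun u u' hu hu' hne => ?_⟩
  · have hbo : orderOf b = p := orderOf_eq_prime hb hb1
    by_cases hex : ∃ i, b = e i
    · obtain ⟨i, rfl⟩ := hex
      refine ⟨i.val, i.2, rfl, ?_⟩
      by_contra hnc
      push Not at hnc
      -- two independent eigenvectors in each of the six spaces
      have hli : ∀ k : Fin 6, LinearIndependent L ![sigL^[k.val] (w i), sigL^[k.val] u] := by
        intro k
        rw [LinearIndependent.pair_iff' (sigL_iter_ne (sigL_iter_ne hv0 _) _)]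
        intro c hc
        have hsurj : ∀ n : ℕ, ∀ c : L, ∃ c', c' ^ Fintype.card K ^ n = c := fun n c =>
          IsAlgClosed.exists_pow_nat_eq c (pow_pos Fintype.card_pos n)
        obtain ⟨c', rfl⟩ := hsurj k.val c
        rw [← sigL_iter_smul] at hc
        exact hnc c' (sigL_injective.iterate k.val hc).symm
      have := eigen_family_card hp hg hpK (fun k : Fin 6 => (e i) ^ Fintype.card K ^ k.val)
        (fun k l h => Fin.ext (orbit_injective hp hord hsix hbo k.2 l.2 h))
        (fun k => by rw [← pow_mul, mul_comm, pow_mul, hb, one_pow])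
        (fun k => ![sigL^[k.val] (w i), sigL^[k.val] u])
        (fun k l => by
          fin_cases l
          · simpa using sigL_iter_eigen (hew i) k.val
          · simpa using sigL_iter_eigen hbu k.val)
        hli
      simp at this
    · exfalso
      push Not at hex
      -- twelve distinct eigenvalues
      let f : Fin 6 ⊕ Fin 6 → L := Sum.elim e (fun k => b ^ Fintype.card K ^ k.val)
      have hf : Function.Injective f := by
        rintro (k | k) (l | l) h <;> simp only [f, Sum.elim_inl, Sum.elim_inr] at h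
        · rw [heinj h]
        · exfalso
          -- `b` is in the orbit of `a`
          have h' := congrArg (fun x => x ^ Fintype.card K ^ (6 - l.val)) h
          simp only [he, ← pow_mul, ← pow_add] at h'
          rw [show l.val + (6 - l.val) = 6 by omega] at h'
          have hb6 : b ^ Fintype.card K ^ 6 = b := by
            conv_rhs => rw [← pow_one b]
            rw [(isOfFinOrder_iff_pow_eq_one.2 ⟨p, hp.pos, hb⟩).pow_eq_pow_iff_modEq, hbo,
              ← ZMod.natCast_eq_natCast_iff]
            push_cast; exact hsix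
          rw [hb6] at h'
          refine hex ⟨(k.val + (6 - l.val)) % 6, Nat.mod_lt _ (by norm_num)⟩ (h'.symm.trans ?_)
          rw [he]
          simp only
          rw [(isOfFinOrder_iff_pow_eq_one.2 ⟨p, hp.pos, hap⟩).pow_eq_pow_iff_modEq, ha,
            ← ZMod.natCast_eq_natCast_iff]
          push_cast
          conv_lhs => rw [← Nat.div_add_mod (k.val + (6 - l.val)) 6, pow_add, pow_mul, hsix, one_pow, one_mul]
        · exfalso
          have h' := congrArg (fun x => x ^ Fintype.card K ^ (6 - k.val)) h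
          simp only [he, ← pow_mul, ← pow_add] at h'
          rw [show k.val + (6 - k.val) = 6 by omega] at h'
          have hb6 : b ^ Fintype.card K ^ 6 = b := by
            conv_rhs => rw [← pow_one b]
            rw [(isOfFinOrder_iff_pow_eq_one.2 ⟨p, hp.pos, hb⟩).pow_eq_pow_iff_modEq, hbo,
              ← ZMod.natCast_eq_natCast_iff]
            push_cast; exact hsix
          rw [hb6] at h'
          refine hex ⟨(l.val + (6 - k.val)) % 6, Nat.mod_lt _ (by norm_num)⟩ (h'.trans ?_)
          rw [he]
          simp only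
          rw [(isOfFinOrder_iff_pow_eq_one.2 ⟨p, hp.pos, hap⟩).pow_eq_pow_iff_modEq, ha,
            ← ZMod.natCast_eq_natCast_iff]
          push_cast
          conv_lhs => rw [← Nat.div_add_mod (l.val + (6 - k.val)) 6, pow_add, pow_mul, hsix, one_pow, one_mul]
        · rw [Fin.ext (orbit_injective hp hord hsix hbo k.2 l.2 h)]
      have := eigen_family_card hp hg hpK f hf
        (fun k => by
          rcases k with k | k
          · exact hep k
          · simp only [f, Sum.elim_inr]; rw [← pow_mul, mul_comm, pow_mul, hb, one_pow])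
        (fun k (_ : Fin 1) => Sum.elim w (fun k => sigL^[k.val] u) k)
        (fun k _ => by
          rcases k with k | k
          · exact hew k
          · exact sigL_iter_eigen hbu k.val)
        (fun k => by
          rw [linearIndependent_unique_iff]
          rcases k with k | k
          · exact sigL_iter_ne hv0 _
          · exact sigL_iter_ne hu _)
      simp at this
  · by_contra hnc
    push Not at hnc
    have hli1 : LinearIndependent L ![u, u'] := by
      rw [LinearIndependent.pair_iff' hne]
      exact fun c hc => hnc c hc.symm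
    -- eight independent vectors
    let B : Option (Fin 6) → L := fun k => k.elim 1 e
    have hli : LinearIndependent L (Sum.elim w ![u, u']) := by
      rw [Fintype.linearIndependent_iff]
      intro c hc i
      rw [Fintype.sum_sum_type] at hc
      simp only [Sum.elim_inl, Sum.elim_inr] at hc
      have key : ∀ b : L, b ^ p = 1 →
          (∑ k, c (Sum.inl k) • (if b = e k then (p : L) • w k else 0)) +
            ∑ l, c (Sum.inr l) • (if b = 1 then (p : L) • ![u, u'] l else 0) = 0 := by
        intro b hb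
        have h' := congrArg (projL g p b) hc
        rw [map_add, map_sum, map_sum, map_zero] at h'
        simp only [map_smul, projL_eigen hp hg hpK hb (hep _) (hew _)] at h'
        refine Eq.trans ?_ h'
        congr 1
        refine Finset.sum_congr rfl fun l _ => ?_
        have h1l : actL g (![u, u'] l) = (1 : L) • ![u, u'] l := by
          fin_cases l <;> simp [hu, hu']
        rw [projL_eigen hp hg hpK hb (one_pow p) h1l]
      rcases i with i | i
      · have h' := key (e i) (hep i)
        simp only [if_neg (he1 i), smul_zero, Finset.sum_const_zero, add_zero] at h'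
        rw [Finset.sum_eq_single i (fun k _ hk => by simp [show e i ≠ e k from fun h => hk (heinj h).symm])
          (fun h => absurd (Finset.mem_univ _) h)] at h'
        simp only [if_true, smul_eq_zero, hpK, false_or] at h'
        exact h'.resolve_right (sigL_iter_ne hv0 _)
      · have h' := key 1 (one_pow p)
        simp only [show ∀ k, ((1 : L) = e k) = False from fun k => eq_false fun h => he1 k h.symm,
          if_false, smul_zero, Finset.sum_const_zero, zero_add, if_true, smul_smul] at h'
        have := Fintype.linearIndependent_iff.1 hli1 (fun l => c (Sum.inr l) * (p : L)) (by simpa [smul_smul] using h') i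
        exact (mul_eq_zero.1 this).resolve_right hpK
    have := hli.fintype_card_le_finrank
    simp at this

theorem spanning {x y : GL (Fin 7) K} (h : ∀ (b : L) (u : Fin 7 → L), b ^ p = 1 → actL g u = b • u → actL x u = actL y u) : x = y := by
  obtain ⟨ζ, hζ⟩ := exists_primitive hp hg hpK
  apply actL_ext
  intro v
  apply smul_right_injective (Fin 7 → L) hpK
  have hb : ∀ j : ℕ, (ζ ^ j) ^ p = 1 := fun j => by
    rw [← pow_mul, mul_comm, pow_mul, hζ.pow_eq_one, one_pow]
  simp only [← map_smul, ← projL_sum hp hg hpK hζ v, map_sum]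
  exact Finset.sum_congr rfl fun j _ => h _ _ (hb j) (projL_mem hp hg hpK (hb j) v)

theorem eigen_scalar (hg1 : g ≠ 1) {x : GL (Fin 7) K} (hx : x * g = g * x) {b : L} {u : Fin 7 → L}
    (hb : b ^ p = 1) (hu : u ≠ 0) (hbu : actL g u = b • u) : ∃ c : L, actL x u = c • u := by
  obtain ⟨a, v0, ha, hv0, hv, hne1, h1⟩ := eigen_struct hp hg hpK hord hsix hg1
  have hxu : actL g (actL x u) = b • actL x u := by rw [← actL_mul, ← hx, actL_mul, hbu, map_smul]
  by_cases hb1 : b = 1
  · subst hb1
    rw [one_smul] at hbu hxu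
    exact h1 u _ hbu hxu hu
  · obtain ⟨i, hi, rfl, c, rfl⟩ := hne1 b u hb hb1 hu hbu
    by_cases hz : actL x (c • sigL^[i] v0) = 0
    · exact ⟨0, by rw [hz, zero_smul]⟩
    obtain ⟨k, hk, e, d, hd⟩ := hne1 _ _ hb hb1 hz hxu
    obtain rfl : i = k := orbit_injective hp hord hsix ha hi hk e
    have hc : c ≠ 0 := fun h => hu (by rw [h, zero_smul])
    exact ⟨d * c⁻¹, by rw [hd, smul_smul, mul_assoc, inv_mul_cancel₀ hc, mul_one]⟩

theorem centralizer_comm (hg1 : g ≠ 1) {x y : GL (Fin 7) K} (hx : x * g = g * x) (hy : y * g = g * y) :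
    x * y = y * x := by
  refine spanning hp hg hpK hord hsix fun b u hb hbu => ?_
  by_cases hu : u = 0
  · subst hu; simp
  obtain ⟨c, hc⟩ := eigen_scalar hp hg hpK hord hsix hg1 hx hb hu hbu
  obtain ⟨d, hd⟩ := eigen_scalar hp hg hpK hord hsix hg1 hy hb hu hbu
  rw [actL_mul, actL_mul, hd, hc, map_smul, map_smul, hc, hd, smul_smul, smul_smul, mul_comm]

theorem exists_eigenchar (hg1 : g ≠ 1) :
    ∃ ι : ↥(Subgroup.centralizer {g}) →* L, ∀ (x : ↥(Subgroup.centralizer {g})) (s : ℕ),
      ι x = 1 → x ^ s = 1 → Nat.Coprime s (Fintype.card K - 1) → x = 1 := by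
  obtain ⟨a, v0, ha, hv0, hv, hne1, h1⟩ := eigen_struct hp hg hpK hord hsix hg1
  have hap : a ^ p = 1 := ha ▸ pow_orderOf_eq_one a
  choose c hc using fun x : ↥(Subgroup.centralizer {g}) =>
    eigen_scalar hp hg hpK hord hsix hg1 (Subgroup.mem_centralizer_singleton_iff.1 x.2) hap hv0 hv
  have huniq : ∀ {c d : L}, c • v0 = d • v0 → c = d := fun h => smul_left_injective L hv0 h
  refine ⟨⟨⟨c, huniq (by rw [← hc, Subgroup.coe_one, actL_one, one_smul])⟩, fun x y => huniq (by
    rw [← hc, Subgroup.coe_mul, actL_mul, hc, map_smul, hc, smul_smul, mul_comm (c x)])⟩, ?_⟩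
  intro x s hx hxs hcop
  apply Subtype.ext
  refine spanning hp hg hpK hord hsix fun b u hb hbu => ?_
  rw [Subgroup.coe_one, actL_one]
  by_cases hu : u = 0
  · subst hu; simp
  have hx0 : actL (x : GL (Fin 7) K) v0 = v0 := by
    rw [hc x, show c x = 1 from hx, one_smul]
  by_cases hb1 : b = 1
  · subst hb1
    rw [one_smul] at hbu
    obtain ⟨l, hl⟩ := eigen_scalar hp hg hpK hord hsix hg1 (Subgroup.mem_centralizer_singleton_iff.1 x.2)
      (one_pow p) hu (by rw [one_smul]; exact hbu)
    have hσ : actL g (sigL u) = sigL u := by rw [← sigL_act, hbu]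
    obtain ⟨μ, hμ⟩ := h1 u _ hbu hσ hu
    have hq : l ^ Fintype.card K = l := by
      have e1 := congrArg sigL hl
      rw [sigL_act, sigL_smul] at e1
      rw [hμ, map_smul, hl, smul_smul, smul_smul, mul_comm μ] at e1
      have hμ0 : μ ≠ 0 := fun h => by
        rw [h, zero_smul] at hμ
        exact hu (sigL_injective (hμ.trans sigL_zero.symm))
      exact (mul_right_cancel₀ hμ0 (smul_left_injective L hu e1)).symm
    have hpow : ∀ n : ℕ, actL ((x : GL (Fin 7) K) ^ n) u = l ^ n • u := fun n => actL_pow_eigen hl n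
    have hls : l ^ s = 1 := by
      have := hpow s
      rw [← Subgroup.coe_pow, hxs, Subgroup.coe_one, actL_one] at this
      exact smul_left_injective L hu (by simpa using this.symm)
    have hl0 : l ≠ 0 := fun h0 => by
      rw [h0] at hl
      rw [zero_smul] at hl
      have := congrArg (actL ((x : GL (Fin 7) K)⁻¹)) hl
      rw [← actL_mul, inv_mul_cancel, actL_one, map_zero] at this
      exact hu this
    have hl1 : l ^ (Fintype.card K - 1) = 1 := by
      apply mul_right_cancel₀ hl0
      rw [← pow_succ, one_mul, Nat.sub_add_cancel Fintype.card_pos, hq]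
    have hone : l = 1 := by
      have := pow_gcd_eq_one.2 ⟨hls, hl1⟩
      rwa [hcop.gcd_eq_one, pow_one] at this
    rw [hl, hone, one_smul]
  · obtain ⟨i, -, rfl, d, rfl⟩ := hne1 b u hb hb1 hu hbu
    have hiter : ∀ i : ℕ, actL (x : GL (Fin 7) K) (sigL^[i] v0) = sigL^[i] v0 := by
      intro i
      induction i with
      | zero => exact hx0
      | succ i ih => rw [Function.iterate_succ_apply', ← sigL_act, ih]
    rw [map_smul, hiter]

theorem normalizer_power (hg1 : g ≠ 1) {n : GL (Fin 7) K} {k : ℕ} (hn : n * g * n⁻¹ = g ^ k) :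
    ∃ i, (k : ZMod p) = (Fintype.card K : ZMod p) ^ i := by
  have : Fact p.Prime := ⟨hp⟩
  obtain ⟨a, v0, ha, hv0, hv, hne1, -⟩ := eigen_struct hp hg hpK hord hsix hg1
  have hap : a ^ p = 1 := ha ▸ pow_orderOf_eq_one a
  have hgo : orderOf g = p := orderOf_eq_prime hg hg1
  have hk0 : (k : ZMod p) ≠ 0 := by
    intro h
    have hd := (ZMod.natCast_eq_zero_iff _ _).1 h
    rw [← hgo] at hd
    rw [orderOf_dvd_iff_pow_eq_one.1 hd] at hn
    exact hg1 (conj_eq_one_iff.1 hn)
  set k' : ℕ := ((k : ZMod p)⁻¹).val with hk'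
  have hkk : ((k * k' : ℕ) : ZMod p) = 1 := by
    push_cast; rw [hk', ZMod.natCast_val, ZMod.cast_id, mul_inv_cancel₀ hk0]
  have hgk : g ^ (k * k') = g := by
    conv_rhs => rw [← pow_one g]
    rw [pow_eq_pow_iff_modEq, hgo, ← ZMod.natCast_eq_natCast_iff, hkk, Nat.cast_one]
  set z := actL n v0
  have hz0 : z ≠ 0 := fun h => by
    have := congrArg (actL n⁻¹) h
    rw [← actL_mul, inv_mul_cancel, actL_one, map_zero] at this
    exact hv0 this
  have hzk : actL (g ^ k) z = a • z := by
    rw [← actL_mul, ← hn, inv_mul_cancel_right, actL_mul, hv, map_smul]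
  have hzg : actL g z = a ^ k' • z := by
    have := actL_pow_eigen (g := g ^ k) hzk k'
    rwa [← pow_mul, hgk] at this
  have hak : (a ^ k') ^ p = 1 := by rw [← pow_mul, mul_comm, pow_mul, hap, one_pow]
  have hak1 : a ^ k' ≠ 1 := fun h => by
    have hd := orderOf_dvd_of_pow_eq_one h
    rw [ha, ← ZMod.natCast_eq_zero_iff, hk', ZMod.natCast_val, ZMod.cast_id] at hd
    exact inv_ne_zero hk0 hd
  obtain ⟨i, hi, e, -⟩ := hne1 _ _ hak hak1 hz0 hzg
  rw [(isOfFinOrder_iff_pow_eq_one.2 ⟨p, hp.pos, hap⟩).pow_eq_pow_iff_modEq, ha,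
    ← ZMod.natCast_eq_natCast_iff, hk', ZMod.natCast_val, ZMod.cast_id] at e
  push_cast at e
  refine ⟨6 - i, ?_⟩
  rw [← inv_inv (k : ZMod p), e]
  apply inv_eq_of_mul_eq_one_right
  rw [← pow_add, show i + (6 - i) = 6 by omega, hsix]

end H52.Ree2
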