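import Cfsg.Agent.H52.ReeKleinTorus
import Cfsg.Agent.H52.ReeSingerMat
import Cfsg.Agent.H39.ProjField
import Cfsg.Agent.H53.ExcTables

/-!
The cyclic tori of order dividing `q² - q + 1` of a small Ree group.
-/

set_option autoImplicit false
set_option linter.unusedSectionVars false

namespace H52.Ree2

open Cfsg.Lie

variable {K : Type*} [Field K] [Fintype K] {m : ℕ} (hK : Fintype.card K = 3 ^ (2 * m + 1))

/-- `q² - q + 1`. -/
abbrev qN (m : ℕ) : ℕ := (3 ^ (2 * m + 1)) ^ 2 - 3 ^ (2 * m + 1) + 1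

theorem qN_eq (m : ℕ) : qN m + 3 ^ (2 * m + 1) = (3 ^ (2 * m + 1)) ^ 2 + 1 ∧
    (3 ^ (2 * m + 1) + 1) * qN m = (3 ^ (2 * m + 1)) ^ 3 + 1 := by
  set q := 3 ^ (2 * m + 1) with hq
  obtain ⟨d, hd⟩ : ∃ d, q ^ 2 = q + d := ⟨q ^ 2 - q, by
    have : q ≤ q ^ 2 := Nat.le_self_pow (by norm_num) q
    omega⟩
  have e : qN m = d + 1 := by simp only [qN, ← hq, hd, Nat.add_sub_cancel_left]
  refine ⟨by rw [e, hd]; ring, ?_⟩
  rw [e]
  have : q ^ 3 = q * q ^ 2 := by ring
  rw [this, hd]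
  have e2 : q * q = q + d := by rw [← sq]; exact hd
  nlinarith [e2]

theorem qN_prime {p : ℕ} (hp : p.Prime) (hd : p ∣ qN m) :
    5 ≤ p ∧ (∀ d : ℕ, 1 ≤ d → d ≤ 5 → ((3 ^ (2 * m + 1) : ℕ) : ZMod p) ^ d ≠ 1) ∧
      ((3 ^ (2 * m + 1) : ℕ) : ZMod p) ^ 6 = 1 := by
  have : Fact p.Prime := ⟨hp⟩
  obtain ⟨h1, h2⟩ := qN_eq m
  set q := 3 ^ (2 * m + 1) with hq
  have hodd : ¬ 2 ∣ qN m := by
    intro h
    have hqo : Odd q := (show Odd 3 by decide).pow
    have : Odd (qN m + q) := (even_iff_two_dvd.2 h).add_odd hqo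
    rw [h1] at this
    exact (Nat.not_even_iff_odd.2 this) (hqo.pow.add_one)
  have h3 : ¬ 3 ∣ qN m := by
    intro h
    have hq3 : 3 ∣ q := dvd_pow_self 3 (by omega)
    have := Nat.dvd_add h hq3
    rw [h1] at this
    have := (Nat.dvd_add_right (dvd_pow hq3 (by norm_num : (2 : ℕ) ≠ 0))).1 this
    omega
  have hp5 : 5 ≤ p := by
    have := hp.two_le
    by_contra hlt
    have : p ≠ 4 := fun h => by rw [h] at hp; exact absurd hp (by decide)
    have : p = 2 ∨ p = 3 := by omega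
    rcases this with rfl | rfl
    · exact hodd hd
    · exact h3 hd
  set x : ZMod p := (q : ZMod p) with hx
  have e0 : x ^ 2 + 1 = x := by
    have := congrArg (fun n : ℕ => (n : ZMod p)) h1
    simp only [Nat.cast_add, Nat.cast_pow, Nat.cast_one, (ZMod.natCast_eq_zero_iff _ _).2 hd, zero_add] at this
    exact this.symm
  have e3 : x ^ 3 = -1 := by linear_combination (x + 1) * e0
  have two : (2 : ZMod p) ≠ 0 := by
    intro h
    have h' : ((2 : ℕ) : ZMod p) = 0 := by exact_mod_cast h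
    have := Nat.le_of_dvd (by norm_num) ((ZMod.natCast_eq_zero_iff _ _).1 h')
    omega
  have three : (3 : ZMod p) ≠ 0 := by
    intro h
    have h' : ((3 : ℕ) : ZMod p) = 0 := by exact_mod_cast h
    have := Nat.le_of_dvd (by norm_num) ((ZMod.natCast_eq_zero_iff _ _).1 h')
    omega
  refine ⟨hp5, fun d hd1 hd5 hdd => ?_, by linear_combination (x ^ 3 - 1) * e3⟩
  have hx2 : x ^ 2 = 1 → False := fun h => by
    have h2' : x = 2 := by linear_combination h - e0
    exact three (by linear_combination h - (x + 2) * h2')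
  interval_cases d
  · exact two (by linear_combination e3 - (x ^ 2 + x + 1) * hdd)
  · exact hx2 hdd
  · exact two (by linear_combination e3 - hdd)
  · exact hx2 (by linear_combination (-x ^ 2) * hdd + (x ^ 3 - 1) * e3)
  · have h1 : x = 1 := by linear_combination (x ^ 3 - 1) * e3 - x * hdd
    exact two (by linear_combination e3 - (x ^ 2 + x + 1) * h1)

theorem qN_odd (m : ℕ) : Odd (qN m) := by
  rw [← Nat.not_even_iff_odd, even_iff_two_dvd]
  intro h
  have := (qN_prime (m := m) Nat.prime_two h).1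
  omega

theorem qN_coprime (m : ℕ) : Nat.Coprime (qN m)
    ((3 ^ (2 * m + 1)) ^ 3 * (3 ^ (2 * m + 1) - 1) * (3 ^ (2 * m + 1) + 1)) := by
  apply Nat.coprime_of_dvd
  intro p hp hN hd
  have : Fact p.Prime := ⟨hp⟩
  obtain ⟨h5, hd5, -⟩ := qN_prime (m := m) hp hN
  rcases hp.dvd_mul.1 hd with h | h
  · rcases hp.dvd_mul.1 h with h | h
    · have h' := (Nat.prime_dvd_prime_iff_eq hp Nat.prime_three).1 (hp.dvd_of_dvd_pow (hp.dvd_of_dvd_pow h))
      omega
    · refine hd5 1 le_rfl (by norm_num) ?_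
      rw [pow_one, ← Nat.cast_one (R := ZMod p), ZMod.natCast_eq_natCast_iff]
      exact ((Nat.modEq_iff_dvd' (Nat.one_le_pow _ _ (by norm_num))).2 h).symm
  · refine hd5 2 (by norm_num) (by norm_num) ?_
    have e := (ZMod.natCast_eq_zero_iff _ _).2 h
    rw [Nat.cast_add, Nat.cast_one] at e
    rw [eq_neg_of_add_eq_zero_left e, neg_one_sq]

include hK

/-- The seven-dimensional representation. -/
noncomputable def rho7 : ↥(RG K m) →* GL (Fin 7) K :=
  (H53.g2Ideal.idealHom checkedG2 H53.g2Ideal_ok (ch hK)).comp (Subgroup.inclusion (twisted_le hK))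

theorem rho7_injective : Function.Injective (rho7 hK) :=
  (H53.g2Ideal.idealHom_injective checkedG2 H53.g2Ideal_ok (ch hK) H53.weylForG2
    (H54.chainOK_of_mem _ (by simp))).comp (Subgroup.inclusion_injective _)

theorem card_centralizer_j : Nat.card ↥(Subgroup.centralizer {jG hK}) =
    3 ^ (2 * m + 1) * ((3 ^ (2 * m + 1)) ^ 2 - 1) := by
  have := charP3 hK
  have : Fact (Nat.Prime 3) := ⟨Nat.prime_three⟩
  obtain ⟨hinj, -, hr⟩ := eC_spec hK
  rw [← hr, ← Nat.card_congr (MonoidHom.ofInjective hinj).toEquiv, Nat.card_prod,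
    show Nat.card (Multiplicative (ZMod 2)) = 2 by simp, ← hK,
    ← H39.card_PSL2_mul (F := K), H39.gcd_eq_two (odd_card hK)]

theorem orderOf_conj_inv (g x : ↥(RG K m)) : orderOf (g⁻¹ * x * g) = orderOf x := by
  rw [show g⁻¹ * x * g = MulAut.conj g⁻¹ x by simp, MulEquiv.orderOf_eq]

/-- No element of a prime order outside `q² - q + 1` commutes with one inside. -/
theorem qN_not_commute (hm : 1 ≤ m) {g x : ↥(RG K m)} {p s : ℕ} (hp : p.Prime) (hpN : p ∣ qN m)
    (hg : orderOf g = p) (hs : s.Prime) (hsN : ¬ s ∣ qN m) (hx : orderOf x = s) (hc : x * g = g * x) :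
    False := by
  have : Fact s.Prime := ⟨hs⟩
  obtain ⟨hq4, hq2, hop, hoh, -, -, -, -⟩ := q_arith m
  set q := 3 ^ (2 * m + 1) with hq
  have hcop : ∀ n, n ∣ q ^ 3 * (q - 1) * (q + 1) → ¬ p ∣ n := fun n hn h =>
    hp.one_lt.ne' (Nat.eq_one_of_dvd_coprimes (qN_coprime m) hpN (h.trans hn))
  have hcases : s = 2 ∨ s = 3 ∨ (Odd s ∧ s ∣ qh m) ∨ (Odd s ∧ s ∣ qp m) := by
    by_cases h2 : s = 2
    · exact Or.inl h2
    have hodd := hs.odd_of_ne_two h2
    have hd : s ∣ Nat.card ↥(RG K m) := hx ▸ orderOf_dvd_natCard x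
    rw [card_RG hK, ← hq, ← (qN_eq m).2, ← hq] at hd
    have h2' : ¬ s ∣ 2 := fun h => h2 ((Nat.prime_dvd_prime_iff_eq hs Nat.prime_two).1 h)
    rcases hs.dvd_mul.1 hd with h | h
    · exact Or.inr (Or.inl ((Nat.prime_dvd_prime_iff_eq hs Nat.prime_three).1 (hs.dvd_of_dvd_pow (hs.dvd_of_dvd_pow h))))
    rcases hs.dvd_mul.1 h with h | h
    · rw [hq2] at h
      exact Or.inr (Or.inr (Or.inl ⟨hodd, (hs.dvd_mul.1 h).resolve_left h2'⟩))
    rcases hs.dvd_mul.1 h with h | h
    · rw [hq4, show 4 = 2 * 2 from rfl, mul_assoc] at h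
      exact Or.inr (Or.inr (Or.inr ⟨hodd, (hs.dvd_mul.1 ((hs.dvd_mul.1 h).resolve_left h2')).resolve_left h2'⟩))
    · exact absurd h hsN
  have hx1 : x ≠ 1 := fun h => hs.one_lt.ne' (by rw [← hx, h, orderOf_one])
  have hconj : ∀ k : ↥(RG K m), k⁻¹ * g * k ∈ Subgroup.centralizer {k⁻¹ * x * k} := fun k => by
    rw [Subgroup.mem_centralizer_singleton_iff]
    calc k⁻¹ * g * k * (k⁻¹ * x * k) = k⁻¹ * (g * x) * k := by group
      _ = k⁻¹ * (x * g) * k := by rw [hc]
      _ = _ := by group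
  have hfin : ∀ (k : ↥(RG K m)) (A : Subgroup ↥(RG K m)) (n : ℕ), k⁻¹ * g * k ∈ A → Nat.card ↥A = n →
      n ∣ q ^ 3 * (q - 1) * (q + 1) → False := fun k A n hk hA hn => by
    refine hcop n hn ?_
    have := Subgroup.orderOf_dvd_natCard A hk
    rwa [orderOf_conj_inv hK, hg, hA] at this
  rcases hcases with rfl | rfl | ⟨hodd, hd⟩ | ⟨hodd, hd⟩
  · obtain ⟨k, hk⟩ := involution_conj hK hm hx1 (by rw [← sq, ← hx]; exact pow_orderOf_eq_one x)
    have h := hconj k
    rw [show k⁻¹ * x * k = jG hK by rw [← hk]; group] at h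
    refine hfin k _ _ h (card_centralizer_j hK) ?_
    rw [← hq, show q ^ 2 - 1 = (q + 1) * (q - 1) by simpa using Nat.sq_sub_sq q 1]
    exact ⟨q ^ 2, by ring⟩
  · obtain ⟨P, hP⟩ := exists_sylow hK
    obtain ⟨k, hk⟩ := exists_conj_mem (P : Subgroup ↥(RG K m)) P.not_dvd_index (x := x) (k := 1)
      (by rw [hx, pow_one])
    rw [hP, Subgroup.mem_subgroupOf] at hk
    have hne : ((k⁻¹ * x * k : ↥(RG K m)) : GL chevG2.Idx K) ≠ 1 := by
      intro e
      have e' : k⁻¹ * x * k = 1 := Subtype.ext e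
      rw [show k⁻¹ * x * k = k⁻¹ * x * k⁻¹⁻¹ by group, conj_eq_one_iff] at e'
      exact hx1 e'
    have hB : ((k⁻¹ * g * k : ↥(RG K m)) : GL chevG2.Idx K) ∈ RB K m := by
      refine fusion hK hk hne (k⁻¹ * g * k).2 ?_
      have e := Subgroup.mem_centralizer_singleton_iff.1 (hconj k)
      rw [← Subgroup.coe_inv, ← Subgroup.coe_mul, ← Subgroup.coe_mul, e, mul_inv_cancel_right]
      exact hk
    have hU := B_pow_mem_U hK hB
    have h3 : (⟨_, hU⟩ : ↥(RU K m)) ^ (q ^ 3) = 1 := by rw [← card_U hK]; exact pow_card_eq_one'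
    have h3' := congrArg Subtype.val h3
    simp only [SubgroupClass.coe_pow, OneMemClass.coe_one] at h3'
    rw [← pow_mul, ← SubgroupClass.coe_pow, OneMemClass.coe_eq_one] at h3'
    have hd1 := orderOf_dvd_of_pow_eq_one h3'
    rw [orderOf_conj_inv hK, hg] at hd1
    exact hcop _ ⟨q + 1, by ring⟩ hd1
  · have hidx : ¬ s ∣ (HG K m).index := by
      have hi := (HG K m).card_mul_index
      rw [(HG_cyclic hK).2, card_RG hK, ← hq] at hi
      have hqpos : 0 < q - 1 := by
        have : 3 ≤ q := Nat.le_self_pow (by omega) 3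
        omega
      have e : (HG K m).index = q ^ 3 * (q ^ 3 + 1) :=
        Nat.eq_of_mul_eq_mul_left hqpos (hi.trans (by ring))
      rw [e]
      intro h
      have hq1 : (q : ZMod s) = 1 := by
        have : s ∣ q - 1 := hq2 ▸ dvd_mul_of_dvd_right hd 2
        rw [← Nat.cast_one (R := ZMod s), ZMod.natCast_eq_natCast_iff]
        exact ((Nat.modEq_iff_dvd' (Nat.one_le_pow _ _ (by norm_num))).2 this).symm
      have h' := (ZMod.natCast_eq_zero_iff _ _).2 h
      push_cast [hq1] at h'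
      norm_num at h'
      have : ((2 : ℕ) : ZMod s) = 0 := by exact_mod_cast h'
      have := (Nat.prime_dvd_prime_iff_eq hs Nat.prime_two).1 ((ZMod.natCast_eq_zero_iff _ _).1 this)
      subst this
      exact absurd hodd (by decide)
    obtain ⟨k, hk⟩ := exists_conj_mem (HG K m) hidx (x := x) (k := 1) (by rw [hx, pow_one])
    have hne : k⁻¹ * x * k ≠ 1 := fun e => hx1 (by
      rw [show k⁻¹ * x * k = k⁻¹ * x * k⁻¹⁻¹ by group, conj_eq_one_iff] at e; exact e)
    have hsq := HG_sq_ne_of_odd hK hne hodd (by rw [← orderOf_dvd_iff_pow_eq_one, orderOf_conj_inv hK, hx])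
    have h := hconj k
    rw [centralizer_HG hK hk hsq] at h
    exact hfin k _ _ h (HG_cyclic hK).2 ⟨q ^ 3 * (q + 1), by ring⟩
  · obtain ⟨k, hk⟩ := exists_conj_AT hK hm (t := x) (orderOf_dvd_iff_pow_eq_one.1 (hx ▸ hd))
    have h := hconj k
    rw [centralizer_AT hK hm hk (fun e => hx1 (by
      rw [show k⁻¹ * x * k = k⁻¹ * x * k⁻¹⁻¹ by group, conj_eq_one_iff] at e; exact e))] at h
    refine hfin k _ _ h (L0_card hK) ?_
    rw [← hq4]
    exact dvd_mul_left _ _

theorem qN_dvd_card : Nat.card ↥(RG K m) =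
    (3 ^ (2 * m + 1)) ^ 3 * (3 ^ (2 * m + 1) - 1) * (3 ^ (2 * m + 1) + 1) * qN m := by
  rw [card_RG hK, ← (qN_eq m).2]; ring

/-- The centraliser of an element of prime order dividing `q² - q + 1`. -/
theorem centralizer_prime (hm : 1 ≤ m) {g : ↥(RG K m)} {p : ℕ} (hp : p.Prime) (hpN : p ∣ qN m)
    (hg : orderOf g = p) :
    IsCyclic ↥(Subgroup.centralizer {g}) ∧ Nat.card ↥(Subgroup.centralizer {g}) ∣ qN m := by
  have hdvd : Nat.card ↥(Subgroup.centralizer {g}) ∣ qN m := by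
    refine Nat.Coprime.dvd_of_dvd_mul_left ?_ ((Subgroup.card_subgroup_dvd_card _).trans (qN_dvd_card hK).dvd)
    apply Nat.coprime_of_dvd
    intro s hs h1 h2
    have : Fact s.Prime := ⟨hs⟩
    obtain ⟨x, hx⟩ := exists_prime_orderOf_dvd_card' (G := ↥(Subgroup.centralizer {g})) s h1
    refine qN_not_commute hK hm hp hpN hg hs (fun h => ?_) (by rw [Subgroup.orderOf_coe]; exact hx)
      (Subgroup.mem_centralizer_singleton_iff.1 x.2)
    exact hs.one_lt.ne' (Nat.eq_one_of_dvd_coprimes (qN_coprime m) h h2)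
  refine ⟨?_, hdvd⟩
  obtain ⟨h5, hd5, h6⟩ := qN_prime (m := m) hp hpN
  have hgp : rho7 hK g ^ p = 1 := by rw [← map_pow, ← hg, pow_orderOf_eq_one, map_one]
  have hg1 : rho7 hK g ≠ 1 := fun h => hp.one_lt.ne' (by
    rw [← hg, rho7_injective hK (h.trans (map_one _).symm), orderOf_one])
  have hpK : (p : AlgebraicClosure K) ≠ 0 := by
    have := charP3 hK
    have : CharP (AlgebraicClosure K) 3 := charP_of_injective_algebraMap (algebraMap K _).injective 3
    rw [ne_eq, CharP.cast_eq_zero_iff (AlgebraicClosure K) 3 p]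
    intro h
    have := (Nat.prime_dvd_prime_iff_eq Nat.prime_three hp).1 h
    omega
  obtain ⟨ι, hι⟩ := exists_eigenchar hp hgp hpK (by rw [hK]; exact hd5) (by rw [hK]; exact h6) hg1
  let f : ↥(Subgroup.centralizer {g}) →* ↥(Subgroup.centralizer {rho7 hK g}) :=
    ((rho7 hK).comp (Subgroup.subtype _)).codRestrict _ fun x =>
      Subgroup.mem_centralizer_singleton_iff.2 (by
        show rho7 hK x * rho7 hK g = rho7 hK g * rho7 hK x
        rw [← map_mul, ← map_mul, Subgroup.mem_centralizer_singleton_iff.1 x.2])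
  refine isCyclic_of_subgroup_isDomain (ι.comp f) ?_
  rw [← MonoidHom.ker_eq_bot_iff, eq_bot_iff]
  intro x hx
  have hxN : x ^ qN m = 1 := orderOf_dvd_iff_pow_eq_one.1 ((orderOf_dvd_natCard x).trans hdvd)
  have hfx : f x = 1 := hι (f x) (qN m) hx (by rw [← map_pow, hxN, map_one]) (by
    rw [hK]
    exact (qN_coprime m).coprime_dvd_right ((dvd_mul_left _ _).trans (dvd_mul_right _ _)))
  rw [Subgroup.mem_bot]
  exact Subtype.ext (rho7_injective hK ((congrArg Subtype.val hfx).trans (map_one _).symm))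

/-- The centraliser of an element of order dividing `q² - q + 1`. -/
theorem centralizer_qN (hm : 1 ≤ m) {g : ↥(RG K m)} (hg : g ^ qN m = 1) (hg1 : g ≠ 1) :
    IsCyclic ↥(Subgroup.centralizer {g}) ∧ Nat.card ↥(Subgroup.centralizer {g}) ∣ qN m ∧
      ∀ x ∈ Subgroup.centralizer {g}, x ≠ 1 → Subgroup.centralizer {x} = Subgroup.centralizer {g} := by
  have hord : ∀ x : ↥(RG K m), x ^ qN m = 1 → x ≠ 1 → ∃ (y : ↥(RG K m)) (p : ℕ), p.Prime ∧ p ∣ qN m ∧
      orderOf y = p ∧ Subgroup.centralizer {x} ≤ Subgroup.centralizer {y} ∧ y ∈ Subgroup.zpowers x := by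
    intro x hx hx1
    have hp := Nat.minFac_prime (fun h => hx1 (orderOf_eq_one_iff.1 h))
    have hpd := Nat.minFac_dvd (orderOf x)
    refine ⟨x ^ (orderOf x / (orderOf x).minFac), (orderOf x).minFac, hp,
      hpd.trans (orderOf_dvd_of_pow_eq_one hx), orderOf_pow_orderOf_div (orderOf_pos x).ne' hpd, ?_,
      Subgroup.pow_mem _ (Subgroup.mem_zpowers x) _⟩
    intro z hz
    rw [Subgroup.mem_centralizer_singleton_iff] at hz ⊢
    exact (Commute.pow_right (show Commute z x from hz) _).eq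
  have hcomm : ∀ {C : Subgroup ↥(RG K m)}, IsCyclic ↥C → ∀ a ∈ C, ∀ b ∈ C, a * b = b * a := by
    intro C hC a ha b hb
    have := hC
    exact congrArg Subtype.val ((IsCyclic.commGroup (α := ↥C)).mul_comm ⟨a, ha⟩ ⟨b, hb⟩)
  have hkey : ∀ x : ↥(RG K m), x ^ qN m = 1 → x ≠ 1 → IsCyclic ↥(Subgroup.centralizer {x}) ∧
      Nat.card ↥(Subgroup.centralizer {x}) ∣ qN m := by
    intro x hx hx1
    obtain ⟨y, p, hp, hpN, hy, hle, -⟩ := hord x hx hx1
    obtain ⟨h1, h2⟩ := centralizer_prime hK hm hp hpN hy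
    exact ⟨(Subgroup.subgroupOfEquivOfLe hle).isCyclic.1 inferInstance,
      (Subgroup.card_dvd_of_le hle).trans h2⟩
  obtain ⟨hc, hd⟩ := hkey g hg hg1
  refine ⟨hc, hd, fun x hx hx1 => ?_⟩
  have hxN : x ^ qN m = 1 :=
    orderOf_dvd_iff_pow_eq_one.1 ((Subgroup.orderOf_dvd_natCard _ hx).trans hd)
  obtain ⟨hcx, -⟩ := hkey x hxN hx1
  have hgx : g ∈ Subgroup.centralizer {x} := Subgroup.mem_centralizer_singleton_iff.2
    (Subgroup.mem_centralizer_singleton_iff.1 hx).symm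
  refine le_antisymm (fun y hy => Subgroup.mem_centralizer_singleton_iff.2 (hcomm hcx y hy g hgx)) fun y hy =>
    Subgroup.mem_centralizer_singleton_iff.2 (hcomm hc y hy x hx)

/-- These centralisers are Hall subgroups. -/
theorem centralizer_qN_hall (hm : 1 ≤ m) {g : ↥(RG K m)} (hg : g ^ qN m = 1) (hg1 : g ≠ 1) {s : ℕ}
    (hs : s.Prime) (hd : s ∣ Nat.card ↥(Subgroup.centralizer {g})) :
    ¬ s ∣ (Subgroup.centralizer {g}).index := by
  have : Fact s.Prime := ⟨hs⟩
  obtain ⟨-, hN, hsame⟩ := centralizer_qN hK hm hg hg1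
  obtain ⟨y, hy⟩ := exists_prime_orderOf_dvd_card' (G := ↥(Subgroup.centralizer {g})) s hd
  rw [← Subgroup.orderOf_coe] at hy
  have hy1 : (y : ↥(RG K m)) ≠ 1 := fun h => hs.one_lt.ne' (by rw [← hy, h, orderOf_one])
  have hyC := hsame _ y.2 hy1
  obtain ⟨Q, hQ⟩ := (IsPGroup.of_card (n := 1) (G := ↥(Subgroup.zpowers (y : ↥(RG K m)))) (p := s)
    (by rw [Nat.card_zpowers, hy, pow_one])).exists_le_sylow
  have hyQ : (y : ↥(RG K m)) ∈ (Q : Subgroup ↥(RG K m)) := hQ (Subgroup.mem_zpowers _)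
  have : Nontrivial ↥(Q : Subgroup ↥(RG K m)) :=
    ⟨⟨⟨y, hyQ⟩, 1, fun h => hy1 (congrArg Subtype.val h)⟩⟩
  have := Q.2.center_nontrivial
  obtain ⟨z, hz⟩ := exists_ne (1 : ↥(Subgroup.center ↥(Q : Subgroup ↥(RG K m))))
  have hzc : ∀ q ∈ (Q : Subgroup ↥(RG K m)), q * (z.1 : ↥(RG K m)) = (z.1 : ↥(RG K m)) * q := fun q hq =>
    congrArg Subtype.val (Subgroup.mem_center_iff.1 z.2 ⟨q, hq⟩)
  have hz1 : ((z.1 : ↥(RG K m))) ≠ 1 := fun h => hz (Subtype.ext (Subtype.ext h))
  have hzC : (z.1 : ↥(RG K m)) ∈ Subgroup.centralizer {g} := by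
    rw [← hyC, Subgroup.mem_centralizer_singleton_iff]
    exact (hzc _ hyQ).symm
  have hQC : (Q : Subgroup ↥(RG K m)) ≤ Subgroup.centralizer {g} := fun q hq => by
    rw [← hsame _ hzC hz1, Subgroup.mem_centralizer_singleton_iff]
    exact hzc q hq
  exact fun h => Q.not_dvd_index (h.trans (Subgroup.index_dvd_of_le hQC))

theorem normalizer_qN (hm : 1 ≤ m) {g : ↥(RG K m)} (hg : g ^ qN m = 1) (hg1 : g ≠ 1) :
    ∃ e, e ∣ 6 ∧ Nat.card ↥(Subgroup.normalizer (Subgroup.centralizer {g} : Set ↥(RG K m))) =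
      e * Nat.card ↥(Subgroup.centralizer {g}) := by
  classical
  obtain ⟨-, hA, hsame⟩ := centralizer_qN hK hm hg hg1
  have hp := Nat.minFac_prime (fun h => hg1 (orderOf_eq_one_iff.1 h))
  have hpd := Nat.minFac_dvd (orderOf g)
  set p := (orderOf g).minFac
  have : Fact p.Prime := ⟨hp⟩
  set y := g ^ (orderOf g / p) with hy'
  have hy : orderOf y = p := orderOf_pow_orderOf_div (orderOf_pos g).ne' hpd
  have hy1 : y ≠ 1 := fun h => hp.one_lt.ne' (by rw [← hy, h, orderOf_one])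
  have hyA : y ∈ Subgroup.centralizer {g} := Subgroup.mem_centralizer_singleton_iff.2
    (Commute.pow_left (Commute.refl g) _).eq
  rw [← hsame y hyA hy1] at hA ⊢
  obtain ⟨hcyc, -⟩ := centralizer_prime hK hm hp (hpd.trans (orderOf_dvd_of_pow_eq_one hg)) hy
  obtain ⟨h5, hd5, h6⟩ := qN_prime (m := m) hp (hpd.trans (orderOf_dvd_of_pow_eq_one hg))
  set N := Subgroup.normalizer (Subgroup.centralizer {y} : Set ↥(RG K m)) with hN
  have hAN : Subgroup.centralizer {y} ≤ N := Subgroup.le_normalizer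
  have hsub : N ≤ Subgroup.normalizer (Subgroup.zpowers y : Set ↥(RG K m)) :=
    normalizer_le_of_cyclic hcyc (Subgroup.zpowers_le.2 (Subgroup.mem_centralizer_singleton_iff.2 rfl))
  have hk : ∀ n : ↥N, ∃ k : ℕ, (n : ↥(RG K m)) * y * (n : ↥(RG K m))⁻¹ = y ^ k := by
    intro n
    obtain ⟨k, hk⟩ := Subgroup.mem_zpowers_iff.1
      ((Subgroup.mem_normalizer_iff.1 (hsub n.2) y).1 (Subgroup.mem_zpowers y))
    obtain ⟨k', hk'⟩ := (isOfFinOrder_of_finite y).mem_powers_iff_mem_zpowers.2 ⟨k, hk⟩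
    exact ⟨k', hk'.symm⟩
  choose k hk using hk
  have huniq : ∀ a b : ℕ, y ^ a = y ^ b → (a : ZMod p) = b := fun a b h => by
    rw [pow_eq_pow_iff_modEq, hy] at h
    exact (ZMod.natCast_eq_natCast_iff _ _ _).2 h
  let f : ↥N →* ZMod p :=
    { toFun := fun n => (k n : ZMod p)
      map_one' := by
        rw [← Nat.cast_one]
        exact huniq _ _ (by rw [← hk 1]; simp)
      map_mul' := fun a b => by
        rw [← Nat.cast_mul]
        refine huniq _ _ ?_
        rw [← hk (a * b), Subgroup.coe_mul, pow_mul, ← hk a, conj_pow, ← hk b]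
        group }
  have hker : (MonoidHom.toHomUnits f).ker = (Subgroup.centralizer {y}).subgroupOf N := by
    ext n
    rw [MonoidHom.mem_ker, Units.ext_iff, MonoidHom.coe_toHomUnits, Units.val_one, Subgroup.mem_subgroupOf,
      Subgroup.mem_centralizer_singleton_iff]
    constructor
    · intro h
      have e : y ^ k n = y ^ 1 := by
        rw [pow_eq_pow_iff_modEq, hy, ← ZMod.natCast_eq_natCast_iff, Nat.cast_one]; exact h
      rw [← hk, pow_one] at e
      exact mul_inv_eq_iff_eq_mul.1 e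
    · intro h
      have e := hk n
      rw [h, mul_inv_cancel_right] at e
      exact (huniq _ 1 (e.symm.trans (pow_one y).symm)).trans Nat.cast_one
  have hq0 : ((3 ^ (2 * m + 1) : ℕ) : ZMod p) ≠ 0 := fun h => by simp [h] at h6
  set u : (ZMod p)ˣ := Units.mk0 _ hq0 with hu
  have hu6 : u ^ 6 = 1 := Units.ext (by rw [Units.val_pow_eq_pow_val, hu, Units.val_mk0, h6, Units.val_one])
  have hrange : (MonoidHom.toHomUnits f).range ≤ Subgroup.zpowers u := by
    rintro _ ⟨n, rfl⟩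
    have hyp : rho7 hK y ^ p = 1 := by rw [← map_pow, ← hy, pow_orderOf_eq_one, map_one]
    have hy1' : rho7 hK y ≠ 1 := fun h => hy1 (rho7_injective hK (h.trans (map_one _).symm))
    have hpK : (p : AlgebraicClosure K) ≠ 0 := by
      have := charP3 hK
      have : CharP (AlgebraicClosure K) 3 := charP_of_injective_algebraMap (algebraMap K _).injective 3
      rw [ne_eq, CharP.cast_eq_zero_iff (AlgebraicClosure K) 3 p]
      intro h
      have := (Nat.prime_dvd_prime_iff_eq Nat.prime_three hp).1 h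
      omega
    obtain ⟨i, hi⟩ := normalizer_power hp hyp hpK (by rw [hK]; exact hd5) (by rw [hK]; exact h6) hy1'
      (n := rho7 hK n) (k := k n) (by rw [← map_inv, ← map_mul, ← map_mul, hk, map_pow])
    rw [hK] at hi
    exact ⟨i, Units.ext (by simp only [zpow_natCast, Units.val_pow_eq_pow_val]; exact hi.symm)⟩
  refine ⟨Nat.card ↥(MonoidHom.toHomUnits f).range, ?_, ?_⟩
  · refine (Subgroup.card_dvd_of_le hrange).trans ?_
    rw [Nat.card_zpowers]
    exact orderOf_dvd_of_pow_eq_one hu6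
  · have h := (MonoidHom.toHomUnits f).ker.card_mul_index
    rw [hker, Nat.card_congr (Subgroup.subgroupOfEquivOfLe hAN).toEquiv, ← hker, Subgroup.index_ker] at h
    rw [← h, mul_comm]

end H52.Ree2
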