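import Cfsg.Agent.H52.ReeClassify

/-!
There are exactly two classes of tori of order dividing `q² - q + 1` in a small Ree group.
-/

set_option autoImplicit false
set_option linter.unusedSectionVars false

namespace H52.Ree2

open Cfsg.Lie

/-- `3^(m+1)`, the square root of `3q`. -/
abbrev rr (m : ℕ) : ℕ := 3 ^ (m + 1)

theorem rr_facts (m : ℕ) (hm : 1 ≤ m) : rr m ^ 2 = 3 * 3 ^ (2 * m + 1) ∧ rr m + 1 ≤ 3 ^ (2 * m + 1) ∧
    27 ≤ 3 ^ (2 * m + 1) := by
  refine ⟨by simp only [rr]; rw [← pow_mul, ← pow_succ']; congr 1; omega, ?_, ?_⟩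
  · exact Nat.pow_lt_pow_right (by norm_num) (by omega)
  · exact le_trans (by norm_num) (Nat.pow_le_pow_right (by norm_num : 0 < 3) (show 3 ≤ 2 * m + 1 by omega))

/-- The arithmetic forcing two classes: three classes give too many elements. -/
theorem three_classes_false {N q a b c u v w A B C X G : ℤ} (ha : 7 ≤ a) (hb : 7 ≤ b) (hc : 7 ≤ c)
    (hu : 1 ≤ u) (hv : 1 ≤ v) (hw : 1 ≤ w) (hN : N = q ^ 2 - q + 1) (hq : 2 ≤ q) (hG : 0 < G)
    (hA : 6 * a * A = u * (a - 1) * G) (hB : 6 * b * B = v * (b - 1) * G) (hC : 6 * c * C = w * (c - 1) * G)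
    (hX : 3 * N * X = q * (q - 2) * G) (h : A + B + C ≤ X) : False := by
  have key : ∀ a u A : ℤ, 7 ≤ a → 1 ≤ u → 6 * a * A = u * (a - 1) * G → G ≤ 7 * A := fun a u A ha hu h => by
    nlinarith [mul_nonneg (mul_nonneg (sub_nonneg.2 hu) (show (0 : ℤ) ≤ a - 1 by omega)) hG.le,
      mul_nonneg (show (0 : ℤ) ≤ a - 7 by omega) hG.le]
  have h1 := key a u A ha hu hA
  have h2 := key b v B hb hv hB
  have h3 := key c w C hc hw hC
  have hNp : 0 < N := by nlinarith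
  have : 3 * N * (3 * G) ≤ 3 * N * (7 * X) := by
    apply mul_le_mul_of_nonneg_left _ (by omega)
    linarith
  nlinarith

theorem one_class_false {N q u A G : ℤ} (hq : 4 ≤ q) (hu : 1 ≤ u) (hN : N = q ^ 2 - q + 1) (hG : 0 < G)
    (hA : 6 * N * A = u * (N - 1) * G) (hX : 3 * N * A = q * (q - 2) * G) : False := by
  have e : u * (N - 1) = 2 * (q * (q - 2)) := mul_right_cancel₀ hG.ne' (by linarith)
  subst hN
  have hq1 : (0 : ℤ) < q := by omega
  have e' : u * (q - 1) = 2 * (q - 2) := mul_left_cancel₀ hq1.ne' (by linarith)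
  have hu2 : u < 2 := by nlinarith
  obtain rfl : u = 1 := by omega
  omega

theorem two_classes {N q a b u v A B X G : ℤ} (ha : 7 ≤ a) (hb : 7 ≤ b) (hu : 1 ≤ u) (hv : 1 ≤ v)
    (hab : a * b = N) (hN : N = q ^ 2 - q + 1) (hq : 4 ≤ q) (hG : 0 < G)
    (hA : 6 * a * A = u * (a - 1) * G) (hB : 6 * b * B = v * (b - 1) * G)
    (hX : 3 * N * X = q * (q - 2) * G) (h : A + B = X) : u = 1 ∧ v = 1 ∧ a + b = 2 * (q + 1) := by
  have e : u * (a - 1) * b + v * (b - 1) * a = 2 * (q * (q - 2)) := by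
    apply mul_right_cancel₀ hG.ne'
    subst hab h
    linear_combination 2 * hX - b * hA - a * hB
  have hua : (a - 1) * b ≤ u * (a - 1) * b := by
    nlinarith [mul_nonneg (mul_nonneg (sub_nonneg.2 hu) (show (0 : ℤ) ≤ a - 1 by omega)) (show (0 : ℤ) ≤ b by omega)]
  have hvb : (b - 1) * a ≤ v * (b - 1) * a := by
    nlinarith [mul_nonneg (mul_nonneg (sub_nonneg.2 hv) (show (0 : ℤ) ≤ b - 1 by omega)) (show (0 : ℤ) ≤ a by omega)]
  have hu1 : u = 1 := by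
    by_contra hne
    have : 2 ≤ u := by omega
    nlinarith [mul_nonneg (mul_nonneg (sub_nonneg.2 this) (show (0 : ℤ) ≤ a - 1 by omega)) (show (0 : ℤ) ≤ b by omega)]
  have hv1 : v = 1 := by
    by_contra hne
    have : 2 ≤ v := by omega
    nlinarith [mul_nonneg (mul_nonneg (sub_nonneg.2 this) (show (0 : ℤ) ≤ b - 1 by omega)) (show (0 : ℤ) ≤ a by omega)]
  subst hu1 hv1
  exact ⟨rfl, rfl, by nlinarith⟩

variable {K : Type*} [Field K] [Fintype K] {m : ℕ} (hK : Fintype.card K = 3 ^ (2 * m + 1))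

include hK

/-- Conjugates of the nontrivial elements of `A`. -/
abbrev InClass (A : Subgroup ↥(RG K m)) (x : ↥(RG K m)) : Prop := x ≠ 1 ∧ ∃ k, k⁻¹ * x * k ∈ A

theorem qN_seven {p : ℕ} (hp : p.Prime) (hd : p ∣ qN m) : 7 ≤ p := by
  obtain ⟨h5, hd5, -⟩ := qN_prime hp hd
  by_contra hlt
  have hne6 : p ≠ 6 := fun h => by rw [h] at hp; exact absurd hp (by decide)
  obtain rfl : p = 5 := by omega
  have : Fact (Nat.Prime 5) := ⟨hp⟩
  refine hd5 4 (by norm_num) (by norm_num) (ZMod.pow_card_sub_one_eq_one fun h => ?_)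
  have h6 := (qN_prime hp hd).2.2
  rw [h, zero_pow (by norm_num)] at h6
  exact zero_ne_one h6

theorem torus_class (hm : 1 ≤ m) {g : ↥(RG K m)} (hg : g ^ qN m = 1) (hg1 : g ≠ 1) :
    ∃ u e : ℕ, 1 ≤ u ∧ u * e = 6 ∧ 7 ≤ Nat.card ↥(Subgroup.centralizer {g}) ∧
      Nat.card ↥(Subgroup.normalizer (Subgroup.centralizer {g} : Set ↥(RG K m))) =
        e * Nat.card ↥(Subgroup.centralizer {g}) ∧
      6 * Nat.card ↥(Subgroup.centralizer {g}) * Nat.card {x // InClass (Subgroup.centralizer {g}) x} =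
        u * (Nat.card ↥(Subgroup.centralizer {g}) - 1) * Nat.card ↥(RG K m) := by
  classical
  letI : Fintype ↥(RG K m) := Fintype.ofFinite _
  obtain ⟨-, hd, hsame⟩ := centralizer_qN hK hm hg hg1
  obtain ⟨e, he, hN⟩ := normalizer_qN hK hm hg hg1
  set A := Subgroup.centralizer {g} with hA
  obtain ⟨u, hu⟩ := he
  have hu1 : 1 ≤ u := Nat.pos_of_ne_zero fun h => by rw [h, mul_zero] at hu; omega
  have h7 : 7 ≤ Nat.card ↥A := by
    have hne : Nat.card ↥A ≠ 1 := fun h => by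
      have hmem : g ∈ A := Subgroup.mem_centralizer_singleton_iff.2 rfl
      rw [Subgroup.card_eq_one] at h
      rw [h, Subgroup.mem_bot] at hmem
      exact hg1 hmem
    obtain ⟨p, hp, hpd⟩ := Nat.exists_prime_and_dvd hne
    exact le_trans (qN_seven hK hp (hpd.trans hd)) (Nat.le_of_dvd Nat.card_pos hpd)
  refine ⟨u, e, hu1, by rw [mul_comm]; exact hu.symm, h7, hN, ?_⟩
  have hfused : Nat.card {x // InClass A x} =
      (Subgroup.normalizer (A : Set ↥(RG K m))).index * Nat.card {x // x ∈ A ∧ x ≠ 1} := by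
    refine card_fused _ _ _ (fun x hx => ⟨hx.2, 1, by simpa using hx.1⟩)
      (fun x hx => ⟨hx.2.choose, hx.2.choose_spec, fun h => hx.1 ((conj_eq_one' hK).1 h)⟩)
      (fun k x hx => ⟨fun h => hx.1 (conj_eq_one_iff.1 h), k * hx.2.choose, by
        rw [show (k * hx.2.choose)⁻¹ * (k * x * k⁻¹) * (k * hx.2.choose) =
          hx.2.choose⁻¹ * x * hx.2.choose by group]
        exact hx.2.choose_spec⟩)
      (fun n hn x hx => ⟨(Subgroup.mem_normalizer_iff.1 hn x).1 hx.1, fun h => hx.2 (conj_eq_one_iff.1 h)⟩)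
      (fun k x hx hkx => ?_)
    have e1 := hsame x hx.1 hx.2
    have e2 := hsame _ hkx.1 hkx.2
    rw [Subgroup.mem_normalizer_iff]
    intro y
    show y ∈ A ↔ k * y * k⁻¹ ∈ A
    conv_lhs => rw [← e1]
    conv_rhs => rw [← e2, mem_centralizer_conj, show k⁻¹ * (k * y * k⁻¹) * k = y by group]
  have hcard : Nat.card {x // x ∈ A ∧ x ≠ 1} = Nat.card ↥A - 1 := by
    rw [← Nat.card_congr (Equiv.subtypeSubtypeEquivSubtypeInter (fun x => x ∈ A) (fun x => x ≠ 1)),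
      Nat.card_eq_fintype_card, Nat.card_eq_fintype_card, ← Fintype.card_subtype_eq (1 : ↥A),
      ← Fintype.card_subtype_compl]
    exact Fintype.card_congr (Equiv.subtypeEquivRight fun x => by simp)
  rw [hfused, hcard, hu, ← (Subgroup.normalizer (A : Set ↥(RG K m))).card_mul_index, hN]
  ring

/-- An element whose torus shares a prime with another torus is conjugate into it. -/
theorem inClass_of_common (hm : 1 ≤ m) {g x : ↥(RG K m)} (hg : g ^ qN m = 1) (hg1 : g ≠ 1)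
    (hx : x ^ qN m = 1) (hx1 : x ≠ 1) {s : ℕ} (hs : s.Prime) (h1 : s ∣ Nat.card ↥(Subgroup.centralizer {g}))
    (h2 : s ∣ Nat.card ↥(Subgroup.centralizer {x})) : InClass (Subgroup.centralizer {g}) x := by
  have : Fact s.Prime := ⟨hs⟩
  obtain ⟨z, hz⟩ := exists_prime_orderOf_dvd_card' (G := ↥(Subgroup.centralizer {x})) s h2
  rw [← Subgroup.orderOf_coe] at hz
  obtain ⟨k, hk⟩ := exists_conj_mem _ (centralizer_qN_hall hK hm hg hg1 hs h1) (x := (z : ↥(RG K m))) (k := 1)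
    (by rw [hz, pow_one])
  obtain ⟨-, -, hsame⟩ := centralizer_qN hK hm hg hg1
  refine ⟨hx1, k, ?_⟩
  have hne : k⁻¹ * (z : ↥(RG K m)) * k ≠ 1 := fun h =>
    hs.one_lt.ne' (by rw [← hz, (conj_eq_one' hK).1 h, orderOf_one])
  rw [← hsame _ hk hne, show k⁻¹ * (z : ↥(RG K m)) * k = k⁻¹ * (z : ↥(RG K m)) * k⁻¹⁻¹ by group,
    mem_centralizer_conj, show k⁻¹⁻¹ * (k⁻¹ * x * k) * k⁻¹ = x by group,
    Subgroup.mem_centralizer_singleton_iff]
  exact (Subgroup.mem_centralizer_singleton_iff.1 z.2).symm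

theorem inClass_qN (hm : 1 ≤ m) {g x : ↥(RG K m)} (hg : g ^ qN m = 1) (hg1 : g ≠ 1)
    (hx : InClass (Subgroup.centralizer {g}) x) :
    orderOf x ∣ Nat.card ↥(Subgroup.centralizer {g}) ∧ orderOf x ∣ qN m ∧ orderOf x ≠ 1 := by
  obtain ⟨k, hk⟩ := hx.2
  have h := Subgroup.orderOf_dvd_natCard _ hk
  rw [orderOf_conj_inv hK] at h
  exact ⟨h, h.trans (centralizer_qN hK hm hg hg1).2.1, fun e => hx.1 (orderOf_eq_one_iff.1 e)⟩

set_option maxHeartbeats 1000000 in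
/-- The two classes of Singer tori. -/
theorem exists_tori (hm : 1 ≤ m) : ∃ g₁ g₂ : ↥(RG K m),
    g₁ ^ qN m = 1 ∧ g₁ ≠ 1 ∧ g₂ ^ qN m = 1 ∧ g₂ ≠ 1 ∧
    Nat.card ↥(Subgroup.centralizer {g₁}) = 3 ^ (2 * m + 1) - rr m + 1 ∧
    Nat.card ↥(Subgroup.centralizer {g₂}) = 3 ^ (2 * m + 1) + rr m + 1 ∧
    Nat.card ↥(Subgroup.normalizer (Subgroup.centralizer {g₁} : Set ↥(RG K m))) =
      6 * (3 ^ (2 * m + 1) - rr m + 1) ∧
    Nat.card ↥(Subgroup.normalizer (Subgroup.centralizer {g₂} : Set ↥(RG K m))) =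
      6 * (3 ^ (2 * m + 1) + rr m + 1) ∧
    ∀ x : ↥(RG K m), x ^ qN m = 1 → x ≠ 1 →
      InClass (Subgroup.centralizer {g₁}) x ∨ InClass (Subgroup.centralizer {g₂}) x := by
  classical
  letI : Fintype ↥(RG K m) := Fintype.ofFinite _
  obtain ⟨hN1, -⟩ := qN_eq m
  obtain ⟨hr2, hrq, hq27⟩ := rr_facts m hm
  have hG0 : 0 < Nat.card ↥(RG K m) := Nat.card_pos
  have hNG : qN m ∣ Nat.card ↥(RG K m) := ⟨_, (qN_dvd_card hK).trans (mul_comm _ _)⟩
  have hpick : ∀ p, p.Prime → p ∣ qN m → ∃ g : ↥(RG K m), g ^ qN m = 1 ∧ g ≠ 1 ∧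
      p ∣ Nat.card ↥(Subgroup.centralizer {g}) := fun p hp hd => by
    have : Fact p.Prime := ⟨hp⟩
    obtain ⟨g, hg⟩ := exists_prime_orderOf_dvd_card' (G := ↥(RG K m)) p (hd.trans hNG)
    exact ⟨g, orderOf_dvd_iff_pow_eq_one.1 (hg ▸ hd), fun h => hp.one_lt.ne' (by rw [← hg, h, orderOf_one]),
      hg ▸ Subgroup.orderOf_dvd_natCard _ (Subgroup.mem_centralizer_singleton_iff.2 rfl)⟩
  set XS : Finset ↥(RG K m) := Finset.univ.filter fun x => orderOf x ∣ qN m ∧ orderOf x ≠ 1 with hXS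
  set S : ↥(RG K m) → Finset ↥(RG K m) := fun g =>
    Finset.univ.filter fun x => InClass (Subgroup.centralizer {g}) x with hS
  have hSc : ∀ g, Nat.card {x // InClass (Subgroup.centralizer {g}) x} = (S g).card := fun g => by
    rw [Nat.card_eq_fintype_card, Fintype.card_subtype]
  have hXc : 3 * qN m * XS.card =
      3 ^ (2 * m + 1) * (3 ^ (2 * m + 1) - 2) * Nat.card ↥(RG K m) := by
    rw [← count_qN hK hm, hXS, Nat.card_eq_fintype_card (α := {x // _}), Fintype.card_subtype]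
  have hsub : ∀ g : ↥(RG K m), g ^ qN m = 1 → g ≠ 1 → S g ⊆ XS := fun g hg hg1 x hx => by
    simp only [hS, hXS, Finset.mem_filter, Finset.mem_univ, true_and] at hx ⊢
    exact (inClass_qN hK hm hg hg1 hx).2
  have hdisj : ∀ g g' : ↥(RG K m), g ^ qN m = 1 → g ≠ 1 → g' ^ qN m = 1 → g' ≠ 1 →
      Nat.Coprime (Nat.card ↥(Subgroup.centralizer {g})) (Nat.card ↥(Subgroup.centralizer {g'})) →
      Disjoint (S g) (S g') := fun g g' hg hg1 hg' hg1' hcop => by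
    rw [Finset.disjoint_left]
    intro x hx hx'
    simp only [hS, Finset.mem_filter, Finset.mem_univ, true_and] at hx hx'
    exact (inClass_qN hK hm hg hg1 hx).2.2 (Nat.eq_one_of_dvd_coprimes hcop
      (inClass_qN hK hm hg hg1 hx).1 (inClass_qN hK hm hg' hg1' hx').1)
  have hcop : ∀ g g' : ↥(RG K m), g ^ qN m = 1 → g ≠ 1 → g' ^ qN m = 1 → g' ≠ 1 →
      (∃ p, p ∣ Nat.card ↥(Subgroup.centralizer {g'}) ∧ ¬ p ∣ Nat.card ↥(Subgroup.centralizer {g})) →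
      Nat.Coprime (Nat.card ↥(Subgroup.centralizer {g})) (Nat.card ↥(Subgroup.centralizer {g'})) := by
    rintro g g' hg hg1 hg' hg1' ⟨p, hp', hpn⟩
    refine Nat.coprime_of_dvd fun s hs h1 h2 => ?_
    obtain ⟨-, k, hk⟩ := inClass_of_common hK hm hg hg1 hg' hg1' hs h1 h2
    obtain ⟨-, -, hsame⟩ := centralizer_qN hK hm hg hg1
    apply hpn
    rw [← hsame _ hk (fun h => hg1' ((conj_eq_one' hK).1 h)),
      show k⁻¹ * g' * k = k⁻¹ * g' * k⁻¹⁻¹ by group, card_centralizer_conj]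
    exact hp'
  -- arithmetic transport
  set q := 3 ^ (2 * m + 1) with hq
  have hNZ : (qN m : ℤ) = (q : ℤ) ^ 2 - q + 1 := by
    have key : ∀ a b : ℕ, a + b = b ^ 2 + 1 → (a : ℤ) = (b : ℤ) ^ 2 - b + 1 := fun a b h => by
      have h' := congrArg (fun k : ℕ => (k : ℤ)) h
      simp only [Nat.cast_add, Nat.cast_pow, Nat.cast_one] at h'
      linarith
    exact key _ _ hN1
  have hXZ : 3 * (qN m : ℤ) * (XS.card : ℤ) = (q : ℤ) * ((q : ℤ) - 2) * (Nat.card ↥(RG K m) : ℤ) := by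
    have := congrArg (fun k : ℕ => (k : ℤ)) hXc
    simp only [Nat.cast_mul, Nat.cast_sub (show 2 ≤ q by omega), Nat.cast_ofNat] at this
    exact this
  have hcls : ∀ g : ↥(RG K m), g ^ qN m = 1 → g ≠ 1 → ∃ u e : ℕ, u * e = 6 ∧ (1 : ℤ) ≤ u ∧
      7 ≤ Nat.card ↥(Subgroup.centralizer {g}) ∧
      Nat.card ↥(Subgroup.normalizer (Subgroup.centralizer {g} : Set ↥(RG K m))) =
        e * Nat.card ↥(Subgroup.centralizer {g}) ∧
      6 * (Nat.card ↥(Subgroup.centralizer {g}) : ℤ) * (S g).card =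
        (u : ℤ) * ((Nat.card ↥(Subgroup.centralizer {g}) : ℤ) - 1) * (Nat.card ↥(RG K m) : ℤ) := by
    intro g hg hg1
    obtain ⟨u, e, h1, h2, h7, h3, h4⟩ := torus_class hK hm hg hg1
    refine ⟨u, e, h2, by exact_mod_cast h1, h7, h3, ?_⟩
    rw [hSc g] at h4
    have := congrArg (fun k : ℕ => (k : ℤ)) h4
    simp only [Nat.cast_mul, Nat.cast_ofNat, Nat.cast_sub (show 1 ≤ Nat.card ↥(Subgroup.centralizer {g}) by omega),
      Nat.cast_one] at this
    exact this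
  -- first class
  obtain ⟨g₁, hg₁, hg₁', -⟩ : ∃ g : ↥(RG K m), g ^ qN m = 1 ∧ g ≠ 1 ∧ True := by
    have hne : qN m ≠ 1 := fun h => by rw [h] at hN1; nlinarith
    obtain ⟨p, hp, hd⟩ := Nat.exists_prime_and_dvd hne
    obtain ⟨g, h1, h2, -⟩ := hpick p hp hd
    exact ⟨g, h1, h2, trivial⟩
  obtain ⟨u₁, e₁, hue₁, hu₁, h7₁, hN₁, hc₁⟩ := hcls g₁ hg₁ hg₁'
  set n₁ := Nat.card ↥(Subgroup.centralizer {g₁}) with hn₁
  have hn₁N : n₁ ∣ qN m := (centralizer_qN hK hm hg₁ hg₁').2.1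
  -- second class
  obtain ⟨p, hp, hpN, hpn⟩ : ∃ p, p.Prime ∧ p ∣ qN m ∧ ¬ p ∣ n₁ := by
    by_contra hcon
    push Not at hcon
    have hall : S g₁ = XS := by
      refine Finset.Subset.antisymm (hsub g₁ hg₁ hg₁') fun x hx => ?_
      simp only [hS, hXS, Finset.mem_filter, Finset.mem_univ, true_and] at hx ⊢
      have hx' := orderOf_dvd_iff_pow_eq_one.1 hx.1
      have hx1 : x ≠ 1 := fun h => hx.2 (orderOf_eq_one_iff.2 h)
      obtain ⟨s, hs, hsd⟩ := Nat.exists_prime_and_dvd hx.2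
      exact inClass_of_common hK hm hg₁ hg₁' hx' hx1 hs (hcon s hs (hsd.trans hx.1))
        (hsd.trans (Subgroup.orderOf_dvd_natCard _ (Subgroup.mem_centralizer_singleton_iff.2 rfl)))
    have hNn : n₁ = qN m := by
      by_contra hne
      obtain ⟨c, hc⟩ := hn₁N
      have hc1 : c ≠ 1 := fun h => hne (by rw [hc, h, mul_one])
      obtain ⟨s, hs, hsd⟩ := Nat.exists_prime_and_dvd hc1
      refine centralizer_qN_hall hK hm hg₁ hg₁' hs (hcon s hs (hc ▸ dvd_mul_of_dvd_right hsd _))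
        (hsd.trans ((Nat.mul_dvd_mul_iff_left (show 0 < n₁ by omega)).1 ?_))
      rw [← hc, hn₁, Subgroup.card_mul_index]
      exact hNG
    rw [hall, hNn] at hc₁
    exact one_class_false (q := (q : ℤ)) (by omega) hu₁ hNZ (by exact_mod_cast hG0) hc₁ hXZ
  obtain ⟨g₂, hg₂, hg₂', hp₂⟩ := hpick p hp hpN
  obtain ⟨u₂, e₂, hue₂, hu₂, h7₂, hN₂, hc₂⟩ := hcls g₂ hg₂ hg₂'
  set n₂ := Nat.card ↥(Subgroup.centralizer {g₂}) with hn₂
  have hn₂N : n₂ ∣ qN m := (centralizer_qN hK hm hg₂ hg₂').2.1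
  have h12 : Nat.Coprime n₁ n₂ := hcop g₁ g₂ hg₁ hg₁' hg₂ hg₂' ⟨p, hp₂, hpn⟩
  -- no third class
  have hprimes : ∀ s, s.Prime → s ∣ qN m → s ∣ n₁ ∨ s ∣ n₂ := by
    intro s hs hsN
    by_contra hcon
    push Not at hcon
    obtain ⟨g₃, hg₃, hg₃', hs₃⟩ := hpick s hs hsN
    obtain ⟨u₃, -, -, hu₃, h7₃, -, hc₃⟩ := hcls g₃ hg₃ hg₃'
    have hle : (S g₁).card + (S g₂).card + (S g₃).card ≤ XS.card := by
      rw [← Finset.card_union_of_disjoint (hdisj g₁ g₂ hg₁ hg₁' hg₂ hg₂' h12),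
        ← Finset.card_union_of_disjoint (Finset.disjoint_union_left.2
          ⟨hdisj g₁ g₃ hg₁ hg₁' hg₃ hg₃' (hcop g₁ g₃ hg₁ hg₁' hg₃ hg₃' ⟨s, hs₃, hcon.1⟩),
           hdisj g₂ g₃ hg₂ hg₂' hg₃ hg₃' (hcop g₂ g₃ hg₂ hg₂' hg₃ hg₃' ⟨s, hs₃, hcon.2⟩)⟩)]
      exact Finset.card_le_card (Finset.union_subset (Finset.union_subset (hsub g₁ hg₁ hg₁')
        (hsub g₂ hg₂ hg₂')) (hsub g₃ hg₃ hg₃'))
    exact three_classes_false (q := (q : ℤ)) (by exact_mod_cast h7₁) (by exact_mod_cast h7₂)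
      (by exact_mod_cast h7₃) hu₁ hu₂ hu₃ hNZ (by omega) (by exact_mod_cast hG0) hc₁ hc₂ hc₃ hXZ
      (by exact_mod_cast hle)
  have hcov : ∀ x : ↥(RG K m), x ^ qN m = 1 → x ≠ 1 →
      InClass (Subgroup.centralizer {g₁}) x ∨ InClass (Subgroup.centralizer {g₂}) x := by
    intro x hx hx1
    obtain ⟨s, hs, hsd⟩ := Nat.exists_prime_and_dvd (fun h : orderOf x = 1 => hx1 (orderOf_eq_one_iff.1 h))
    have hsC := hsd.trans
      (Subgroup.orderOf_dvd_natCard (Subgroup.centralizer {x}) (Subgroup.mem_centralizer_singleton_iff.2 rfl))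
    rcases hprimes s hs (hsd.trans (orderOf_dvd_of_pow_eq_one hx)) with h | h
    · exact Or.inl (inClass_of_common hK hm hg₁ hg₁' hx hx1 hs h hsC)
    · exact Or.inr (inClass_of_common hK hm hg₂ hg₂' hx hx1 hs h hsC)
  have hprod : n₁ * n₂ = qN m := by
    obtain ⟨c, hc⟩ := h12.mul_dvd_of_dvd_of_dvd hn₁N hn₂N
    by_contra hne
    have hc1 : c ≠ 1 := fun h => hne (by rw [hc, h, mul_one])
    obtain ⟨s, hs, hsd⟩ := Nat.exists_prime_and_dvd hc1
    rcases hprimes s hs (hc ▸ dvd_mul_of_dvd_right hsd _) with h | h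
    · refine centralizer_qN_hall hK hm hg₁ hg₁' hs h
        ((dvd_mul_of_dvd_right hsd n₂).trans ((Nat.mul_dvd_mul_iff_left (show 0 < n₁ by omega)).1 ?_))
      rw [← mul_assoc, ← hc, hn₁, Subgroup.card_mul_index]
      exact hNG
    · refine centralizer_qN_hall hK hm hg₂ hg₂' hs h
        ((dvd_mul_of_dvd_right hsd n₁).trans ((Nat.mul_dvd_mul_iff_left (show 0 < n₂ by omega)).1 ?_))
      rw [← mul_assoc, mul_comm n₂, ← hc, hn₂, Subgroup.card_mul_index]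
      exact hNG
  have heq : (S g₁).card + (S g₂).card = XS.card := by
    rw [← Finset.card_union_of_disjoint (hdisj g₁ g₂ hg₁ hg₁' hg₂ hg₂' h12)]
    congr 1
    refine Finset.Subset.antisymm (Finset.union_subset (hsub g₁ hg₁ hg₁') (hsub g₂ hg₂ hg₂')) fun x hx => ?_
    simp only [hS, hXS, Finset.mem_union, Finset.mem_filter, Finset.mem_univ, true_and] at hx ⊢
    exact hcov x (orderOf_dvd_iff_pow_eq_one.1 hx.1) (fun h => hx.2 (orderOf_eq_one_iff.2 h))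
  obtain ⟨hu₁', hu₂', hsum⟩ := two_classes (q := (q : ℤ)) (by exact_mod_cast h7₁) (by exact_mod_cast h7₂)
    hu₁ hu₂ (by exact_mod_cast hprod) hNZ (by omega) (by exact_mod_cast hG0) hc₁ hc₂ hXZ
    (by exact_mod_cast heq)
  have he₁ : e₁ = 6 := by
    rw [show u₁ = 1 by exact_mod_cast hu₁', one_mul] at hue₁; exact hue₁
  have he₂ : e₂ = 6 := by
    rw [show u₂ = 1 by exact_mod_cast hu₂', one_mul] at hue₂; exact hue₂
  rw [he₁] at hN₁
  rw [he₂] at hN₂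
  have hsum' : n₁ + n₂ = 2 * (q + 1) := by exact_mod_cast hsum
  have hsq : ((n₁ : ℤ) - (q + 1)) * ((n₁ : ℤ) - (q + 1)) = (rr m : ℤ) * rr m := by
    have hr : ((rr m : ℤ)) ^ 2 = 3 * (q : ℤ) := by exact_mod_cast hr2
    have hp' : (n₁ : ℤ) * n₂ = (q : ℤ) ^ 2 - q + 1 := by rw [← hNZ]; exact_mod_cast hprod
    linear_combination (n₁ : ℤ) * hsum - hp' - hr
  rcases mul_self_eq_mul_self_iff.1 hsq with h | h
  · refine ⟨g₂, g₁, hg₂, hg₂', hg₁, hg₁', ?_, ?_, ?_, ?_, fun x hx hx1 => (hcov x hx hx1).symm⟩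
    · omega
    · omega
    · rw [hN₂]; omega
    · rw [hN₁]; omega
  · refine ⟨g₁, g₂, hg₁, hg₁', hg₂, hg₂', ?_, ?_, ?_, ?_, hcov⟩
    · omega
    · omega
    · rw [hN₁]; omega
    · rw [hN₂]; omega

end H52.Ree2
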