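import Cfsg.Agent.H52.ReeTori

/-!
Solvable subgroups of a small Ree group are inside normalisers of Sylow subgroups or tori.
-/

set_option autoImplicit false
set_option linter.unusedSectionVars false

namespace H52.Ree2

open Cfsg.Lie

theorem zmod_two_mult : (∀ b : Multiplicative (ZMod 2), b = 1 ∨ b = Multiplicative.ofAdd 1) ∧
    (Multiplicative.ofAdd 1 : Multiplicative (ZMod 2)) ≠ 1 := by decide

variable {K : Type*} [Field K] [Fintype K] {m : ℕ} (hK : Fintype.card K = 3 ^ (2 * m + 1))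

/-- The subgroups whose normalisers contain the solvable subgroups. -/
def SolTarget (m : ℕ) (A : Subgroup ↥(RG K m)) : Prop :=
  (∃ P : Sylow 2 ↥(RG K m), A = P) ∨ (∃ P : Sylow 3 ↥(RG K m), A = P) ∨
    (IsCyclic ↥A ∧ (Nat.card ↥A = qh m ∨ Nat.card ↥A = qp m ∨
      Nat.card ↥A = 3 ^ (2 * m + 1) - rr m + 1 ∨ Nat.card ↥A = 3 ^ (2 * m + 1) + rr m + 1))

include hK

theorem target_torus {T : Subgroup ↥(RG K m)} {n k : ℕ} (hT : IsTorus T n k)
    (hn : n = qh m ∨ n = qp m ∨ n = 3 ^ (2 * m + 1) - rr m + 1 ∨ n = 3 ^ (2 * m + 1) + rr m + 1)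
    (g : ↥(RG K m)) : SolTarget m (T.map (MulAut.conj g).toMonoidHom) := by
  refine Or.inr (Or.inr ⟨(T.equivMapOfInjective _ (MulAut.conj g).injective).isCyclic.1 hT.cyclic, ?_⟩)
  rw [Subgroup.card_map_of_injective (MulAut.conj g).injective, hT.card]
  exact hn

theorem klein_target (hm : 1 ≤ m) {i k : ↥(RG K m)} (hi : i ≠ 1) (hi2 : i * i = 1) (hk : k ≠ 1)
    (hk2 : k * k = 1) (hik : i * k = k * i) (hne : i ≠ k) (S : Subgroup ↥(RG K m))
    (hS : ∀ s ∈ S, ∀ x ∈ ({i, k, i * k} : Set ↥(RG K m)), s * x * s⁻¹ ∈ ({i, k, i * k} : Set ↥(RG K m))) :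
    ∃ A : Subgroup ↥(RG K m), S ≤ Subgroup.normalizer (A : Set ↥(RG K m)) ∧ SolTarget m A := by
  obtain ⟨g, hgi, hgk⟩ := klein_conj hK hm hi hi2 hk hk2 hik hne
  refine ⟨_, ?_, target_torus hK (torus_AT hK hm) (Or.inr (Or.inl rfl)) g⁻¹⟩
  have hk2' : g * k * g⁻¹ * (g * k * g⁻¹) = 1 := by
    rw [show g * k * g⁻¹ * (g * k * g⁻¹) = g * (k * k) * g⁻¹ by group, hk2]; group
  have hVi : g * i * g⁻¹ ∈ VK hK := hgi ▸ ⟨jG_mem_L0 hK, Subtype.ext (jR_sq hK)⟩
  have hVk : g * k * g⁻¹ ∈ VK hK := ⟨hgk, hk2'⟩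
  have hVik : g * (i * k) * g⁻¹ ∈ VK hK := by
    rw [show g * (i * k) * g⁻¹ = g * i * g⁻¹ * (g * k * g⁻¹) by group]; exact mul_mem hVi hVk
  have hik1 : i * k ≠ 1 := fun e => hne (by rw [eq_comm, ← inv_eq_of_mul_eq_one_right e, inv_eq_of_mul_eq_one_right hi2])
  classical
  have hall : ∀ v ∈ VK hK, v = 1 ∨ v = g * i * g⁻¹ ∨ v = g * k * g⁻¹ ∨ v = g * (i * k) * g⁻¹ := by
    letI : Fintype ↥(VK hK) := Fintype.ofFinite _
    intro v hv
    by_contra hcon
    push Not at hcon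
    obtain ⟨c1, c2, c3, c4⟩ := hcon
    have hinj : ∀ a b : ↥(RG K m), g * a * g⁻¹ = g * b * g⁻¹ → a = b := fun a b e =>
      mul_left_cancel (mul_right_cancel e)
    have h1 : ∀ a : ↥(RG K m), a ≠ 1 → g * a * g⁻¹ ≠ 1 := fun a ha e => ha (conj_eq_one_iff.1 e)
    have hcard : ({1, g * i * g⁻¹, g * k * g⁻¹, g * (i * k) * g⁻¹, v} : Finset ↥(RG K m)).card = 5 := by
      rw [Finset.card_insert_of_notMem, Finset.card_insert_of_notMem, Finset.card_insert_of_notMem,
        Finset.card_pair]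
      · exact fun e => c4 e.symm
      · simp only [Finset.mem_insert, Finset.mem_singleton, not_or]
        exact ⟨fun e => hi (by simpa using hinj _ _ e), fun e => c3 e.symm⟩
      · simp only [Finset.mem_insert, Finset.mem_singleton, not_or]
        exact ⟨fun e => hne (hinj _ _ e), fun e => hk (by simpa using hinj _ _ e), fun e => c2 e.symm⟩
      · simp only [Finset.mem_insert, Finset.mem_singleton, not_or]
        exact ⟨(h1 i hi).symm, (h1 k hk).symm, (h1 _ hik1).symm, c1.symm⟩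
    have hsub : ({1, g * i * g⁻¹, g * k * g⁻¹, g * (i * k) * g⁻¹, v} : Finset ↥(RG K m)) ⊆
        (VK hK : Set ↥(RG K m)).toFinset := by
      intro x hx
      simp only [Finset.mem_insert, Finset.mem_singleton] at hx
      rw [Set.mem_toFinset, SetLike.mem_coe]
      rcases hx with rfl | rfl | rfl | rfl | rfl
      · exact one_mem _
      · exact hVi
      · exact hVk
      · exact hVik
      · exact hv
    have := Finset.card_le_card hsub
    rw [hcard, ← Nat.card_eq_card_toFinset] at this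
    simp only [SetLike.coe_sort_coe] at this
    rw [VK_card hK] at this
    omega
  intro s hs
  have hmap : ∀ t ∈ S, ∀ v ∈ VK hK, g * t * g⁻¹ * v * (g * t * g⁻¹)⁻¹ ∈ VK hK := by
    intro t ht v hv
    have hcase : ∀ y ∈ ({i, k, i * k} : Set ↥(RG K m)), g * t * g⁻¹ * (g * y * g⁻¹) * (g * t * g⁻¹)⁻¹ ∈ VK hK := by
      intro y hy
      rw [show g * t * g⁻¹ * (g * y * g⁻¹) * (g * t * g⁻¹)⁻¹ = g * (t * y * t⁻¹) * g⁻¹ by group]
      rcases hS t ht y hy with e | e | e <;> rw [e] <;> assumption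
    rcases hall v hv with rfl | rfl | rfl | rfl
    · simpa using one_mem _
    · exact hcase _ (Or.inl rfl)
    · exact hcase _ (Or.inr (Or.inl rfl))
    · exact hcase _ (Or.inr (Or.inr rfl))
  have hsN : g * s * g⁻¹ ∈ Subgroup.normalizer (AT hK : Set ↥(RG K m)) := by
    apply normalizer_VK_le hK
    rw [Subgroup.mem_normalizer_iff]
    intro v
    refine ⟨hmap s hs v, fun h => ?_⟩
    have := hmap s⁻¹ (inv_mem hs) _ h
    rwa [show g * s⁻¹ * g⁻¹ * (g * s * g⁻¹ * v * (g * s * g⁻¹)⁻¹) * (g * s⁻¹ * g⁻¹)⁻¹ = v by group] at this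
  rw [Subgroup.mem_normalizer_iff]
  intro y
  rw [Subgroup.mem_map_equiv, Subgroup.mem_map_equiv, MulAut.conj_symm_apply, MulAut.conj_symm_apply,
    inv_inv, show g * (s * y * s⁻¹) * g⁻¹ = g * s * g⁻¹ * (g * y * g⁻¹) * (g * s * g⁻¹)⁻¹ by group]
  exact Subgroup.mem_normalizer_iff.1 hsN _

theorem centralizer_le_normalizer_self {M : Subgroup ↥(RG K m)} {P : Sylow 2 ↥(RG K m)}
    (hMP : M ≤ (P : Subgroup ↥(RG K m))) (hc : Nat.card ↥(P : Subgroup ↥(RG K m)) ≤ Nat.card ↥M) :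
    M = (P : Subgroup ↥(RG K m)) := Subgroup.eq_of_le_of_card_ge hMP hc

/-- A normal elementary abelian subgroup which is not of order 2 settles the matter. -/
theorem normal_case (hm : 1 ≤ m) {S M : Subgroup ↥(RG K m)} {p : ℕ} (hp : p.Prime) (hM : M ≠ ⊥)
    (hnorm : S ≤ Subgroup.normalizer (M : Set ↥(RG K m)))
    (hcomm : ∀ x ∈ M, ∀ y ∈ M, x * y = y * x) (hexp : ∀ x ∈ M, x ^ p = 1)
    (hnot2 : p = 2 → ∃ i ∈ M, ∃ k ∈ M, i ≠ 1 ∧ k ≠ 1 ∧ i ≠ k) :
    ∃ A : Subgroup ↥(RG K m), S ≤ Subgroup.normalizer (A : Set ↥(RG K m)) ∧ SolTarget m A := by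
  classical
  have : Fact p.Prime := ⟨hp⟩
  have hMp : IsPGroup p ↥M := fun x => ⟨1, Subtype.ext (by simpa using hexp x x.2)⟩
  obtain ⟨P, hP⟩ := hMp.exists_le_sylow
  obtain ⟨a, ha, ha1⟩ := (Subgroup.bot_or_exists_ne_one M).resolve_left hM
  by_cases hp3 : p = 3
  · subst hp3
    refine ⟨_, fun s hs => ?_, Or.inr (Or.inl ⟨P, rfl⟩)⟩
    have hfix : s • P = P := by
      by_contra hne
      have hTI := sylow_TI hK P (s • P) (fun e => hne e.symm)
      have h2 : a ∈ ((s • P : Sylow 3 ↥(RG K m)) : Subgroup ↥(RG K m)) := by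
        rw [Sylow.coe_subgroup_smul]
        refine ⟨s⁻¹ * a * s, hP ((Subgroup.mem_normalizer_iff.1 (hnorm hs) _).2 (by
          rw [show s * (s⁻¹ * a * s) * s⁻¹ = a by group]; exact ha)), ?_⟩
        show s * (s⁻¹ * a * s) * s⁻¹ = a
        group
      have : a ∈ (P : Subgroup ↥(RG K m)) ⊓ ((s • P : Sylow 3 ↥(RG K m)) : Subgroup ↥(RG K m)) := ⟨hP ha, h2⟩
      rw [hTI, Subgroup.mem_bot] at this
      exact ha1 this
    exact Sylow.smul_eq_iff_mem_normalizer.1 hfix
  by_cases hp2 : p = 2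
  · subst hp2
    obtain ⟨i, hi, k, hk, hi1, hk1, hik⟩ := hnot2 rfl
    have hsq : ∀ x ∈ M, x * x = 1 := fun x hx => by rw [← sq]; exact hexp x hx
    by_cases hsmall : ∀ x ∈ M, x = 1 ∨ x = i ∨ x = k ∨ x = i * k
    · refine klein_target hK hm hi1 (hsq i hi) hk1 (hsq k hk) (hcomm i hi k hk) hik S fun s hs x hx => ?_
      have hxM : x ∈ M := by
        rcases hx with rfl | rfl | rfl
        · exact hi
        · exact hk
        · exact mul_mem hi hk
      have hik1 : i * k ≠ 1 := fun e => hik (by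
        rw [eq_comm, ← inv_eq_of_mul_eq_one_right e, inv_eq_of_mul_eq_one_right (hsq i hi)])
      have hx1 : x ≠ 1 := by rcases hx with rfl | rfl | rfl <;> assumption
      rcases hsmall _ ((Subgroup.mem_normalizer_iff.1 (hnorm hs) x).1 hxM) with e | e | e | e
      · exact absurd (conj_eq_one_iff.1 e) hx1
      · exact Or.inl e
      · exact Or.inr (Or.inl e)
      · exact Or.inr (Or.inr e)
    · push Not at hsmall
      obtain ⟨x, hx, hx1, hxi, hxk, hxik⟩ := hsmall
      have h8 : Nat.card ↥(P : Subgroup ↥(RG K m)) = 8 := (sylow_two_elementary hK P).1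
      have hMP : M = (P : Subgroup ↥(RG K m)) := by
        refine Subgroup.eq_of_le_of_card_ge hP ?_
        rw [h8]
        have hik1 : i * k ≠ 1 := fun e => hik (by
          rw [eq_comm, ← inv_eq_of_mul_eq_one_right e, inv_eq_of_mul_eq_one_right (hsq i hi)])
        have hdvd := Subgroup.card_dvd_of_le hP
        rw [h8] at hdvd
        letI : Fintype ↥(RG K m) := Fintype.ofFinite _
        have hcard : ({1, i, k, i * k, x} : Finset ↥(RG K m)).card = 5 := by
          rw [Finset.card_insert_of_notMem, Finset.card_insert_of_notMem, Finset.card_insert_of_notMem,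
            Finset.card_pair]
          · exact fun e => hxik e.symm
          · simp only [Finset.mem_insert, Finset.mem_singleton, not_or]
            exact ⟨fun e => hi1 (mul_eq_right.1 e.symm), fun e => hxk e.symm⟩
          · simp only [Finset.mem_insert, Finset.mem_singleton, not_or]
            exact ⟨hik, fun e => hk1 (mul_eq_left.1 e.symm), fun e => hxi e.symm⟩
          · simp only [Finset.mem_insert, Finset.mem_singleton, not_or]
            exact ⟨hi1.symm, hk1.symm, hik1.symm, hx1.symm⟩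
        have hle := Finset.card_le_card (t := (M : Set ↥(RG K m)).toFinset) (s := {1, i, k, i * k, x}) (by
          intro y hy
          simp only [Finset.mem_insert, Finset.mem_singleton] at hy
          rw [Set.mem_toFinset, SetLike.mem_coe]
          rcases hy with rfl | rfl | rfl | rfl | rfl
          · exact one_mem _
          · exact hi
          · exact hk
          · exact mul_mem hi hk
          · exact hx)
        rw [hcard, ← Nat.card_eq_card_toFinset] at hle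
        simp only [SetLike.coe_sort_coe] at hle
        have := Nat.le_of_dvd (by norm_num) hdvd
        interval_cases Nat.card ↥M <;> omega
      exact ⟨_, hMP ▸ hnorm, Or.inl ⟨P, rfl⟩⟩
  have hp5 : 3 < p := by have := hp.two_le; omega
  have hoa : orderOf a = p := orderOf_eq_prime (hexp a ha) ha1
  obtain ⟨T, n, k, hT, hpn, hn⟩ := prime_cases hK hm hp hp5 (hoa ▸ orderOf_dvd_natCard a)
  have := hT.sylow_cyclic hpn P
  have hMc : IsCyclic ↥M := isCyclic_of_injective _ (Subgroup.inclusion_injective hP)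
  obtain ⟨x, rfl⟩ := (Subgroup.isCyclic_iff_exists_zpowers_eq_top M).1 hMc
  have hx1 : x ≠ 1 := fun e => hM (Subgroup.zpowers_eq_bot.2 e)
  obtain ⟨g, hg⟩ := hT.conj x (by
    obtain ⟨c, hc⟩ := hpn
    rw [hc, pow_mul, hexp x (Subgroup.mem_zpowers x), one_pow]) hx1
  refine ⟨_, hnorm.trans (hT.normalizer_prime hM (conj_zpowers_mem hg)), ?_⟩
  rw [inv_inv]
  exact target_torus hK hT hn g

/-- Every solvable subgroup normalises a Sylow 2- or 3-subgroup or a torus. -/
theorem solvable_target (hm : 1 ≤ m) (S : Subgroup ↥(RG K m)) (hS : Group.IsSolvable ↥S) :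
    ∃ A : Subgroup ↥(RG K m), S ≤ Subgroup.normalizer (A : Set ↥(RG K m)) ∧ SolTarget m A := by
  classical
  have : Fact (Nat.Prime 2) := ⟨Nat.prime_two⟩
  by_cases hbot : S = ⊥
  · obtain ⟨P⟩ : Nonempty (Sylow 2 ↥(RG K m)) := inferInstance
    exact ⟨_, hbot ▸ bot_le, Or.inl ⟨P, rfl⟩⟩
  obtain ⟨p, M, hp, hMS, hM, hnorm, hcomm, hexp⟩ :=
    exists_elementary_normal S S le_rfl Subgroup.le_normalizer hS hbot
  by_cases hgood : p = 2 → ∃ i ∈ M, ∃ k ∈ M, i ≠ 1 ∧ k ≠ 1 ∧ i ≠ k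
  · exact normal_case hK hm hp hM hnorm hcomm hexp hgood
  push Not at hgood
  obtain ⟨rfl, hone⟩ := hgood
  obtain ⟨i, hi, hi1⟩ := (Subgroup.bot_or_exists_ne_one M).resolve_left hM
  have hi2 : i * i = 1 := by rw [← sq]; exact hexp i hi
  have hcent : ∀ s ∈ S, s * i = i * s := fun s hs => by
    have h := hone i hi _ ((Subgroup.mem_normalizer_iff.1 (hnorm hs) i).1 hi) hi1
      (fun e => hi1 (conj_eq_one_iff.1 e))
    exact mul_inv_eq_iff_eq_mul.1 h.symm
  obtain ⟨g, hg⟩ := involution_conj hK hm hi1 hi2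
  obtain ⟨hinj, hj, hr⟩ := eC_spec hK
  set R0 : Subgroup ↥(RG K m) :=
    ((Subgroup.prod (⊥ : Subgroup (Multiplicative (ZMod 2)))
      (⊤ : Subgroup (Matrix.ProjectiveSpecialLinearGroup (Fin 2) K))).map (eC hK)).map (MulAut.conj g).toMonoidHom
    with hR0
  have hSC : ∀ s ∈ S, ∃ c, s = g * eC hK c * g⁻¹ := fun s hs => by
    have hmem : g⁻¹ * s * g ∈ (eC hK).range := by
      rw [hr, Subgroup.mem_centralizer_singleton_iff, show jG hK = g⁻¹ * i * g by rw [← hg]; group]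
      calc g⁻¹ * s * g * (g⁻¹ * i * g) = g⁻¹ * (s * i) * g := by group
        _ = g⁻¹ * (i * s) * g := by rw [hcent s hs]
        _ = _ := by group
    obtain ⟨c, hc⟩ := hmem
    exact ⟨c, by rw [hc]; group⟩
  have hR0mem : ∀ c, g * eC hK c * g⁻¹ ∈ R0 ↔ c.1 = 1 := fun c => by
    constructor
    · rintro ⟨_, ⟨d, hd, rfl⟩, e⟩
      have e' : d = c := hinj (mul_left_cancel (mul_right_cancel (show g * eC hK d * g⁻¹ = g * eC hK c * g⁻¹ from e)))
      rw [← e']
      exact Subgroup.mem_bot.1 (Subgroup.mem_prod.1 hd).1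
    · intro h
      exact ⟨_, ⟨c, Subgroup.mem_prod.2 ⟨Subgroup.mem_bot.2 h, trivial⟩, rfl⟩, rfl⟩
  have hiR : i ∉ R0 := fun h => by
    have : i = g * eC hK (Multiplicative.ofAdd 1, 1) * g⁻¹ := by rw [hj, hg]
    rw [this, hR0mem] at h
    exact zmod_two_mult.2 h
  set R := S ⊓ R0 with hRdef
  have hnR : S ≤ Subgroup.normalizer (R : Set ↥(RG K m)) := fun s hs => by
    have hfwd : ∀ s ∈ S, ∀ x ∈ R, s * x * s⁻¹ ∈ R := by
      rintro s hs x ⟨hxS, hxR⟩
      refine Subgroup.mem_inf.2 ⟨mul_mem (mul_mem hs hxS) (inv_mem hs), ?_⟩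
      obtain ⟨c, rfl⟩ := hSC s hs
      obtain ⟨d, rfl⟩ := hSC x hxS
      rw [show g * eC hK c * g⁻¹ * (g * eC hK d * g⁻¹) * (g * eC hK c * g⁻¹)⁻¹ =
        g * (eC hK c * eC hK d * (eC hK c)⁻¹) * g⁻¹ by group, ← map_inv, ← map_mul, ← map_mul,
        hR0mem]
      simp [(hR0mem d).1 hxR]
    rw [Subgroup.mem_normalizer_iff]
    intro x
    refine ⟨hfwd s hs x, fun h => ?_⟩
    have := hfwd s⁻¹ (inv_mem hs) _ h
    rwa [show s⁻¹ * (s * x * s⁻¹) * s⁻¹⁻¹ = x by group] at this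
  by_cases hRb : R = ⊥
  · have hsub : ∀ s ∈ S, s ∈ M := by
      intro s hs
      obtain ⟨c, hc⟩ := hSC s hs
      rcases zmod_two_mult.1 c.1 with h | h
      · have : s ∈ R := ⟨hs, hc ▸ (hR0mem c).2 h⟩
        rw [hRb, Subgroup.mem_bot] at this
        exact this ▸ one_mem _
      · have hmem : s * i ∈ R := by
          refine Subgroup.mem_inf.2 ⟨mul_mem hs (hMS hi), ?_⟩
          rw [hc, ← hg, ← hj, show g * eC hK c * g⁻¹ * (g * eC hK (Multiplicative.ofAdd 1, 1) * g⁻¹) =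
            g * (eC hK c * eC hK (Multiplicative.ofAdd 1, 1)) * g⁻¹ by group, ← map_mul, hR0mem]
          show c.1 * _ = 1
          rw [h]; exact zmod_two_sq hK _
        rw [hRb, Subgroup.mem_bot] at hmem
        rw [eq_comm.1 (inv_eq_of_mul_eq_one_left hmem)]
        exact inv_mem hi
    have hMp : IsPGroup 2 ↥M := fun x => ⟨1, Subtype.ext (by simpa using hexp x x.2)⟩
    obtain ⟨P, hP⟩ := hMp.exists_le_sylow
    exact ⟨_, fun s hs => Subgroup.le_normalizer (hP (hsub s hs)), Or.inl ⟨P, rfl⟩⟩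
  have hSR : Group.IsSolvable ↥R :=
    haveI := hS; solvable_of_solvable_injective (Subgroup.inclusion_injective (inf_le_left : R ≤ S))
  obtain ⟨p', M', hp', hM'R, hM', hnorm', hcomm', hexp'⟩ :=
    exists_elementary_normal S R inf_le_left hnR hSR hRb
  by_cases hgood' : p' = 2 → ∃ a ∈ M', ∃ b ∈ M', a ≠ 1 ∧ b ≠ 1 ∧ a ≠ b
  · exact normal_case hK hm hp' hM' hnorm' hcomm' hexp' hgood'
  push Not at hgood'
  obtain ⟨rfl, hone'⟩ := hgood'
  obtain ⟨k, hk, hk1⟩ := (Subgroup.bot_or_exists_ne_one M').resolve_left hM'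
  have hk2 : k * k = 1 := by rw [← sq]; exact hexp' k hk
  have hcent' : ∀ s ∈ S, s * k = k * s := fun s hs => by
    have h := hone' k hk _ ((Subgroup.mem_normalizer_iff.1 (hnorm' hs) k).1 hk) hk1
      (fun e => hk1 (conj_eq_one_iff.1 e))
    exact mul_inv_eq_iff_eq_mul.1 h.symm
  have hkS : k ∈ S := (hM'R hk).1
  refine klein_target hK hm hi1 hi2 hk1 hk2 (hcent k hkS).symm (fun e => hiR (e ▸ (hM'R hk).2)) S ?_
  intro s hs x hx
  have e : s * x = x * s := by
    rcases hx with rfl | rfl | rfl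
    · exact hcent s hs
    · exact hcent' s hs
    · rw [← mul_assoc, hcent s hs, mul_assoc, hcent' s hs, ← mul_assoc]
  rw [e, mul_inv_cancel_right]
  exact hx

end H52.Ree2
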