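import Cfsg.Agent.H52.ReeInvIso
import Cfsg.Agent.H5.Fusion

/-!
Sylow 2-subgroups of the small Ree groups; the single class of involutions.
-/

set_option autoImplicit false
set_option linter.unusedSectionVars false

namespace H52.Ree2

open Cfsg.Lie

section involution

variable {G : Type*} [Group G]

/-- The homomorphism from the group of order two given by an element of square one. -/
def zHom (x : G) (hx : x * x = 1) : Multiplicative (ZMod 2) →* G where
  toFun a := if a = 1 then 1 else x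
  map_one' := if_pos rfl
  map_mul' a b := by
    have key : ∀ a b : Multiplicative (ZMod 2), (a * b = 1 ↔ a = b) := by decide
    have key2 : ∀ a : Multiplicative (ZMod 2), a ≠ 1 → ∀ b : Multiplicative (ZMod 2), b ≠ 1 → a = b := by
      decide
    by_cases ha : a = 1
    · subst ha; simp
    by_cases hb : b = 1
    · subst hb; simp
    rw [if_neg ha, if_neg hb, if_pos ((key a b).2 (key2 a ha b hb)), hx]

theorem zHom_apply (x : G) (hx : x * x = 1) : zHom x hx (Multiplicative.ofAdd 1) = x := by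
  show (if (Multiplicative.ofAdd (1 : ZMod 2)) = 1 then 1 else x) = x
  rw [if_neg (by decide)]

theorem zHom_commute {x y : G} (hx : x * x = 1) (hy : y * y = 1) (h : x * y = y * x)
    (a b : Multiplicative (ZMod 2)) : Commute (zHom x hx a) (zHom y hy b) := by
  show Commute (if a = 1 then 1 else x) (if b = 1 then 1 else y)
  split_ifs
  · exact Commute.one_left _
  · exact Commute.one_left _
  · exact Commute.one_right _
  · exact h

end involution

/-- The group of order eight. -/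
abbrev D8 : Type := Multiplicative (ZMod 2) × (Multiplicative (ZMod 2) × Multiplicative (ZMod 2))

/-- The element of order three on the group of order eight. -/
def sigD : D8 → D8 := fun d => (d.1, (d.2.2, d.2.1 * d.2.2))

/-- The first generator. -/
def d0 : D8 := (Multiplicative.ofAdd 1, (1, 1))

set_option synthInstance.maxSize 2048 in
set_option synthInstance.maxHeartbeats 200000 in
theorem orbit_dichotomy : ∀ O : Finset D8, d0 ∈ O → 1 ∉ O → (∀ d ∈ O, sigD d ∈ O) → Odd O.card →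
    O = {d0} ∨ O.card = 7 := by
  decide +kernel

theorem d8_card : Fintype.card D8 = 8 := rfl

theorem d8_sq : ∀ d : D8, d * d = 1 := by decide

theorem v4_cases : ∀ v : Multiplicative (ZMod 2) × Multiplicative (ZMod 2), v = 1 ∨
    v = (Multiplicative.ofAdd 1, 1) ∨ v = (1, Multiplicative.ofAdd 1) ∨
    v = (Multiplicative.ofAdd 1, Multiplicative.ofAdd 1) := by decide

theorem d8_facts : sigD (1, (Multiplicative.ofAdd 1, 1)) ≠ (1, (Multiplicative.ofAdd 1, 1)) ∧
    ((Multiplicative.ofAdd (1 : ZMod 2), (1 : Multiplicative (ZMod 2))) ≠ 1) ∧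
    (((1 : Multiplicative (ZMod 2)), Multiplicative.ofAdd (1 : ZMod 2)) ≠ 1) ∧
    ((1, (Multiplicative.ofAdd 1, 1)) : D8) ≠ (1, (1, Multiplicative.ofAdd 1)) ∧
    d0 ≠ (1 : D8) ∧ (Multiplicative.ofAdd (1 : ZMod 2) : Multiplicative (ZMod 2)) ≠ 1 ∧
    (Multiplicative.ofAdd (1 : ZMod 2)) * Multiplicative.ofAdd 1 = 1 ∧
    (((1 : Multiplicative (ZMod 2)), Multiplicative.ofAdd (1 : ZMod 2)) * (1, Multiplicative.ofAdd 1) = 1) ∧
    (∀ d : D8, ∃ d', sigD d' = d) := by decide

section psl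

/-- An element of order three permuting the square roots. -/
def sE (K : Type*) [Field K] : Matrix.SpecialLinearGroup (Fin 2) K :=
  ⟨!![0, 1; -1, -1], by rw [Matrix.det_fin_two_of]; ring⟩

variable {K : Type*} [Field K] (h3 : (3 : K) = 0)
include h3

/-- A second anticommuting square root of `-1`. -/
def sM : Matrix.SpecialLinearGroup (Fin 2) K :=
  ⟨!![1, 1; 1, -1], by rw [Matrix.det_fin_two_of]; linear_combination -h3⟩

theorem sE_conj : sE K * sW = sM h3 * sE K ∧ sE K * sM h3 = sW * sM h3 * sE K := by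
  refine ⟨Subtype.ext ?_, Subtype.ext ?_⟩
  · show !![(0 : K), 1; -1, -1] * !![0, 1; -1, 0] = !![1, 1; 1, -1] * !![0, 1; -1, -1]
    ext i j
    fin_cases i <;> fin_cases j <;> simp [Matrix.mul_apply, Fin.sum_univ_two] <;> grind
  · show !![(0 : K), 1; -1, -1] * !![1, 1; 1, -1] =
      !![0, 1; -1, 0] * !![1, 1; 1, -1] * !![0, 1; -1, -1]
    ext i j
    fin_cases i <;> fin_cases j <;> simp [Matrix.mul_apply, Fin.sum_univ_two] <;> grind

theorem one_ne_neg : (1 : K) ≠ -1 := fun h =>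
  one_ne_zero (show (1 : K) = 0 by linear_combination h3 - h)

theorem proj_eq {g k : Matrix.SpecialLinearGroup (Fin 2) K} :
    (QuotientGroup.mk g : Matrix.ProjectiveSpecialLinearGroup (Fin 2) K) = QuotientGroup.mk k ↔
      (g : Matrix (Fin 2) (Fin 2) K) = k ∨ (g : Matrix (Fin 2) (Fin 2) K) = -(k : Matrix (Fin 2) (Fin 2) K) := by
  rw [QuotientGroup.eq, mem_center_sl2]
  constructor
  · rintro ⟨a, ha, e⟩
    have hk : k = g * sD a := inv_mul_eq_iff_eq_mul.1 e
    have hval := congrArg Subtype.val hk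
    have ha' := congrArg Units.val ha
    simp only [Units.val_pow_eq_pow_val, Units.val_one, sq_eq_one_iff] at ha'
    have hinv : a⁻¹ = a := by rw [inv_eq_iff_mul_eq_one, ← sq, ha]
    rcases ha' with e' | e'
    · left
      rw [hval]
      show g.1 = g.1 * !![(a : K), 0; 0, ((a⁻¹ : Kˣ) : K)]
      rw [hinv, e', ← Matrix.one_fin_two, mul_one]
    · right
      rw [hval]
      show g.1 = -(g.1 * !![(a : K), 0; 0, ((a⁻¹ : Kˣ) : K)])
      rw [hinv, e', show !![(-1 : K), 0; 0, -1] = -1 by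
        ext i j; fin_cases i <;> fin_cases j <;> simp, mul_neg, mul_one, neg_neg]
  · rintro (e | e)
    · refine ⟨1, one_pow _, ?_⟩
      rw [Subtype.ext e, inv_mul_cancel]
      exact Subtype.ext (by simp [sD, Matrix.one_fin_two])
    · refine ⟨-1, by simp, ?_⟩
      rw [inv_mul_eq_iff_eq_mul]
      apply Subtype.ext
      show k.1 = g.1 * !![((-1 : Kˣ) : K), 0; 0, (((-1 : Kˣ)⁻¹ : Kˣ) : K)]
      rw [e, show !![((-1 : Kˣ) : K), 0; 0, (((-1 : Kˣ)⁻¹ : Kˣ) : K)] = -1 by
        ext i j; fin_cases i <;> fin_cases j <;> simp, mul_neg, mul_one, neg_neg]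

/-- The Klein four group in `PSL₂`. -/
noncomputable def fV : Multiplicative (ZMod 2) × Multiplicative (ZMod 2) →* Matrix.ProjectiveSpecialLinearGroup (Fin 2) K :=
  MonoidHom.noncommCoprod
    (zHom (QuotientGroup.mk sW) (by
      rw [← QuotientGroup.mk_mul, ← QuotientGroup.mk_one, proj_eq h3]
      right
      show !![(0 : K), 1; -1, 0] * !![0, 1; -1, 0] = -1
      ext i j
      fin_cases i <;> fin_cases j <;> simp [Matrix.mul_apply, Fin.sum_univ_two]))
    (zHom (QuotientGroup.mk (sM h3)) (by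
      rw [← QuotientGroup.mk_mul, ← QuotientGroup.mk_one, proj_eq h3]
      right
      show !![(1 : K), 1; 1, -1] * !![1, 1; 1, -1] = -1
      ext i j
      fin_cases i <;> fin_cases j <;> simp [Matrix.mul_apply, Fin.sum_univ_two] <;> grind))
    (zHom_commute _ _ (by
      rw [← QuotientGroup.mk_mul, ← QuotientGroup.mk_mul, proj_eq h3]
      right
      show !![(0 : K), 1; -1, 0] * !![1, 1; 1, -1] = -(!![1, 1; 1, -1] * !![0, 1; -1, 0])
      ext i j
      fin_cases i <;> fin_cases j <;> simp [Matrix.mul_apply, Fin.sum_univ_two]))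

theorem fV_w : fV h3 (Multiplicative.ofAdd 1, 1) = QuotientGroup.mk sW := by
  rw [fV, MonoidHom.noncommCoprod_apply, zHom_apply, map_one, mul_one]

theorem fV_m : fV h3 (1, Multiplicative.ofAdd 1) = QuotientGroup.mk (sM h3) := by
  rw [fV, MonoidHom.noncommCoprod_apply, zHom_apply, map_one, one_mul]

theorem fV_wm : fV h3 (Multiplicative.ofAdd 1, Multiplicative.ofAdd 1) =
    QuotientGroup.mk sW * QuotientGroup.mk (sM h3) := by
  rw [fV, MonoidHom.noncommCoprod_apply, zHom_apply, zHom_apply]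

theorem fV_injective : Function.Injective (fV h3) := by
  rw [← MonoidHom.ker_eq_bot_iff, Subgroup.eq_bot_iff_forall]
  intro d hd
  rw [MonoidHom.mem_ker] at hd
  have h2 : ∀ d : Multiplicative (ZMod 2) × Multiplicative (ZMod 2), d = 1 ∨ d = (Multiplicative.ofAdd 1, 1) ∨
      d = (1, Multiplicative.ofAdd 1) ∨ d = (Multiplicative.ofAdd 1, Multiplicative.ofAdd 1) := by decide
  have hn : ∀ g : Matrix.SpecialLinearGroup (Fin 2) K, g.1 0 1 ≠ 0 →
      (QuotientGroup.mk g : Matrix.ProjectiveSpecialLinearGroup (Fin 2) K) ≠ 1 := by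
    intro g hg e
    rw [← QuotientGroup.mk_one, proj_eq h3] at e
    apply hg
    rcases e with e | e <;> rw [e] <;> simp
  rcases h2 d with rfl | rfl | rfl | rfl
  · rfl
  · rw [fV_w h3] at hd; exact absurd hd (hn _ (by simp [sW]))
  · rw [fV_m h3] at hd; exact absurd hd (hn _ (by simp [sM]))
  · rw [fV_wm h3, ← QuotientGroup.mk_mul] at hd
    refine absurd hd (hn _ ?_)
    show (!![(0 : K), 1; -1, 0] * !![1, 1; 1, -1] : Matrix (Fin 2) (Fin 2) K) 0 1 ≠ 0
    simp [Matrix.mul_apply, Fin.sum_univ_two]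

theorem fV_selfCentralizing {p : Matrix.ProjectiveSpecialLinearGroup (Fin 2) K}
    (hw : p * QuotientGroup.mk sW = QuotientGroup.mk sW * p)
    (hm : p * QuotientGroup.mk (sM h3) = QuotientGroup.mk (sM h3) * p) : p ∈ (fV h3).range := by
  obtain ⟨g, rfl⟩ := QuotientGroup.mk_surjective p
  rw [← QuotientGroup.mk_mul, ← QuotientGroup.mk_mul, proj_eq h3] at hw hm
  have hdet : g.1 0 0 * g.1 1 1 - g.1 0 1 * g.1 1 0 = 1 := by rw [← Matrix.det_fin_two]; exact g.2
  have hw' : g.1 * !![0, 1; -1, 0] = !![0, 1; -1, 0] * g.1 ∨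
      g.1 * !![0, 1; -1, 0] = -(!![0, 1; -1, 0] * g.1) := hw
  have hm' : g.1 * !![1, 1; 1, -1] = !![1, 1; 1, -1] * g.1 ∨
      g.1 * !![1, 1; 1, -1] = -(!![1, 1; 1, -1] * g.1) := hm
  set a := g.1 0 0 with ha
  set b := g.1 0 1 with hb
  set c := g.1 1 0 with hc
  set d := g.1 1 1 with hd
  have hg2 : g.1 = !![a, b; c, d] := Matrix.eta_fin_two _
  rw [hg2, Matrix.mul_fin_two, Matrix.mul_fin_two] at hw' hm'
  have key : (a = 1 ∧ b = 0 ∧ c = 0 ∧ d = 1 ∨ a = -1 ∧ b = 0 ∧ c = 0 ∧ d = -1) ∨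
      (a = 0 ∧ b = 1 ∧ c = -1 ∧ d = 0 ∨ a = 0 ∧ b = -1 ∧ c = 1 ∧ d = 0) ∨
      (a = 1 ∧ b = 1 ∧ c = 1 ∧ d = -1 ∨ a = -1 ∧ b = -1 ∧ c = -1 ∧ d = 1) ∨
      (a = 1 ∧ b = -1 ∧ c = -1 ∧ d = -1 ∨ a = -1 ∧ b = 1 ∧ c = 1 ∧ d = 1) := by
    rcases hw' with e | e <;> rcases hm' with e' | e'
    all_goals
      have w00 := congrFun (congrFun e 0) 0
      have w01 := congrFun (congrFun e 0) 1
      have m00 := congrFun (congrFun e' 0) 0
      have m01 := congrFun (congrFun e' 0) 1
      simp at w00 w01 m00 m01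
    · left
      have e1 : b = 0 := by grind
      have e2 : a * a = 1 := by grind
      rcases mul_self_eq_one_iff.1 e2 with h | h
      · left; grind
      · right; grind
    · right; left
      have e1 : a = 0 := by grind
      have e2 : b * b = 1 := by grind
      rcases mul_self_eq_one_iff.1 e2 with h | h
      · left; grind
      · right; grind
    · right; right; left
      have e1 : a = b := by grind
      have e2 : a * a = 1 := by grind
      rcases mul_self_eq_one_iff.1 e2 with h | h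
      · left; grind
      · right; grind
    · right; right; right
      have e1 : a = -b := by grind
      have e2 : a * a = 1 := by grind
      rcases mul_self_eq_one_iff.1 e2 with h | h
      · left; grind
      · right; grind
  have hg : ∀ (k : Matrix.SpecialLinearGroup (Fin 2) K),
      (a = k.1 0 0 ∧ b = k.1 0 1 ∧ c = k.1 1 0 ∧ d = k.1 1 1 ∨
        a = -k.1 0 0 ∧ b = -k.1 0 1 ∧ c = -k.1 1 0 ∧ d = -k.1 1 1) →
      (QuotientGroup.mk g : Matrix.ProjectiveSpecialLinearGroup (Fin 2) K) = QuotientGroup.mk k := by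
    intro k hk
    rw [proj_eq h3]
    rcases hk with ⟨h1, h2, h3, h4⟩ | ⟨h1, h2, h3, h4⟩
    · left; ext i j; fin_cases i <;> fin_cases j <;> simp [← ha, ← hb, ← hc, ← hd, h1, h2, h3, h4]
    · right; ext i j; fin_cases i <;> fin_cases j <;> simp [← ha, ← hb, ← hc, ← hd, h1, h2, h3, h4]
  rcases key with h | h | h | h
  · exact ⟨1, by rw [map_one, ← QuotientGroup.mk_one]; exact (hg 1 (by simpa using h)).symm⟩
  · exact ⟨_, (fV_w h3).trans (hg sW (by simpa [sW] using h)).symm⟩
  · exact ⟨_, (fV_m h3).trans (hg (sM h3) (by simpa [sM] using h)).symm⟩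
  · refine ⟨_, (fV_wm h3).trans ?_⟩
    rw [← QuotientGroup.mk_mul]
    refine (hg (sW * sM h3) ?_).symm
    have hv : (sW * sM h3 : Matrix.SpecialLinearGroup (Fin 2) K).1 = !![1, -1; -1, -1] := by
      show !![(0 : K), 1; -1, 0] * !![1, 1; 1, -1] = _
      rw [Matrix.mul_fin_two]; simp
    rw [hv]
    simpa using h

end psl

variable {K : Type*} [Field K] [Fintype K] {m : ℕ} (hK : Fintype.card K = 3 ^ (2 * m + 1))
include hK

theorem card_two_part : ∃ o, Odd o ∧ Nat.card ↥(RG K m) = 8 * o := by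
  set q := 3 ^ (2 * m + 1) with hq
  have h8 : q % 8 = 3 := by
    rw [hq, pow_succ, pow_mul, Nat.mul_mod, Nat.pow_mod]
    norm_num
  obtain ⟨s, hs⟩ : ∃ s, q = 8 * s + 3 := ⟨q / 8, by omega⟩
  have h3q : q ^ 3 % 8 = 3 := by rw [Nat.pow_mod, h8]
  obtain ⟨t, ht⟩ : ∃ t, q ^ 3 = 8 * t + 3 := ⟨q ^ 3 / 8, by omega⟩
  refine ⟨(8 * t + 3) * ((4 * s + 1) * (2 * t + 1)), ?_, ?_⟩
  · exact (show Odd (8 * t + 3) from ⟨4 * t + 1, by ring⟩).mul
      ((show Odd (4 * s + 1) from ⟨2 * s, by ring⟩).mul ⟨t, by ring⟩)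
  · rw [card_ree hK, ← hq, ht, hs, show 8 * s + 3 - 1 = 2 * (4 * s + 1) by omega]
    ring

/-- The involution as an element of the group. -/
noncomputable def jG (hK : Fintype.card K = 3 ^ (2 * m + 1)) : ↥(RG K m) :=
  ⟨jR hK, (Subgroup.mem_inf.1 (jR_mem hK)).2⟩

/-- The embedding `Z₂ × PSL₂(q)` onto the centralizer of the involution. -/
theorem exists_E0 : ∃ E0 : Multiplicative (ZMod 2) × Matrix.ProjectiveSpecialLinearGroup (Fin 2) K →* ↥(RG K m),
    Function.Injective E0 ∧ E0 (Multiplicative.ofAdd 1, 1) = jG hK ∧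
    E0.range = Subgroup.centralizer {jG hK} := by
  obtain ⟨e, he⟩ := exists_centralizer_iso hK
  refine ⟨(Subgroup.subtype _).comp e.toMonoidHom, Subtype.val_injective.comp e.injective,
    Subtype.ext he, ?_⟩
  rw [MonoidHom.range_comp, MonoidHom.range_eq_top.2 e.surjective, ← MonoidHom.range_eq_map,
    Subgroup.range_subtype]
  rfl

/-- A Sylow 2-subgroup and its embedding. -/
theorem exists_sylow_two : ∃ (F : D8 →* ↥(RG K m)) (P : Sylow 2 ↥(RG K m))
    (E0 : Multiplicative (ZMod 2) × Matrix.ProjectiveSpecialLinearGroup (Fin 2) K →* ↥(RG K m)),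
    Function.Injective E0 ∧ E0.range = Subgroup.centralizer {jG hK} ∧
    (∀ d, F d = E0 (d.1, fV (three_eq_zero hK) d.2)) ∧ Function.Injective F ∧
    (P : Subgroup ↥(RG K m)) = F.range ∧ F d0 = jG hK := by
  obtain ⟨E0, hinj, hj, hr⟩ := exists_E0 hK
  let F : D8 →* ↥(RG K m) := E0.comp ((MonoidHom.id _).prodMap (fV (three_eq_zero hK)))
  have hFd : ∀ d : D8, F d = E0 (d.1, fV (three_eq_zero hK) d.2) := fun d => rfl
  have hFinj : Function.Injective F := fun a b h => by
    rw [hFd, hFd] at h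
    have h' := Prod.ext_iff.1 (hinj h)
    exact Prod.ext h'.1 (fV_injective (three_eq_zero hK) h'.2)
  have hc : Nat.card F.range = 8 := by
    rw [← Nat.card_congr (MonoidHom.ofInjective hFinj).toEquiv, Nat.card_eq_fintype_card]
    rfl
  have : Fact (Nat.Prime 2) := ⟨Nat.prime_two⟩
  have hp : IsPGroup 2 ↥F.range := IsPGroup.of_card (n := 3) (by rw [hc]; rfl)
  have hidx : ¬ 2 ∣ F.range.index := by
    obtain ⟨o, ho, hG⟩ := card_two_part hK
    have := F.range.card_mul_index
    rw [hc, hG, Nat.mul_right_inj (by norm_num)] at this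
    rw [this]; exact ho.not_two_dvd_nat
  refine ⟨F, hp.toSylow hidx, E0, hinj, hr, hFd, hFinj, rfl, ?_⟩
  rw [hFd]
  show E0 (Multiplicative.ofAdd 1, fV _ 1) = _
  rw [map_one (fV _)]; exact hj

theorem sylow_two_elementary (S : Sylow 2 ↥(RG K m)) : Nat.card S = 8 ∧ ∀ x ∈ S, x * x = 1 := by
  obtain ⟨F, P, E0, -, -, -, hFinj, hP, -⟩ := exists_sylow_two hK
  have : Fact (Nat.Prime 2) := ⟨Nat.prime_two⟩
  obtain ⟨g, hg⟩ := MulAction.exists_smul_eq ↥(RG K m) P S
  refine ⟨?_, fun x hx => ?_⟩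
  · rw [show Nat.card S = Nat.card ↥(S : Subgroup ↥(RG K m)) from rfl,
      Sylow.card_eq_multiplicity, ← Sylow.card_eq_multiplicity P, hP,
      ← Nat.card_congr (MonoidHom.ofInjective hFinj).toEquiv, Nat.card_eq_fintype_card]
    rfl
  · subst hg
    have hx' : x ∈ ((g • P : Sylow 2 ↥(RG K m)) : Subgroup ↥(RG K m)) := hx
    rw [Sylow.coe_subgroup_smul, Subgroup.mem_pointwise_smul_iff_inv_smul_mem, hP] at hx'
    obtain ⟨d, hd⟩ := hx'
    have h1 : (MulAut.conj g)⁻¹ • x * (MulAut.conj g)⁻¹ • x = 1 := by rw [← hd, ← map_mul, d8_sq, map_one]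
    rw [← smul_mul'] at h1
    calc x * x = (MulAut.conj g) • ((MulAut.conj g)⁻¹ • (x * x)) := (smul_inv_smul _ _).symm
      _ = 1 := by rw [h1, smul_one]

set_option maxHeartbeats 1600000 in
/-- The normaliser of a Sylow 2-subgroup. -/
theorem sylow_two_normalizer (hm : 1 ≤ m) : ∃ (F : D8 →* ↥(RG K m)) (P : Sylow 2 ↥(RG K m)),
    Function.Injective F ∧ (P : Subgroup ↥(RG K m)) = F.range ∧ F d0 = jG hK ∧
    Subgroup.centralizer ((P : Subgroup ↥(RG K m)) : Set ↥(RG K m)) = P ∧
    Nat.card ↥(Subgroup.normalizer ((P : Subgroup ↥(RG K m)) : Set ↥(RG K m))) = 168 ∧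
    ∀ d : D8, d ≠ 1 → ∃ g, g * jG hK * g⁻¹ = F d := by
  classical
  obtain ⟨F, P, E0, hE0, hr, hFd, hFinj, hP, hj⟩ := exists_sylow_two hK
  set h3 := three_eq_zero hK
  have : Fact (Nat.Prime 2) := ⟨Nat.prime_two⟩
  have hPc : Nat.card ↥(P : Subgroup ↥(RG K m)) = 8 := (sylow_two_elementary hK P).1
  have hFmem : ∀ d, F d ∈ (P : Subgroup ↥(RG K m)) := fun d => by rw [hP]; exact ⟨d, rfl⟩
  -- centraliser
  have hC : Subgroup.centralizer ((P : Subgroup ↥(RG K m)) : Set ↥(RG K m)) = P := by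
    refine le_antisymm (fun g hg => ?_) (fun g hg => ?_)
    · have hgc : g ∈ Subgroup.centralizer {jG hK} := Subgroup.mem_centralizer_singleton_iff.2
        (Subgroup.mem_centralizer_iff.1 hg _ (hj ▸ hFmem d0)).symm
      rw [← hr] at hgc
      obtain ⟨⟨a, p⟩, rfl⟩ := hgc
      have hcomm : ∀ v, p * fV h3 v = fV h3 v * p := fun v => by
        have := Subgroup.mem_centralizer_iff.1 hg _ (hFmem (1, v))
        rw [hFd, ← map_mul, ← map_mul] at this
        exact (congrArg Prod.snd (hE0 this)).symm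
      obtain ⟨v, hv⟩ := fV_selfCentralizing h3 (p := p)
        (by rw [← fV_w h3]; exact hcomm _) (by rw [← fV_m h3]; exact hcomm _)
      have := hFmem (a, v)
      rwa [hFd, hv] at this
    · rw [Subgroup.mem_centralizer_iff]
      intro y hy
      rw [hP] at hg
      rw [SetLike.mem_coe, hP] at hy
      obtain ⟨a, rfl⟩ := hg
      obtain ⟨b, rfl⟩ := hy
      rw [← map_mul, ← map_mul, mul_comm]
  set N := Subgroup.normalizer ((P : Subgroup ↥(RG K m)) : Set ↥(RG K m)) with hN
  -- the element of order three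
  set E : ↥(RG K m) := E0 (1, QuotientGroup.mk (sE K)) with hE
  have hEσ : ∀ d, E * F d = F (sigD d) * E := by
    obtain ⟨e1, e2⟩ := sE_conj h3
    have hfV : ∀ v : Multiplicative (ZMod 2) × Multiplicative (ZMod 2),
        QuotientGroup.mk (sE K) * fV h3 v = fV h3 (v.2, v.1 * v.2) * QuotientGroup.mk (sE K) := by
      have h2 := v4_cases
      intro v
      rcases h2 v with rfl | rfl | rfl | rfl
      · simp only [Prod.fst_one, Prod.snd_one, mul_one, Prod.mk_one_one, map_one, one_mul]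
      · rw [fV_w h3, mul_one, fV_m h3, ← QuotientGroup.mk_mul, e1, QuotientGroup.mk_mul]
      · rw [fV_m h3, one_mul, fV_wm h3, ← QuotientGroup.mk_mul, e2, QuotientGroup.mk_mul,
          QuotientGroup.mk_mul]
      · rw [d8_facts.2.2.2.2.2.2.1]
        show QuotientGroup.mk (sE K) * fV h3 _ = fV h3 (Multiplicative.ofAdd 1, 1) * _
        have hsq : fV h3 (1, Multiplicative.ofAdd 1) * fV h3 (1, Multiplicative.ofAdd 1) = 1 := by
          rw [← map_mul, d8_facts.2.2.2.2.2.2.2.1, map_one]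
        rw [fV_m h3] at hsq
        have E1 : ((QuotientGroup.mk (sE K)) : Matrix.ProjectiveSpecialLinearGroup (Fin 2) K) * QuotientGroup.mk sW =
            QuotientGroup.mk (sM h3) * QuotientGroup.mk (sE K) := by
          rw [← QuotientGroup.mk_mul, ← QuotientGroup.mk_mul, e1]
        have E2 : ((QuotientGroup.mk (sE K)) : Matrix.ProjectiveSpecialLinearGroup (Fin 2) K) * QuotientGroup.mk (sM h3) =
            QuotientGroup.mk sW * QuotientGroup.mk (sM h3) * QuotientGroup.mk (sE K) := by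
          rw [← QuotientGroup.mk_mul, ← QuotientGroup.mk_mul, ← QuotientGroup.mk_mul, e2]
        rw [fV_wm h3, fV_w h3, ← mul_assoc, E1, mul_assoc, E2, ← mul_assoc, ← mul_assoc]
        congr 1
        rw [show ((QuotientGroup.mk (sM h3) : Matrix.ProjectiveSpecialLinearGroup (Fin 2) K)) *
            QuotientGroup.mk sW = QuotientGroup.mk sW * QuotientGroup.mk (sM h3) by
          rw [← fV_w h3, ← fV_m h3, ← map_mul, ← map_mul, mul_comm], mul_assoc, hsq, mul_one]
    intro d
    rw [hFd, hFd, hE, ← map_mul, ← map_mul]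
    congr 1
    exact Prod.ext (by simp [sigD]) (hfV d.2)
  have hEN : E ∈ N := by
    rw [hN, Subgroup.mem_normalizer_iff]
    intro x
    constructor
    · intro hx
      rw [hP] at hx
      obtain ⟨d, rfl⟩ := hx
      rw [hEσ, mul_inv_cancel_right]
      exact hFmem _
    · intro hx
      rw [hP] at hx ⊢
      obtain ⟨d, hd⟩ := hx
      obtain ⟨d', rfl⟩ := d8_facts.2.2.2.2.2.2.2.2 d
      refine ⟨d', ?_⟩
      have := hEσ d'
      rw [hd, inv_mul_cancel_right] at this
      exact mul_left_cancel this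
  have hjN : ∀ n ∈ N, ∃ d, F d = n * jG hK * n⁻¹ := fun n hn => by
    have := (Subgroup.mem_normalizer_iff.1 hn (jG hK)).1 (hj ▸ hFmem d0)
    rwa [hP] at this
  -- the orbit of `j`
  letI act : MulAction ↥N ↥(RG K m) :=
    MulAction.compHom _ ((MulAut.conj : ↥(RG K m) →* MulAut ↥(RG K m)).comp N.subtype)
  have hact : ∀ (n : ↥N) x, n • x = (n : ↥(RG K m)) * x * (n : ↥(RG K m))⁻¹ := fun n x => rfl
  let O : Finset D8 := Finset.univ.filter fun d => F d ∈ MulAction.orbit ↥N (jG hK)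
  have hOc : O.card = Nat.card ↥(MulAction.orbit ↥N (jG hK)) := by
    rw [← Fintype.card_coe, ← Nat.card_eq_fintype_card]
    refine Nat.card_eq_of_bijective (fun d => ⟨F d.1, (Finset.mem_filter.1 d.2).2⟩) ⟨fun a b h =>
      Subtype.ext (hFinj (congrArg Subtype.val h)), ?_⟩
    rintro ⟨x, hx⟩
    obtain ⟨n, hn⟩ := hx
    obtain ⟨d, hd⟩ := hjN n.1 n.2
    have : F d = x := hd.trans ((hact n _).symm.trans hn)
    exact ⟨⟨d, Finset.mem_filter.2 ⟨Finset.mem_univ _, this ▸ ⟨n, hn⟩⟩⟩, Subtype.ext this⟩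
  have horb := Nat.card_congr (MulAction.orbitProdStabilizerEquivGroup ↥N (jG hK))
  rw [Nat.card_prod, ← hOc] at horb
  set T := MulAction.stabilizer ↥N (jG hK) with hT
  have hTmem : ∀ n : ↥N, n ∈ T ↔ (n : ↥(RG K m)) ∈ Subgroup.centralizer {jG hK} := fun n => by
    rw [hT, MulAction.mem_stabilizer_iff, hact, Subgroup.mem_centralizer_singleton_iff,
      mul_inv_eq_iff_eq_mul]
  have hPN : (P : Subgroup ↥(RG K m)) ≤ N := Subgroup.le_normalizer
  have h24 : 24 ∣ Nat.card T := by
    have h8 : 8 ∣ Nat.card T := by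
      rw [← hPc]
      refine Subgroup.card_dvd_of_injective
        (((P : Subgroup ↥(RG K m)).subtype.codRestrict N fun x => hPN x.2).codRestrict T fun x => ?_) ?_
      · rw [hTmem]
        show (x : ↥(RG K m)) ∈ _
        refine Subgroup.mem_centralizer_singleton_iff.2 ?_
        have hx : (x : ↥(RG K m)) ∈ Subgroup.centralizer ((P : Subgroup ↥(RG K m)) : Set ↥(RG K m)) := by
          rw [hC]; exact x.2
        exact (Subgroup.mem_centralizer_iff.1 hx _ (hj ▸ hFmem d0)).symm
      · intro a b h; exact Subtype.ext (congrArg (fun z : ↥T => ((z : ↥N) : ↥(RG K m))) h)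
    have h3' : 3 ∣ Nat.card T := by
      have hET : (⟨E, hEN⟩ : ↥N) ∈ T := (hTmem _).2 (hr ▸ ⟨_, rfl⟩)
      have hne : E ≠ 1 := fun h => by
        have := hEσ (1, (Multiplicative.ofAdd 1, 1))
        rw [h, one_mul, mul_one] at this
        exact d8_facts.1 (hFinj this).symm
      have h3 : E ^ 3 = 1 := by
        rw [hE, ← map_pow, Prod.pow_mk, one_pow, ← QuotientGroup.mk_pow,
          show sE K ^ 3 = 1 from ?_, QuotientGroup.mk_one]
        · exact map_one E0
        apply Subtype.ext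
        show !![(0 : K), 1; -1, -1] ^ 3 = 1
        rw [pow_succ, pow_two]
        ext i j
        fin_cases i <;> fin_cases j <;> simp [Matrix.mul_apply, Fin.sum_univ_two]
      have : Fact (Nat.Prime 3) := ⟨Nat.prime_three⟩
      have ho : orderOf (⟨⟨E, hEN⟩, hET⟩ : ↥T) = 3 := by
        rw [← Subgroup.orderOf_coe, ← Subgroup.orderOf_coe]
        exact orderOf_eq_prime h3 hne
      exact ho ▸ orderOf_dvd_natCard _
    exact Nat.Coprime.mul_dvd_of_dvd_of_dvd (by norm_num : Nat.Coprime 8 3) h8 h3'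
  have hNdvd : Nat.card N ∣ Nat.card ↥(RG K m) := N.card_subgroup_dvd_card
  obtain ⟨o, ho, hG⟩ := card_two_part hK
  have hodd : Odd O.card := by
    rw [← Nat.not_even_iff_odd]
    intro hev
    have h8T : 8 ∣ Nat.card T := dvd_trans ⟨3, rfl⟩ h24
    have : 16 ∣ 8 * o := hG ▸ dvd_trans (horb ▸ Nat.mul_dvd_mul hev.two_dvd h8T) hNdvd
    obtain ⟨c, hc⟩ := this
    exact ho.not_two_dvd_nat ⟨c, by omega⟩
  have hO := orbit_dichotomy O
    (Finset.mem_filter.2 ⟨Finset.mem_univ _, hj ▸ MulAction.mem_orbit_self _⟩)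
    (fun h => by
      obtain ⟨n, hn⟩ := (Finset.mem_filter.1 h).2
      simp only [hact, map_one, conj_eq_one_iff] at hn
      rw [← hj, ← map_one F] at hn
      exact d8_facts.2.2.2.2.1 (hFinj hn))
    (fun d hd => by
      obtain ⟨n, hn⟩ := (Finset.mem_filter.1 hd).2
      refine Finset.mem_filter.2 ⟨Finset.mem_univ _, ⟨⟨E, hEN⟩ * n, ?_⟩⟩
      simp only [mul_smul, hn]
      rw [hact, hEσ, mul_inv_cancel_right])
    hodd
  have h7 : O.card = 7 := by
    rcases hO with h1 | h7
    · exfalso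
      -- `j` would be central in `N`, so outside the commutator subgroup
      have hNC : N ≤ E0.range := fun n hn => by
        rw [hr, Subgroup.mem_centralizer_singleton_iff]
        obtain ⟨d, hd⟩ := hjN n hn
        have : d ∈ O := Finset.mem_filter.2 ⟨Finset.mem_univ _, ⟨⟨n, hn⟩, hd.symm⟩⟩
        rw [h1, Finset.mem_singleton] at this
        rw [this, hj] at hd
        exact mul_inv_eq_iff_eq_mul.1 hd.symm
      have hcop : Nat.Coprime (Nat.card ↥(P : Subgroup ↥(RG K m))) (P : Subgroup ↥(RG K m)).index := by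
        rw [hPc, show (8 : ℕ) = 2 ^ 3 from rfl]
        exact Nat.Coprime.pow_left _ (Nat.prime_two.coprime_iff_not_dvd.2 P.not_dvd_index)
      have hfoc := H5.commutator_inf_eq_focalSubgroup_of_hall (P : Subgroup ↥(RG K m)) hcop
      have hle : Subgroup.focalSubgroup (P : Subgroup ↥(RG K m)) ≤ ⁅(P : Subgroup ↥(RG K m)), N⁆ :=
        H5.focalSubgroup_le_of_control (by
          intro x hx g hgx
          have : IsMulCommutative ↥(P : Subgroup ↥(RG K m)) := by
            refine ⟨⟨fun a b => Subtype.ext ?_⟩⟩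
            have ha : (a : ↥(RG K m)) ∈ Subgroup.centralizer ((P : Subgroup ↥(RG K m)) : Set ↥(RG K m)) := by
              rw [hC]; exact a.2
            exact (Subgroup.mem_centralizer_iff.1 ha _ b.2).symm
          obtain ⟨n, hn, e⟩ := P.conj_eq_normalizer_conj_of_mem x g⁻¹ hx (by rwa [inv_inv])
          rw [inv_inv] at e
          exact ⟨n⁻¹, inv_mem hn, by rw [inv_inv]; exact e.symm⟩)
      have hker : ⁅(P : Subgroup ↥(RG K m)), N⁆ ≤
          ((MonoidHom.fst _ _).ker).map E0 := by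
        rw [Subgroup.commutator_le]
        intro x hx n hn
        obtain ⟨a, rfl⟩ := hNC (hPN hx)
        obtain ⟨b, rfl⟩ := hNC hn
        refine ⟨a * b * a⁻¹ * b⁻¹, ?_, by simp [commutatorElement_def]⟩
        rw [SetLike.mem_coe, MonoidHom.mem_ker, map_mul, map_mul, map_mul, map_inv, map_inv,
          mul_inv_eq_one, mul_inv_eq_iff_eq_mul]
        exact mul_comm _ _
      have hjP : jG hK ∈ commutator ↥(RG K m) ⊓ (P : Subgroup ↥(RG K m)) :=
        Subgroup.mem_inf.2 ⟨by rw [perfect hK hm]; trivial, hj ▸ hFmem d0⟩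
      rw [hfoc] at hjP
      obtain ⟨z, hz, e⟩ := hker (hle hjP)
      rw [← hj, hFd] at e
      have := hE0 e
      rw [SetLike.mem_coe, MonoidHom.mem_ker, this] at hz
      exact d8_facts.2.2.2.2.2.1 hz
    · exact h7
  -- all of the nontrivial elements are in the orbit
  have hOall : O = Finset.univ.erase 1 := by
    refine Finset.eq_of_subset_of_card_le (fun d hd => Finset.mem_erase.2 ⟨?_, Finset.mem_univ _⟩)
      (by rw [h7, Finset.card_erase_of_mem (Finset.mem_univ _)]; rfl)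
    rintro rfl
    obtain ⟨n, hn⟩ := (Finset.mem_filter.1 hd).2
    simp only [hact, map_one, conj_eq_one_iff] at hn
    rw [← hj, ← map_one F] at hn
    exact d8_facts.2.2.2.2.1 (hFinj hn)
  have hclass : ∀ d : D8, d ≠ 1 → ∃ g, g * jG hK * g⁻¹ = F d := fun d hd => by
    have : d ∈ O := by rw [hOall]; exact Finset.mem_erase.2 ⟨hd, Finset.mem_univ _⟩
    obtain ⟨n, hn⟩ := (Finset.mem_filter.1 this).2
    exact ⟨n, (hact n _).symm.trans hn⟩
  -- the stabiliser has order at most 48
  have hT48 : Nat.card T ≤ 48 := by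
    let V : Finset ↥(RG K m) := (Finset.univ : Finset (Multiplicative (ZMod 2) × Multiplicative (ZMod 2))).image
      fun v => F (1, v)
    let V1 : Finset ↥(RG K m) := V.erase 1
    have hVc : V1.card ≤ 3 := by
      have h1 : (1 : ↥(RG K m)) ∈ V :=
        Finset.mem_image.2 ⟨1, Finset.mem_univ _, map_one F⟩
      rw [Finset.card_erase_of_mem h1, Finset.card_image_of_injective]
      · rfl
      · intro a b h; exact (Prod.ext_iff.1 (hFinj h)).2
    let w : ↥(RG K m) := F (1, (Multiplicative.ofAdd 1, 1))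
    let μ : ↥(RG K m) := F (1, (1, Multiplicative.ofAdd 1))
    have hTV : ∀ n : ↥T, ∀ v, v ≠ 1 →
        ((n : ↥N) : ↥(RG K m)) * F (1, v) * ((n : ↥N) : ↥(RG K m))⁻¹ ∈ V1 := by
      intro n v hv
      have hn := (hTmem n.1).1 n.2
      rw [← hr] at hn
      obtain ⟨⟨a, p⟩, hap⟩ := hn
      obtain ⟨d, hd⟩ : ∃ d, F d = ((n : ↥N) : ↥(RG K m)) * F (1, v) * ((n : ↥N) : ↥(RG K m))⁻¹ := by
        have := (Subgroup.mem_normalizer_iff.1 n.1.2 (F (1, v))).1 (hFmem _)
        rwa [hP] at this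
      have hd1 : d.1 = 1 := by
        have h := hd
        rw [← hap, hFd, hFd, ← map_inv, ← map_mul, ← map_mul] at h
        have := congrArg Prod.fst (hE0 h)
        simpa using this
      refine Finset.mem_erase.2 ⟨?_, Finset.mem_image.2 ⟨d.2, Finset.mem_univ _, ?_⟩⟩
      · rw [ne_eq, conj_eq_one_iff, ← map_one F]
        exact fun h => hv (Prod.ext_iff.1 (hFinj h)).2
      · rw [← hd, show ((1 : Multiplicative (ZMod 2)), d.2) = d from Prod.ext hd1.symm rfl]
    let ψ : ↥T → ↥(RG K m) × ↥(RG K m) := fun n =>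
      (((n : ↥N) : ↥(RG K m)) * w * ((n : ↥N) : ↥(RG K m))⁻¹,
        ((n : ↥N) : ↥(RG K m)) * μ * ((n : ↥N) : ↥(RG K m))⁻¹)
    let tgt : Finset (↥(RG K m) × ↥(RG K m)) := V1.offDiag
    have hψ : ∀ n, ψ n ∈ tgt := fun n => Finset.mem_offDiag.2 ⟨hTV n _ d8_facts.2.1, hTV n _ d8_facts.2.2.1,
      fun h => d8_facts.2.2.2.1 (hFinj (mul_left_cancel (mul_right_cancel h)))⟩
    have hfib : ∀ b ∈ (Finset.univ.image ψ : Finset _),
        ((Finset.univ : Finset ↥T).filter fun n => ψ n = b).card ≤ 8 := by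
      intro b hb
      obtain ⟨n0, -, rfl⟩ := Finset.mem_image.1 hb
      refine le_trans (Finset.card_le_card_of_injOn
        (fun n => ((n0 : ↥N) : ↥(RG K m))⁻¹ * ((n : ↥N) : ↥(RG K m)))
        (t := Finset.univ.image F) ?_ ?_) (Finset.card_image_le.trans (le_of_eq (Finset.card_univ.trans d8_card)))
      · intro n hn
        have e := (Finset.mem_filter.1 hn).2
        have e1 := congrArg Prod.fst e
        have e2 := congrArg Prod.snd e
        set x := ((n0 : ↥N) : ↥(RG K m))⁻¹ * ((n : ↥N) : ↥(RG K m)) with hx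
        have hxw : x * w = w * x := by
          have : ((n : ↥N) : ↥(RG K m)) * w * ((n : ↥N) : ↥(RG K m))⁻¹ =
              ((n0 : ↥N) : ↥(RG K m)) * w * ((n0 : ↥N) : ↥(RG K m))⁻¹ := e1
          rw [mul_inv_eq_iff_eq_mul] at this
          rw [hx, mul_assoc, this]; group
        have hxμ : x * μ = μ * x := by
          have : ((n : ↥N) : ↥(RG K m)) * μ * ((n : ↥N) : ↥(RG K m))⁻¹ =
              ((n0 : ↥N) : ↥(RG K m)) * μ * ((n0 : ↥N) : ↥(RG K m))⁻¹ := e2
          rw [mul_inv_eq_iff_eq_mul] at this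
          rw [hx, mul_assoc, this]; group
        have hxC : x ∈ Subgroup.centralizer {jG hK} :=
          mul_mem (inv_mem ((hTmem _).1 n0.2)) ((hTmem _).1 n.2)
        rw [← hr] at hxC
        obtain ⟨⟨a, p⟩, hap⟩ := hxC
        simp only [w, μ] at hxw hxμ
        rw [← hap, hFd, ← map_mul, ← map_mul] at hxw hxμ
        obtain ⟨v, hv⟩ := fV_selfCentralizing h3 (p := p)
          (by rw [← fV_w h3]; exact congrArg Prod.snd (hE0 hxw))
          (by rw [← fV_m h3]; exact congrArg Prod.snd (hE0 hxμ))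
        refine Finset.mem_coe.2 (Finset.mem_image.2 ⟨(a, v), Finset.mem_univ _, ?_⟩)
        rw [hFd, hv]; exact hap
      · intro a _ b _ h
        exact Subtype.ext (Subtype.ext (mul_left_cancel h))
    have hle := Finset.card_le_mul_card_image (f := ψ) (Finset.univ : Finset ↥T) 8 hfib
    have h6 : (Finset.univ.image ψ).card ≤ 6 := by
      refine (Finset.card_le_card (show Finset.univ.image ψ ⊆ tgt from fun x hx => ?_)).trans ?_
      · obtain ⟨n, -, rfl⟩ := Finset.mem_image.1 hx; exact hψ n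
      · rw [Finset.offDiag_card]
        have : V1.card = 0 ∨ V1.card = 1 ∨ V1.card = 2 ∨ V1.card = 3 := by omega
        rcases this with h | h | h | h <;> rw [h] <;> norm_num
    rw [Finset.card_univ, ← Nat.card_eq_fintype_card] at hle
    omega
  have hT24 : Nat.card T = 24 := by
    obtain ⟨c, hc⟩ := h24
    have hc2 : c ≤ 2 := by omega
    have : 0 < Nat.card T := Nat.card_pos
    have hne : c ≠ 2 := by
      intro hc'
      have h16 : 16 ∣ O.card * Nat.card T := dvd_trans ⟨3, by omega⟩ (dvd_mul_left _ _)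
      have : 16 ∣ 8 * o := hG ▸ dvd_trans (horb ▸ h16) hNdvd
      obtain ⟨d, hd⟩ := this
      exact ho.not_two_dvd_nat ⟨d, by omega⟩
    omega
  refine ⟨F, P, hFinj, hP, hj, hC, ?_, hclass⟩
  rw [← horb, h7, hT24]

/-- Every involution is conjugate to `j`. -/
theorem involution_conj (hm : 1 ≤ m) {x : ↥(RG K m)} (h1 : x ≠ 1) (h2 : x * x = 1) :
    ∃ g, g * jG hK * g⁻¹ = x := by
  obtain ⟨F, P, hFinj, hP, -, -, -, hclass⟩ := sylow_two_normalizer hK hm
  have : Fact (Nat.Prime 2) := ⟨Nat.prime_two⟩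
  have hp : IsPGroup 2 ↥(Subgroup.zpowers x) := IsPGroup.of_card (n := 1) (by
    rw [Nat.card_zpowers, pow_one]; exact orderOf_eq_prime (by rw [sq, h2]) h1)
  obtain ⟨Q, hQ⟩ := hp.exists_le_sylow
  obtain ⟨g, rfl⟩ := MulAction.exists_smul_eq ↥(RG K m) P Q
  have hx := hQ (Subgroup.mem_zpowers x)
  rw [Sylow.coe_subgroup_smul, Subgroup.mem_pointwise_smul_iff_inv_smul_mem, hP] at hx
  obtain ⟨d, hd⟩ := hx
  have hd1 : d ≠ 1 := by
    rintro rfl
    apply h1
    rw [map_one] at hd
    calc x = MulAut.conj g • ((MulAut.conj g)⁻¹ • x) := (smul_inv_smul _ _).symm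
      _ = 1 := by rw [← hd, smul_one]
  obtain ⟨k, hk⟩ := hclass d hd1
  refine ⟨g * k, ?_⟩
  rw [hd, MulAut.smul_def, MulAut.inv_def, MulAut.conj_symm_apply] at hk
  calc g * k * jG hK * (g * k)⁻¹ = g * (k * jG hK * k⁻¹) * g⁻¹ := by group
    _ = x := by rw [hk]; group

theorem sylow_two_facts (hm : 1 ≤ m) (S : Sylow 2 ↥(RG K m)) :
    Subgroup.centralizer ((S : Subgroup ↥(RG K m)) : Set ↥(RG K m)) = S ∧
      Nat.card (Subgroup.normalizer ((S : Subgroup ↥(RG K m)) : Set ↥(RG K m))) = 168 := by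
  obtain ⟨F, P, hFinj, hP, -, hC, hN, -⟩ := sylow_two_normalizer hK hm
  have : Fact (Nat.Prime 2) := ⟨Nat.prime_two⟩
  obtain ⟨g, rfl⟩ := MulAction.exists_smul_eq ↥(RG K m) P S
  have hcoe : (((g • P : Sylow 2 ↥(RG K m)) : Subgroup ↥(RG K m))) =
      (P : Subgroup ↥(RG K m)).map (MulAut.conj g).toMonoidHom := Sylow.coe_subgroup_smul
  constructor
  · rw [hcoe]
    ext y
    constructor
    · intro hy
      refine ⟨g⁻¹ * y * g, ?_, by simp [mul_assoc]⟩
      rw [SetLike.mem_coe, ← hC, Subgroup.mem_centralizer_iff]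
      intro z hz
      have := Subgroup.mem_centralizer_iff.1 hy (g * z * g⁻¹) ⟨z, hz, rfl⟩
      apply mul_left_cancel (a := g)
      apply mul_right_cancel (b := g⁻¹)
      calc g * (z * (g⁻¹ * y * g)) * g⁻¹ = g * z * g⁻¹ * y := by group
        _ = y * (g * z * g⁻¹) := this
        _ = _ := by group
    · rintro ⟨w, hw, rfl⟩
      rw [Subgroup.mem_centralizer_iff]
      rintro _ ⟨z, hz, rfl⟩
      rw [SetLike.mem_coe, ← hC] at hw
      simp only [MulEquiv.coe_toMonoidHom]
      rw [← map_mul, ← map_mul, Subgroup.mem_centralizer_iff.1 hw z hz]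
  · rw [hcoe, ← Subgroup.map_equiv_normalizer_eq, Subgroup.card_map_of_injective (MulEquiv.injective _), hN]

end H52.Ree2
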