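import Cfsg.Agent.H52.ReeOrder
import Cfsg.Agent.H52.TwistCount
import Cfsg.Agent.H52.Order1512
import Cfsg.Agent.H5.Fusion
import Cfsg.Agent.H62.Order504

/-!
`²G₂(3)′ ≅ PSL₂(8)`: transfer gives a normal subgroup of index three, which is simple of order `504`.
-/

set_option autoImplicit false
set_option linter.unusedSectionVars false

namespace H52.Ree2

open Cfsg.Lie H53
open H54.Ree (uWord uRoot mulRight six mulRightCert)
open scoped commutatorElement

variable {K : Type*} [Field K]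

theorem uWord_step (h3 : (3 : K) = 0) (p : Fin 6 → K) (i : Fin 6) (s : K) :
    ∃ p' : Fin 6 → K, wordRt chevG2 (uWord p) * rt chevG2 (uRoot i) s = wordRt chevG2 (uWord p') ∧
      p' 0 = p 0 + (if i = 0 then s else 0) ∧ p' 1 = p 1 + (if i = 1 then s else 0) ∧
      p' 2 = p 2 + (if i = 2 then s else 0) + (if i = 0 then p 1 * s else 0) := by
  have h3' : ((3 : ℕ) : K) = 0 := by exact_mod_cast h3
  let v : ℕ → K := fun k => if h : k < 6 then p ⟨k, h⟩ else s
  have hp : (fun i : Fin 6 => H54.WR.evalP v (six i)) = p := by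
    funext j; simp [six, H54.WR.evalP_var, v]
  have := H54.WR.wordMat_eq v chevG2 h3' _ _ (List.all_eq_true.1 mulRightCert i (List.mem_finRange i))
  rw [List.map_append, H54.Ree.uWordP_eval, H54.Ree.uWordP_eval, H54.Ree.wordMat_append, hp] at this
  refine ⟨fun j => H54.WR.evalP v (mulRight i j), ?_, ?_⟩
  · apply Units.ext
    rw [Units.val_mul, checkedG2.coe_wordRt, checkedG2.coe_wordRt, checkedG2.coe_rt]
    refine Eq.trans ?_ this
    simp [ChevalleyDatum.wordMat, H54.WR.evalP_var, v]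
  · fin_cases i <;>
      simp [mulRight, H54.WR.evalP_var, H54.WR.evalP_append, H54.WR.eval_mul _ h3', v]

/-- The character of `U¹` behind the transfer: `c = p₂ + p₀ p₁`. -/
def Good (c : K) (g : GL chevG2.Idx K) : Prop :=
  ∃ p : Fin 6 → K, g = wordRt chevG2 (uWord p) ∧ p 0 = p 1 ∧ p 2 + p 0 * p 1 = c

theorem good_mul (h3 : (3 : K) = 0) {a b : K} {g h : GL chevG2.Idx K} (hg : Good a g) (hh : Good b h) :
    Good (a + b) (g * h) := by
  obtain ⟨p, rfl, hp, rfl⟩ := hg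
  obtain ⟨q, rfl, hq, rfl⟩ := hh
  obtain ⟨r1, e1, a1, b1, c1⟩ := uWord_step h3 p 0 (q 0)
  obtain ⟨r2, e2, a2, b2, c2⟩ := uWord_step h3 r1 1 (q 1)
  obtain ⟨r3, e3, a3, b3, c3⟩ := uWord_step h3 r2 2 (q 2)
  obtain ⟨r4, e4, a4, b4, c4⟩ := uWord_step h3 r3 3 (q 3)
  obtain ⟨r5, e5, a5, b5, c5⟩ := uWord_step h3 r4 4 (q 4)
  obtain ⟨r6, e6, a6, b6, c6⟩ := uWord_step h3 r5 5 (q 5)
  simp only [Fin.reduceEq, if_false, if_true, add_zero] at a1 b1 c1 a2 b2 c2 a3 b3 c3 a4 b4 c4 a5 b5 c5 a6 b6 c6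
  refine ⟨r6, ?_, ?_, ?_⟩
  · rw [← e6, ← e5, ← e4, ← e3, ← e2, ← e1]
    simp only [uWord, wordRt, List.map_cons, List.map_nil, List.prod_cons, List.prod_nil, mul_one,
      mul_assoc]
    rfl
  · rw [a6, a5, a4, a3, a2, a1, b6, b5, b4, b3, b2, b1, hp, hq]
  · rw [c6, c5, c4, c3, c2, c1, a6, a5, a4, a3, a2, a1, b6, b5, b4, b3, b2, b1, hp, hq]
    linear_combination (p 1 * q 1) * h3

theorem good_unique (h3 : (3 : K) = 0) {a b : K} {g : GL chevG2.Idx K} (hg : Good a g) (hg' : Good b g) :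
    a = b := by
  obtain ⟨p, rfl, -, rfl⟩ := hg
  obtain ⟨q, e, -, rfl⟩ := hg'
  rw [(uWord_eq_iff h3 p q).1 e]

theorem good_one (h3 : (3 : K) = 0) : Good (0 : K) (1 : GL chevG2.Idx K) :=
  ⟨fun _ => 0, Units.ext (by rw [checkedG2.coe_wordRt, H54.Ree.wordP_uWord_zero h3, Units.val_one]),
    rfl, by simp⟩

theorem uWord_ree (t u v : K) : reeWordU 1 t u v =
    uWord ![t ^ 1, t, t ^ (1 + 1) + u ^ 1, t ^ (2 * 1 + 1) + v ^ 1, u, v] := rfl

variable [Fintype K] (hK : Fintype.card K = 3)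
include hK

theorem card_K' : Fintype.card K = 3 ^ (2 * 0 + 1) := by rw [hK]; norm_num

theorem good_of_mem {g : GL chevG2.Idx K}
    (hg : g ∈ chevG2.posUnipotent K ⊓ twistedG2 K 1) : ∃ c, Good c g := by
  obtain ⟨t, u, v, hg'⟩ := (U_iff (m := 0) (card_K' hK) g).1 hg
  rw [pow_zero, uWord_ree] at hg'
  exact ⟨_, _, hg', by simp, rfl⟩

theorem good_conj {g k : GL chevG2.Idx K} {c : K} (hc : Good c g)
    (hk : k ∈ chevG2.borelSubgroup K ⊓ twistedG2 K 1) : Good c (k * g * k⁻¹) := by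
  have h3 := three_eq_zero (m := 0) (card_K' hK)
  obtain ⟨τ, hT⟩ := exists_hyp (m := 0) (card_K' hK)
  obtain ⟨hkB, hkG⟩ := Subgroup.mem_inf.1 hk
  let k' : ↥(chevG2.group K) := ⟨k, twisted_le (m := 0) (card_K' hK) hkG⟩
  obtain ⟨u, hu, huG, h, hh, hhG, e⟩ := TwistData.split_B hT
    (show k' ∈ (grpSys weylForG2 K).B from (mem_borel_iff checkedG2 weylForG2 k').1 hkB)
    (show k' ∈ G1 K 0 from hkG)
  have ek : k = (u : GL chevG2.Idx K) * (h : GL chevG2.Idx K) := congrArg Subtype.val e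
  have huV : (u : GL chevG2.Idx K) ∈ chevG2.posUnipotent K ⊓ twistedG2 K 1 :=
    Subgroup.mem_inf.2 ⟨(mem_pos_iff checkedG2 weylForG2 u).2 hu, Subgroup.mem_subgroupOf.1 huG⟩
  have hhG' : (h : GL chevG2.Idx K) ∈ twistedG2 K 1 := Subgroup.mem_subgroupOf.1 hhG
  -- the torus element
  obtain ⟨T, hT'⟩ := H54.Ree.diagonal_le_torus ((mem_diag_iff checkedG2 weylForG2 h).2 hh)
  have hT2 : (T.2 : K) = (T.1 : K) ^ 3 := by
    have h' : H54.Ree.torus T ∈ twistedG2 K (3 ^ 0) := by rw [hT']; exact hhG'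
    rw [H54.Ree.mem_twisted_snd (card_K' hK) h', H54.Ree.frob_apply]
    norm_num
  have hsq : (T.1 : K) ^ 2 = 1 := by
    have := FiniteField.pow_card_sub_one_eq_one (T.1 : K) (Units.ne_zero _)
    rwa [hK] at this
  have h4 : (T.1 : K) ^ 3 = T.1 := by linear_combination (T.1 : K) * hsq
  have h0 : H54.Ree.chi T.1 T.2 (uRoot 0) = T.1 := by
    simp [H54.Ree.chi, uRoot, g2a, H54.Ree.coefA, H54.Ree.coefB]
  have h1 : H54.Ree.chi T.1 T.2 (uRoot 1) = T.2 := by
    simp [H54.Ree.chi, uRoot, g2b, H54.Ree.coefA, H54.Ree.coefB]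
  have h2 : H54.Ree.chi T.1 T.2 (uRoot 2) = T.1 * T.2 := by
    simp [H54.Ree.chi, uRoot, g2ab, H54.Ree.coefA, H54.Ree.coefB]
  obtain ⟨p, rfl, hp, rfl⟩ := hc
  have hconj : Good (p 2 + p 0 * p 1)
      ((h : GL chevG2.Idx K) * wordRt chevG2 (uWord p) * (h : GL chevG2.Idx K)⁻¹) := by
    refine ⟨fun i => (H54.Ree.chi T.1 T.2 (uRoot i) : K) * p i, ?_, ?_, ?_⟩
    · apply Units.ext
      rw [Units.val_mul, Units.val_mul, checkedG2.coe_wordRt, checkedG2.coe_wordRt, ← hT', ← map_inv]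
      exact H54.Ree.torus_conj_uWord T p
    · show ((H54.Ree.chi T.1 T.2 (uRoot 0) : Kˣ) : K) * p 0 =
        ((H54.Ree.chi T.1 T.2 (uRoot 1) : Kˣ) : K) * p 1
      rw [h0, h1, hT2, h4, hp]
    · show ((H54.Ree.chi T.1 T.2 (uRoot 2) : Kˣ) : K) * p 2 +
        ((H54.Ree.chi T.1 T.2 (uRoot 0) : Kˣ) : K) * p 0 *
        (((H54.Ree.chi T.1 T.2 (uRoot 1) : Kˣ) : K) * p 1) = _
      rw [h0, h1, h2, Units.val_mul, hT2, h4]
      linear_combination (p 2 + p 0 * p 1) * hsq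
  obtain ⟨a, ha⟩ := good_of_mem hK huV
  obtain ⟨b, hb⟩ := good_of_mem hK (inv_mem huV)
  have hab : a + b = 0 := good_unique h3 (by simpa using good_mul h3 ha hb) (good_one h3)
  have := good_mul h3 (good_mul h3 ha hconj) hb
  rw [show a + (p 2 + p 0 * p 1) + b = p 2 + p 0 * p 1 by linear_combination hab] at this
  rw [ek]
  simpa [mul_assoc] using this

theorem U_fusion {x g : GL chevG2.Idx K} (hx : x ∈ chevG2.posUnipotent K ⊓ twistedG2 K 1)
    (hg : g ∈ twistedG2 K 1) (hgx : g * x * g⁻¹ ∈ chevG2.posUnipotent K) :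
    x = 1 ∨ g ∈ chevG2.borelSubgroup K := by
  have hK' := card_K' hK
  obtain ⟨τ, hT⟩ := exists_hyp (m := 0) hK'
  let g' : ↥(chevG2.group K) := ⟨g, twisted_le (m := 0) hK' hg⟩
  let x' : ↥(chevG2.group K) := ⟨x, twisted_le (m := 0) hK' (Subgroup.mem_inf.1 hx).2⟩
  have hg' : g' ∈ G1 K 0 := hg
  obtain ⟨b, hb, w, hw, π, hπ, u, hu, e⟩ := RootGroupSys.exists_normal_form hT.ax g'
  have hτ := hT.G1_fix g' hg'
  rw [e, map_mul, map_mul] at hτ
  obtain ⟨h1, -⟩ := RootGroupSys.normal_form_unique hT.ax hT.sep (TwistData.tau_N hT hw) hw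
    (TwistData.tau_acts hT hw hπ) hπ (TwistData.tau_B hT hb) hb (TwistCount.tau_Uinv hT hu) hu hτ
  set T := twistData weylForG2 spec τ (G1 K 0) (mRep K) with hTdef
  have hππ : T.ρ * π * T.ρ⁻¹ = π := by
    have := RootGroupSys.acts_unique hT.ax hT.sep
      (RootGroupSys.acts_mul (TwistData.tau_acts hT hw hπ) (RootGroupSys.acts_H hT.ax h1))
      (show T.S.Acts (T.τ w * ((T.τ w)⁻¹ * w)) π by rw [mul_inv_cancel_left]; exact hπ)
    simpa using this
  have hc : T.Comm π := fun r => by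
    conv_rhs => rw [← hππ]
    simp
  have hW : π ∈ Subgroup.zpowers (spec.wperm weylForG2 0) := by
    have h := TwistCount.mem_W1_of_comm hT hπ.1 hc
    rwa [TwistData.W1, show Set.range T.w = {spec.wperm weylForG2 0} from Set.range_unique,
      ← Subgroup.zpowers_eq_closure] at h
  have hsq : spec.wperm weylForG2 0 * spec.wperm weylForG2 0 = 1 :=
    Equiv.ext fun r => hT.w_sq 0 r
  obtain ⟨n, hn⟩ := Subgroup.mem_zpowers_iff.1 hW
  rcases Int.even_or_odd n with ⟨j, hj⟩ | ⟨j, hj⟩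
  · right
    have h2 : π = 1 := by
      rw [← hn, hj, ← two_mul, zpow_mul, zpow_ofNat, sq, hsq, one_zpow]
    subst h2
    have hwH := RootGroupSys.mem_H_of_acts_one hT.ax hT.sep hw hπ
    exact (mem_borel_iff checkedG2 weylForG2 g').2 (e ▸ mul_mem (mul_mem hb
      (RootGroupSys.H_le_B hwH)) (RootGroupSys.Uplus_le_B (RootGroupSys.Uinv_le_Uplus _ hu)))
  · left
    have h2 : π = spec.wperm weylForG2 0 := by
      rw [← hn, hj, zpow_add, zpow_mul, zpow_ofNat, sq, hsq, one_zpow, one_mul, zpow_one]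
    have hx' : x' ∈ (grpSys weylForG2 K).Uplus :=
      (mem_pos_iff checkedG2 weylForG2 x').1 (Subgroup.mem_inf.1 hx).1
    have hu' := RootGroupSys.Uinv_le_Uplus (S := grpSys weylForG2 K) _ hu
    have hy : u * x' * u⁻¹ ∈ (grpSys weylForG2 K).Uinv π := by
      rw [h2]; exact Uplus_le 0 (mul_mem (mul_mem hu' hx') (inv_mem hu'))
    have hin : w * (u * x' * u⁻¹) * w⁻¹ ∈ T.S.B ⊓ T.S.Uminus := by
      refine Subgroup.mem_inf.2 ⟨?_, RootGroupSys.conj_Uinv hπ hy⟩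
      rw [show w * (u * x' * u⁻¹) * w⁻¹ = b⁻¹ * (g' * x' * g'⁻¹) * b by rw [e]; group]
      exact mul_mem (mul_mem (inv_mem hb) (RootGroupSys.Uplus_le_B
        ((mem_pos_iff checkedG2 weylForG2 (g' * x' * g'⁻¹)).1 hgx))) hb
    rw [hT.sep.B_V, Subgroup.mem_bot, mul_inv_eq_one, mul_eq_left, mul_inv_eq_one, mul_eq_left] at hin
    exact congrArg Subtype.val hin

theorem derived_ne_top : commutator ↥(twistedG2 K 1) ≠ ⊤ := by
  have hK' := card_K' hK
  have h3 := three_eq_zero (m := 0) hK'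
  set G := twistedG2 K 1 with hG
  set U := (chevG2.posUnipotent K ⊓ G).subgroupOf G with hU
  set B := (chevG2.borelSubgroup K ⊓ G).subgroupOf G with hB
  have hUc : Nat.card U = 27 := by
    rw [hU, Nat.card_congr (Subgroup.subgroupOfEquivOfLe inf_le_right).toEquiv]
    exact (card_U (m := 0) hK').trans (by norm_num)
  have hGc : Nat.card G = 1512 := (card_ree (m := 0) hK').trans (by norm_num)
  have hidx : U.index = 56 := by
    have := U.card_mul_index
    rw [hUc, hGc] at this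
    omega
  have hfoc := H5.commutator_inf_eq_focalSubgroup_of_hall U (by rw [hUc, hidx]; decide +kernel)
  have hctrl := H5.focalSubgroup_le_of_control (H := U) (K := B) (by
    intro x hx g hgx
    obtain ⟨hx1, hx2⟩ := Subgroup.mem_inf.1 (Subgroup.mem_subgroupOf.1 hx)
    rcases U_fusion hK (Subgroup.mem_inf.2 ⟨hx1, hx2⟩) g.2
      (Subgroup.mem_inf.1 (Subgroup.mem_subgroupOf.1 hgx)).1 with h | h
    · exact ⟨1, one_mem _, by rw [show x = 1 from Subtype.ext h]; group⟩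
    · exact ⟨g, Subgroup.mem_subgroupOf.2 (Subgroup.mem_inf.2 ⟨h, g.2⟩), rfl⟩)
  intro htop
  -- the element `u(0,1,0)`
  set x0 : GL chevG2.Idx K := wordRt chevG2 (reeWordU 1 0 1 0) with hx0
  have hx0m : x0 ∈ chevG2.posUnipotent K ⊓ G := (U_iff (m := 0) hK' _).2 ⟨0, 1, 0, rfl⟩
  have hmem : (⟨x0, (Subgroup.mem_inf.1 hx0m).2⟩ : ↥G) ∈ ⁅U, B⁆ := by
    apply hctrl
    rw [← hfoc, htop, top_inf_eq]
    exact hx0m
  let Z : Subgroup ↥G :=
    { carrier := {g | Good (0 : K) (g : GL chevG2.Idx K) ∧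
        (g : GL chevG2.Idx K) ∈ chevG2.posUnipotent K}
      one_mem' := ⟨good_one h3, one_mem _⟩
      mul_mem' := fun {a b} ha hb => ⟨by simpa using good_mul h3 ha.1 hb.1, mul_mem ha.2 hb.2⟩
      inv_mem' := fun {a} ha => by
        have hV : (a : GL chevG2.Idx K)⁻¹ ∈ chevG2.posUnipotent K ⊓ G :=
          Subgroup.mem_inf.2 ⟨inv_mem ha.2, inv_mem a.2⟩
        obtain ⟨c, hc⟩ := good_of_mem hK hV
        have h0 := good_unique h3 (by simpa using good_mul h3 ha.1 hc) (good_one h3)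
        exact ⟨h0 ▸ hc, inv_mem ha.2⟩ }
  have hle : ⁅U, B⁆ ≤ Z := by
    rw [Subgroup.commutator_le]
    intro x hx k hk
    obtain ⟨hx1, hx2⟩ := Subgroup.mem_inf.1 (Subgroup.mem_subgroupOf.1 hx)
    have hk' := Subgroup.mem_subgroupOf.1 hk
    have hxV := Subgroup.mem_inf.2 ⟨hx1, hx2⟩
    obtain ⟨a, ha⟩ := good_of_mem hK hxV
    obtain ⟨b, hb⟩ := good_of_mem hK (inv_mem hxV)
    have hab : a + b = 0 := good_unique h3 (by simpa using good_mul h3 ha hb) (good_one h3)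
    have hconj := good_conj hK hb hk'
    have hgood := good_mul h3 ha hconj
    rw [hab] at hgood
    have e : ((⁅x, k⁆ : ↥G) : GL chevG2.Idx K) =
        (x : GL chevG2.Idx K) * ((k : GL chevG2.Idx K) * (x : GL chevG2.Idx K)⁻¹ *
          (k : GL chevG2.Idx K)⁻¹) := by
      simp [commutatorElement_def, mul_assoc]
    refine ⟨by rw [e]; exact hgood, ?_⟩
    rw [e]
    obtain ⟨p, hp, -, -⟩ := hgood
    rw [hp]
    exact Subgroup.list_prod_mem _ fun z hz => by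
      obtain ⟨y, hy, rfl⟩ := List.mem_map.1 hz
      have hr : y.1 ∈ [g2a, g2b, g2ab, g2aab, g2aaab, g2aaabb] := by
        simp only [uWord, List.mem_cons, List.not_mem_nil, or_false] at hy ⊢
        rcases hy with rfl | rfl | rfl | rfl | rfl | rfl <;> simp
      exact Subgroup.subset_closure ⟨y.1, y.2, (pos_u _ hr).1, checkedG2.coe_rt _ _⟩
  have h1 : Good (0 : K) x0 := (hle hmem).1
  have h2 : Good (1 : K) x0 :=
    ⟨![(0 : K) ^ 1, 0, (0 : K) ^ (1 + 1) + 1 ^ 1, (0 : K) ^ (2 * 1 + 1) + 0 ^ 1, 1, 0], rfl,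
      by simp, by simp⟩
  exact zero_ne_one (good_unique h3 h1 h2)

theorem derived_psl {L : Type*} [Field L] [Fintype L] (hL : Fintype.card L = 8) :
    Nat.card ↥(commutator ↥(twistedG2 K 1)) = 504 ∧
      Nonempty (↥(commutator ↥(twistedG2 K 1)) ≃* Matrix.ProjectiveSpecialLinearGroup (Fin 2) L) := by
  have hK' := card_K' hK
  obtain ⟨τ, hT⟩ := exists_hyp (m := 0) hK'
  set P := bnPairCongr (Subgroup.subgroupOfEquivOfLe (twisted_le (m := 0) hK')) (TwistData.bnPair hT)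
    with hP
  have hirr : P.Irreducible := by
    have hsub : ∀ a ∈ P.S, ∀ b ∈ P.S, a = b := by
      rintro _ ⟨_, ⟨i, rfl⟩, rfl⟩ _ ⟨_, ⟨j, rfl⟩, rfl⟩
      rw [Subsingleton.elim i j]
    intro J hJ hne hne'
    obtain ⟨a, ha⟩ := hne
    obtain ⟨b, hb, hbJ⟩ := hne'
    exact absurd (hsub a (hJ ha) b hb ▸ ha) hbJ
  have hPB : P.B = (chevG2.borelSubgroup K ⊓ twistedG2 K 1).subgroupOf (twistedG2 K 1) := by
    ext ⟨g, hg⟩
    rw [Subgroup.mem_subgroupOf, Subgroup.mem_inf]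
    show (⟨g, twisted_le (m := 0) hK' hg⟩ : ↥(chevG2.group K)) ∈ (grpSys weylForG2 K).B ↔ _
    rw [← mem_borel_iff checkedG2 weylForG2]
    exact ⟨fun h => ⟨h, hg⟩, fun h => h.1⟩
  have hBc : Nat.card P.B = 54 := by
    rw [hPB]
    refine (Nat.card_congr (Subgroup.subgroupOfEquivOfLe
      (inf_le_right : chevG2.borelSubgroup K ⊓ twistedG2 K 1 ≤ twistedG2 K 1)).toEquiv).trans ?_
    refine (card_inf_group (m := 0) hK' _ _ (mem_borel_iff checkedG2 weylForG2)).symm.trans ?_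
    refine (TwistCount.card_B1 hT).trans ?_
    show Nat.card ↥((grpSys weylForG2 K).Uplus ⊓ G1 K 0) * Nat.card ↥((grpSys weylForG2 K).H ⊓ G1 K 0) = _
    rw [card_inf_group hK' _ _ (mem_pos_iff checkedG2 weylForG2),
      card_inf_group hK' _ _ (mem_diag_iff checkedG2 weylForG2), card_U hK', card_H hK']
    norm_num
  have hcore : P.B.normalCore = ⊥ := by rw [hPB]; exact core (m := 0) hK'
  obtain ⟨h504, hs⟩ := O1512.derived_simple ((card_ree (m := 0) hK').trans (by norm_num)) P hirr hcore hBc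
    (derived_ne_top hK)
  exact ⟨h504, H62.iso_PSL_of_card_504 h504 hL⟩

end H52.Ree2
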