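import Cfsg.Agent.H52.ReeSingerTori

/-!
The four cyclic Hall tori of a small Ree group.
-/

set_option autoImplicit false
set_option linter.unusedSectionVars false

namespace H52.Ree2

open Cfsg.Lie

section Cyclic

variable {G : Type*} [Group G] [Finite G]

theorem cyclic_sub_unique {T A B : Subgroup G} (hT : IsCyclic ↥T) (hA : A ≤ T) (hB : B ≤ T)
    (h : Nat.card ↥A = Nat.card ↥B) : A = B := by
  have := hT
  letI : CommGroup ↥T := IsCyclic.commGroup
  have key : ∀ C : Subgroup G, C ≤ T → C.subgroupOf T =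
      (powMonoidHom (Nat.card ↥C) : ↥T →* ↥T).ker := by
    intro C hC
    refine Subgroup.eq_of_le_of_card_ge (fun x hx => ?_) ?_
    · rw [MonoidHom.mem_ker, powMonoidHom_apply]
      exact orderOf_dvd_iff_pow_eq_one.1 (by
        rw [← Subgroup.orderOf_coe]
        exact Subgroup.orderOf_dvd_natCard C (Subgroup.mem_subgroupOf.1 hx))
    · rw [IsCyclic.card_powMonoidHom_ker, Nat.gcd_eq_right (Subgroup.card_dvd_of_le hC),
        Nat.card_congr (Subgroup.subgroupOfEquivOfLe hC).toEquiv]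
  have e : A.subgroupOf T = B.subgroupOf T := by rw [key A hA, key B hB, h]
  rw [← Subgroup.map_subgroupOf_eq_of_le hA, e, Subgroup.map_subgroupOf_eq_of_le hB]

theorem cyclic_count {T : Subgroup G} (hT : IsCyclic ↥T) {d : ℕ} (hd : d ∣ Nat.card ↥T) :
    Nat.card {x // x ∈ T ∧ orderOf x = d} = d.totient := by
  classical
  have := hT
  letI : Fintype ↥T := Fintype.ofFinite _
  rw [← Nat.card_congr (Equiv.subtypeSubtypeEquivSubtypeInter (fun x => x ∈ T) (fun x => orderOf x = d)),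
    Nat.card_eq_fintype_card, Fintype.card_subtype]
  rw [Nat.card_eq_fintype_card] at hd
  rw [← IsCyclic.card_orderOf_eq_totient (α := ↥T) hd]
  congr 1
  ext x
  simp [Subgroup.orderOf_coe]

theorem conj_zpowers_mem {g x : G} {T : Subgroup G} (h : g⁻¹ * x * g ∈ T) :
    (Subgroup.zpowers x).map (MulAut.conj g⁻¹).toMonoidHom ≤ T := by
  rw [MonoidHom.map_zpowers, Subgroup.zpowers_le]
  simpa using h

/-- The data of a cyclic torus whose nontrivial elements determine it. -/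
structure IsTorus (T : Subgroup G) (n k : ℕ) : Prop where
  cyclic : IsCyclic ↥T
  card : Nat.card ↥T = n
  cardN : Nat.card ↥(Subgroup.normalizer (T : Set G)) = k
  sub : ∀ A : Subgroup G, A ≤ T → A ≠ ⊥ → Subgroup.normalizer (A : Set G) = Subgroup.normalizer (T : Set G)
  conj : ∀ x : G, x ^ n = 1 → x ≠ 1 → ∃ g : G, g⁻¹ * x * g ∈ T
  hall : ∀ p : ℕ, p.Prime → p ∣ n → ¬ p ∣ T.index

variable {T : Subgroup G} {n k : ℕ}

theorem IsTorus.count (h : IsTorus T n k) {i : ℕ} (hi : 1 < i) (hd : i ∣ n) :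
    k * Nat.card {x : G // orderOf x = i} = i.totient * Nat.card G := by
  have hfused : Nat.card {x : G // orderOf x = i} =
      (Subgroup.normalizer (T : Set G)).index * Nat.card {x // x ∈ T ∧ orderOf x = i} := by
    refine card_fused _ _ _ (fun x hx => hx.2) (fun x hx => ?_) (fun g x hx => ?_)
      (fun c hc x hx => ⟨(Subgroup.mem_normalizer_iff.1 hc x).1 hx.1, ?_⟩) (fun g x hx hgx => ?_)
    · obtain ⟨g, hg⟩ := h.conj x (orderOf_dvd_iff_pow_eq_one.1 (hx ▸ hd)) (fun e => by simp [e] at hx; omega)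
      refine ⟨g, hg, ?_⟩
      rw [show g⁻¹ * x * g = MulAut.conj g⁻¹ x by simp, MulEquiv.orderOf_eq, hx]
    · rwa [show g * x * g⁻¹ = MulAut.conj g x by simp, MulEquiv.orderOf_eq]
    · rw [show c * x * c⁻¹ = MulAut.conj c x by simp, MulEquiv.orderOf_eq]; exact hx.2
    · have e : Subgroup.zpowers (g * x * g⁻¹) = Subgroup.zpowers x :=
        cyclic_sub_unique h.cyclic (Subgroup.zpowers_le.2 hgx.1) (Subgroup.zpowers_le.2 hx.1)
          (by rw [Nat.card_zpowers, Nat.card_zpowers, hgx.2, hx.2])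
      have hne : Subgroup.zpowers x ≠ ⊥ := fun hb => by
        rw [Subgroup.zpowers_eq_bot] at hb
        have := hx.2; rw [hb, orderOf_one] at this; omega
      rw [← h.sub _ (Subgroup.zpowers_le.2 hx.1) hne, Subgroup.mem_normalizer_iff_map_conj_eq,
        MonoidHom.map_zpowers]
      rw [← e]
      simp
  rw [hfused, cyclic_count h.cyclic (h.card.symm ▸ hd), ← h.cardN, ← mul_assoc,
    Subgroup.card_mul_index, mul_comm]

theorem IsTorus.sylow_cyclic (h : IsTorus T n k) {p : ℕ} [hp : Fact p.Prime] (hd : p ∣ n) (P : Sylow p G) :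
    IsCyclic ↥(P : Subgroup G) := by
  have hidx := h.hall p hp.out hd
  obtain ⟨Q⟩ : Nonempty (Sylow p ↥T) := inferInstance
  have hpg : IsPGroup p ↥((Q : Subgroup ↥T).map T.subtype) := Q.2.map _
  have hidx' : ¬ p ∣ ((Q : Subgroup ↥T).map T.subtype).index := by
    rw [Subgroup.index_map_of_injective _ (Subtype.val_injective), Subgroup.range_subtype]
    intro h'
    rcases hp.out.dvd_mul.1 h' with h' | h'
    · exact Q.not_dvd_index h'
    · exact hidx h'
  have := h.cyclic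
  have e1 : IsCyclic ↥((Q : Subgroup ↥T).map T.subtype) :=
    ((Q : Subgroup ↥T).equivMapOfInjective T.subtype T.subtype_injective).isCyclic.1 inferInstance
  exact (Sylow.equiv (hpg.toSylow hidx') P).isCyclic.1 e1

theorem IsTorus.cyclic_conj (h : IsTorus T n k) {A B : Subgroup G} (hA : IsCyclic ↥A) (hB : IsCyclic ↥B)
    {d : ℕ} (hd : d ∣ n) (hAd : Nat.card ↥A = d) (hBd : Nat.card ↥B = d) :
    ∃ g : G, B = A.map (MulAut.conj g).toMonoidHom := by
  have key : ∀ C : Subgroup G, IsCyclic ↥C → Nat.card ↥C = d →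
      ∃ g : G, C.map (MulAut.conj g).toMonoidHom ≤ T := by
    intro C hC hCd
    by_cases hbot : C = ⊥
    · exact ⟨1, by rw [hbot, Subgroup.map_bot]; exact bot_le⟩
    obtain ⟨x, rfl⟩ := (Subgroup.isCyclic_iff_exists_zpowers_eq_top C).1 hC
    rw [Nat.card_zpowers] at hCd
    obtain ⟨g, hg⟩ := h.conj x (orderOf_dvd_iff_pow_eq_one.1 (hCd ▸ hd))
      (fun e => hbot (Subgroup.zpowers_eq_bot.2 e))
    exact ⟨g⁻¹, conj_zpowers_mem hg⟩
  obtain ⟨g, hg⟩ := key A hA hAd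
  obtain ⟨g', hg'⟩ := key B hB hBd
  have e := cyclic_sub_unique h.cyclic hg hg' (by
    rw [Subgroup.card_map_of_injective (MulAut.conj g).injective,
      Subgroup.card_map_of_injective (MulAut.conj g').injective, hAd, hBd])
  refine ⟨g'⁻¹ * g, ?_⟩
  ext x
  have h1 : ∀ (u : G) (C : Subgroup G), x ∈ C.map (MulAut.conj u).toMonoidHom ↔ u⁻¹ * x * u ∈ C := fun u C => by
    rw [Subgroup.mem_map_equiv, MulAut.conj_symm_apply]
  rw [h1]
  have hx := congrArg (fun C => g' * x * g'⁻¹ ∈ C) e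
  simp only [eq_iff_iff, Subgroup.mem_map_equiv, MulAut.conj_symm_apply] at hx
  rw [show g'⁻¹ * (g' * x * g'⁻¹) * g' = x by group] at hx
  rw [← hx, show (g'⁻¹ * g)⁻¹ * x * (g'⁻¹ * g) = g⁻¹ * (g' * x * g'⁻¹) * g by group]

/-- A subgroup of prime order inside a torus has the normaliser of the torus. -/
theorem IsTorus.normalizer_prime (h : IsTorus T n k) {M : Subgroup G} (hM : M ≠ ⊥) {g : G}
    (hle : M.map (MulAut.conj g).toMonoidHom ≤ T) :
    Subgroup.normalizer (M : Set G) ≤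
      Subgroup.normalizer ((T.map (MulAut.conj g⁻¹).toMonoidHom : Subgroup G) : Set G) := by
  have e := h.sub _ hle (fun hb => hM ((Subgroup.map_eq_bot_iff_of_injective M (MulAut.conj g).injective).1 hb))
  intro x hx
  have hx' : g * x * g⁻¹ ∈ Subgroup.normalizer (T : Set G) := by
    rw [← e, Subgroup.mem_normalizer_iff]
    intro y
    rw [Subgroup.mem_map_equiv, Subgroup.mem_map_equiv, MulAut.conj_symm_apply, MulAut.conj_symm_apply,
      show g⁻¹ * (g * x * g⁻¹ * y * (g * x * g⁻¹)⁻¹) * g = x * (g⁻¹ * y * g) * x⁻¹ by group]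
    exact Subgroup.mem_normalizer_iff.1 hx _
  rw [Subgroup.mem_normalizer_iff]
  intro y
  rw [Subgroup.mem_map_equiv, Subgroup.mem_map_equiv, MulAut.conj_symm_apply, MulAut.conj_symm_apply,
    inv_inv, show g * (x * y * x⁻¹) * g⁻¹ = g * x * g⁻¹ * (g * y * g⁻¹) * (g * x * g⁻¹)⁻¹ by group]
  exact Subgroup.mem_normalizer_iff.1 hx' _

end Cyclic

variable {K : Type*} [Field K] [Fintype K] {m : ℕ} (hK : Fintype.card K = 3 ^ (2 * m + 1))

include hK

theorem HG_index : (HG K m).index = (3 ^ (2 * m + 1)) ^ 3 * ((3 ^ (2 * m + 1)) ^ 3 + 1) := by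
  have hi := (HG K m).card_mul_index
  rw [(HG_cyclic hK).2, card_RG hK] at hi
  have hqpos : 0 < 3 ^ (2 * m + 1) - 1 := by
    have : 3 ≤ 3 ^ (2 * m + 1) := Nat.le_self_pow (by omega) 3
    omega
  exact Nat.eq_of_mul_eq_mul_left hqpos (hi.trans (by ring))

/-- The torus of order `(q-1)/2`. -/
theorem exists_torus_H (hm : 1 ≤ m) :
    ∃ T : Subgroup ↥(RG K m), IsTorus T (qh m) (2 * (3 ^ (2 * m + 1) - 1)) ∧ T ≤ HG K m := by
  obtain ⟨-, hq2, -, hoh, -, -, -, -⟩ := q_arith m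
  have hcyc := (HG_cyclic hK).1
  obtain ⟨⟨h, hh⟩, hgen⟩ := IsCyclic.exists_ofOrder_eq_natCard (α := ↥(HG K m))
  rw [Subgroup.orderOf_mk, (HG_cyclic hK).2, hq2] at hgen
  have hord : orderOf (h ^ 2) = qh m := by
    rw [orderOf_pow, hgen, Nat.gcd_mul_right_left, Nat.mul_div_cancel_left _ two_pos]
  set T := Subgroup.zpowers (h ^ 2) with hT
  have hTle : T ≤ HG K m := Subgroup.zpowers_le.2 (pow_mem hh 2)
  have hTc : Nat.card ↥T = qh m := by rw [hT, Nat.card_zpowers, hord]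
  have hsub : ∀ A : Subgroup ↥(RG K m), A ≤ T → A ≠ ⊥ →
      Subgroup.normalizer (A : Set ↥(RG K m)) = Subgroup.normalizer (HG K m : Set ↥(RG K m)) := by
    intro A hA hne
    refine le_antisymm (fun g hg => ?_) (normalizer_le_of_cyclic hcyc (hA.trans hTle))
    obtain ⟨x, hx, hx1⟩ := (Subgroup.bot_or_exists_ne_one A).resolve_left hne
    refine H_of_conj_mem hK (hTle (hA hx)) (HG_sq_ne_of_odd hK hx1 hoh ?_)
      (hTle (hA ((Subgroup.mem_normalizer_iff.1 hg x).1 hx)))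
    exact orderOf_dvd_iff_pow_eq_one.1 (hTc ▸ Subgroup.orderOf_dvd_natCard T (hA hx))
  have hne : T ≠ ⊥ := fun hb => by
    rw [hb, Subgroup.card_bot] at hTc
    have : 27 ≤ 3 ^ (2 * m + 1) :=
      le_trans (by norm_num) (Nat.pow_le_pow_right (by norm_num : 0 < 3) (show 3 ≤ 2 * m + 1 by omega))
    omega
  refine ⟨T, ⟨inferInstance, hTc, ?_, fun A hA hA1 => (hsub A hA hA1).trans (hsub T le_rfl hne).symm,
    fun x hx hx1 => ?_, fun p hp hpd hidx => ?_⟩, hTle⟩
  · rw [hsub T le_rfl hne, card_normalizer_HG hK hm]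
  · obtain ⟨s, hs, hsd⟩ := Nat.exists_prime_and_dvd (fun e : orderOf x = 1 => hx1 (orderOf_eq_one_iff.1 e))
    have hsq : s ∣ qh m := hsd.trans (orderOf_dvd_of_pow_eq_one hx)
    obtain ⟨g, hg⟩ := conj_HG hK hs (hoh.of_dvd_nat hsq) hsq hsd
    refine ⟨g, ?_⟩
    have hd : orderOf (g⁻¹ * x * g) ∣ qh m := by
      rw [orderOf_conj_inv hK]; exact orderOf_dvd_of_pow_eq_one hx
    obtain ⟨i, hi⟩ := (Subgroup.mem_zpowers_iff).1
      (show (g⁻¹ * x * g) ∈ Subgroup.zpowers h by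
        have e : HG K m = Subgroup.zpowers h :=
          (Subgroup.eq_of_le_of_card_ge (Subgroup.zpowers_le.2 hh)
            (by rw [Nat.card_zpowers, hgen, (HG_cyclic hK).2, hq2])).symm
        rwa [← e])
    have h2 : (2 : ℤ) ∣ i := by
      rw [← hi, orderOf_dvd_iff_pow_eq_one, ← zpow_natCast, ← zpow_mul,
        ← orderOf_dvd_iff_zpow_eq_one, hgen] at hd
      have hpos : 0 < qh m := hoh.pos
      push_cast at hd
      exact Int.dvd_of_mul_dvd_mul_right (by exact_mod_cast hpos.ne') hd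
    obtain ⟨j, rfl⟩ := h2
    rw [hT, Subgroup.mem_zpowers_iff]
    exact ⟨j, by rw [← hi, zpow_mul]; rfl⟩
  · have e : T.index = 2 * (HG K m).index := by
      have h1 := T.card_mul_index
      rw [hTc, ← (HG K m).card_mul_index, (HG_cyclic hK).2, hq2] at h1
      exact Nat.eq_of_mul_eq_mul_left hoh.pos (h1.trans (by ring))
    rw [e, HG_index hK, ← (qN_eq m).2] at hidx
    obtain ⟨-, hq2', hop, -, -, h3h, hco, -⟩ := q_arith m
    have hpo := hoh.of_dvd_nat hpd
    have hp2 : ¬ p ∣ 2 := fun h => by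
      have := (Nat.prime_dvd_prime_iff_eq hp Nat.prime_two).1 h
      subst this; exact absurd hpo (by decide)
    rcases hp.dvd_mul.1 hidx with h | h
    · exact hp2 h
    rcases hp.dvd_mul.1 h with h | h
    · exact h3h ((Nat.prime_dvd_prime_iff_eq hp Nat.prime_three).1 (hp.dvd_of_dvd_pow (hp.dvd_of_dvd_pow h)) ▸ hpd)
    rcases hp.dvd_mul.1 h with h | h
    · rw [(q_arith m).1] at h
      rcases hp.dvd_mul.1 h with h | h
      · exact hp2 (hp.dvd_of_dvd_pow (show p ∣ 2 ^ 2 from h))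
      · exact hp.one_lt.ne' (Nat.eq_one_of_dvd_coprimes hco h hpd)
    · refine hp.one_lt.ne' (Nat.eq_one_of_dvd_coprimes (qN_coprime m) h ?_)
      exact hpd.trans (((dvd_mul_left _ _).trans hq2'.symm.dvd).trans ((dvd_mul_left _ _).trans (dvd_mul_right _ _)))

/-- The torus of order `(q+1)/4`. -/
theorem torus_AT (hm : 1 ≤ m) : IsTorus (AT hK) (qp m) (6 * (3 ^ (2 * m + 1) + 1)) := by
  refine ⟨(AT_cyclic hK).1, (AT_cyclic hK).2, ?_, fun A hA hne => ?_,
    fun x hx _ => exists_conj_AT hK hm hx, fun p hp hd => AT_index_coprime hK hp hd⟩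
  · rw [card_normalizer_AT hK hm, (q_arith m).1]; ring
  · rw [normalizer_AT_sub hK hm hA hne, (normalizers_eq hK hm).1]

theorem pm_coprime (hm : 1 ≤ m) :
    Nat.Coprime (3 ^ (2 * m + 1) - rr m + 1) (3 ^ (2 * m + 1) + rr m + 1) := by
  obtain ⟨-, hrq, -⟩ := rr_facts m hm
  refine Nat.coprime_of_dvd fun p hp h1 h2 => ?_
  have hd : p ∣ 2 * rr m := by
    have h := Nat.dvd_sub h2 h1
    rwa [show 3 ^ (2 * m + 1) + rr m + 1 - (3 ^ (2 * m + 1) - rr m + 1) = 2 * rr m by omega] at h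
  have hq3 : Odd (3 ^ (2 * m + 1)) := (show Odd 3 by decide).pow
  have hr3 : Odd (rr m) := (show Odd 3 by decide).pow
  rcases hp.dvd_mul.1 hd with h | h
  · have := (Nat.prime_dvd_prime_iff_eq hp Nat.prime_two).1 h
    subst this
    have hodd : Odd (3 ^ (2 * m + 1) + rr m + 1) := (hq3.add_odd hr3).add_one
    exact hodd.not_two_dvd_nat h2
  · have := (Nat.prime_dvd_prime_iff_eq hp Nat.prime_three).1 (hp.dvd_of_dvd_pow h)
    subst this
    have hq : 3 ∣ 3 ^ (2 * m + 1) := dvd_pow_self 3 (by omega)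
    have hr : 3 ∣ rr m := dvd_pow_self 3 (by omega)
    omega

theorem pm_mul (hm : 1 ≤ m) :
    (3 ^ (2 * m + 1) - rr m + 1) * (3 ^ (2 * m + 1) + rr m + 1) = qN m := by
  obtain ⟨hr2, hrq, -⟩ := rr_facts m hm
  obtain ⟨h1, -⟩ := qN_eq m
  generalize qN m = N at *
  generalize rr m = r at *
  generalize 3 ^ (2 * m + 1) = q at *
  obtain ⟨d, rfl⟩ : ∃ d, q = r + d := ⟨q - r, by omega⟩
  rw [Nat.add_sub_cancel_left]
  nlinarith

/-- The two tori of order dividing `q² - q + 1`. -/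
theorem exists_torus_pm (hm : 1 ≤ m) :
    (∃ T : Subgroup ↥(RG K m), IsTorus T (3 ^ (2 * m + 1) - rr m + 1) (6 * (3 ^ (2 * m + 1) - rr m + 1))) ∧
    (∃ T : Subgroup ↥(RG K m), IsTorus T (3 ^ (2 * m + 1) + rr m + 1) (6 * (3 ^ (2 * m + 1) + rr m + 1))) := by
  obtain ⟨g₁, g₂, h₁, h₁', h₂, h₂', hc₁, hc₂, hn₁, hn₂, hcov⟩ := exists_tori hK hm
  have hcop := pm_coprime hK hm
  have hmul := pm_mul hK hm
  have key : ∀ (g g' : ↥(RG K m)) (n n' : ℕ), g ^ qN m = 1 → g ≠ 1 → g' ^ qN m = 1 → g' ≠ 1 →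
      Nat.card ↥(Subgroup.centralizer {g}) = n → Nat.card ↥(Subgroup.centralizer {g'}) = n' →
      Nat.card ↥(Subgroup.normalizer (Subgroup.centralizer {g} : Set ↥(RG K m))) = 6 * n →
      Nat.Coprime n n' → n ∣ qN m →
      (∀ x : ↥(RG K m), x ^ qN m = 1 → x ≠ 1 →
        InClass (Subgroup.centralizer {g}) x ∨ InClass (Subgroup.centralizer {g'}) x) →
      IsTorus (Subgroup.centralizer {g}) n (6 * n) := by
    intro g g' n n' hg hg1 hg' hg1' hc hc' hN hco hdvd hcov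
    obtain ⟨hcyc, -, hsame⟩ := centralizer_qN hK hm hg hg1
    refine ⟨hcyc, hc, hN, fun A hA hne => ?_, fun x hx hx1 => ?_,
      fun p hp hd => centralizer_qN_hall hK hm hg hg1 hp (hc ▸ hd)⟩
    · refine le_antisymm (fun a ha => ?_) (normalizer_le_of_cyclic hcyc hA)
      obtain ⟨x, hx, hx1⟩ := (Subgroup.bot_or_exists_ne_one A).resolve_left hne
      have e1 := hsame x (hA hx) hx1
      have e2 := hsame _ (hA ((Subgroup.mem_normalizer_iff.1 ha x).1 hx)) (fun h => hx1 (conj_eq_one_iff.1 h))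
      rw [Subgroup.mem_normalizer_iff]
      intro y
      conv_lhs => rw [← e1]
      conv_rhs => rw [← e2, mem_centralizer_conj, show a⁻¹ * (a * y * a⁻¹) * a = y by group]
    · have hxN : x ^ qN m = 1 := by
        obtain ⟨c, hc⟩ := hdvd
        rw [hc, pow_mul, hx, one_pow]
      rcases hcov x hxN hx1 with h | h
      · exact h.2
      · exfalso
        obtain ⟨hd, -, hne⟩ := inClass_qN hK hm hg' hg1' h
        exact hne (Nat.eq_one_of_dvd_coprimes hco (orderOf_dvd_of_pow_eq_one hx) (hc' ▸ hd))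
  refine ⟨⟨_, key g₁ g₂ _ _ h₁ h₁' h₂ h₂' hc₁ hc₂ hn₁ hcop ⟨_, hmul.symm⟩ hcov⟩,
    ⟨_, key g₂ g₁ _ _ h₂ h₂' h₁ h₁' hc₂ hc₁ hn₂ hcop.symm ⟨_, hmul.symm.trans (mul_comm _ _)⟩
      fun x hx hx1 => (hcov x hx hx1).symm⟩⟩

/-- The primes above 3 divide the order of one of the tori. -/
theorem prime_cases (hm : 1 ≤ m) {p : ℕ} (hp : p.Prime) (hp3 : 3 < p) (hd : p ∣ Nat.card ↥(RG K m)) :
    ∃ (T : Subgroup ↥(RG K m)) (n k : ℕ), IsTorus T n k ∧ p ∣ n ∧
      (n = qh m ∨ n = qp m ∨ n = 3 ^ (2 * m + 1) - rr m + 1 ∨ n = 3 ^ (2 * m + 1) + rr m + 1) := by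
  obtain ⟨hq4, hq2, -⟩ := q_arith m
  rw [qN_dvd_card hK, ← pm_mul hK hm, hq4, hq2] at hd
  have e2 : ¬ p ∣ 2 := fun h => by have := Nat.le_of_dvd two_pos h; omega
  rcases hp.dvd_mul.1 hd with h | h
  · rcases hp.dvd_mul.1 h with h | h
    · rcases hp.dvd_mul.1 h with h | h
      · have := (Nat.prime_dvd_prime_iff_eq hp Nat.prime_three).1 (hp.dvd_of_dvd_pow (hp.dvd_of_dvd_pow h))
        omega
      · obtain ⟨T, hT, -⟩ := exists_torus_H hK hm
        exact ⟨T, _, _, hT, (hp.dvd_mul.1 h).resolve_left e2, Or.inl rfl⟩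
    · exact ⟨_, _, _, torus_AT hK hm,
        (hp.dvd_mul.1 h).resolve_left (fun h => e2 (hp.dvd_of_dvd_pow (show p ∣ 2 ^ 2 from h))),
        Or.inr (Or.inl rfl)⟩
  · obtain ⟨⟨T₁, hT₁⟩, ⟨T₂, hT₂⟩⟩ := exists_torus_pm hK hm
    rcases hp.dvd_mul.1 h with h | h
    · exact ⟨T₁, _, _, hT₁, h, Or.inr (Or.inr (Or.inl rfl))⟩
    · exact ⟨T₂, _, _, hT₂, h, Or.inr (Or.inr (Or.inr rfl))⟩

end H52.Ree2
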