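import Cfsg.Agent.H52.ReeSylowTwo
import Cfsg.Agent.H52.ReeClassGen

/-!
The torus of order `q - 1` of a small Ree group: centralisers and normaliser.
-/

set_option autoImplicit false
set_option linter.unusedSectionVars false

namespace H52.Ree2

open Cfsg.Lie

variable {K : Type*} [Field K] [Fintype K] {m : ℕ} (hK : Fintype.card K = 3 ^ (2 * m + 1))

/-- The torus inside the group. -/
abbrev HG (K : Type*) [Field K] (m : ℕ) : Subgroup ↥(RG K m) := (RH K m).subgroupOf (RG K m)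

/-- The reflection inside the group. -/
noncomputable def mG (hK : Fintype.card K = 3 ^ (2 * m + 1)) : ↥(RG K m) := ⟨mEl K, mEl_mem hK⟩

include hK

theorem HG_cyclic : IsCyclic ↥(HG K m) ∧ Nat.card ↥(HG K m) = 3 ^ (2 * m + 1) - 1 := by
  let f : Kˣ →* ↥(HG K m) :=
    { toFun := fun a => ⟨⟨hA hK a, (Subgroup.mem_inf.1 (hA_mem hK a)).2⟩, hA_mem hK a⟩
      map_one' := Subtype.ext (Subtype.ext (hA_one hK))
      map_mul' := fun a b => Subtype.ext (Subtype.ext (hA_mul hK a b)) }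
  have hs : Function.Surjective f := by
    rintro ⟨⟨g, hg⟩, hgH⟩
    obtain ⟨a, rfl⟩ := exists_hA hK (Subgroup.mem_subgroupOf.1 hgH)
    exact ⟨a, rfl⟩
  exact ⟨isCyclic_of_surjective f hs,
    (Nat.card_congr (Subgroup.subgroupOfEquivOfLe inf_le_right).toEquiv).trans (card_H hK)⟩

theorem B_centralize {h g : GL chevG2.Idx K} (hh : h ∈ RH K m) (hh2 : h * h ≠ 1) (hg : g ∈ RB K m)
    (hc : h * g = g * h) : g ∈ RH K m := by
  obtain ⟨u, hu, k, hk, rfl⟩ := exists_UH hK hg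
  have e : h * u * h⁻¹ = u := by
    rw [mul_inv_eq_iff_eq_mul]
    apply mul_right_cancel (b := k)
    rw [mul_assoc, hc, mul_assoc, mul_assoc, H_commute hK hk hh]
  have hu1 : u = 1 := by
    by_contra hne
    exact hh2 (H_centralize_sq hK hh hu hne e)
  rw [hu1, one_mul]; exact hk

theorem centralizer_H {h g : GL chevG2.Idx K} (hh : h ∈ RH K m) (hh2 : h * h ≠ 1) (hg : g ∈ RG K m)
    (hc : h * g = g * h) : g ∈ RH K m := by
  rcases bruhat hK hg with hB | ⟨b, hb, u, hu, rfl⟩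
  · exact B_centralize hK hh hh2 hB hc
  exfalso
  have hhB := H_le_B' hK hh
  have hm : h * mEl K * h⁻¹ = h * h * mEl K := by
    have := m_conj_H hK hh
    rw [mul_inv_eq_iff_eq_mul] at this
    rw [mul_assoc h h, mul_assoc h (mEl K), mul_right_inj, mul_inv_eq_iff_eq_mul, mul_assoc, this,
      mul_inv_cancel_left]
  have hb' : h * b * h⁻¹ * (h * h) ∈ RB K m :=
    mul_mem (mul_mem (mul_mem hhB hb) (inv_mem hhB)) (mul_mem hhB hhB)
  have hu' : h * u * h⁻¹ ∈ RU K m := H_conj_U hK hh hu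
  have e : h * b * h⁻¹ * (h * h) * mEl K * (h * u * h⁻¹) = b * mEl K * u := by
    calc h * b * h⁻¹ * (h * h) * mEl K * (h * u * h⁻¹)
        = h * b * h⁻¹ * (h * h * mEl K) * (h * u * h⁻¹) := by group
      _ = h * b * h⁻¹ * (h * mEl K * h⁻¹) * (h * u * h⁻¹) := by rw [hm]
      _ = h * (b * mEl K * u) * h⁻¹ := by group
      _ = _ := by rw [hc, mul_inv_cancel_right]
  have hueq : h * u * h⁻¹ = u := by
    refine mul_inv_eq_one.1 (m_U_m_inter_B hK (mul_mem hu' (inv_mem hu)) ?_)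
    rw [show mEl K * ((h * u * h⁻¹) * u⁻¹) * (mEl K)⁻¹ =
      (h * b * h⁻¹ * (h * h))⁻¹ * (h * b * h⁻¹ * (h * h) * mEl K * (h * u * h⁻¹)) *
        u⁻¹ * (mEl K)⁻¹ by group, e,
      show (h * b * h⁻¹ * (h * h))⁻¹ * (b * mEl K * u) * u⁻¹ * (mEl K)⁻¹ =
        (h * b * h⁻¹ * (h * h))⁻¹ * b by group]
    exact (Subgroup.mem_inf.1 (mul_mem (inv_mem hb') hb)).1
  have hu1 : u = 1 := by
    by_contra hne
    exact hh2 (H_centralize_sq hK hh hu hne hueq)
  rw [hueq] at e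
  have hb2 : h * b * h⁻¹ * (h * h) = b := mul_right_cancel (mul_right_cancel e)
  -- `b = v k` gives `h² = 1`
  obtain ⟨v, hv, k, hk, rfl⟩ := exists_UH hK hb
  have e2 : h * v * h⁻¹ * (k * (h * h)) = v * k := by
    rw [← hb2]
    have : k * h⁻¹ = h⁻¹ * k := H_commute hK hk (inv_mem hh)
    calc h * v * h⁻¹ * (k * (h * h)) = h * v * (h⁻¹ * k) * (h * h) := by group
      _ = h * v * (k * h⁻¹) * (h * h) := by rw [this]
      _ = _ := by group
  have h3 : v⁻¹ * (h * v * h⁻¹) = k * (k * (h * h))⁻¹ := by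
    rw [eq_mul_inv_iff_mul_eq, mul_assoc, e2, inv_mul_cancel_left]
  have h4 : v⁻¹ * (h * v * h⁻¹) ∈ RU K m ⊓ RH K m :=
    Subgroup.mem_inf.2 ⟨mul_mem (inv_mem hv) (H_conj_U hK hh hv),
      h3 ▸ mul_mem hk (inv_mem (mul_mem hk (mul_mem hh hh)))⟩
  rw [U_inf_H hK, Subgroup.mem_bot] at h4
  rw [h4] at h3
  apply hh2
  have := (mul_inv_eq_one.1 h3.symm).symm
  exact mul_eq_left.1 this

theorem centralizer_HG {h : ↥(RG K m)} (hh : h ∈ HG K m) (hh2 : h * h ≠ 1) :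
    Subgroup.centralizer {h} = HG K m := by
  ext g
  rw [Subgroup.mem_centralizer_singleton_iff]
  constructor
  · intro hg
    exact centralizer_H hK hh (fun e => hh2 (Subtype.ext e)) g.2 (congrArg Subtype.val hg).symm
  · intro hg
    exact Subtype.ext (H_commute hK (Subgroup.mem_subgroupOf.1 hg) (Subgroup.mem_subgroupOf.1 hh))

theorem exists_HG_sq_ne (hm : 1 ≤ m) : ∃ h ∈ HG K m, h * h ≠ 1 := by
  obtain ⟨hcyc, hc⟩ := HG_cyclic hK
  obtain ⟨g, hg⟩ := hcyc.exists_ofOrder_eq_natCard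
  refine ⟨g, g.2, fun e => ?_⟩
  have h2 : orderOf g ∣ 2 := orderOf_dvd_of_pow_eq_one (Subtype.ext (by rw [Subgroup.coe_pow, sq]; exact e))
  rw [hg, hc] at h2
  have hq : 3 ^ 3 ≤ 3 ^ (2 * m + 1) := Nat.pow_le_pow_right (by norm_num) (by omega)
  have := Nat.le_of_dvd (by norm_num) h2
  omega

theorem H_of_conj_mem {h g : ↥(RG K m)} (hh : h ∈ HG K m) (hh2 : h * h ≠ 1)
    (hgh : g * h * g⁻¹ ∈ HG K m) : g ∈ Subgroup.normalizer (HG K m : Set ↥(RG K m)) := by
  have hne : g * h * g⁻¹ * (g * h * g⁻¹) ≠ 1 := by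
    rw [show g * h * g⁻¹ * (g * h * g⁻¹) = g * (h * h) * g⁻¹ by group]
    exact fun e => hh2 (conj_eq_one_iff.1 e)
  have e1 := centralizer_HG hK hh hh2
  have e2 := centralizer_HG hK hgh hne
  rw [Subgroup.mem_normalizer_iff]
  intro x
  rw [← e1]
  conv_rhs => rw [e1, ← e2, mem_centralizer_conj, show g⁻¹ * (g * x * g⁻¹) * g = x by group]

theorem normalizer_HG_cases {g : ↥(RG K m)} (hm : 1 ≤ m)
    (hg : g ∈ Subgroup.normalizer (HG K m : Set ↥(RG K m))) :
    g ∈ HG K m ∨ g * (mG hK)⁻¹ ∈ HG K m := by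
  obtain ⟨h, hh, hh2⟩ := exists_HG_sq_ne hK hm
  have hgh := (Subgroup.mem_normalizer_iff.1 hg h).1 hh
  have hH : (h : GL chevG2.Idx K) ∈ RH K m := hh
  have hH2 : (h : GL chevG2.Idx K) * (h : GL chevG2.Idx K) ≠ 1 := fun e => hh2 (Subtype.ext e)
  have hvone : ∀ u : GL chevG2.Idx K, u ∈ RU K m →
      (h : GL chevG2.Idx K) * u * (h : GL chevG2.Idx K)⁻¹ = u → u = 1 := fun u hu e => by
    by_contra hne
    exact hH2 (H_centralize_sq hK hH hu hne e)
  -- `v k` conjugating an element of `H` of square `≠ 1` into `H` has `v = 1`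
  have key : ∀ (v k x : GL chevG2.Idx K), v ∈ RU K m → k ∈ RH K m → x ∈ RH K m → x * x ≠ 1 →
      v * k * x * (v * k)⁻¹ ∈ RH K m → v = 1 := by
    intro v k x hv hk hx hx2 hconj
    have e : v * k * x * (v * k)⁻¹ = v * x * v⁻¹ := by
      rw [show v * k * x * (v * k)⁻¹ = v * (k * x * k⁻¹) * v⁻¹ by group, H_commute hK hk hx,
        mul_inv_cancel_right]
    rw [e] at hconj
    have h4 : v * (x * v⁻¹ * x⁻¹) ∈ RU K m ⊓ RH K m :=
      Subgroup.mem_inf.2 ⟨mul_mem hv (H_conj_U hK hx (inv_mem hv)), by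
        rw [show v * (x * v⁻¹ * x⁻¹) = v * x * v⁻¹ * x⁻¹ by group]; exact mul_mem hconj (inv_mem hx)⟩
    rw [U_inf_H hK, Subgroup.mem_bot, mul_eq_one_iff_eq_inv] at h4
    by_contra hne
    refine hx2 (H_centralize_sq hK hx hv hne ?_)
    conv_rhs => rw [h4]
    group
  rcases bruhat hK g.2 with hB | ⟨b, hb, u, hu, e⟩
  · left
    obtain ⟨v, hv, k, hk, e⟩ := exists_UH hK hB
    have hv1 := key v k h hv hk hH hH2 (by rw [← e]; exact hgh)
    rw [Subgroup.mem_subgroupOf, e, hv1, one_mul]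
    exact hk
  · right
    obtain ⟨v, hv, k, hk, rfl⟩ := exists_UH hK hb
    have hgh' : (g : GL chevG2.Idx K) * h * (g : GL chevG2.Idx K)⁻¹ ∈ RH K m := hgh
    set w := u * (h : GL chevG2.Idx K) * u⁻¹ * (h : GL chevG2.Idx K)⁻¹ with hw
    have hwU : w ∈ RU K m := by
      rw [hw, show u * (h : GL chevG2.Idx K) * u⁻¹ * (h : GL chevG2.Idx K)⁻¹ =
        u * ((h : GL chevG2.Idx K) * u⁻¹ * (h : GL chevG2.Idx K)⁻¹) by group]
      exact mul_mem hu (H_conj_U hK hH (inv_mem hu))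
    have hmh := m_conj_H hK hH
    have hu1 : u = 1 := by
      have hw1 : w = 1 := by
        refine m_U_m_inter_B hK hwU ?_
        have e5 : mEl K * w * (mEl K)⁻¹ = (v * k)⁻¹ * ((g : GL chevG2.Idx K) * h * (g : GL chevG2.Idx K)⁻¹) *
            (v * k) * (mEl K * h * (mEl K)⁻¹)⁻¹ := by
          rw [e, hw]; group
        rw [e5, hmh, inv_inv]
        exact (Subgroup.mem_inf.1 (mul_mem (mul_mem (mul_mem (inv_mem hb) (H_le_B' hK hgh')) hb)
          (H_le_B' hK hH))).1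
      refine hvone u hu ?_
      rw [hw, mul_inv_eq_one, mul_inv_eq_iff_eq_mul] at hw1
      rw [← hw1, mul_inv_cancel_right]
    subst hu1
    rw [mul_one] at e
    have hv1 := key v k (h : GL chevG2.Idx K)⁻¹ hv hk (inv_mem hH) (fun e' => hH2 (by
        rw [← mul_inv_rev] at e'; exact inv_eq_one.1 e')) (by
      rw [← hmh, show v * k * (mEl K * h * (mEl K)⁻¹) * (v * k)⁻¹ =
        (v * k * mEl K) * h * (v * k * mEl K)⁻¹ by group, ← e]
      exact hgh')
    rw [Subgroup.mem_subgroupOf]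
    show (g : GL chevG2.Idx K) * (mEl K)⁻¹ ∈ RH K m
    rw [e, hv1, one_mul, mul_inv_cancel_right]
    exact hk

theorem card_normalizer_HG (hm : 1 ≤ m) :
    Nat.card ↥(Subgroup.normalizer (HG K m : Set ↥(RG K m))) = 2 * (3 ^ (2 * m + 1) - 1) := by
  classical
  set N := Subgroup.normalizer (HG K m : Set ↥(RG K m))
  have hmN : mG hK ∈ N := by
    obtain ⟨h, hh, hh2⟩ := exists_HG_sq_ne hK hm
    refine H_of_conj_mem hK hh hh2 ?_
    rw [Subgroup.mem_subgroupOf]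
    show mEl K * (h : GL chevG2.Idx K) * (mEl K)⁻¹ ∈ RH K m
    rw [m_conj_H hK (Subgroup.mem_subgroupOf.1 hh)]
    exact inv_mem hh
  let f : Bool × ↥(HG K m) → ↥N := fun p =>
    ⟨if p.1 then (p.2 : ↥(RG K m)) * mG hK else p.2, by
      split_ifs
      · exact mul_mem (Subgroup.le_normalizer p.2.2) hmN
      · exact Subgroup.le_normalizer p.2.2⟩
  have hmH : mG hK ∉ HG K m := fun h =>
    mEl_not_mem_B hK (Subgroup.mem_inf.1 (H_le_B' hK (Subgroup.mem_subgroupOf.1 h))).1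
  have hf : Function.Bijective f := by
    refine ⟨?_, ?_⟩
    · rintro ⟨a, x⟩ ⟨b, y⟩ h
      have h' : (if a then (x : ↥(RG K m)) * mG hK else x) = if b then (y : ↥(RG K m)) * mG hK else y :=
        congrArg Subtype.val h
      cases a <;> cases b <;> simp at h'
      · exact Prod.ext rfl h'
      · exact absurd ((Subgroup.mul_mem_cancel_left _ y.2).1 (h' ▸ x.2)) hmH
      · exact absurd ((Subgroup.mul_mem_cancel_left _ x.2).1 (h' ▸ y.2)) hmH
      · exact Prod.ext rfl h'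
    · rintro ⟨g, hg⟩
      rcases normalizer_HG_cases hK hm hg with h | h
      · exact ⟨(false, ⟨g, h⟩), Subtype.ext (by simp [f])⟩
      · exact ⟨(true, ⟨_, h⟩), Subtype.ext (by simp [f])⟩
  rw [← Nat.card_congr (Equiv.ofBijective f hf), Nat.card_prod, (HG_cyclic hK).2,
    Nat.card_eq_fintype_card, Fintype.card_bool]

theorem HG_sq_ne_of_odd {h : ↥(RG K m)} (h1 : h ≠ 1) {k : ℕ} (hk : Odd k) (he : h ^ k = 1) : h * h ≠ 1 := by
  intro e
  apply h1
  obtain ⟨s, rfl⟩ := hk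
  rwa [pow_succ, pow_mul, sq, e, one_pow, one_mul] at he

/-- The subgroups of odd order of the torus. -/
theorem HG_normalizer_sub {A₀ : Subgroup ↥(RG K m)} (hle : A₀ ≤ HG K m) {k : ℕ} (hk : Odd k)
    (hexp : ∀ x ∈ A₀, x ^ k = 1) (hne : A₀ ≠ ⊥) :
    Subgroup.normalizer (A₀ : Set ↥(RG K m)) = Subgroup.normalizer (HG K m : Set ↥(RG K m)) := by
  refine le_antisymm (fun g hg => ?_) (normalizer_le_of_cyclic (HG_cyclic hK).1 hle)
  obtain ⟨x, hx, hx1⟩ := (Subgroup.bot_or_exists_ne_one A₀).resolve_left hne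
  exact H_of_conj_mem hK (hle hx) (HG_sq_ne_of_odd hK hx1 hk (hexp x hx))
    (hle ((Subgroup.mem_normalizer_iff.1 hg x).1 hx))

end H52.Ree2
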