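import Cfsg.Agent.H52.ReeTori

/-!
Centralisers of cyclic subgroups of the tori of orders `q ± 1`.
-/

set_option autoImplicit false
set_option linter.unusedSectionVars false

namespace H52.Ree2

open Cfsg.Lie

/-- Centralisers of a conjugate subgroup with constant element centralisers. -/
theorem centralizer_of_const {G : Type*} [Group G] {T C A : Subgroup G} (g : G)
    (hA : A.map (MulAut.conj g).toMonoidHom ≤ T) (hne : A ≠ ⊥)
    (hC : ∀ x ∈ T, x ≠ 1 → Subgroup.centralizer {x} = C) :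
    Subgroup.centralizer (A : Set G) = C.map (MulAut.conj g⁻¹).toMonoidHom := by
  have key : ∀ a ∈ A, a ≠ 1 → ∀ y, (y * a = a * y ↔ g * y * g⁻¹ ∈ C) := by
    intro a ha ha1 y
    rw [← hC (g * a * g⁻¹) (hA ⟨a, ha, rfl⟩) (fun h => ha1 (conj_eq_one_iff.1 h)),
      Subgroup.mem_centralizer_singleton_iff]
    constructor
    · intro h
      rw [show g * y * g⁻¹ * (g * a * g⁻¹) = g * (y * a) * g⁻¹ by group, h]; group
    · intro h
      rw [show g * y * g⁻¹ * (g * a * g⁻¹) = g * (y * a) * g⁻¹ by group,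
        show g * a * g⁻¹ * (g * y * g⁻¹) = g * (a * y) * g⁻¹ by group] at h
      exact mul_left_cancel (mul_right_cancel h)
  ext y
  rw [Subgroup.mem_centralizer_iff, Subgroup.mem_map_equiv, MulAut.conj_symm_apply, inv_inv]
  constructor
  · intro h
    obtain ⟨a, ha, ha1⟩ := (Subgroup.bot_or_exists_ne_one A).resolve_left hne
    exact (key a ha ha1 y).1 (h a ha).symm
  · intro h a ha
    by_cases ha1 : a = 1
    · simp [ha1]
    · exact ((key a ha ha1 y).2 h).symm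

theorem exists_conj_le {G : Type*} [Group G] [Finite G] {T H : Subgroup G} {n k : ℕ} (hT : IsTorus T n k)
    (hn : n ≠ 1) (hH : IsCyclic ↥H) (hc : Nat.card ↥H = n) :
    ∃ g : G, H.map (MulAut.conj g).toMonoidHom ≤ T := by
  obtain ⟨x, rfl⟩ := (Subgroup.isCyclic_iff_exists_zpowers_eq_top H).1 hH
  rw [Nat.card_zpowers] at hc
  obtain ⟨g, hg⟩ := hT.conj x (hc ▸ pow_orderOf_eq_one x) (fun e => hn (by rw [← hc, e, orderOf_one]))
  exact ⟨g⁻¹, conj_zpowers_mem hg⟩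

variable {K : Type*} [Field K] [Fintype K] {m : ℕ} (hK : Fintype.card K = 3 ^ (2 * m + 1))

include hK

theorem torus_centralizer_minus (hm : 1 ≤ m) (H : Subgroup ↥(RG K m)) (hH : IsCyclic ↥H)
    (hc : Nat.card ↥H = qh m) :
    IsCyclic ↥(Subgroup.centralizer (H : Set ↥(RG K m))) ∧
      Nat.card ↥(Subgroup.centralizer (H : Set ↥(RG K m))) = 3 ^ (2 * m + 1) - 1 ∧
      ∀ A : Subgroup ↥(RG K m), A ≤ H → A ≠ ⊥ →
        Subgroup.centralizer (A : Set ↥(RG K m)) = Subgroup.centralizer (H : Set ↥(RG K m)) := by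
  obtain ⟨T, hT, hle⟩ := exists_torus_H hK hm
  obtain ⟨-, hq2, -, hoh, -⟩ := q_arith m
  have h27 : 27 ≤ 3 ^ (2 * m + 1) :=
    le_trans (by norm_num) (Nat.pow_le_pow_right (by norm_num : 0 < 3) (show 3 ≤ 2 * m + 1 by omega))
  obtain ⟨g, hg⟩ := exists_conj_le hT (by omega) hH hc
  have hC : ∀ x ∈ T, x ≠ 1 → Subgroup.centralizer {x} = HG K m := fun x hx hx1 =>
    centralizer_HG hK (hle hx) (HG_sq_ne_of_odd hK hx1 hoh
      (orderOf_dvd_iff_pow_eq_one.1 (hT.card ▸ Subgroup.orderOf_dvd_natCard T hx)))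
  have hne : H ≠ ⊥ := fun hb => by rw [hb, Subgroup.card_bot] at hc; omega
  have heq : ∀ A : Subgroup ↥(RG K m), A ≤ H → A ≠ ⊥ →
      Subgroup.centralizer (A : Set ↥(RG K m)) = (HG K m).map (MulAut.conj g⁻¹).toMonoidHom :=
    fun A hA hA1 => centralizer_of_const g ((Subgroup.map_mono hA).trans hg) hA1 hC
  refine ⟨?_, ?_, fun A hA hA1 => (heq A hA hA1).trans (heq H le_rfl hne).symm⟩
  · rw [heq H le_rfl hne]
    exact ((HG K m).equivMapOfInjective _ (MulAut.conj g⁻¹).injective).isCyclic.1 (HG_cyclic hK).1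
  · rw [heq H le_rfl hne, Subgroup.card_map_of_injective (MulAut.conj g⁻¹).injective, (HG_cyclic hK).2]

theorem torus_centralizer_plus (hm : 1 ≤ m) (H : Subgroup ↥(RG K m)) (hH : IsCyclic ↥H)
    (hc : Nat.card ↥H = qp m) :
    IsMulCommutative ↥(Subgroup.centralizer (H : Set ↥(RG K m))) ∧
      Nat.card ↥(Subgroup.centralizer (H : Set ↥(RG K m))) = 3 ^ (2 * m + 1) + 1 ∧
      (∀ x ∈ Subgroup.centralizer (H : Set ↥(RG K m)), orderOf x ≠ 4) ∧
      ∀ A : Subgroup ↥(RG K m), A ≤ H → A ≠ ⊥ →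
        Subgroup.centralizer (A : Set ↥(RG K m)) = Subgroup.centralizer (H : Set ↥(RG K m)) := by
  have h7 := qp_ge hm
  obtain ⟨hq4, -, hop, -⟩ := q_arith m
  obtain ⟨g, hg⟩ := exists_conj_le (torus_AT hK hm) (by omega) hH hc
  have hne : H ≠ ⊥ := fun hb => by rw [hb, Subgroup.card_bot] at hc; omega
  have heq : ∀ A : Subgroup ↥(RG K m), A ≤ H → A ≠ ⊥ →
      Subgroup.centralizer (A : Set ↥(RG K m)) = (L0 hK).map (MulAut.conj g⁻¹).toMonoidHom :=
    fun A hA hA1 => centralizer_of_const g ((Subgroup.map_mono hA).trans hg) hA1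
      (fun x hx hx1 => centralizer_AT hK hm hx hx1)
  refine ⟨?_, ?_, ?_, fun A hA hA1 => (heq A hA hA1).trans (heq H le_rfl hne).symm⟩
  · rw [heq H le_rfl hne]
    refine ⟨⟨?_⟩⟩
    rintro ⟨_, ⟨a, ha, rfl⟩⟩ ⟨_, ⟨b, hb, rfl⟩⟩
    apply Subtype.ext
    simp only [Subgroup.coe_mul, ← map_mul, L0_comm hK ha hb]
  · rw [heq H le_rfl hne, Subgroup.card_map_of_injective (MulAut.conj g⁻¹).injective, L0_card hK, hq4]
  · rw [heq H le_rfl hne]
    rintro _ ⟨a, ha, rfl⟩ h4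
    rw [MulEquiv.coe_toMonoidHom, MulEquiv.orderOf_eq] at h4
    have := orderOf_dvd_of_pow_eq_one (L0_exp hK ha)
    rw [h4] at this
    obtain ⟨s, hs⟩ := hop
    omega

end H52.Ree2
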