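import Cfsg.Agent.H52.TitsAct
import Cfsg.Agent.H53.TitsCheck

/-!
A group with the local structure of the derived subgroup of the twisted group of type F4 over two
elements is never doubly transitive.
-/

set_option autoImplicit false
set_option linter.unusedSectionVars false
set_option linter.unusedVariables false

namespace H52.TitsTwo

open H53.Tits H53.TitsData H52.TitsAct MulAction

/-- The relations used. -/
structure Rels (G : Type*) [Group G] where
  A : G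
  B : G
  C : G
  D : G
  E : G
  X : G
  T : G
  A_pow : A ^ 5 = 1
  B_pow : B ^ 5 = 1
  C_pow : C ^ 3 = 1
  D_pow : D ^ 3 = 1
  E_pow : E ^ 3 = 1
  X_pow : X ^ 13 = 1
  T_pow : T ^ 3 = 1
  AB_comm : Commute A B
  DC_comm : Commute D C
  EC_comm : Commute E C
  ED_rel : E * D = C * D * E
  T_rel : T * X ^ 3 = X * T
  A_ne : A ≠ 1
  C_ne : C ≠ 1
  X_ne : X ≠ 1
  T_ne : T ≠ 1
  B_not_pow : ∀ i < 5, B ≠ A ^ i
  five : ∀ i < 5, ∃ (W : G) (k : ℕ), ¬ 5 ∣ k ∧ W * (A ^ i * B) ^ k = A * W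
  three : ∀ m, 1 ≤ m → m < 27 → ∃ W : G,
    W * (C ^ (m / 9) * D ^ (m / 3 % 3) * E ^ (m % 3)) = C * W
  Y_inj : ∀ {m m' : ℕ}, m < 27 → m' < 27 →
    C ^ (m / 9) * D ^ (m / 3 % 3) * E ^ (m % 3) = C ^ (m' / 9) * D ^ (m' / 3 % 3) * E ^ (m' % 3) → m = m'
  card_eq : Nat.card G = 2 ^ 11 * 3 ^ 3 * 5 ^ 2 * 13

variable {G : Type*} [Group G] [Finite G]

/-- The standard element of the subgroup of order 27. -/
def Rels.Y (R : Rels G) (m : ℕ) : G := R.C ^ (m / 9) * R.D ^ (m / 3 % 3) * R.E ^ (m % 3)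

/-! ### R.A Sylow R.five-subgroup -/

theorem inv_mem_of_finite {G : Type*} [Group G] [Finite G] (M : Submonoid G) {x : G} (hx : x ∈ M) :
    x⁻¹ ∈ M := by
  have h : x ^ (orderOf x - 1) = x⁻¹ := by
    refine eq_inv_of_mul_eq_one_left ?_
    rw [← pow_succ, Nat.sub_add_cancel (orderOf_pos x), pow_orderOf_eq_one]
  rw [← h]
  exact M.pow_mem hx _

/-- The monoid generated by the two commuting elements of order R.five. -/
def M25 (R : Rels G) : Submonoid G where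
  carrier := {g | ∃ i j : ℕ, g = R.A ^ i * R.B ^ j}
  one_mem' := ⟨0, 0, by simp⟩
  mul_mem' := by
    rintro _ _ ⟨i, j, rfl⟩ ⟨i', j', rfl⟩
    refine ⟨i + i', j + j', ?_⟩
    rw [pow_add, pow_add, mul_assoc, ← mul_assoc (R.B ^ j), (R.AB_comm.symm.pow_pow j i').eq]
    simp only [mul_assoc]

/-- The subgroup of order 25. -/
def Q25 (R : Rels G) : Subgroup G :=
  { M25 R with inv_mem' := fun {x} hx => inv_mem_of_finite (M25 R) hx }

theorem mem_Q25 (R : Rels G) {g : G} : g ∈ (Q25 R) ↔ ∃ i j : ℕ, g = R.A ^ i * R.B ^ j := Iff.rfl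

theorem Q25_card (R : Rels G) : Nat.card (Q25 R) = 25 := by
  have : Fact (Nat.Prime 5) := ⟨by norm_num⟩
  have hP : IsPGroup 5 (Q25 R) := by
    rintro ⟨g, hg⟩
    obtain ⟨i, j, rfl⟩ := (mem_Q25 R).1 hg
    refine ⟨1, Subtype.ext ?_⟩
    show (R.A ^ i * R.B ^ j) ^ (5 ^ 1) = 1
    rw [pow_one, (R.AB_comm.pow_pow i j).mul_pow, ← pow_mul, ← pow_mul, mul_comm i, mul_comm j, pow_mul, pow_mul,
      R.A_pow, R.B_pow, one_pow, one_pow, one_mul]
  obtain ⟨k, hk⟩ := IsPGroup.iff_card.1 hP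
  have hd : 5 ^ k ∣ 2 ^ 11 * 3 ^ 3 * 5 ^ 2 * 13 := by
    rw [← hk, ← R.card_eq]; exact Subgroup.card_subgroup_dvd_card (Q25 R)
  have hk2 : k ≤ 2 := by
    by_contra h
    have h3 : 5 ^ 3 ∣ 2 ^ 11 * 3 ^ 3 * 5 ^ 2 * 13 := (pow_dvd_pow 5 (by omega)).trans hd
    norm_num at h3
  have hle : Subgroup.zpowers R.A ≤ (Q25 R) := Subgroup.zpowers_le.2 ((mem_Q25 R).2 ⟨1, 0, by simp⟩)
  have hlt : Subgroup.zpowers R.A < (Q25 R) := lt_of_le_of_ne hle fun e => by
    classical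
    have hB : R.B ∈ Subgroup.zpowers R.A := e ▸ (mem_Q25 R).2 ⟨0, 1, by simp⟩
    obtain ⟨i, hi⟩ := (isOfFinOrder_of_finite R.A).mem_zpowers_iff_mem_range_orderOf.1 hB |> Finset.mem_image.1
    rw [orderOf_eq_prime R.A_pow R.A_ne, Finset.mem_range] at hi
    exact R.B_not_pow i hi.1 hi.2.symm
  have hcard : Nat.card (Subgroup.zpowers R.A) < Nat.card (Q25 R) := by
    refine lt_of_le_of_ne (Subgroup.card_le_of_le hle) fun e => hlt.ne ?_
    exact Subgroup.eq_of_le_of_card_ge hle e.ge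
  rw [Nat.card_zpowers, orderOf_eq_prime R.A_pow R.A_ne, hk] at hcard
  interval_cases k <;> simp_all

section action

variable {Ω : Type*} [Fintype Ω] [MulAction G Ω]

theorem fix_Q25 (R : Rels G) (g : G) (hg : g ∈ (Q25 R)) (h1 : g ≠ 1) : fixN Ω g = fixN Ω R.A := by
  have h5 : Nat.Prime 5 := by norm_num
  obtain ⟨i, j, rfl⟩ := (mem_Q25 R).1 hg
  by_cases hj : 5 ∣ j
  · obtain ⟨l, rfl⟩ := hj
    rw [pow_mul, R.B_pow, one_pow, mul_one] at h1 ⊢
    refine fixN_pow h5 R.A_pow fun hi => h1 ?_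
    obtain ⟨l, rfl⟩ := hi
    rw [pow_mul, R.A_pow, one_pow]
  · obtain ⟨i', hi', hij⟩ : ∃ i' < 5, i' * (j % 5) % 5 = i % 5 := by
      have h : ∀ a < 5, ∀ b < 5, b ≠ 0 → ∃ c < 5, c * b % 5 = a := by decide
      exact h _ (Nat.mod_lt _ (by norm_num)) _ (Nat.mod_lt _ (by norm_num)) (fun e => hj (Nat.dvd_of_mod_eq_zero e))
    obtain ⟨W, k, hk, hW⟩ := R.five i' hi'
    have e : R.A ^ i * R.B ^ j = (R.A ^ i' * R.B) ^ j := by
      rw [(R.AB_comm.pow_left i').mul_pow, ← pow_mul]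
      congr 1
      rw [pow_eq_pow_mod i R.A_pow, pow_eq_pow_mod (i' * j) R.A_pow, Nat.mul_mod, ← hij]
      simp [Nat.mul_mod]
    have hz : (R.A ^ i' * R.B) ^ 5 = 1 := by
      rw [(R.AB_comm.pow_left i').mul_pow, ← pow_mul, mul_comm i', pow_mul, R.A_pow, one_pow, R.B_pow, one_mul]
    rw [e, fixN_pow h5 hz hj, ← fixN_pow h5 hz hk, fixN_conj hW]

theorem Y_eq (R : Rels G) (i j l : ℕ) : R.C ^ i * R.D ^ j * R.E ^ l = R.Y (9 * (i % 3) + 3 * (j % 3) + l % 3) := by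
  rw [Rels.Y, pow_eq_pow_mod i R.C_pow, pow_eq_pow_mod j R.D_pow, pow_eq_pow_mod l R.E_pow]
  have h1 : (9 * (i % 3) + 3 * (j % 3) + l % 3) / 9 = i % 3 := by omega
  have h2 : (9 * (i % 3) + 3 * (j % 3) + l % 3) / 3 % 3 = j % 3 := by omega
  have h3 : (9 * (i % 3) + 3 * (j % 3) + l % 3) % 3 = l % 3 := by omega
  rw [h1, h2, h3]

theorem ED_pow (R : Rels G) (j l : ℕ) : R.E ^ l * R.D ^ j = R.C ^ (l * j) * R.D ^ j * R.E ^ l := by
  have h1 : R.E * R.D ^ j = R.C ^ j * R.D ^ j * R.E := by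
    have h : SemiconjBy R.E R.D (R.C * R.D) := R.ED_rel
    have := (h.pow_right j).eq
    rw [R.DC_comm.symm.mul_pow] at this
    exact this
  induction l with
  | zero => simp
  | succ l ih =>
    calc R.E ^ (l + 1) * R.D ^ j = R.E ^ l * (R.E * R.D ^ j) := by rw [pow_succ, mul_assoc]
      _ = (R.E ^ l * R.C ^ j) * R.D ^ j * R.E := by rw [h1]; simp only [mul_assoc]
      _ = R.C ^ j * (R.E ^ l * R.D ^ j) * R.E := by rw [(R.EC_comm.pow_pow l j).eq]; simp only [mul_assoc]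
      _ = R.C ^ (j + l * j) * R.D ^ j * R.E ^ (l + 1) := by rw [ih, pow_add, pow_succ]; simp only [mul_assoc]
      _ = _ := by rw [Nat.succ_mul, add_comm]

end action

/-- The monoid of order 27. -/
def M27 (R : Rels G) : Submonoid G where
  carrier := {g | ∃ i j l : ℕ, g = R.C ^ i * R.D ^ j * R.E ^ l}
  one_mem' := ⟨0, 0, 0, by simp⟩
  mul_mem' := by
    rintro _ _ ⟨i, j, l, rfl⟩ ⟨i', j', l', rfl⟩
    refine ⟨i + i' + l * j', j + j', l + l', ?_⟩
    calc R.C ^ i * R.D ^ j * R.E ^ l * (R.C ^ i' * R.D ^ j' * R.E ^ l')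
        = R.C ^ i * R.D ^ j * (R.E ^ l * R.C ^ i') * R.D ^ j' * R.E ^ l' := by simp only [mul_assoc]
      _ = R.C ^ i * (R.D ^ j * R.C ^ i') * (R.E ^ l * R.D ^ j') * R.E ^ l' := by
          rw [(R.EC_comm.pow_pow l i').eq]; simp only [mul_assoc]
      _ = R.C ^ i * R.C ^ i' * (R.D ^ j * R.C ^ (l * j')) * R.D ^ j' * (R.E ^ l * R.E ^ l') := by
          rw [(R.DC_comm.pow_pow j i').eq, ED_pow R]; simp only [mul_assoc]
      _ = _ := by
          rw [(R.DC_comm.pow_pow j (l * j')).eq]; simp only [pow_add, mul_assoc]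

/-- The subgroup of order 27. -/
def Q27 (R : Rels G) : Subgroup G :=
  { M27 R with inv_mem' := fun {x} hx => inv_mem_of_finite (M27 R) hx }

theorem mem_Q27 (R : Rels G) {g : G} : g ∈ (Q27 R) ↔ ∃ m < 27, g = R.Y m := by
  refine ⟨?_, ?_⟩
  · rintro ⟨i, j, l, rfl⟩
    exact ⟨_, by omega, Y_eq R i j l⟩
  · rintro ⟨m, _, rfl⟩
    exact ⟨_, _, _, rfl⟩

theorem Q27_card (R : Rels G) : Nat.card (Q27 R) = 27 := by
  have hb : Function.Bijective fun m : Fin 27 => (⟨R.Y m.val, (mem_Q27 R).2 ⟨m.val, m.isLt, rfl⟩⟩ : (Q27 R)) := by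
    refine ⟨fun a b h => Fin.ext (R.Y_inj a.isLt b.isLt (congrArg Subtype.val h)), fun g => ?_⟩
    obtain ⟨m, hm, e⟩ := (mem_Q27 R).1 g.2
    exact ⟨⟨m, hm⟩, Subtype.ext e.symm⟩
  rw [← Nat.card_eq_of_bijective _ hb, Nat.card_fin]

section action

variable {Ω : Type*} [Fintype Ω] [MulAction G Ω]

theorem fix_Q27 (R : Rels G) (g : G) (hg : g ∈ (Q27 R)) (h1 : g ≠ 1) : fixN Ω g = fixN Ω R.C := by
  obtain ⟨m, hm, rfl⟩ := (mem_Q27 R).1 hg
  rcases Nat.eq_zero_or_pos m with rfl | h0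
  · exact absurd (by simp [Rels.Y]) h1
  · obtain ⟨W, hW⟩ := R.three m h0 hm
    exact fixN_conj hW

theorem fix_X (R : Rels G) (g : G) (hg : g ∈ Subgroup.zpowers R.X) (h1 : g ≠ 1) : fixN Ω g = fixN Ω R.X := by
  classical
  obtain ⟨i, hi⟩ := (isOfFinOrder_of_finite R.X).mem_zpowers_iff_mem_range_orderOf.1 hg |> Finset.mem_image.1
  rw [← hi.2] at h1 ⊢
  refine fixN_pow (by norm_num : Nat.Prime 13) R.X_pow fun hd => h1 ?_
  obtain ⟨l, rfl⟩ := hd
  rw [pow_mul, R.X_pow, one_pow]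

end action

/-! ### The degrees -/

/-- The degrees allowed by the order. -/
noncomputable def degOK (n : ℕ) : Bool :=
  !(((2 ^ 11 * 3 ^ 3 * 5 ^ 2 * 13) % (n * (n - 1))).beq 0) || [0, 1, 2, 3, 4, 5, 6, 9, 10, 13, 16, 25, 26, 27, 40, 65].contains n

theorem degOK_all : allLt (fun b => allLt (fun j => degOK (100 * b + j)) 100) 43 = true := by decide +kernel

theorem degrees {n : ℕ} (h3 : 3 ≤ n) (h : n * (n - 1) ∣ 2 ^ 11 * 3 ^ 3 * 5 ^ 2 * 13) :
    n ∈ [3, 4, 5, 6, 9, 10, 13, 16, 25, 26, 27, 40, 65] := by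
  have hlt : n < 4241 := by
    by_contra hn
    have h1 := Nat.le_of_dvd (by norm_num) h
    have h2 : 4241 * 4240 ≤ n * (n - 1) := Nat.mul_le_mul (by omega) (by omega)
    norm_num at h1 h2
    omega
  have := allLt_spec (allLt_spec degOK_all (n / 100) (by omega)) (n % 100) (by omega)
  rw [Nat.div_add_mod] at this
  have h0 : ((2 ^ 11 * 3 ^ 3 * 5 ^ 2 * 13) % (n * (n - 1))).beq 0 = true := by
    rw [Nat.mod_eq_zero_of_dvd h]; rfl
  simp only [degOK, h0, Bool.not_true, Bool.false_or, List.contains_iff_mem] at this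
  simp only [List.mem_cons, List.not_mem_nil, or_false] at this ⊢
  omega

theorem not_two_transitive {Ω : Type*} [Fintype Ω] [MulAction G Ω] [FaithfulSMul G Ω] (R : Rels G)
    (hΩ : 3 ≤ Fintype.card Ω) : ¬ IsMultiplyPretransitive G Ω 2 := by
  intro h2
  have : IsPretransitive G Ω := by
    have := h2
    exact isPretransitive_of_is_two_pretransitive
  have hd := two_trans_dvd h2 (by omega)
  rw [R.card_eq] at hd
  have hn := degrees hΩ hd
  have h25 := burnside_dvd (Ω := Ω) (Q25 R) (fix_Q25 R)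
  have h27 := burnside_dvd (Ω := Ω) (Q27 R) (fix_Q27 R)
  have hX13 : Nat.card (Subgroup.zpowers R.X) = 13 := by
    have : Fact (Nat.Prime 13) := ⟨by norm_num⟩
    rw [Nat.card_zpowers, orderOf_eq_prime R.X_pow R.X_ne]
  have h13 := burnside_dvd (Ω := Ω) (Subgroup.zpowers R.X) (fix_X R)
  rw [Q25_card R, Nat.card_eq_fintype_card (α := Ω)] at h25
  rw [Q27_card R, Nat.card_eq_fintype_card (α := Ω)] at h27
  rw [hX13, Nat.card_eq_fintype_card (α := Ω)] at h13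
  have hA := fixN_lt (Ω := Ω) R.A_ne
  have hC := fixN_lt (Ω := Ω) R.C_ne
  have hX := fixN_lt (Ω := Ω) R.X_ne
  rw [Nat.card_eq_fintype_card] at hA hC hX
  have hst : ∀ q : Ω, Nat.card (stabilizer G q) * Fintype.card Ω = 2 ^ 11 * 3 ^ 3 * 5 ^ 2 * 13 := fun q => by
    rw [← R.card_eq, ← card_stabilizer_mul (G := G) q, Nat.card_eq_fintype_card (α := Ω)]
  have h27' : Fintype.card Ω = 27 → 3 ∣ fixN Ω R.X := by
    intro e
    refine dvd_fixN (by norm_num) R.T_pow R.T_rel fun q hq => ?_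
    have : Fact (Nat.Prime 3) := ⟨by norm_num⟩
    have hd3 : 3 ∣ Nat.card (stabilizer G q) := by
      rw [← orderOf_eq_prime R.T_pow R.T_ne]
      exact Subgroup.orderOf_dvd_natCard _ (mem_stabilizer_iff.2 hq)
    have hq' := hst q
    rw [e] at hq'
    generalize Nat.card (stabilizer G q) = M at hq' hd3
    omega
  have h40 : Fintype.card Ω = 40 ∨ Fintype.card Ω = 65 → 6 * fixN Ω R.A ≤ Fintype.card Ω := by
    intro e
    have hle := count_le (Ω := Ω) (Q25 R) (s := 5) (fix_Q25 R) fun q => ?_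
    · rw [Q25_card R, Nat.card_eq_fintype_card] at hle
      omega
    have hd25 : Nat.card (stabilizer (Q25 R) q) ∣ 25 := by
      rw [← Q25_card R]; exact Subgroup.card_subgroup_dvd_card _
    by_contra hgt
    obtain ⟨k, hk, hk'⟩ := (Nat.dvd_prime_pow (by norm_num : Nat.Prime 5) (m := 2)).1 (hd25.trans (by norm_num : (25 : ℕ) ∣ 5 ^ 2))
    have hk2 : k = 2 := by
      by_contra hk2
      have : 5 ^ k ≤ 5 ^ 1 := Nat.pow_le_pow_right (by norm_num) (by omega)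
      omega
    subst hk2
    have htop : stabilizer (Q25 R) q = ⊤ := Subgroup.eq_top_of_card_eq _ (by rw [hk', Q25_card R]; norm_num)
    have hsub : (Q25 R) ≤ stabilizer G q := fun g hg => by
      have : (⟨g, hg⟩ : (Q25 R)) ∈ stabilizer (Q25 R) q := by rw [htop]; trivial
      exact this
    have h25d : 25 ∣ Nat.card (stabilizer G q) := Q25_card R ▸ Subgroup.card_dvd_of_le hsub
    have hq' := hst q
    generalize Nat.card (stabilizer G q) = M at hq' h25d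
    rcases e with e | e <;> rw [e] at hq' <;> omega
  simp only [List.mem_cons, List.not_mem_nil, or_false] at hn
  omega

end H52.TitsTwo
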