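import Cfsg.Agent.H52.TitsWords

/-!
Words witnessing conjugacy of elements of orders 3, 5 and 13 in the Tits group.
-/

set_option autoImplicit false

namespace H52.TitsCert

open H52.TitsW

/-- An element of order 5. -/
def wa : List (Fin 4) := [3, 3, 2, 2]

/-- A second one. -/
def wb : List (Fin 4) := [1, 2, 0, 2, 2, 2, 1, 2, 2, 2, 3, 3, 3, 1, 2, 0, 2, 2, 2, 1, 3, 3, 2, 2, 1, 2, 0, 2, 2, 2, 1, 3, 2, 1, 2, 0, 2, 2, 2, 1]

/-- An element of order 3. -/
def wc : List (Fin 4) := [1, 0]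

/-- A second one. -/
def wd : List (Fin 4) := [3, 3, 3, 2, 2, 2, 1, 2, 2, 2, 3, 3, 3, 0, 3, 3, 3, 2, 2, 2, 1, 2, 2, 2, 3, 3, 3, 0, 3, 3, 3, 2, 1, 0, 2, 2, 2, 3, 0, 3, 2, 1, 2, 3, 0, 3, 2, 1, 2, 3]

/-- A third one. -/
def we : List (Fin 4) := [2, 2, 2, 3, 3, 3, 0, 3, 3, 3, 2, 2, 2, 1, 2, 2, 2, 3, 3, 3, 0, 3, 3, 3, 2, 1, 3, 3, 3, 2, 2, 2, 1, 0, 2, 3, 1, 2, 2, 2, 3, 0, 3, 2, 1, 2, 3, 0, 3, 2]

/-- An element of order 13. -/
def wx : List (Fin 4) := [3, 3, 1, 2, 2, 0]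

/-- An element of order 3 normalising it. -/
def wt : List (Fin 4) := [3, 2, 2, 0, 2, 2, 2, 1, 3, 3, 1, 0, 3, 3, 3, 2, 2, 2, 0, 1, 2, 0, 2, 2, 2, 3, 3, 1]

/-- Conjugators of order 5. -/
def conj5 : List (List (Fin 4)) := [[0, 1, 0, 2, 2, 2, 3, 1, 2, 2, 0, 1],
  [0, 1, 3, 2, 1, 0, 3, 2, 2, 0, 2, 2, 2, 1, 0, 3, 2, 2, 0, 2, 2, 2],
  [0, 1, 0, 2, 0, 2, 2, 2, 3, 2, 1, 0, 2, 3, 1, 2, 3, 0],
  [0, 1, 0, 2, 0, 2, 2, 2, 3, 2, 1, 0, 2, 3, 1, 2, 0, 2, 2, 2],
  [0, 2, 3, 1, 2, 3, 0, 1, 3, 2, 2, 0, 2, 2, 2, 0, 1, 0]]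

/-- Exponents. -/
def exp5 : List ℕ := [3, 2, 2, 2, 3]

/-- Conjugators of order 3. -/
def conj3 : List (List (Fin 4)) := [[],
  [2, 3, 1, 2, 2, 2, 3, 0, 3, 2, 1, 2, 3, 0, 3, 2],
  [0, 2, 3, 1, 2, 2, 2, 3, 0, 3, 2, 1, 2, 3, 0, 3, 2],
  [2, 2, 2, 3, 0, 3, 2, 1, 2, 3, 0, 3, 2, 1, 2, 3],
  [2, 2, 0, 2, 3, 2, 2, 0, 1, 3, 2, 1, 0, 2, 3, 0, 2, 2],
  [0, 3, 3, 2, 0, 2, 2, 2, 1, 2, 3, 1, 0, 3, 3, 1, 2, 0, 2, 2, 2, 3, 2],
  [2, 3, 0, 1, 3, 2, 2, 0, 2, 2, 2, 1, 3, 2, 1, 0, 2, 0, 2, 2, 2],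
  [2, 2, 0, 2, 3, 1, 2, 0, 2, 2, 2, 3, 2, 0, 1, 2, 0, 2, 2, 2],
  [2, 2, 3, 2, 1, 2, 3, 0, 3, 2, 1, 2, 3, 1, 2, 0, 2, 2, 2, 3, 2],
  [],
  [2, 3, 0, 2, 0, 2, 2, 2, 1, 2, 2, 2, 3, 0, 2, 0, 2, 2, 2],
  [2, 3, 1, 2, 3, 0, 1, 2, 0, 2, 2, 2, 1, 2, 2, 2, 3],
  [2, 3, 1, 2, 3, 1, 0, 3, 3, 1, 2, 0, 2],
  [0, 2, 2, 3, 2, 1, 2, 3, 0, 3, 2, 1, 2, 3, 1, 2, 0, 2, 2, 2, 3, 2],
  [3, 3, 1, 0, 3, 3, 1, 2, 0, 2, 2, 2, 3, 3, 2, 0, 2, 2, 2, 1, 3, 2, 2, 0, 2, 2, 2],
  [2, 2, 2, 0, 2, 2, 2, 1, 3, 3, 1, 2, 0, 2, 2, 2, 1, 2, 2, 2, 3],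
  [0, 3, 3, 1, 0, 3, 3, 1, 2, 0, 2, 2, 2, 3, 3, 2, 0, 2, 2, 2, 1, 3, 2, 2, 0, 2, 2, 2],
  [2, 2, 0, 2, 3, 0, 1, 3, 2, 1, 0, 2, 2, 2, 3, 0, 2, 2],
  [0],
  [0, 2, 3, 1, 2, 3, 0, 1, 2, 0, 2, 2, 2, 1, 2, 2, 2, 3],
  [0, 2, 3, 0, 2, 0, 2, 2, 2, 1, 2, 2, 2, 3, 0, 2, 0, 2, 2, 2],
  [2, 3, 0, 2, 2, 2, 0, 2, 2, 2, 1, 3, 2, 2, 0, 2, 2, 2, 3, 3, 2, 0, 2, 2, 2],
  [3, 2, 2, 0, 2, 2, 2, 3, 3, 1, 3, 3, 2, 0, 2, 2, 2, 3, 2],
  [0, 2, 2, 0, 2, 3, 1, 2, 0, 2, 2, 2, 3, 2, 0, 1, 2, 0, 2, 2, 2],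
  [2, 2, 2, 0, 2, 2, 2, 1, 0, 3, 3, 1, 2, 3, 1, 2, 3],
  [3, 3, 2, 0, 2, 2, 2, 1, 2, 3, 1, 0, 3, 3, 1, 2, 0, 2, 2, 2, 3, 2],
  [0, 3, 2, 2, 0, 2, 2, 2, 3, 3, 1, 3, 3, 2, 0, 2, 2, 2, 3, 2]]

/-- The key of an element. -/
noncomputable def keyOf (w : List (Fin 4)) : ℕ := wrow w (2 ^ 0) + 2 ^ 52 * wrow w (2 ^ 0)

/-- The keys of the 27 elements. -/
def keys3 : List ℕ := [4503599627370497, 11970916628008964914235987658786, 14937964272423459141820539116003, 9633637696999198388561204024275, 3209359551847353578896580673537, 10385144569225931950623323883682, 5153665843270498920402767679122, 15181809492862301910500233810403, 618972399565409759200284737, 618970019656201073770627075, 15458256813631729781316871327410, 20247713724405439215616028087283, 13594818705815497951308447422819, 2575224767904009012990708023297, 16802785453343978676768438649522, 11729537753025319756928960921762, 18667937807095123065719153991027, 1200484020271507050817,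 1180605131516293677059, 6347107722526925057871803777682, 8363346841013536829905667267923, 20011218716728789143302336094195, 2574915281713605054335106940931, 6422738083886463214581662780434, 17036814059789394587839407295538, 9555541033135400353102163845075, 18748485248743379011]

theorem a_pow : sameW (wpow wa 5) [] = true := by
  decide +kernel

theorem b_pow : sameW (wpow wb 5) [] = true := by
  decide +kernel

theorem ab_comm : sameW (wa ++ wb) (wb ++ wa) = true := by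
  decide +kernel

theorem c_pow : sameW (wpow wc 3) [] = true := by
  decide +kernel

theorem d_pow : sameW (wpow wd 3) [] = true := by
  decide +kernel

theorem e_pow : sameW (wpow we 3) [] = true := by
  decide +kernel

theorem cd_comm : sameW (wd ++ wc) (wc ++ wd) = true := by
  decide +kernel

theorem ce_comm : sameW (we ++ wc) (wc ++ we) = true := by
  decide +kernel

theorem de_rel : sameW (we ++ wd) (wc ++ wd ++ we) = true := by
  decide +kernel

theorem x_pow : sameW (wpow wx 13) [] = true := by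
  decide +kernel

theorem t_pow : sameW (wpow wt 3) [] = true := by
  decide +kernel

theorem t_rel : sameW (wt ++ wpow wx 3) (wx ++ wt) = true := by
  decide +kernel

theorem a_ne : diffW (wa) ([]) 1 0 = true := by
  decide +kernel

theorem c_ne : diffW (wc) ([]) 0 1 = true := by
  decide +kernel

theorem x_ne : diffW (wx) ([]) 0 1 = true := by
  decide +kernel

theorem t_ne : diffW (wt) ([]) 0 1 = true := by
  decide +kernel

theorem b_ne0 : diffW (wb) (wpow wa 0) 0 51 = true := by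
  decide +kernel

theorem b_ne1 : diffW (wb) (wpow wa 1) 0 51 = true := by
  decide +kernel

theorem b_ne2 : diffW (wb) (wpow wa 2) 0 51 = true := by
  decide +kernel

theorem b_ne3 : diffW (wb) (wpow wa 3) 0 51 = true := by
  decide +kernel

theorem b_ne4 : diffW (wb) (wpow wa 4) 0 51 = true := by
  decide +kernel

theorem evens : [wa, wb, wc, wd, we, wx, wt].all evW && conj5.all evW && conj3.all evW = true := by
  decide +kernel

theorem five0 : sameW (conj5.getD 0 [] ++ wpow (wpow wa 0 ++ wb) (exp5.getD 0 0)) (wa ++ conj5.getD 0 []) = true := by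
  decide +kernel

theorem five1 : sameW (conj5.getD 1 [] ++ wpow (wpow wa 1 ++ wb) (exp5.getD 1 0)) (wa ++ conj5.getD 1 []) = true := by
  decide +kernel

theorem five2 : sameW (conj5.getD 2 [] ++ wpow (wpow wa 2 ++ wb) (exp5.getD 2 0)) (wa ++ conj5.getD 2 []) = true := by
  decide +kernel

theorem five3 : sameW (conj5.getD 3 [] ++ wpow (wpow wa 3 ++ wb) (exp5.getD 3 0)) (wa ++ conj5.getD 3 []) = true := by
  decide +kernel

theorem five4 : sameW (conj5.getD 4 [] ++ wpow (wpow wa 4 ++ wb) (exp5.getD 4 0)) (wa ++ conj5.getD 4 []) = true := by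
  decide +kernel

theorem three1 : sameW (conj3.getD 1 [] ++ y3 wc wd we 1) (wc ++ conj3.getD 1 []) = true := by
  decide +kernel

theorem three2 : sameW (conj3.getD 2 [] ++ y3 wc wd we 2) (wc ++ conj3.getD 2 []) = true := by
  decide +kernel

theorem three3 : sameW (conj3.getD 3 [] ++ y3 wc wd we 3) (wc ++ conj3.getD 3 []) = true := by
  decide +kernel

theorem three4 : sameW (conj3.getD 4 [] ++ y3 wc wd we 4) (wc ++ conj3.getD 4 []) = true := by
  decide +kernel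

theorem three5 : sameW (conj3.getD 5 [] ++ y3 wc wd we 5) (wc ++ conj3.getD 5 []) = true := by
  decide +kernel

theorem three6 : sameW (conj3.getD 6 [] ++ y3 wc wd we 6) (wc ++ conj3.getD 6 []) = true := by
  decide +kernel

theorem three7 : sameW (conj3.getD 7 [] ++ y3 wc wd we 7) (wc ++ conj3.getD 7 []) = true := by
  decide +kernel

theorem three8 : sameW (conj3.getD 8 [] ++ y3 wc wd we 8) (wc ++ conj3.getD 8 []) = true := by
  decide +kernel

theorem three9 : sameW (conj3.getD 9 [] ++ y3 wc wd we 9) (wc ++ conj3.getD 9 []) = true := by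
  decide +kernel

theorem three10 : sameW (conj3.getD 10 [] ++ y3 wc wd we 10) (wc ++ conj3.getD 10 []) = true := by
  decide +kernel

theorem three11 : sameW (conj3.getD 11 [] ++ y3 wc wd we 11) (wc ++ conj3.getD 11 []) = true := by
  decide +kernel

theorem three12 : sameW (conj3.getD 12 [] ++ y3 wc wd we 12) (wc ++ conj3.getD 12 []) = true := by
  decide +kernel

theorem three13 : sameW (conj3.getD 13 [] ++ y3 wc wd we 13) (wc ++ conj3.getD 13 []) = true := by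
  decide +kernel

theorem three14 : sameW (conj3.getD 14 [] ++ y3 wc wd we 14) (wc ++ conj3.getD 14 []) = true := by
  decide +kernel

theorem three15 : sameW (conj3.getD 15 [] ++ y3 wc wd we 15) (wc ++ conj3.getD 15 []) = true := by
  decide +kernel

theorem three16 : sameW (conj3.getD 16 [] ++ y3 wc wd we 16) (wc ++ conj3.getD 16 []) = true := by
  decide +kernel

theorem three17 : sameW (conj3.getD 17 [] ++ y3 wc wd we 17) (wc ++ conj3.getD 17 []) = true := by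
  decide +kernel

theorem three18 : sameW (conj3.getD 18 [] ++ y3 wc wd we 18) (wc ++ conj3.getD 18 []) = true := by
  decide +kernel

theorem three19 : sameW (conj3.getD 19 [] ++ y3 wc wd we 19) (wc ++ conj3.getD 19 []) = true := by
  decide +kernel

theorem three20 : sameW (conj3.getD 20 [] ++ y3 wc wd we 20) (wc ++ conj3.getD 20 []) = true := by
  decide +kernel

theorem three21 : sameW (conj3.getD 21 [] ++ y3 wc wd we 21) (wc ++ conj3.getD 21 []) = true := by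
  decide +kernel

theorem three22 : sameW (conj3.getD 22 [] ++ y3 wc wd we 22) (wc ++ conj3.getD 22 []) = true := by
  decide +kernel

theorem three23 : sameW (conj3.getD 23 [] ++ y3 wc wd we 23) (wc ++ conj3.getD 23 []) = true := by
  decide +kernel

theorem three24 : sameW (conj3.getD 24 [] ++ y3 wc wd we 24) (wc ++ conj3.getD 24 []) = true := by
  decide +kernel

theorem three25 : sameW (conj3.getD 25 [] ++ y3 wc wd we 25) (wc ++ conj3.getD 25 []) = true := by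
  decide +kernel

theorem three26 : sameW (conj3.getD 26 [] ++ y3 wc wd we 26) (wc ++ conj3.getD 26 []) = true := by
  decide +kernel

theorem keys_eq : (List.range 27).map (fun m => keyOf (y3 wc wd we m)) = keys3 := by
  decide +kernel

theorem keys_nodup : keys3.Nodup := by
  decide +kernel

end H52.TitsCert
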