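import Cfsg.Agent.H53.TitsMain

/-!
Words in the four generators of the twisted group of type F4 over two elements, evaluated on rows.
-/

set_option autoImplicit false
set_option linter.unusedSectionVars false

namespace H52.TitsW

open Cfsg.Lie H53.BitMat H53.Tits H53.TitsData

/-- A row times a word. -/
noncomputable def wrow (w : List (Fin 4)) (v : ℕ) : ℕ :=
  List.rec (motive := fun _ => ℕ → ℕ) (fun v => v)
    (fun k _ ih v => ih (appD (diffs.getD k.val []) v)) w v

/-- Equality of the products of two words. -/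
noncomputable def sameW (w w' : List (Fin 4)) : Bool :=
  allLt (fun i => Nat.beq (wrow w (2 ^ i)) (wrow w' (2 ^ i))) 52

/-- A place where two products differ. -/
noncomputable def diffW (w w' : List (Fin 4)) (i c : ℕ) : Bool :=
  Nat.blt i 52 && Nat.blt c 52 && ((wrow w (2 ^ i)).testBit c != (wrow w' (2 ^ i)).testBit c)

/-- A power of a word. -/
def wpow (w : List (Fin 4)) : ℕ → List (Fin 4)
  | 0 => []
  | k + 1 => wpow w k ++ w

/-- The word of `c^i d^j e^l`, where `m = 9 i + 3 j + l`. -/
def y3 (c d e : List (Fin 4)) (m : ℕ) : List (Fin 4) :=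
  wpow c (m / 9) ++ wpow d (m / 3 % 3) ++ wpow e (m % 3)

/-- Evenness of a word. -/
def evW (w : List (Fin 4)) : Bool := w.countP (fun k => 2 ≤ k.val) % 2 == 0

theorem gprod_append (w w' : List (Fin 4)) : gprod (w ++ w') = gprod w * gprod w' := by
  simp [gprod, List.map_append, List.prod_append]

theorem gprod_nil : gprod [] = 1 := by simp [gprod]

theorem gprod_wpow (w : List (Fin 4)) (k : ℕ) : gprod (wpow w k) = gprod w ^ k := by
  induction k with
  | zero => simp [wpow, gprod_nil]
  | succ k ih => rw [wpow, gprod_append, ih, pow_succ]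

theorem vecMul_gprod (w : List (Fin 4)) (v : ℕ) :
    Matrix.vecMul (rowOf v) ((gprod w : GL chevF4.Idx K2) : Matrix chevF4.Idx chevF4.Idx K2) = rowOf (wrow w v) := by
  induction w generalizing v with
  | nil => rw [gprod_nil, OneMemClass.coe_one, Units.val_one, Matrix.vecMul_one]; rfl
  | cons k w ih =>
    have e : gprod (k :: w) = gel k * gprod w := by simp [gprod]
    rw [e, Subgroup.coe_mul, Units.val_mul, ← Matrix.vecMul_vecMul]
    show Matrix.vecMul (Matrix.vecMul _ (gmat k.val : Matrix chevF4.Idx chevF4.Idx K2)) _ = _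
    rw [vecMul_gen k.isLt, ih]; rfl

theorem rowOf_unit (a : chevF4.Idx) : rowOf (2 ^ (finSumFinEquiv a).val) = Pi.single a 1 := by
  funext b
  simp only [rowOf, Nat.testBit_two_pow]
  by_cases h : a = b
  · subst h; simp [bit]
  · have : ¬ (finSumFinEquiv a).val = (finSumFinEquiv b).val := fun e => h (finSumFinEquiv.injective (Fin.ext e))
    simp [bit, this, Pi.single_eq_of_ne (Ne.symm h)]

theorem entry_gprod (w : List (Fin 4)) (a : chevF4.Idx) :
    ((gprod w : GL chevF4.Idx K2) : Matrix chevF4.Idx chevF4.Idx K2) a = rowOf (wrow w (2 ^ (finSumFinEquiv a).val)) := by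
  rw [← vecMul_gprod, rowOf_unit, Matrix.single_one_vecMul]
  rfl

theorem eq_of_sameW {w w' : List (Fin 4)} (h : sameW w w' = true) : gprod w = gprod w' := by
  refine Subtype.ext (Units.ext ?_)
  funext a
  rw [entry_gprod, entry_gprod,
    Nat.eq_of_beq_eq_true (allLt_spec h (finSumFinEquiv a).val (finSumFinEquiv a).isLt)]

theorem ne_of_diffW {w w' : List (Fin 4)} {i c : ℕ} (h : diffW w w' i c = true) : gprod w ≠ gprod w' := by
  simp only [diffW, Bool.and_eq_true, Nat.blt_eq, bne_iff_ne] at h
  obtain ⟨⟨hi, hc⟩, hne⟩ := h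
  intro e
  have e1 := congrArg (fun g : ↥G2' => ((g : GL chevF4.Idx K2) : Matrix chevF4.Idx chevF4.Idx K2)
    (finSumFinEquiv.symm ⟨i, hi⟩) (finSumFinEquiv.symm ⟨c, hc⟩)) e
  simp only [entry_gprod, rowOf, Equiv.apply_symm_apply] at e1
  revert hne e1
  cases (wrow w (2 ^ i)).testBit c <;> cases (wrow w' (2 ^ i)).testBit c <;> simp [bit]

theorem wrow_of_eq {w w' : List (Fin 4)} (e : gprod w = gprod w') {i c : ℕ} (hi : i < 52) (hc : c < 52) :
    (wrow w (2 ^ i)).testBit c = (wrow w' (2 ^ i)).testBit c := by
  by_contra hne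
  refine ne_of_diffW (i := i) (c := c) ?_ e
  simp [diffW, hi, hc, hne]

theorem chg_gprod (w : List (Fin 4)) : Chg (gprod w) (!evW w) := by
  induction w with
  | nil => rw [gprod_nil]; exact chg_one
  | cons k w ih =>
    have e : gprod (k :: w) = gel k * gprod w := by simp [gprod]
    rw [e]
    convert chg_mul (chg_gel k) ih using 1
    simp only [evW, List.countP_cons]
    rcases Nat.mod_two_eq_zero_or_one (w.countP fun j : Fin 4 => decide (2 ≤ j.val)) with h | h <;>
      fin_cases k <;> simp [gphi, h, Nat.add_mod]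

theorem chg_inv {g : ↥G2'} {b : Bool} (h : Chg g b) : Chg g⁻¹ b := by
  obtain ⟨c, hc⟩ := chg_exists g⁻¹
  have h1 := chg_mul h hc
  rw [mul_inv_cancel] at h1
  have := chg_unique h1 chg_one
  cases b <;> cases c <;> first | exact hc | simp at this

theorem mem_commutator_of_chg {g : ↥G2'} (h : Chg g false) : g ∈ commutator ↥G2' := by
  by_contra hg
  have hh : (gel 2)⁻¹ * g ∈ commutator ↥G2' := by
    rw [Subgroup.mul_mem_iff_of_index_two index_eq_two, inv_mem_iff]
    exact iff_of_false gel_two_not_mem hg
  have key : ∀ x ∈ commutator ↥G2', Chg x false := by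
    intro x hx
    rw [commutator_eq_closure] at hx
    induction hx using Subgroup.closure_induction with
    | mem x hx =>
      obtain ⟨a, b, rfl⟩ := hx
      obtain ⟨p, hp⟩ := chg_exists a
      obtain ⟨q, hq⟩ := chg_exists b
      have h1 := chg_mul (chg_mul (chg_mul hp hq) (chg_inv hp)) (chg_inv hq)
      rw [commutatorElement_def]
      convert h1 using 1
      cases p <;> cases q <;> rfl
    | one => exact chg_one
    | mul x y _ _ hx hy => exact chg_mul hx hy
    | inv x _ hx => exact chg_inv hx
  have := chg_mul (chg_gel 2) (key _ hh)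
  rw [mul_inv_cancel_left] at this
  exact absurd (chg_unique this h) (by decide)

/-- An even word as an element of the Tits group. -/
noncomputable def tel (w : List (Fin 4)) (h : evW w = true) : TitsGroup :=
  ⟨gprod w, mem_commutator_of_chg (by simpa [h] using chg_gprod w)⟩

theorem coe_tel (w : List (Fin 4)) (h : evW w = true) : ((tel w h : TitsGroup) : ↥G2') = gprod w := rfl

end H52.TitsW
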