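import Cfsg.Agent.H52.F4InvolClasses
import Cfsg.Agent.H52.TitsWords

/-!
The two classes of involutions of the derived subgroup of the twisted group of type F4 over two elements.
-/

set_option autoImplicit false
set_option linter.unusedSectionVars false
set_option maxRecDepth 8000

namespace H52.F4N

open Cfsg.Lie H52 H53 H53.Tits H53.TitsData H52.TitsW H53.BitMat

theorem tits_words :
    (H52.TitsW.evW [0] && H52.TitsW.evW [2, 2] && !H52.TitsW.evW [2] && !H52.TitsW.evW [0, 1, 0, 2, 0, 1, 0]) = true ∧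
      sameW ([0] ++ [0, 1, 0, 2, 0, 1, 0]) ([0, 1, 0, 2, 0, 1, 0] ++ [0]) = true ∧
      bword chevF4 (cat (([0] : List (Fin 4)).map Fin.val)) = bword chevF4 [33, 24] ∧
      bword chevF4 (cat (([2, 2] : List (Fin 4)).map Fin.val)) = bword chevF4 [28, 30] := by
  decide +kernel

theorem val_gA : ((gprod [0] : ↥G2') : GL chevF4.Idx K2) = repA 0 (1 : K2) := by
  refine Units.ext ?_
  rw [coe_gprod, checkedF4.coe_wordRt, ones, ← evalB_bword chevF4 H53.Tits.two_zero, tits_words.2.2.1,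
    coe_repA (by simpa using H53.Tits.card_K2)]

theorem val_gZ : ((gprod [2, 2] : ↥G2') : GL chevF4.Idx K2) = repZ 0 (1 : K2) := by
  refine Units.ext ?_
  rw [coe_gprod, checkedF4.coe_wordRt, ones, ← evalB_bword chevF4 H53.Tits.two_zero, tits_words.2.2.2,
    coe_repZ (by simpa using H53.Tits.card_K2)]

/-- The derived subgroup has exactly two classes of involutions. -/
theorem tits_two_classes : (ConjClasses.mk '' {g : TitsGroup | orderOf g = 2}).ncard = 2 := by
  have hK : Fintype.card K2 = 2 ^ (2 * 0 + 1) := H53.Tits.card_K2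
  obtain ⟨h1, hcomm, -, -⟩ := tits_words
  simp only [Bool.and_eq_true, Bool.not_eq_true'] at h1
  obtain ⟨⟨⟨e0, e22⟩, e2⟩, eW⟩ := h1
  set A : TitsGroup := tel [0] e0 with hAd
  set Z : TitsGroup := tel [2, 2] e22 with hZd
  have hA : ((A : ↥G2') : GL chevF4.Idx K2) = repA 0 (1 : K2) := val_gA
  have hZ : ((Z : ↥G2') : GL chevF4.Idx K2) = repZ 0 (1 : K2) := val_gZ
  have odd : ∀ w : List (Fin 4), H52.TitsW.evW w = false → gprod w ∉ commutator ↥G2' := by
    intro w hw hmem
    have hh : (gel 2)⁻¹ * gprod w ∈ commutator ↥G2' := by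
      refine mem_commutator_of_chg ?_
      have := chg_mul (H52.TitsW.chg_inv (chg_gel 2)) (chg_gprod w)
      rw [hw] at this
      simpa [gphi] using this
    exact gel_two_not_mem (by simpa using mul_mem hmem (inv_mem hh))
  have move : ∀ (R g : TitsGroup) (c : ↥G2'), c ∉ commutator ↥G2' → c * (R : ↥G2') = (R : ↥G2') * c →
      Cj 0 ((g : ↥G2') : GL chevF4.Idx K2) ((R : ↥G2') : GL chevF4.Idx K2) →
      ConjClasses.mk g = ConjClasses.mk R := by
    rintro R g c hc hcR ⟨x, hx, e⟩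
    set x' : ↥G2' := ⟨x, by simpa using hx⟩ with hx'
    have ex : x' * (g : ↥G2') * x'⁻¹ = (R : ↥G2') := Subtype.ext e
    apply ConjClasses.mk_eq_mk_iff_isConj.2
    by_cases h : x' ∈ commutator ↥G2'
    · exact isConj_iff.2 ⟨⟨x', h⟩, Subtype.ext ex⟩
    · refine isConj_iff.2 ⟨⟨c * x', (Subgroup.mul_mem_iff_of_index_two index_eq_two).2 (iff_of_false hc h)⟩,
        Subtype.ext ?_⟩
      show c * x' * (g : ↥G2') * (c * x')⁻¹ = (R : ↥G2')
      rw [mul_inv_rev, show c * x' * (g : ↥G2') * (x'⁻¹ * c⁻¹) = c * (x' * (g : ↥G2') * x'⁻¹) * c⁻¹ by group,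
        ex, hcR, mul_inv_cancel_right]
  have hord : ∀ y : TitsGroup, orderOf y = 2 ↔
      ((y : ↥G2') : GL chevF4.Idx K2) * ((y : ↥G2') : GL chevF4.Idx K2) = 1 ∧
        ((y : ↥G2') : GL chevF4.Idx K2) ≠ 1 := by
    intro y
    rw [orderOf_eq_prime_iff, pow_two]
    exact and_congr (by rw [← Subtype.coe_inj, ← Subtype.coe_inj]; rfl)
      (not_congr (by rw [← Subtype.coe_inj, ← Subtype.coe_inj]; rfl))
  have hne : ConjClasses.mk A ≠ ConjClasses.mk Z := by
    intro e
    obtain ⟨x, hx⟩ := isConj_iff.1 (ConjClasses.mk_eq_mk_iff_isConj.1 e)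
    refine not_conj hK ((x : ↥G2') : GL chevF4.Idx K2) ?_
    rw [← hA, ← hZ, ← hx]
    rfl
  have himg : ConjClasses.mk '' {g : TitsGroup | orderOf g = 2} = {ConjClasses.mk A, ConjClasses.mk Z} := by
    ext c
    constructor
    · rintro ⟨g, hg, rfl⟩
      obtain ⟨h2, h1'⟩ := (hord g).1 hg
      have hmem : ((g : ↥G2') : GL chevF4.Idx K2) ∈ twistedF4 K2 (2 ^ 0) := by
        simpa using (g : ↥G2').2
      rcases invol_conj hK hmem h2 h1' with h | h
      · rw [← hA] at h
        refine Or.inl (move A g (gprod [0, 1, 0, 2, 0, 1, 0]) (odd _ eW) ?_ h)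
        show _ * gprod [0] = gprod [0] * _
        rw [← gprod_append, ← gprod_append, eq_of_sameW hcomm]
      · rw [← hZ] at h
        refine Or.inr (move Z g (gprod [2]) (odd _ e2) ?_ h)
        show _ * gprod [2, 2] = gprod [2, 2] * _
        rw [← gprod_append, ← gprod_append]
        rfl
    · rintro (rfl | rfl)
      · exact ⟨A, (hord A).2 (by rw [hA]; exact ⟨(repA_facts hK).2.1, (repA_facts hK).2.2⟩), rfl⟩
      · exact ⟨Z, (hord Z).2 (by rw [hZ]; exact ⟨(repZ_facts hK).2.1, (repZ_facts hK).2.2⟩), rfl⟩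
  rw [himg, Set.ncard_pair hne]

end H52.F4N
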