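import Cfsg.Agent.H52.TitsAbs
import Cfsg.Agent.H52.TitsCert

/-!
The derived subgroup of the twisted group of type F4 over two elements is never doubly transitive.
-/

set_option autoImplicit false
set_option linter.unusedSectionVars false
set_option linter.unusedVariables false
set_option maxRecDepth 4000
set_option maxHeartbeats 1000000

namespace H52.TitsTwo

open Cfsg.Lie H53.Tits H53.TitsData H52.TitsW H52.TitsCert H52.TitsAct MulAction

theorem ev_all :
    (evW wa = true ∧ evW wb = true ∧ evW wc = true ∧ evW wd = true ∧ evW we = true ∧ evW wx = true ∧ evW wt = true) ∧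
      (∀ m < 5, evW (conj5.getD m []) = true) ∧ (∀ m < 27, evW (conj3.getD m []) = true) := by
  decide +kernel

noncomputable def A : TitsGroup := tel wa ev_all.1.1
noncomputable def B : TitsGroup := tel wb ev_all.1.2.1
noncomputable def C : TitsGroup := tel wc ev_all.1.2.2.1
noncomputable def D : TitsGroup := tel wd ev_all.1.2.2.2.1
noncomputable def E : TitsGroup := tel we ev_all.1.2.2.2.2.1
noncomputable def X : TitsGroup := tel wx ev_all.1.2.2.2.2.2.1
noncomputable def T : TitsGroup := tel wt ev_all.1.2.2.2.2.2.2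

theorem coe_A : ((A : TitsGroup) : ↥G2') = gprod wa := rfl
theorem coe_B : ((B : TitsGroup) : ↥G2') = gprod wb := rfl
theorem coe_C : ((C : TitsGroup) : ↥G2') = gprod wc := rfl
theorem coe_D : ((D : TitsGroup) : ↥G2') = gprod wd := rfl
theorem coe_E : ((E : TitsGroup) : ↥G2') = gprod we := rfl
theorem coe_X : ((X : TitsGroup) : ↥G2') = gprod wx := rfl
theorem coe_T : ((T : TitsGroup) : ↥G2') = gprod wt := rfl

theorem card_tits : Nat.card TitsGroup = 2 ^ 11 * 3 ^ 3 * 5 ^ 2 * 13 := H53.Tits.card_derived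

/-! ### The relations -/

theorem A_pow : A ^ 5 = 1 := Subtype.ext (by
  rw [SubmonoidClass.coe_pow, coe_A, ← gprod_wpow, eq_of_sameW a_pow, gprod_nil]; rfl)

theorem B_pow : B ^ 5 = 1 := Subtype.ext (by
  rw [SubmonoidClass.coe_pow, coe_B, ← gprod_wpow, eq_of_sameW b_pow, gprod_nil]; rfl)

theorem C_pow : C ^ 3 = 1 := Subtype.ext (by
  rw [SubmonoidClass.coe_pow, coe_C, ← gprod_wpow, eq_of_sameW c_pow, gprod_nil]; rfl)

theorem D_pow : D ^ 3 = 1 := Subtype.ext (by
  rw [SubmonoidClass.coe_pow, coe_D, ← gprod_wpow, eq_of_sameW d_pow, gprod_nil]; rfl)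

theorem E_pow : E ^ 3 = 1 := Subtype.ext (by
  rw [SubmonoidClass.coe_pow, coe_E, ← gprod_wpow, eq_of_sameW e_pow, gprod_nil]; rfl)

theorem X_pow : X ^ 13 = 1 := Subtype.ext (by
  rw [SubmonoidClass.coe_pow, coe_X, ← gprod_wpow, eq_of_sameW x_pow, gprod_nil]; rfl)

theorem T_pow : T ^ 3 = 1 := Subtype.ext (by
  rw [SubmonoidClass.coe_pow, coe_T, ← gprod_wpow, eq_of_sameW t_pow, gprod_nil]; rfl)

theorem AB_comm : Commute A B := Subtype.ext (by
  rw [Subgroup.coe_mul, Subgroup.coe_mul, coe_A, coe_B, ← gprod_append, ← gprod_append, eq_of_sameW ab_comm])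

theorem DC_comm : Commute D C := Subtype.ext (by
  rw [Subgroup.coe_mul, Subgroup.coe_mul, coe_C, coe_D, ← gprod_append, ← gprod_append, eq_of_sameW cd_comm])

theorem EC_comm : Commute E C := Subtype.ext (by
  rw [Subgroup.coe_mul, Subgroup.coe_mul, coe_C, coe_E, ← gprod_append, ← gprod_append, eq_of_sameW ce_comm])

theorem ED_rel : E * D = C * D * E := Subtype.ext (by
  rw [Subgroup.coe_mul, Subgroup.coe_mul, Subgroup.coe_mul, coe_C, coe_D, coe_E, ← gprod_append, ← gprod_append,
    ← gprod_append, eq_of_sameW de_rel])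

theorem T_rel : T * X ^ 3 = X * T := Subtype.ext (by
  rw [Subgroup.coe_mul, Subgroup.coe_mul, SubmonoidClass.coe_pow, coe_T, coe_X, ← gprod_wpow, ← gprod_append,
    ← gprod_append, eq_of_sameW t_rel])

theorem A_ne : A ≠ 1 := fun e => ne_of_diffW a_ne (by
  rw [← coe_A, e, gprod_nil]; rfl)

theorem C_ne : C ≠ 1 := fun e => ne_of_diffW c_ne (by
  rw [← coe_C, e, gprod_nil]; rfl)

theorem X_ne : X ≠ 1 := fun e => ne_of_diffW x_ne (by
  rw [← coe_X, e, gprod_nil]; rfl)

theorem T_ne : T ≠ 1 := fun e => ne_of_diffW t_ne (by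
  rw [← coe_T, e, gprod_nil]; rfl)

theorem B_not_pow (i : ℕ) (hi : i < 5) : B ≠ A ^ i := by
  intro e
  have e' : gprod wb = gprod (wpow wa i) := by
    rw [← coe_B, e, SubmonoidClass.coe_pow, coe_A, gprod_wpow]
  interval_cases i
  · exact ne_of_diffW b_ne0 e'
  · exact ne_of_diffW b_ne1 e'
  · exact ne_of_diffW b_ne2 e'
  · exact ne_of_diffW b_ne3 e'
  · exact ne_of_diffW b_ne4 e'

theorem five (i : ℕ) (hi : i < 5) :
    ∃ (W : TitsGroup) (k : ℕ), ¬ 5 ∣ k ∧ W * (A ^ i * B) ^ k = A * W := by
  refine ⟨tel (conj5.getD i []) (ev_all.2.1 i hi), exp5.getD i 0, ?_, ?_⟩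
  · interval_cases i <;> decide
  · apply Subtype.ext
    rw [Subgroup.coe_mul, Subgroup.coe_mul, SubmonoidClass.coe_pow, Subgroup.coe_mul, SubmonoidClass.coe_pow,
      coe_A, coe_B, coe_tel, ← gprod_wpow, ← gprod_append, ← gprod_wpow, ← gprod_append, ← gprod_append]
    apply eq_of_sameW
    interval_cases i
    · exact five0
    · exact five1
    · exact five2
    · exact five3
    · exact five4

/-- The standard element of the subgroup of order 27. -/
noncomputable def Y (m : ℕ) : TitsGroup := C ^ (m / 9) * D ^ (m / 3 % 3) * E ^ (m % 3)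

theorem coe_Y (m : ℕ) : ((Y m : TitsGroup) : ↥G2') = gprod (y3 wc wd we m) := by
  rw [Y, Subgroup.coe_mul, Subgroup.coe_mul, SubmonoidClass.coe_pow, SubmonoidClass.coe_pow,
    SubmonoidClass.coe_pow, coe_C, coe_D, coe_E, y3, gprod_append, gprod_append, gprod_wpow, gprod_wpow, gprod_wpow]

theorem three (m : ℕ) (h0 : 1 ≤ m) (hm : m < 27) : ∃ W : TitsGroup, W * Y m = C * W := by
  refine ⟨tel (conj3.getD m []) (ev_all.2.2 m hm), Subtype.ext ?_⟩
  rw [Subgroup.coe_mul, Subgroup.coe_mul, coe_Y, coe_C, coe_tel, ← gprod_append, ← gprod_append]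
  apply eq_of_sameW
  interval_cases m
  · exact three1
  · exact three2
  · exact three3
  · exact three4
  · exact three5
  · exact three6
  · exact three7
  · exact three8
  · exact three9
  · exact three10
  · exact three11
  · exact three12
  · exact three13
  · exact three14
  · exact three15
  · exact three16
  · exact three17
  · exact three18
  · exact three19
  · exact three20
  · exact three21
  · exact three22
  · exact three23
  · exact three24
  · exact three25
  · exact three26

theorem keys_mod_nodup : (keys3.map (· % 2 ^ 52)).Nodup := by decide +kernel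

theorem Y_inj {m m' : ℕ} (hm : m < 27) (hm' : m' < 27) (h : Y m = Y m') : m = m' := by
  have e : gprod (y3 wc wd we m) = gprod (y3 wc wd we m') := by rw [← coe_Y, ← coe_Y, h]
  have hk : H52.TitsCert.keyOf (y3 wc wd we m) % 2 ^ 52 = H52.TitsCert.keyOf (y3 wc wd we m') % 2 ^ 52 := by
    simp only [H52.TitsCert.keyOf, Nat.add_mul_mod_self_left]
    refine Nat.eq_of_testBit_eq fun c => ?_
    simp only [Nat.testBit_mod_two_pow]
    by_cases hc : c < 52
    · rw [wrow_of_eq e (by norm_num) hc]
    · simp [hc]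
  have hn := keys_mod_nodup
  rw [← keys_eq, List.map_map] at hn
  exact List.inj_on_of_nodup_map hn (List.mem_range.2 hm) (List.mem_range.2 hm') hk

/-- The relations hold. -/
noncomputable def rels : Rels TitsGroup where
  A := A
  B := B
  C := C
  D := D
  E := E
  X := X
  T := T
  A_pow := A_pow
  B_pow := B_pow
  C_pow := C_pow
  D_pow := D_pow
  E_pow := E_pow
  X_pow := X_pow
  T_pow := T_pow
  AB_comm := AB_comm
  DC_comm := DC_comm
  EC_comm := EC_comm
  ED_rel := ED_rel
  T_rel := T_rel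
  A_ne := A_ne
  C_ne := C_ne
  X_ne := X_ne
  T_ne := T_ne
  B_not_pow := B_not_pow
  five := five
  three := three
  Y_inj := fun hm hm' h => Y_inj hm hm' h
  card_eq := card_tits

theorem not_two_transitive_tits {Ω : Type*} [Fintype Ω] [MulAction TitsGroup Ω] [FaithfulSMul TitsGroup Ω]
    (hΩ : 3 ≤ Fintype.card Ω) : ¬ IsMultiplyPretransitive TitsGroup Ω 2 :=
  not_two_transitive rels hΩ

end H52.TitsTwo
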