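import Cfsg.Agent.H52.SectionFusion
import Cfsg.Agent.H76.ExcBase
import Cfsg.Agent.H53.StKernel

/-!
In a Chevalley group conjugation between elements of the split torus is induced by monomial
elements, and a monomial element fixing (negating) all roots centralises (inverts) the torus.
-/

set_option autoImplicit false
set_option linter.unusedSectionVars false

namespace H52.TorFus

open H53 H53.RootGroupSys

theorem fusion_of_sys {G : Type*} [Group G] {ι R : Type*} [Finite R] {S : RootGroupSys G ι R}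
    (hS : S.Axioms) (hsep : Sep S) (hcomm : ∀ h ∈ S.H, ∀ z ∈ S.H, h * z = z * h) :
    SecFus.Fusion S.H S.N := by
  intro g
  obtain ⟨b, hb, w, hw, π, hπ, q, hq, eg⟩ := exists_normal_form hS g
  refine ⟨w, hw, fun x hx hgx => ?_⟩
  have hwx : w * x * w⁻¹ ∈ S.H := by
    have := (RootGroupSys.pair hS hsep).conj_mem w hw x
      (Subgroup.mem_inf.2 ⟨H_le_B (S := S) hx, H_le_N (S := S) hx⟩)
    rw [← BN_eq hS hsep]
    exact Subgroup.mem_inf.2 ⟨this, mul_mem (mul_mem hw (H_le_N hx)) (inv_mem hw)⟩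
  set y := g * x * g⁻¹ with hy
  have e1 : b * (w * x * w⁻¹) * w * (x⁻¹ * q * x) = y * b * w * q := by
    calc b * (w * x * w⁻¹) * w * (x⁻¹ * q * x) = b * w * q * x := by group
      _ = g * x := by rw [eg]
      _ = y * g := by rw [hy]; group
      _ = _ := by rw [eg]; simp only [mul_assoc]
  have hxq : x⁻¹ * q * x ∈ S.Uinv π := by
    have hle : (S.Uinv π).map (MulAut.conj x⁻¹).toMonoidHom ≤ S.Uinv π := by
      rw [Uinv, MonoidHom.map_closure, Subgroup.closure_le]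
      rintro _ ⟨z, ⟨r, hr, hr', hz⟩, rfl⟩
      refine Subgroup.subset_closure ⟨r, hr, hr', ?_⟩
      have := hS.conj_H x⁻¹ (inv_mem hx) r
      rw [← this]
      exact ⟨z, hz, rfl⟩
    simpa using hle ⟨q, hq, rfl⟩
  obtain ⟨-, hun⟩ := normal_form_unique hS hsep hw hw hπ hπ (mul_mem hb (H_le_B hwx))
    (mul_mem (H_le_B hgx) hb) hxq hq e1
  obtain ⟨eb, -⟩ := hun rfl
  obtain ⟨v, hv, h0, hh0, eb0⟩ := mem_B hS hb
  have e2 : (v⁻¹ * (y * v * y⁻¹)) = (h0 * (w * x * w⁻¹)) * (y * h0)⁻¹ := by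
    rw [eb0] at eb
    calc v⁻¹ * (y * v * y⁻¹) = v⁻¹ * (y * (v * h0)) * (y * h0)⁻¹ := by group
      _ = v⁻¹ * (v * h0 * (w * x * w⁻¹)) * (y * h0)⁻¹ := by rw [eb]
      _ = _ := by group
  have hmem : v⁻¹ * (y * v * y⁻¹) ∈ S.Uplus ⊓ S.N := by
    refine Subgroup.mem_inf.2 ⟨mul_mem (inv_mem hv) (H_conj_Uplus hS hgx hv), ?_⟩
    rw [e2]
    exact H_le_N (mul_mem (mul_mem hh0 hwx) (inv_mem (mul_mem hgx hh0)))
  rw [hsep.U_N, Subgroup.mem_bot] at hmem
  rw [hmem] at e2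
  have e3 : h0 * (w * x * w⁻¹) = y * h0 := mul_inv_eq_one.1 e2.symm
  rw [hcomm h0 hh0 _ hwx] at e3
  exact mul_right_cancel e3

open Cfsg.Lie

variable {D : ChevalleyDatum} (C : H54.Ctx D) {F : Type*} [Field F]

/-- The split torus. -/
noncomputable abbrev T0 (F : Type*) [Field F] : Subgroup ↥(D.group F) := (H53.grpSys C.W F).H

/-- The monomial subgroup. -/
noncomputable abbrev N0 (F : Type*) [Field F] : Subgroup ↥(D.group F) := (H53.grpSys C.W F).N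

theorem mem_T0 {g : ↥(D.group F)} : g ∈ T0 C F ↔ ∃ c, H76.Exc.tor C c = g := by
  rw [T0, ← H53.mem_diag_iff C.hC C.W, C.hC.diagonalSubgroup_eq]
  exact ⟨fun ⟨c, hc⟩ => ⟨c, Subtype.ext hc⟩, fun ⟨c, hc⟩ => ⟨c, congrArg Subtype.val hc⟩⟩

theorem T0_comm : ∀ h ∈ T0 C F, ∀ z ∈ T0 C F, h * z = z * h := by
  intro h hh z hz
  obtain ⟨c, rfl⟩ := (mem_T0 C).1 hh
  obtain ⟨c', rfl⟩ := (mem_T0 C).1 hz
  exact H76.Exc.tor_comm C c c'

theorem fusion : SecFus.Fusion (T0 C F) (N0 C F) := fusion_of_sys C.axioms C.sep (T0_comm C)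

/-- Conjugation by `g` maps root elements to root elements by the permutation `π`, linearly. -/
def Lin (g : ↥(D.group F)) (π : Equiv.Perm (Fin D.nroots)) : Prop :=
  ∀ r : Fin D.nroots, ∃ c : F, ∀ y, g * H76.Exc.xg C r y * g⁻¹ = H76.Exc.xg C (π r) (c * y)

theorem Lin.mul {g g' : ↥(D.group F)} {π π' : Equiv.Perm (Fin D.nroots)} (h : Lin C g π) (h' : Lin C g' π') :
    Lin C (g * g') (π * π') := fun r => by
  obtain ⟨c', hc'⟩ := h' r
  obtain ⟨c, hc⟩ := h (π' r)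
  refine ⟨c * c', fun y => ?_⟩
  rw [Equiv.Perm.mul_apply, mul_assoc c, ← hc, ← hc']
  group

theorem Lin.inv {g : ↥(D.group F)} {π : Equiv.Perm (Fin D.nroots)} (h : Lin C g π) : Lin C g⁻¹ π⁻¹ := fun r => by
  obtain ⟨c, hc⟩ := h (π⁻¹ r)
  rw [show π (π⁻¹ r) = r by simp] at hc
  have hc0 : c ≠ 0 := fun h0 => by
    have e := hc 1
    rw [h0, zero_mul, H76.Exc.xg_zero, mul_inv_eq_one, mul_eq_left, ← H76.Exc.xg_zero C (π⁻¹ r).val] at e
    exact one_ne_zero (H76.Exc.xg_inj C (π⁻¹ r).isLt e)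
  refine ⟨c⁻¹, fun y => ?_⟩
  have e := hc (c⁻¹ * y)
  rw [mul_inv_cancel_left₀ hc0] at e
  rw [← e]
  group

theorem Lin.one : Lin C (1 : ↥(D.group F)) 1 := fun r => ⟨1, fun y => by simp⟩

theorem Lin.pow {g : ↥(D.group F)} {π : Equiv.Perm (Fin D.nroots)} (h : Lin C g π) :
    ∀ e : ℕ, Lin C (g ^ e) (π ^ e) := by
  intro e
  induction e with
  | zero => exact Lin.one C
  | succ e ih => rw [pow_succ, pow_succ]; exact ih.mul C h

theorem exists_lin {n : ↥(D.group F)} (hn : n ∈ N0 C F) :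
    ∃ π ∈ Subgroup.closure (Set.range C.W.sigma), Lin C n π := by
  have hle : N0 C F ≤ Subgroup.closure
      ((T0 C F : Set ↥(D.group F)) ∪ Set.range fun i => H76.Exc.ng C i) := by
    refine sup_le (fun g hg => Subgroup.subset_closure (Or.inl hg)) (Subgroup.closure_mono ?_)
    rintro _ ⟨i, rfl⟩
    refine Or.inr ⟨i, Subtype.ext (Units.ext ?_)⟩
    show ((H53.nGL D (D.simple i.val) (1 : F) : GL D.Idx F) : Matrix D.Idx D.Idx F) = _
    rw [H53.coe_nGL C.hC]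
    exact (H53.coe_nEl C.hC C.W i 1).symm
  refine Subgroup.closure_induction (p := fun x _ => ∃ π ∈ Subgroup.closure (Set.range C.W.sigma), Lin C x π)
    ?_ ⟨1, one_mem _, Lin.one C⟩ ?_ ?_ (hle hn)
  · rintro x (hx | ⟨i, rfl⟩)
    · obtain ⟨c, rfl⟩ := (mem_T0 C).1 hx
      exact ⟨1, one_mem _, fun r => ⟨_, fun y => H76.Exc.tor_conj C c r.isLt y⟩⟩
    · refine ⟨_, Subgroup.subset_closure ⟨i, rfl⟩, fun r => ⟨(C.T.eps i.val r.val : F), fun y => ?_⟩⟩
      rw [C.sigma_val]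
      exact H76.Exc.ng_conj C i r.isLt y
  · rintro x y _ _ ⟨π, hπ, h⟩ ⟨π', hπ', h'⟩; exact ⟨_, mul_mem hπ hπ', h.mul C h'⟩
  · rintro x _ ⟨π, hπ, h⟩; exact ⟨_, inv_mem hπ, h.inv C⟩

theorem eq_one_of_central {z : ↥(D.group F)}
    (h : ∀ (r : Fin D.nroots) (y : F), z * H76.Exc.xg C r y * z⁻¹ = H76.Exc.xg C r y) : z = 1 := by
  have hz : z ∈ Subgroup.center ↥(D.group F) := by
    rw [Subgroup.mem_center_iff]
    suffices h' : (⊤ : Subgroup ↥(D.group F)) ≤ Subgroup.centralizer {z} from fun g =>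
      ((Subgroup.mem_centralizer_iff.1 (h' (Subgroup.mem_top g))) z rfl).symm
    rw [← (chainOK_checked (F := F) C.hC C.W C.hok).gen, Subgroup.closure_le]
    rintro g ⟨r, t, rfl⟩
    rw [SetLike.mem_coe, Subgroup.mem_centralizer_iff]
    intro z' hz'
    rw [Set.mem_singleton_iff.1 hz']
    have e : (matSys D F).x r t = H76.Exc.xg C r t := Subtype.ext rfl
    rw [e]
    exact mul_inv_eq_iff_eq_mul.1 (h r t)
  rwa [group_center_eq_bot C.hC C.W C.hok, Subgroup.mem_bot] at hz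

/-- If the permutation of `m` is trivial (negation), it centralises (inverts) the torus. -/
theorem act_torus {m : ↥(D.group F)} {π : Equiv.Perm (Fin D.nroots)} (hm : Lin C m π) (d : ℤ)
    (hd : ∀ (c : Fin D.rank → Fˣ) (r : Fin D.nroots), H76.Exc.chi D c r = H76.Exc.chi D c (π r) ^ d) :
    ∀ t ∈ T0 C F, m * t * m⁻¹ = t ^ d := by
  intro t ht
  obtain ⟨c, rfl⟩ := (mem_T0 C).1 ht
  rw [← mul_inv_eq_one]
  refine eq_one_of_central C fun s y => ?_
  obtain ⟨r, rfl⟩ : ∃ r, π r = s := ⟨π⁻¹ s, by simp⟩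
  obtain ⟨a, ha⟩ := hm r
  have ha0 : a ≠ 0 := fun h0 => by
    have e := ha 1
    rw [h0, zero_mul, H76.Exc.xg_zero, mul_inv_eq_one, mul_eq_left, ← H76.Exc.xg_zero C r.val] at e
    exact one_ne_zero (H76.Exc.xg_inj C r.isLt e)
  rw [← map_zpow, ← map_inv]
  set u : F := ((H76.Exc.chi D ((c ^ d)⁻¹) (π r).val : Fˣ) : F) with hu
  have hchi : (H76.Exc.chi D c r : F) * u = 1 := by
    rw [hu, hd c r, ← Units.val_mul]
    have e : H76.Exc.chi D ((c ^ d)⁻¹) (π r).val = (H76.Exc.chi D c (π r).val ^ d)⁻¹ := by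
      simp only [H76.Exc.chi, Pi.inv_apply, Pi.pow_apply, inv_zpow', zpow_neg, ← zpow_mul,
        ← Finset.prod_zpow, ← Finset.prod_inv_distrib]
      exact Finset.prod_congr rfl fun i _ => by rw [mul_comm d]
    rw [e, mul_inv_cancel, Units.val_one]
  have e1 := H76.Exc.tor_conj C ((c ^ d)⁻¹) (π r).isLt y
  obtain ⟨y', hy'⟩ : ∃ y', u * y = a * y' := ⟨a⁻¹ * (u * y), by rw [mul_inv_cancel_left₀ ha0]⟩
  rw [← hu, hy'] at e1
  have e2 := ha y'
  have e3 := H76.Exc.tor_conj C c r.isLt y'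
  have e4 := ha ((H76.Exc.chi D c r : F) * y')
  have key : a * ((H76.Exc.chi D c r : F) * y') = y := by
    rw [mul_left_comm, ← hy', ← mul_assoc, hchi, one_mul]
  rw [key] at e4
  calc m * H76.Exc.tor C c * m⁻¹ * H76.Exc.tor C (c ^ d)⁻¹ * H76.Exc.xg C (π r) y *
        (m * H76.Exc.tor C c * m⁻¹ * H76.Exc.tor C (c ^ d)⁻¹)⁻¹
      = m * (H76.Exc.tor C c * (m⁻¹ * (H76.Exc.tor C (c ^ d)⁻¹ * H76.Exc.xg C (π r) y *
          (H76.Exc.tor C (c ^ d)⁻¹)⁻¹) * m) * (H76.Exc.tor C c)⁻¹) * m⁻¹ := by group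
    _ = m * (H76.Exc.tor C c * H76.Exc.xg C r y' * (H76.Exc.tor C c)⁻¹) * m⁻¹ := by
        rw [e1, ← e2]; group
    _ = _ := by rw [e3, e4]

end H52.TorFus
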